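/-
Helper94: abstract symplectic toolbox.  A finite-dimensional vector space `V` over a field `K`
with an alternating non-degenerate bilinear form `B`; symplectic transvections; the group they
generate; transitivity lemmas.
-/
import Mathlib

set_option autoImplicit false

namespace Cfsg.Agent.Lib.Helper94

open LinearMap (BilinForm)

variable {K V : Type*} [Field K] [AddCommGroup V] [Module K V]

/-- An alternating non-degenerate bilinear form, with elementary hypotheses. -/
structure SympData (B : BilinForm K V) : Prop where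
  alt : ∀ x, B x x = 0
  nondeg : ∀ x, (∀ y, B x y = 0) → x = 0

namespace SympData

variable {B : BilinForm K V}

lemma isAlt (h : SympData B) : B.IsAlt := h.alt

lemma skew (h : SympData B) (x y : V) : B x y = - B y x := by
  have := h.isAlt.neg_eq y x
  rw [← this]

lemma eq_zero_comm (h : SympData B) {x y : V} : B x y = 0 ↔ B y x = 0 := by
  rw [h.skew x y, neg_eq_zero]

lemma isRefl (h : SympData B) : B.IsRefl := h.isAlt.isRefl

lemma nondegenerate (h : SympData B) : B.Nondegenerate := by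
  refine ⟨fun x hx => h.nondeg x hx, fun y hy => h.nondeg y fun x => ?_⟩
  rw [h.skew, hy x, neg_zero]

/-- The symplectic transvection `x ↦ x + c * B x v • v`. -/
def tv (h : SympData B) (v : V) (c : K) : V ≃ₗ[K] V :=
  LinearEquiv.transvection (f := c • B.flip v) (v := v) (by simp [h.alt])

@[simp] lemma tv_apply (h : SympData B) (v : V) (c : K) (x : V) :
    h.tv v c x = x + (c * B x v) • v := by
  simp [tv, LinearMap.transvection.apply]

lemma tv_inv (h : SympData B) (v : V) (c : K) : (h.tv v c)⁻¹ = h.tv v (-c) := by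
  apply inv_eq_of_mul_eq_one_right
  ext x
  simp [LinearEquiv.mul_apply, h.alt, neg_smul, add_assoc]

lemma tv_zero_right (h : SympData B) (v : V) : h.tv v 0 = 1 := by
  ext x; simp

lemma tv_zero_left (h : SympData B) (c : K) : h.tv 0 c = 1 := by
  ext x; simp

lemma tv_smul (h : SympData B) (v : V) (a c : K) : h.tv (a • v) c = h.tv v (a ^ 2 * c) := by
  ext x
  simp only [tv_apply, map_smul, smul_eq_mul, smul_smul]
  congr 2
  ring

/-- The isometry group of `B`. -/
def Sp (B : BilinForm K V) : Subgroup (V ≃ₗ[K] V) where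
  carrier := {g | ∀ x y, B (g x) (g y) = B x y}
  mul_mem' {a b} ha hb := by
    intro x y
    rw [LinearEquiv.mul_apply, LinearEquiv.mul_apply, ha, hb]
  one_mem' := by intro x y; rfl
  inv_mem' {a} ha := by
    intro x y
    have := ha (a⁻¹ x) (a⁻¹ y)
    rw [← LinearEquiv.mul_apply, ← LinearEquiv.mul_apply, mul_inv_cancel] at this
    exact this.symm

lemma mem_Sp {g : V ≃ₗ[K] V} : g ∈ Sp B ↔ ∀ x y, B (g x) (g y) = B x y := Iff.rfl

lemma tv_mem_Sp (h : SympData B) (v : V) (c : K) : h.tv v c ∈ Sp B := by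
  intro x y
  simp only [tv_apply, map_add, map_smul, LinearMap.add_apply, LinearMap.smul_apply, smul_eq_mul,
    h.alt, mul_zero, add_zero]
  rw [h.skew v y]
  ring

/-- Conjugating a transvection by an isometry. -/
lemma conj_tv (h : SympData B) {g : V ≃ₗ[K] V} (hg : g ∈ Sp B) (v : V) (c : K) :
    g * h.tv v c * g⁻¹ = h.tv (g v) c := by
  ext x
  simp only [LinearEquiv.mul_apply, tv_apply, map_add, map_smul]
  have h1 : g (g⁻¹ x) = x := by rw [← LinearEquiv.mul_apply, mul_inv_cancel]; rfl
  have h2 : B (g⁻¹ x) v = B x (g v) := by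
    rw [← hg (g⁻¹ x) v, h1]
  rw [h1, h2]

/-- The subgroup generated by the transvections along vectors of the subspace `U`. -/
def TN (h : SympData B) (U : Submodule K V) : Subgroup (V ≃ₗ[K] V) :=
  Subgroup.closure {g | ∃ v ∈ U, ∃ c : K, g = h.tv v c}

lemma tv_mem_TN (h : SympData B) {U : Submodule K V} {v : V} (hv : v ∈ U) (c : K) :
    h.tv v c ∈ h.TN U :=
  Subgroup.subset_closure ⟨v, hv, c, rfl⟩

lemma TN_mono (h : SympData B) {U U' : Submodule K V} (hUU : U ≤ U') : h.TN U ≤ h.TN U' := by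
  apply Subgroup.closure_mono
  rintro g ⟨v, hv, c, rfl⟩
  exact ⟨v, hUU hv, c, rfl⟩

lemma TN_le_Sp (h : SympData B) (U : Submodule K V) : h.TN U ≤ Sp B := by
  rw [TN, Subgroup.closure_le]
  rintro g ⟨v, _, c, rfl⟩
  exact h.tv_mem_Sp v c

/-- Elements of `TN U` fix `U^⊥` pointwise. -/
lemma TN_fix (h : SympData B) {U : Submodule K V} {g : V ≃ₗ[K] V} (hg : g ∈ h.TN U)
    {x : V} (hx : ∀ u ∈ U, B x u = 0) : g x = x := by
  induction hg using Subgroup.closure_induction with
  | mem g hg =>
    obtain ⟨v, hv, c, rfl⟩ := hg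
    simp [hx v hv]
  | one => rfl
  | mul a b _ _ ha hb => rw [LinearEquiv.mul_apply, hb, ha]
  | inv a _ ha =>
    have : a⁻¹ (a x) = x := by rw [← LinearEquiv.mul_apply, inv_mul_cancel]; rfl
    rw [ha] at this
    exact this

/-- Elements of `TN U` and their inverses map `U'` into `U'` whenever `U ≤ U'`. -/
lemma TN_map_mem_aux (h : SympData B) {U U' : Submodule K V} (hUU : U ≤ U') {g : V ≃ₗ[K] V}
    (hg : g ∈ h.TN U) : (∀ x ∈ U', g x ∈ U') ∧ (∀ x ∈ U', g⁻¹ x ∈ U') := by
  induction hg using Subgroup.closure_induction with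
  | mem g hg =>
    obtain ⟨v, hv, c, rfl⟩ := hg
    refine ⟨fun x hx => ?_, fun x hx => ?_⟩
    · rw [tv_apply]
      exact U'.add_mem hx (U'.smul_mem _ (hUU hv))
    · rw [tv_inv, tv_apply]
      exact U'.add_mem hx (U'.smul_mem _ (hUU hv))
  | one => exact ⟨fun x hx => hx, fun x hx => by simpa using hx⟩
  | mul a b _ _ ha hb =>
    refine ⟨fun x hx => ?_, fun x hx => ?_⟩
    · rw [LinearEquiv.mul_apply]; exact ha.1 _ (hb.1 _ hx)
    · rw [mul_inv_rev, LinearEquiv.mul_apply]; exact hb.2 _ (ha.2 _ hx)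
  | inv a _ ha =>
    refine ⟨ha.2, ?_⟩
    rw [inv_inv]
    exact ha.1

lemma TN_map_mem (h : SympData B) {U U' : Submodule K V} (hUU : U ≤ U') {g : V ≃ₗ[K] V}
    (hg : g ∈ h.TN U) {x : V} (hx : x ∈ U') : g x ∈ U' :=
  (h.TN_map_mem_aux hUU hg).1 x hx

/-- Two non-zero functionals on a subspace have a common point where neither vanishes. -/
lemma exists_both_ne_zero (U : Submodule K V) (φ ψ : V →ₗ[K] K)
    (hφ : ∃ u ∈ U, φ u ≠ 0) (hψ : ∃ u ∈ U, ψ u ≠ 0) : ∃ u ∈ U, φ u ≠ 0 ∧ ψ u ≠ 0 := by
  obtain ⟨a, ha, hφa⟩ := hφ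
  obtain ⟨b, hb, hψb⟩ := hψ
  by_cases h1 : ψ a = 0
  · by_cases h2 : φ b = 0
    · refine ⟨a + b, U.add_mem ha hb, ?_, ?_⟩
      · rw [map_add, h2, add_zero]; exact hφa
      · rw [map_add, h1, zero_add]; exact hψb
    · exact ⟨b, hb, h2, hψb⟩
  · exact ⟨a, ha, hφa, h1⟩

lemma tv_fix_of_ortho (h : SympData B) {v x : V} (hx : B x v = 0) (c : K) : h.tv v c x = x := by
  simp [hx]

/-- One transvection moves `w` to `w'` when `B w w' ≠ 0`. -/
lemma tv_move (h : SympData B) {w w' : V} (hww : B w w' ≠ 0) :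
    h.tv (w - w') (B w w')⁻¹ w = w' := by
  rw [tv_apply, map_sub, h.alt, zero_sub, mul_neg, inv_mul_cancel₀ hww, neg_smul, one_smul]
  abel

/-- `TN U` is transitive on the vectors of `U` that are not orthogonal to all of `U`. -/
lemma TN_trans (h : SympData B) {U : Submodule K V} {w w' : V} (hw : w ∈ U) (hw' : w' ∈ U)
    (hwn : ∃ u ∈ U, B w u ≠ 0) (hwn' : ∃ u ∈ U, B w' u ≠ 0) : ∃ g ∈ h.TN U, g w = w' := by
  by_cases hww : B w w' = 0
  · obtain ⟨z, hz, hz1, hz2⟩ := exists_both_ne_zero U (B w) (B w') hwn hwn'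
    have hz2' : B z w' ≠ 0 := fun h0 => hz2 (h.eq_zero_comm.1 h0)
    refine ⟨h.tv (z - w') (B z w')⁻¹ * h.tv (w - z) (B w z)⁻¹,
      mul_mem (h.tv_mem_TN (U.sub_mem hz hw') _) (h.tv_mem_TN (U.sub_mem hw hz) _), ?_⟩
    rw [LinearEquiv.mul_apply, h.tv_move hz1, h.tv_move hz2']
  · exact ⟨h.tv (w - w') (B w w')⁻¹, h.tv_mem_TN (U.sub_mem hw hw') _, h.tv_move hww⟩

/-- Moving the second member of a hyperbolic pair while fixing the first. -/
lemma TN_pair_fix (h : SympData B) {N : Submodule K V} {e f f' : V} (he : e ∈ N) (hf : f ∈ N)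
    (hf' : f' ∈ N) (hef : B e f = 1) (hef' : B e f' = 1) :
    ∃ g ∈ h.TN N, g e = e ∧ g f = f' := by
  have key : ∀ f f' : V, f ∈ N → f' ∈ N → B e f = 1 → B e f' = 1 → B f f' ≠ 0 →
      ∃ g ∈ h.TN N, g e = e ∧ g f = f' := by
    intro f f' hf hf' hef hef' hff
    refine ⟨h.tv (f - f') (B f f')⁻¹, h.tv_mem_TN (N.sub_mem hf hf') _, ?_, h.tv_move hff⟩
    apply h.tv_fix_of_ortho
    rw [map_sub, hef, hef', sub_self]
  by_cases hff : B f f' = 0
  · have h1 : B e (e + f) = 1 := by rw [map_add, h.alt, zero_add, hef]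
    have h2 : B f (e + f) ≠ 0 := by
      rw [map_add, h.alt, add_zero, h.skew, hef]; simp
    have h3 : B (e + f) f' ≠ 0 := by
      rw [map_add, LinearMap.add_apply, hef', hff, add_zero]; exact one_ne_zero
    obtain ⟨g1, hg1, hg1e, hg1f⟩ := key f (e + f) hf (N.add_mem he hf) hef h1 h2
    obtain ⟨g2, hg2, hg2e, hg2f⟩ := key (e + f) f' (N.add_mem he hf) hf' h1 hef' h3
    refine ⟨g2 * g1, mul_mem hg2 hg1, ?_, ?_⟩
    · rw [LinearEquiv.mul_apply, hg1e, hg2e]
    · rw [LinearEquiv.mul_apply, hg1f, hg2f]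
  · exact key f f' hf hf' hef hef' hff

/-- `TN N` is transitive on hyperbolic pairs of `N`. -/
lemma TN_hyp_trans (h : SympData B) {N : Submodule K V} {e f e' f' : V} (he : e ∈ N) (hf : f ∈ N)
    (he' : e' ∈ N) (hf' : f' ∈ N) (hef : B e f = 1) (hef' : B e' f' = 1) :
    ∃ g ∈ h.TN N, g e = e' ∧ g f = f' := by
  obtain ⟨g1, hg1, hg1e⟩ := h.TN_trans he he' ⟨f, hf, by rw [hef]; exact one_ne_zero⟩
    ⟨f', hf', by rw [hef']; exact one_ne_zero⟩
  have hg1f : g1 f ∈ N := h.TN_map_mem le_rfl hg1 hf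
  have h1 : B e' (g1 f) = 1 := by
    rw [← hg1e, h.TN_le_Sp N hg1 e f, hef]
  obtain ⟨g2, hg2, hg2e, hg2f⟩ := h.TN_pair_fix he' hg1f hf' h1 hef'
  refine ⟨g2 * g1, mul_mem hg2 hg1, ?_, ?_⟩
  · rw [LinearEquiv.mul_apply, hg1e, hg2e]
  · rw [LinearEquiv.mul_apply, hg2f]

lemma mem_orthogonal (h : SympData B) {U : Submodule K V} {x : V} :
    x ∈ B.orthogonal U ↔ ∀ u ∈ U, B x u = 0 := by
  rw [LinearMap.BilinForm.mem_orthogonal_iff]
  constructor
  · intro hx u hu
    exact h.eq_zero_comm.1 (hx u hu)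
  · intro hx u hu
    exact h.eq_zero_comm.1 (hx u hu)

/-- The form is non-degenerate on the subspace `N`. -/
def NondegOn (B : BilinForm K V) (N : Submodule K V) : Prop :=
  ∀ x ∈ N, (∀ y ∈ N, B x y = 0) → x = 0

/-- The component of `x` orthogonal to the hyperbolic pair `e, f`. -/
def hypProj (B : BilinForm K V) (e f x : V) : V := x - B x f • e + B x e • f

lemma hypProj_ortho_e (h : SympData B) {e f : V} (hef : B e f = 1) (x : V) :
    B (hypProj B e f x) e = 0 := by
  have hfe : B f e = -1 := by rw [h.skew, hef]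
  simp only [hypProj, map_add, map_sub, map_smul, LinearMap.add_apply, LinearMap.sub_apply,
    LinearMap.smul_apply, smul_eq_mul, h.alt, hfe]
  ring

lemma hypProj_ortho_f (h : SympData B) {e f : V} (hef : B e f = 1) (x : V) :
    B (hypProj B e f x) f = 0 := by
  simp only [hypProj, map_add, map_sub, map_smul, LinearMap.add_apply, LinearMap.sub_apply,
    LinearMap.smul_apply, smul_eq_mul, h.alt, hef]
  ring

lemma hypProj_mem_orthogonal (h : SympData B) {e f : V} (hef : B e f = 1) (x : V) :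
    hypProj B e f x ∈ B.orthogonal (Submodule.span K {e, f}) := by
  rw [h.mem_orthogonal]
  intro u hu
  rw [Submodule.mem_span_pair] at hu
  obtain ⟨a, b, rfl⟩ := hu
  rw [map_add, map_smul, map_smul, h.hypProj_ortho_e hef, h.hypProj_ortho_f hef]
  simp

lemma hypProj_mem {N : Submodule K V} {e f x : V} (he : e ∈ N) (hf : f ∈ N) (hx : x ∈ N) :
    hypProj B e f x ∈ N :=
  N.add_mem (N.sub_mem hx (N.smul_mem _ he)) (N.smul_mem _ hf)

lemma eq_hypProj_add (e f x : V) : x = hypProj B e f x + (B x f • e - B x e • f) := by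
  simp only [hypProj]; abel

/-- The orthogonal complement of a hyperbolic pair inside `N`. -/
def hypCompl (B : BilinForm K V) (N : Submodule K V) (e f : V) : Submodule K V :=
  N ⊓ B.orthogonal (Submodule.span K {e, f})

lemma hypCompl_le (N : Submodule K V) (e f : V) : hypCompl B N e f ≤ N := inf_le_left

lemma mem_hypCompl (h : SympData B) {N : Submodule K V} {e f x : V} :
    x ∈ hypCompl B N e f ↔ x ∈ N ∧ B x e = 0 ∧ B x f = 0 := by
  rw [hypCompl, Submodule.mem_inf, h.mem_orthogonal]
  constructor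
  · rintro ⟨hx, hx'⟩
    exact ⟨hx, hx' e (Submodule.subset_span (by simp)), hx' f (Submodule.subset_span (by simp))⟩
  · rintro ⟨hx, hxe, hxf⟩
    refine ⟨hx, fun u hu => ?_⟩
    rw [Submodule.mem_span_pair] at hu
    obtain ⟨a, b, rfl⟩ := hu
    simp [hxe, hxf]

lemma hypProj_mem_hypCompl (h : SympData B) {N : Submodule K V} {e f x : V} (he : e ∈ N)
    (hf : f ∈ N) (hef : B e f = 1) (hx : x ∈ N) : hypProj B e f x ∈ hypCompl B N e f :=
  h.mem_hypCompl.2 ⟨hypProj_mem he hf hx, h.hypProj_ortho_e hef x, h.hypProj_ortho_f hef x⟩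

lemma hypCompl_nondegOn (h : SympData B) {N : Submodule K V} (hN : NondegOn B N) {e f : V}
    (he : e ∈ N) (hf : f ∈ N) (hef : B e f = 1) : NondegOn B (hypCompl B N e f) := by
  intro x hx hxy
  obtain ⟨hxN, hxe, hxf⟩ := h.mem_hypCompl.1 hx
  apply hN x hxN
  intro y hy
  rw [eq_hypProj_add (B := B) e f y, map_add, hxy _ (h.hypProj_mem_hypCompl he hf hef hy),
    map_sub, map_smul, map_smul, hxe, hxf]
  simp

lemma e_not_mem_hypCompl (h : SympData B) {N : Submodule K V} {e f : V} (hef : B e f = 1) :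
    e ∉ hypCompl B N e f := by
  intro he
  have := (h.mem_hypCompl.1 he).2.2
  rw [hef] at this
  exact one_ne_zero this

/-- If `x` is orthogonal to `hypCompl N e f` then `hypProj e f x` is orthogonal to `N`. -/
lemma hypProj_ortho_of_ortho_hypCompl (h : SympData B) {N : Submodule K V} {e f x : V}
    (he : e ∈ N) (hf : f ∈ N) (hef : B e f = 1) (hx : ∀ u ∈ hypCompl B N e f, B x u = 0) :
    ∀ y ∈ N, B (hypProj B e f x) y = 0 := by
  intro y hy
  have hy' := h.hypProj_mem_hypCompl he hf hef hy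
  obtain ⟨_, hye, hyf⟩ := h.mem_hypCompl.1 hy'
  have h1 : B (hypProj B e f x) y = B (hypProj B e f x) (hypProj B e f y) := by
    conv_lhs => rw [eq_hypProj_add (B := B) e f y]
    rw [map_add, map_sub, map_smul, map_smul, h.hypProj_ortho_e hef, h.hypProj_ortho_f hef]
    simp
  have h2 : B (hypProj B e f x) (hypProj B e f y) = B x (hypProj B e f y) := by
    conv_lhs => rw [hypProj]
    rw [map_add, map_sub, map_smul, map_smul, LinearMap.add_apply, LinearMap.sub_apply,
      LinearMap.smul_apply, LinearMap.smul_apply, h.eq_zero_comm.1 hye, h.eq_zero_comm.1 hyf]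
    simp
  rw [h1, h2, hx _ hy']

section FD

variable [FiniteDimensional K V]

lemma orth_orth (h : SympData B) (U : Submodule K V) : B.orthogonal (B.orthogonal U) = U :=
  LinearMap.BilinForm.orthogonal_orthogonal h.nondegenerate h.isRefl U

omit [FiniteDimensional K V] in
lemma NondegOn.disjoint (h : SympData B) {N : Submodule K V} (hN : NondegOn B N) :
    Disjoint N (B.orthogonal N) := by
  rw [Submodule.disjoint_def]
  intro x hx hx'
  exact hN x hx ((h.mem_orthogonal).1 hx')

lemma NondegOn.isCompl (h : SympData B) {N : Submodule K V} (hN : NondegOn B N) :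
    IsCompl N (B.orthogonal N) :=
  (LinearMap.BilinForm.isCompl_orthogonal_iff_disjoint h.isRefl).2 (hN.disjoint h)

/-- An isometry fixing `N^⊥` pointwise maps `N` into `N`. -/
lemma map_mem_of_fix_orthogonal (h : SympData B) {N : Submodule K V} {g : V ≃ₗ[K] V}
    (hg : g ∈ Sp B) (hfix : ∀ x ∈ B.orthogonal N, g x = x) {x : V} (hx : x ∈ N) : g x ∈ N := by
  rw [← h.orth_orth N, h.mem_orthogonal]
  intro u hu
  rw [← hfix u hu, hg x u]
  exact h.eq_zero_comm.1 ((h.mem_orthogonal.1 hu) x hx)

/-- **Generation**: an isometry fixing `N^⊥` pointwise, `N` non-degenerate, is a product of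
transvections along vectors of `N`. -/
theorem mem_TN_of_fix (h : SympData B) : ∀ (n : ℕ) (N : Submodule K V), Module.finrank K N = n →
    NondegOn B N → ∀ g ∈ Sp B, (∀ x ∈ B.orthogonal N, g x = x) → g ∈ h.TN N := by
  intro n
  induction n using Nat.strong_induction_on with
  | _ n ih =>
    intro N hn hN g hg hfix
    by_cases hbot : N = ⊥
    · have : g = 1 := by
        ext x
        apply hfix
        rw [hbot]; simp
      rw [this]; exact one_mem _
    · obtain ⟨e, he, he0⟩ := Submodule.exists_mem_ne_zero_of_ne_bot hbot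
      have : ∃ f ∈ N, B e f = 1 := by
        by_contra hcon
        push Not at hcon
        apply he0
        apply hN e he
        intro y hy
        by_contra hne
        apply hcon ((B e y)⁻¹ • y) (N.smul_mem _ hy)
        rw [map_smul, smul_eq_mul, inv_mul_cancel₀ hne]
      obtain ⟨f, hf, hef⟩ := this
      have hge : g e ∈ N := h.map_mem_of_fix_orthogonal hg hfix he
      have hgf : g f ∈ N := h.map_mem_of_fix_orthogonal hg hfix hf
      have hgef : B (g e) (g f) = 1 := by rw [hg e f, hef]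
      obtain ⟨t, ht, hte, htf⟩ := h.TN_hyp_trans hge hgf he hf hgef hef
      -- g' = t * g fixes e, f and N^⊥
      have hg' : t * g ∈ Sp B := mul_mem (h.TN_le_Sp N ht) hg
      have hfix' : ∀ x ∈ B.orthogonal (hypCompl B N e f), (t * g) x = x := by
        intro x hx
        have hx' := h.mem_orthogonal.1 hx
        have hp := h.hypProj_ortho_of_ortho_hypCompl he hf hef hx'
        have hp' : hypProj B e f x ∈ B.orthogonal N := h.mem_orthogonal.2 hp
        have h1 : (t * g) (hypProj B e f x) = hypProj B e f x := by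
          rw [LinearEquiv.mul_apply, hfix _ hp', h.TN_fix ht hp]
        have h2 : (t * g) e = e := by rw [LinearEquiv.mul_apply, hte]
        have h3 : (t * g) f = f := by rw [LinearEquiv.mul_apply, htf]
        conv_lhs => rw [eq_hypProj_add (B := B) e f x]
        rw [map_add, map_sub, map_smul, map_smul, h1, h2, h3]
        exact (eq_hypProj_add (B := B) e f x).symm
      have hlt : Module.finrank K (hypCompl B N e f) < n := by
        rw [← hn]
        apply Submodule.finrank_lt_finrank_of_lt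
        refine lt_of_le_of_ne (hypCompl_le N e f) ?_
        intro heq
        apply h.e_not_mem_hypCompl (N := N) hef
        rw [heq]; exact he
      have := ih _ hlt (hypCompl B N e f) rfl (h.hypCompl_nondegOn hN he hf hef) (t * g) hg' hfix'
      have h4 : t * g ∈ h.TN N := h.TN_mono (hypCompl_le N e f) this
      have : g = t⁻¹ * (t * g) := by group
      rw [this]
      exact mul_mem (inv_mem ht) h4

/-- The isometry group is generated by the symplectic transvections. -/
theorem Sp_eq_TN_top (h : SympData B) : Sp B = h.TN ⊤ := by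
  apply le_antisymm
  · intro g hg
    refine h.mem_TN_of_fix _ ⊤ rfl ?_ g hg ?_
    · intro x _ hx
      exact h.nondeg x fun y => hx y trivial
    · intro x hx
      have : x = 0 := h.nondeg x fun y => (h.mem_orthogonal.1 hx) y trivial
      rw [this, map_zero]
  · exact h.TN_le_Sp ⊤

end FD

end SympData

end Cfsg.Agent.Lib.Helper94
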