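/-
Helper94: maximality of subspace stabilisers in the (abstract) symplectic group, by the
transvection method: an overgroup of the stabiliser contains every symplectic transvection.
-/
import Mathlib
import Cfsg.Agent.Lib.Helper94.SympBasic

set_option autoImplicit false

namespace Cfsg.Agent.Lib.Helper94

open LinearMap (BilinForm)

variable {K V : Type*} [Field K] [AddCommGroup V] [Module K V]

/-- The stabiliser of a subspace in the group of linear automorphisms. -/
def stabSub (W : Submodule K V) : Subgroup (V ≃ₗ[K] V) where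
  carrier := {g | ∀ v, v ∈ W ↔ g v ∈ W}
  mul_mem' {a b} ha hb := by
    intro v
    rw [LinearEquiv.mul_apply]
    exact (hb v).trans (ha _)
  one_mem' := by intro v; rfl
  inv_mem' {a} ha := by
    intro v
    have := ha (a⁻¹ v)
    rw [← LinearEquiv.mul_apply, mul_inv_cancel] at this
    exact this.symm

lemma mem_stabSub {W : Submodule K V} {g : V ≃ₗ[K] V} : g ∈ stabSub W ↔ ∀ v, v ∈ W ↔ g v ∈ W :=
  Iff.rfl

/-- membership in the stabiliser from `g` and `g⁻¹` mapping `W` into itself. -/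
lemma mem_stabSub_of_maps {W : Submodule K V} {g : V ≃ₗ[K] V} (h1 : ∀ v ∈ W, g v ∈ W)
    (h2 : ∀ v ∈ W, g⁻¹ v ∈ W) : g ∈ stabSub W := by
  intro v
  refine ⟨h1 v, fun hv => ?_⟩
  have := h2 _ hv
  rwa [← LinearEquiv.mul_apply, inv_mul_cancel] at this

namespace SympData

variable {B : BilinForm K V}

/-- The vectors all of whose transvections lie in `M`. -/
def Xset (h : SympData B) (M : Subgroup (V ≃ₗ[K] V)) : Set V := {v | ∀ c, h.tv v c ∈ M}

lemma zero_mem_Xset (h : SympData B) (M : Subgroup (V ≃ₗ[K] V)) : (0 : V) ∈ h.Xset M := by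
  intro c; rw [h.tv_zero_left]; exact one_mem _

lemma smul_mem_Xset (h : SympData B) {M : Subgroup (V ≃ₗ[K] V)} {v : V} (hv : v ∈ h.Xset M)
    (a : K) : a • v ∈ h.Xset M := by
  intro c; rw [h.tv_smul]; exact hv _

lemma map_mem_Xset (h : SympData B) {M : Subgroup (V ≃ₗ[K] V)} {v : V} (hv : v ∈ h.Xset M)
    {g : V ≃ₗ[K] V} (hg : g ∈ M) (hgS : g ∈ Sp B) : g v ∈ h.Xset M := by
  intro c
  rw [← h.conj_tv hgS]
  exact mul_mem (mul_mem hg (hv c)) (inv_mem hg)

lemma add_mem_Xset (h : SympData B) {M : Subgroup (V ≃ₗ[K] V)} {x y : V} (hx : x ∈ h.Xset M)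
    (hy : y ∈ h.Xset M) (hxy : B x y ≠ 0) : x + y ∈ h.Xset M := by
  have : x + y = h.tv y (B x y)⁻¹ x := by
    rw [tv_apply, inv_mul_cancel₀ hxy, one_smul]
  rw [this]
  exact h.map_mem_Xset hx (hy _) (h.tv_mem_Sp _ _)

lemma neg_mem_Xset (h : SympData B) {M : Subgroup (V ≃ₗ[K] V)} {v : V} (hv : v ∈ h.Xset M) :
    -v ∈ h.Xset M := by
  have := h.smul_mem_Xset hv (-1)
  simpa using this

lemma TN_top_le_of_Xset (h : SympData B) {M : Subgroup (V ≃ₗ[K] V)} (hX : ∀ v, v ∈ h.Xset M) :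
    h.TN ⊤ ≤ M := by
  rw [TN, Subgroup.closure_le]
  rintro g ⟨v, _, c, rfl⟩
  exact hX v c

/-- Spreading lemma: if the subspace `U ⊇ U^⊥` lies in `X` and `x ∈ X \ U`, then `x + U ⊆ X`. -/
lemma spread_aux (h : SympData B) {M : Subgroup (V ≃ₗ[K] V)} {U : Submodule K V}
    (hU : ∀ u ∈ U, u ∈ h.Xset M) (hperp : B.orthogonal U ≤ U) {x : V} (hx : x ∈ h.Xset M)
    (hxU : x ∉ U) : ∀ y ∈ U, x + y ∈ h.Xset M := by
  intro y hy
  by_cases hxy : B x y = 0
  · have h1 : ∃ u ∈ U, B x u ≠ 0 := by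
      by_contra hcon
      push Not at hcon
      exact hxU (hperp (h.mem_orthogonal.2 hcon))
    have h2 : ∃ u ∈ U, B (x + y) u ≠ 0 := by
      by_contra hcon
      push Not at hcon
      have : x + y ∈ U := hperp (h.mem_orthogonal.2 hcon)
      exact hxU (by simpa using U.sub_mem this hy)
    obtain ⟨y', hy', hy1, hy2⟩ := exists_both_ne_zero U (B x) (B (x + y)) h1 h2
    have h3 : x + y' ∈ h.Xset M := h.add_mem_Xset hx (hU _ hy') hy1
    have h4 : B (x + y') (y - y') ≠ 0 := by
      have : B (x + y') (y - y') = - B (x + y) y' := by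
        simp only [map_add, map_sub, LinearMap.add_apply, h.alt, hxy]
        rw [h.skew y' y]
        ring
      rw [this]
      exact neg_ne_zero.2 hy2
    have := h.add_mem_Xset h3 (hU _ (U.sub_mem hy hy')) h4
    have e : x + y' + (y - y') = x + y := by abel
    rwa [e] at this
  · exact h.add_mem_Xset hx (hU _ hy) hxy

lemma spread (h : SympData B) {M : Subgroup (V ≃ₗ[K] V)} {U : Submodule K V}
    (hU : ∀ u ∈ U, u ∈ h.Xset M) (hperp : B.orthogonal U ≤ U) {x : V} (hx : x ∈ h.Xset M)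
    (hxU : x ∉ U) : ∀ z ∈ U ⊔ Submodule.span K {x}, z ∈ h.Xset M := by
  intro z hz
  obtain ⟨y, hy, w, hw, rfl⟩ := Submodule.mem_sup.1 hz
  obtain ⟨a, rfl⟩ := Submodule.mem_span_singleton.1 hw
  by_cases ha : a = 0
  · simpa [ha] using hU y hy
  · have hax : a • x ∉ U := by
      intro hmem
      apply hxU
      have := U.smul_mem a⁻¹ hmem
      rwa [smul_smul, inv_mul_cancel₀ ha, one_smul] at this
    rw [add_comm]
    exact h.spread_aux hU hperp (h.smul_mem_Xset hx a) hax y hy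

/-- The product of three transvections `x ↦ x + c (B x a) b + c (B x b) a` for `B a b = 0`. -/
def sg (h : SympData B) (a b : V) (c : K) : V ≃ₗ[K] V :=
  h.tv (a + b) c * h.tv a (-c) * h.tv b (-c)

lemma sg_mem_Sp (h : SympData B) (a b : V) (c : K) : h.sg a b c ∈ Sp B :=
  mul_mem (mul_mem (h.tv_mem_Sp _ _) (h.tv_mem_Sp _ _)) (h.tv_mem_Sp _ _)

lemma sg_apply (h : SympData B) {a b : V} (hab : B a b = 0) (c : K) (x : V) :
    h.sg a b c x = x + (c * B x a) • b + (c * B x b) • a := by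
  have hba : B b a = 0 := h.eq_zero_comm.1 hab
  simp only [sg, LinearEquiv.mul_apply, tv_apply, map_add, map_smul,
    h.alt, hab, hba, mul_zero, add_zero, smul_add]
  module

lemma sg_inv (h : SympData B) {a b : V} (hab : B a b = 0) (c : K) :
    (h.sg a b c)⁻¹ = h.sg a b (-c) := by
  have hba : B b a = 0 := h.eq_zero_comm.1 hab
  apply inv_eq_of_mul_eq_one_right
  ext x
  rw [LinearEquiv.mul_apply, h.sg_apply hab, h.sg_apply hab]
  simp only [map_add, map_smul, LinearMap.add_apply, LinearMap.smul_apply, smul_eq_mul, h.alt,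
    hab, hba, mul_zero, add_zero, LinearEquiv.coe_one, id_eq]
  module

/-- `W` is totally isotropic. -/
def TotIso (B : BilinForm K V) (W : Submodule K V) : Prop := ∀ u ∈ W, ∀ v ∈ W, B u v = 0

lemma TotIso.le_orthogonal (h : SympData B) {W : Submodule K V} (hW : TotIso B W) :
    W ≤ B.orthogonal W := fun x hx => h.mem_orthogonal.2 fun u hu => hW x hx u hu

section FD

variable [FiniteDimensional K V]

omit [FiniteDimensional K V] in
theorem stab_totIso_lt (h : SympData B) {W : Submodule K V} (hW0 : W ≠ ⊥) (hW : TotIso B W) :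
    stabSub W ⊓ Sp B < Sp B := by
  rw [SetLike.lt_iff_le_and_exists]
  refine ⟨inf_le_right, ?_⟩
  obtain ⟨w, hw, hw0⟩ := Submodule.exists_mem_ne_zero_of_ne_bot hW0
  have : ∃ u, B w u ≠ 0 := by
    by_contra hcon
    push Not at hcon
    exact hw0 (h.nondeg w hcon)
  obtain ⟨u, hu⟩ := this
  have huW : u ∉ W := fun huW => hu (hW w hw u huW)
  obtain ⟨g, hg, hgw⟩ := h.TN_trans (U := ⊤) (w := w) (w' := u) trivial trivial
    ⟨u, trivial, hu⟩ ⟨w, trivial, fun h0 => hu (h.eq_zero_comm.1 h0)⟩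
  refine ⟨g, h.TN_le_Sp ⊤ hg, fun hgP => huW ?_⟩
  rw [← hgw]
  exact (hgP.1 w).1 hw

theorem stab_totIso_max (h : SympData B) {W : Submodule K V} (hW : TotIso B W)
    (M : Subgroup (V ≃ₗ[K] V)) (hPM : stabSub W ⊓ Sp B ≤ M) (hMS : M ≤ Sp B) :
    M = stabSub W ⊓ Sp B ∨ M = Sp B := by
  by_cases hM : M ≤ stabSub W
  · left
    exact le_antisymm (le_inf hM hMS) hPM
  right
  apply le_antisymm hMS
  rw [h.Sp_eq_TN_top]
  apply h.TN_top_le_of_Xset
  -- the orthogonal of `W` lies in `X`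
  have hWperp : ∀ u ∈ B.orthogonal W, u ∈ h.Xset M := by
    intro y hy c
    apply hPM
    refine ⟨?_, h.tv_mem_Sp _ _⟩
    intro v
    have hfix : ∀ v ∈ W, h.tv y c v = v ∧ h.tv y (-c) v = v := by
      intro v hv
      have : B v y = 0 := h.eq_zero_comm.1 ((h.mem_orthogonal.1 hy) v hv)
      exact ⟨h.tv_fix_of_ortho this c, h.tv_fix_of_ortho this (-c)⟩
    constructor
    · intro hv
      rw [(hfix v hv).1]; exact hv
    · intro hv
      have h1 := (hfix _ hv).2
      have h2 : h.tv y (-c) (h.tv y c v) = v := by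
        rw [← h.tv_inv, ← LinearEquiv.mul_apply, inv_mul_cancel]; rfl
      rw [h2] at h1
      rw [h1]; exact hv
  -- a maximal subspace between `W^⊥` and `X`
  let S : Set (Submodule K V) := {U | B.orthogonal W ≤ U ∧ ∀ u ∈ U, u ∈ h.Xset M}
  have hSne : S.Nonempty := ⟨B.orthogonal W, le_rfl, hWperp⟩
  obtain ⟨U, ⟨hWU, hUX⟩, hUmax⟩ := (wellFounded_gt (α := Submodule K V)).has_min S hSne
  have hperp : B.orthogonal U ≤ U := by
    calc B.orthogonal U ≤ B.orthogonal (B.orthogonal W) :=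
          LinearMap.BilinForm.orthogonal_le hWU
      _ = W := h.orth_orth W
      _ ≤ B.orthogonal W := hW.le_orthogonal h
      _ ≤ U := hWU
  have hperpW : B.orthogonal U ≤ W := by
    calc B.orthogonal U ≤ B.orthogonal (B.orthogonal W) :=
          LinearMap.BilinForm.orthogonal_le hWU
      _ = W := h.orth_orth W
  -- `M` maps `U` into `U`
  have hMU : ∀ g ∈ M, ∀ x ∈ U, g x ∈ U := by
    intro g hg x hx
    by_contra hgx
    have hgxX : g x ∈ h.Xset M := h.map_mem_Xset (hUX x hx) hg (hMS hg)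
    have hnew := h.spread hUX hperp hgxX hgx
    have hmem : U ⊔ Submodule.span K {g x} ∈ S := ⟨le_trans hWU le_sup_left, hnew⟩
    apply hUmax _ hmem
    refine lt_of_le_of_ne le_sup_left ?_
    intro heq
    apply hgx
    rw [heq]
    exact Submodule.mem_sup_right (Submodule.mem_span_singleton_self _)
  by_cases hUtop : U = ⊤
  · intro v
    exact hUX v (by rw [hUtop]; trivial)
  exfalso
  -- `W₁ = U^⊥` is a non-zero subspace of `W` stabilised by `M`
  have hW1ne : B.orthogonal U ≠ ⊥ := by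
    intro h0
    apply hUtop
    rw [← h.orth_orth U, h0]
    simp
  have hMW1 : ∀ g ∈ M, ∀ w ∈ B.orthogonal U, g w ∈ B.orthogonal U := by
    intro g hg w hw
    rw [h.mem_orthogonal]
    intro u hu
    have h1 : g (g⁻¹ u) = u := by rw [← LinearEquiv.mul_apply, mul_inv_cancel]; rfl
    rw [← h1, hMS hg w (g⁻¹ u)]
    exact (h.mem_orthogonal.1 hw) _ (hMU _ (inv_mem hg) u hu)
  by_cases hW1 : B.orthogonal U = W
  · apply hM
    intro g hg
    apply mem_stabSub_of_maps
    · intro v hv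
      rw [← hW1] at hv ⊢
      exact hMW1 g hg v hv
    · intro v hv
      rw [← hW1] at hv ⊢
      exact hMW1 _ (inv_mem hg) v hv
  · have : ∃ w' ∈ W, w' ∉ B.orthogonal U := by
      by_contra hcon
      push Not at hcon
      exact hW1 (le_antisymm hperpW hcon)
    obtain ⟨w', hw'W, hw'⟩ := this
    obtain ⟨w, hw, hw0⟩ := Submodule.exists_mem_ne_zero_of_ne_bot hW1ne
    have hwW : w ∈ W := hperpW hw
    have : ∃ b, B w' b = 0 ∧ B w b ≠ 0 := by
      by_contra hcon
      push Not at hcon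
      have h1 : w ∈ B.orthogonal (B.orthogonal (Submodule.span K {w'})) := by
        rw [h.mem_orthogonal]
        intro b hb
        apply hcon
        exact h.eq_zero_comm.1
          ((h.mem_orthogonal.1 hb) w' (Submodule.mem_span_singleton_self _))
      rw [h.orth_orth] at h1
      obtain ⟨a, rfl⟩ := Submodule.mem_span_singleton.1 h1
      have ha : a ≠ 0 := by
        rintro rfl
        exact hw0 (zero_smul _ _)
      apply hw'
      have := (B.orthogonal U).smul_mem a⁻¹ hw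
      rwa [smul_smul, inv_mul_cancel₀ ha, one_smul] at this
    obtain ⟨b, hb1, hb2⟩ := this
    have hLP : h.sg w' b 1 ∈ stabSub W ⊓ Sp B := by
      refine ⟨?_, h.sg_mem_Sp _ _ _⟩
      have key : ∀ c : K, ∀ v ∈ W, h.sg w' b c v ∈ W := by
        intro c v hv
        rw [h.sg_apply hb1, hW v hv w' hw'W]
        simp only [mul_zero, zero_smul, add_zero]
        exact W.add_mem hv (W.smul_mem _ hw'W)
      apply mem_stabSub_of_maps (key 1)
      rw [h.sg_inv hb1]
      exact key (-1)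
    have hLw := hMW1 _ (hPM hLP) w hw
    rw [h.sg_apply hb1, hW w hwW w' hw'W] at hLw
    simp only [mul_zero, zero_smul, add_zero, one_mul] at hLw
    have h2 : (B w b) • w' ∈ B.orthogonal U := by
      have := (B.orthogonal U).sub_mem hLw hw
      simpa using this
    apply hw'
    have := (B.orthogonal U).smul_mem (B w b)⁻¹ h2
    rwa [smul_smul, inv_mul_cancel₀ hb2, one_smul] at this

omit [FiniteDimensional K V] in
/-- A subspace contained in the union of two subspaces is contained in one of them. -/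
lemma le_or_le_of_forall_mem_or (A W W' : Submodule K V) (hA : ∀ x ∈ A, x ∈ W ∨ x ∈ W') :
    A ≤ W ∨ A ≤ W' := by
  by_contra hcon
  push Not at hcon
  obtain ⟨h1, h2⟩ := hcon
  obtain ⟨x, hxA, hxW⟩ := SetLike.not_le_iff_exists.1 h1
  obtain ⟨y, hyA, hyW'⟩ := SetLike.not_le_iff_exists.1 h2
  have hxW' : x ∈ W' := (hA x hxA).resolve_left hxW
  have hyW : y ∈ W := (hA y hyA).resolve_right hyW'
  rcases hA (x + y) (A.add_mem hxA hyA) with h3 | h3
  · exact hxW (by simpa using W.sub_mem h3 hyW)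
  · exact hyW' (by simpa using W'.sub_mem h3 hxW')

omit [FiniteDimensional K V] in
/-- Sliding lemma: inside a non-degenerate subspace `N ⊆ X`, with `r ⊥ N`, if `a + r ∈ X` for one
non-zero `a ∈ N` then `a' + r ∈ X` for every non-zero `a' ∈ N`. -/
lemma slide (h : SympData B) {M : Subgroup (V ≃ₗ[K] V)} {N : Submodule K V} (hN : NondegOn B N)
    (hNX : ∀ n ∈ N, n ∈ h.Xset M) {r : V} (hr : ∀ n ∈ N, B r n = 0) {a : V} (ha : a ∈ N)
    (ha0 : a ≠ 0) (har : a + r ∈ h.Xset M) : ∀ a' ∈ N, a' ≠ 0 → a' + r ∈ h.Xset M := by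
  have step : ∀ a a' : V, a ∈ N → a' ∈ N → a + r ∈ h.Xset M → B a a' ≠ 0 → a' + r ∈ h.Xset M := by
    intro a a' ha ha' har haa
    have h1 : B (a + r) (a' - a) ≠ 0 := by
      have : B (a + r) (a' - a) = B a a' := by
        simp only [map_add, map_sub, LinearMap.add_apply, h.alt, hr a' ha', hr a ha]
        ring
      rw [this]; exact haa
    have := h.add_mem_Xset har (hNX _ (N.sub_mem ha' ha)) h1
    have e : a + r + (a' - a) = a' + r := by abel
    rwa [e] at this
  have hne : ∀ a ∈ N, a ≠ 0 → ∃ u ∈ N, B a u ≠ 0 := by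
    intro a ha ha0
    by_contra hcon
    push Not at hcon
    exact ha0 (hN a ha hcon)
  intro a' ha' ha'0
  by_cases haa : B a a' = 0
  · obtain ⟨z, hz, hz1, hz2⟩ := exists_both_ne_zero N (B a) (B a') (hne a ha ha0) (hne a' ha' ha'0)
    have hz2' : B z a' ≠ 0 := fun h0 => hz2 (h.eq_zero_comm.1 h0)
    exact step z a' hz ha' (step a z ha hz har hz1) hz2'
  · exact step a a' ha ha' har haa

lemma nondegOn_orthogonal (h : SympData B) {W : Submodule K V} (hW : NondegOn B W) :
    NondegOn B (B.orthogonal W) := by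
  intro x hx hxy
  have h1 : x ∈ B.orthogonal (B.orthogonal W) := h.mem_orthogonal.2 hxy
  rw [h.orth_orth] at h1
  exact hW x h1 (h.mem_orthogonal.1 hx)

omit [FiniteDimensional K V] in
theorem stab_nondeg_lt (h : SympData B) {W : Submodule K V} (hW0 : W ≠ ⊥) (hWtop : W ≠ ⊤) :
    stabSub W ⊓ Sp B < Sp B := by
  rw [SetLike.lt_iff_le_and_exists]
  refine ⟨inf_le_right, ?_⟩
  obtain ⟨w, hw, hw0⟩ := Submodule.exists_mem_ne_zero_of_ne_bot hW0
  have : ∃ u, u ∉ W := by
    by_contra hcon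
    push Not at hcon
    exact hWtop (eq_top_iff.2 fun x _ => hcon x)
  obtain ⟨u, hu⟩ := this
  have hu0 : u ≠ 0 := by
    rintro rfl
    exact hu W.zero_mem
  have hne : ∀ a : V, a ≠ 0 → ∃ u ∈ (⊤ : Submodule K V), B a u ≠ 0 := by
    intro a ha0
    by_contra hcon
    push Not at hcon
    exact ha0 (h.nondeg a fun y => hcon y trivial)
  obtain ⟨g, hg, hgw⟩ := h.TN_trans (U := ⊤) (w := w) (w' := u) trivial trivial
    (hne w hw0) (hne u hu0)
  refine ⟨g, h.TN_le_Sp ⊤ hg, fun hgP => hu ?_⟩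
  rw [← hgw]
  exact (hgP.1 w).1 hw

theorem stab_nondeg_max (h : SympData B) {W : Submodule K V} (hW : NondegOn B W)
    (hdim : 2 * Module.finrank K W < Module.finrank K V)
    (M : Subgroup (V ≃ₗ[K] V)) (hPM : stabSub W ⊓ Sp B ≤ M) (hMS : M ≤ Sp B) :
    M = stabSub W ⊓ Sp B ∨ M = Sp B := by
  by_cases hM : M ≤ stabSub W
  · left
    exact le_antisymm (le_inf hM hMS) hPM
  right
  apply le_antisymm hMS
  rw [h.Sp_eq_TN_top]
  apply h.TN_top_le_of_Xset
  have hcompl := hW.isCompl h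
  -- `W ⊆ X`
  have hWX : ∀ u ∈ W, u ∈ h.Xset M := by
    intro y hy c
    apply hPM
    refine ⟨?_, h.tv_mem_Sp _ _⟩
    apply mem_stabSub_of_maps
    · intro v hv
      rw [tv_apply]; exact W.add_mem hv (W.smul_mem _ hy)
    · intro v hv
      rw [tv_inv, tv_apply]; exact W.add_mem hv (W.smul_mem _ hy)
  -- `W^⊥ ⊆ X`
  have hWpX : ∀ u ∈ B.orthogonal W, u ∈ h.Xset M := by
    intro y hy c
    apply hPM
    refine ⟨?_, h.tv_mem_Sp _ _⟩
    have hfix : ∀ c : K, ∀ v ∈ W, h.tv y c v = v := by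
      intro c v hv
      exact h.tv_fix_of_ortho (h.eq_zero_comm.1 ((h.mem_orthogonal.1 hy) v hv)) c
    apply mem_stabSub_of_maps
    · intro v hv
      rw [hfix c v hv]; exact hv
    · intro v hv
      rw [tv_inv, hfix (-c) v hv]; exact hv
  -- a vector of `X` outside `W ∪ W^⊥`
  have hx : ∃ x ∈ h.Xset M, x ∉ W ∧ x ∉ B.orthogonal W := by
    by_contra hcon
    push Not at hcon
    apply hM
    have hstab : ∀ g ∈ M, ∀ u ∈ B.orthogonal W, g u ∈ B.orthogonal W := by
      intro g hg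
      have hA : ∀ x ∈ (B.orthogonal W).map (g : V →ₗ[K] V), x ∈ W ∨ x ∈ B.orthogonal W := by
        rintro x ⟨u, hu, rfl⟩
        have hgu : g u ∈ h.Xset M := h.map_mem_Xset (hWpX u hu) hg (hMS hg)
        by_cases hgW : g u ∈ W
        · exact Or.inl hgW
        · exact Or.inr (hcon _ hgu hgW)
      rcases le_or_le_of_forall_mem_or _ _ _ hA with h1 | h1
      · exfalso
        have h2 := Submodule.finrank_mono h1
        rw [LinearEquiv.finrank_map_eq] at h2
        have h3 := LinearMap.BilinForm.finrank_orthogonal h.nondegenerate W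
        omega
      · intro u hu
        exact h1 ⟨u, hu, rfl⟩
    intro g hg
    have hmaps : ∀ g ∈ M, ∀ v ∈ W, g v ∈ W := by
      intro g hg v hv
      rw [← h.orth_orth W, h.mem_orthogonal]
      intro u hu
      have h1 : g (g⁻¹ u) = u := by rw [← LinearEquiv.mul_apply, mul_inv_cancel]; rfl
      rw [← h1, hMS hg v (g⁻¹ u)]
      exact h.eq_zero_comm.1 ((h.mem_orthogonal.1 (hstab _ (inv_mem hg) u hu)) v hv)
    exact mem_stabSub_of_maps (hmaps g hg) (hmaps _ (inv_mem hg))
  obtain ⟨x, hxX, hxW, hxWp⟩ := hx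
  obtain ⟨a, ha, b, hb, rfl⟩ := Submodule.mem_sup.1
    (show x ∈ W ⊔ B.orthogonal W by rw [hcompl.sup_eq_top]; trivial)
  have ha0 : a ≠ 0 := by
    rintro rfl
    apply hxWp
    simpa using hb
  have hb0 : b ≠ 0 := by
    rintro rfl
    apply hxW
    simpa using ha
  have hWp := h.nondegOn_orthogonal hW
  -- slide in `W`, then in `W^⊥`
  have h1 : ∀ a' ∈ W, a' ≠ 0 → a' + b ∈ h.Xset M :=
    h.slide hW hWX (fun n hn => (h.mem_orthogonal.1 hb) n hn) ha ha0 hxX
  have h2 : ∀ a' ∈ W, a' ≠ 0 → ∀ b' ∈ B.orthogonal W, b' ≠ 0 → a' + b' ∈ h.Xset M := by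
    intro a' ha' ha'0 b' hb' hb'0
    have := h.slide hWp hWpX (r := a')
      (fun n hn => h.eq_zero_comm.1 ((h.mem_orthogonal.1 hn) a' ha')) hb hb0
      (by rw [add_comm]; exact h1 a' ha' ha'0) b' hb' hb'0
    rwa [add_comm] at this
  intro v
  obtain ⟨a', ha', b', hb', rfl⟩ := Submodule.mem_sup.1
    (show v ∈ W ⊔ B.orthogonal W by rw [hcompl.sup_eq_top]; trivial)
  by_cases ha'0 : a' = 0
  · rw [ha'0, zero_add]; exact hWpX b' hb'
  by_cases hb'0 : b' = 0
  · rw [hb'0, add_zero]; exact hWX a' ha'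
  exact h2 a' ha' ha'0 b' hb' hb'0

end FD

end SympData

end Cfsg.Agent.Lib.Helper94
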