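/-
Helper94: in characteristic two (perfect field), the isometry group of a quadratic form whose
polar form is the alternating form `B` is a maximal subgroup of the symplectic group of `B`.
-/
import Mathlib
import Cfsg.Agent.Lib.Helper94.SympBasic
import Cfsg.Agent.Lib.Helper94.SympMax

set_option autoImplicit false
set_option linter.unusedSimpArgs false
set_option linter.unusedSectionVars false

namespace Cfsg.Agent.Lib.Helper94

open LinearMap (BilinForm)

variable {K V : Type*} [Field K] [AddCommGroup V] [Module K V]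

/-- A quadratic form with polar form `B`. -/
structure QuadData (B : BilinForm K V) (Q : V → K) : Prop where
  smul : ∀ (c : K) (v : V), Q (c • v) = c ^ 2 * Q v
  polar : ∀ u v, Q (u + v) = Q u + Q v + B u v

namespace SympData

variable {B : BilinForm K V} {Q : V → K}

/-- The isometries of `B` preserving `Q`. -/
def isoQ (B : BilinForm K V) (Q : V → K) : Subgroup (V ≃ₗ[K] V) where
  carrier := {g | g ∈ Sp B ∧ ∀ x, Q (g x) = Q x}
  mul_mem' {a b} ha hb := by
    refine ⟨mul_mem ha.1 hb.1, fun x => ?_⟩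
    rw [LinearEquiv.mul_apply, ha.2, hb.2]
  one_mem' := ⟨one_mem _, fun x => rfl⟩
  inv_mem' {a} ha := by
    refine ⟨inv_mem ha.1, fun x => ?_⟩
    have := ha.2 (a⁻¹ x)
    rw [← LinearEquiv.mul_apply, mul_inv_cancel] at this
    exact this.symm

lemma isoQ_le_Sp : isoQ B Q ≤ Sp B := fun _ hg => hg.1

lemma Q_zero (hQ : QuadData B Q) : Q 0 = 0 := by
  have := hQ.smul 0 0
  simpa using this

/-- the value of `Q` after a transvection -/
lemma Q_tv (h : SympData B) (hQ : QuadData B Q) (v : V) (c : K) (x : V) :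
    Q (h.tv v c x) = Q x + c * (B x v) ^ 2 * (c * Q v + 1) := by
  rw [tv_apply, hQ.polar, hQ.smul, map_smul, smul_eq_mul]
  ring

/-- orthogonal transvections preserve `Q` (characteristic two) -/
lemma refl_mem_isoQ (h : SympData B) (hQ : QuadData B Q) (h2 : (1 : K) + 1 = 0) {v : V}
    (hv : Q v ≠ 0) : h.tv v (Q v)⁻¹ ∈ isoQ B Q := by
  refine ⟨h.tv_mem_Sp _ _, fun x => ?_⟩
  rw [h.Q_tv hQ, inv_mul_cancel₀ hv, h2, mul_zero, add_zero]

/-- a singular vector has a singular hyperbolic partner (characteristic two) -/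
lemma exists_singular_partner (h : SympData B) (hQ : QuadData B Q) (h2 : (1 : K) + 1 = 0) {v : V}
    (hv0 : v ≠ 0) (hv : Q v = 0) : ∃ w, Q w = 0 ∧ B v w = 1 := by
  have : ∃ w₀, B v w₀ = 1 := by
    have : ∃ y, B v y ≠ 0 := by
      by_contra hcon
      push Not at hcon
      exact hv0 (h.nondeg v hcon)
    obtain ⟨y, hy⟩ := this
    exact ⟨(B v y)⁻¹ • y, by rw [map_smul, smul_eq_mul, inv_mul_cancel₀ hy]⟩
  obtain ⟨w₀, hw₀⟩ := this
  have hw₀v : B w₀ v = 1 := by
    rw [h.skew, hw₀]; linear_combination -h2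
  refine ⟨w₀ + Q w₀ • v, ?_, ?_⟩
  · rw [hQ.polar, hQ.smul, hv, map_smul, smul_eq_mul, hw₀v]
    linear_combination (Q w₀) * h2
  · rw [map_add, map_smul, h.alt, hw₀]; simp

/-- hyperbolic rotation: for a singular `v` and `c ≠ 0` some element of `isoQ` maps `v` to `c • v` -/
lemma exists_rot (h : SympData B) (hQ : QuadData B Q) (h2 : (1 : K) + 1 = 0) {v : V}
    (hv0 : v ≠ 0) (hv : Q v = 0) {c : K} (hc : c ≠ 0) : ∃ g ∈ isoQ B Q, g v = c • v := by
  obtain ⟨w, hw, hvw⟩ := h.exists_singular_partner hQ h2 hv0 hv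
  have hwv : B w v = 1 := by
    rw [h.skew, hvw]; linear_combination -h2
  have hQ1 : Q (v + w) = 1 := by rw [hQ.polar, hv, hw, hvw]; ring
  have hQ2 : Q (c • v + w) = c := by
    rw [hQ.polar, hQ.smul, hv, hw, map_smul, LinearMap.smul_apply, hvw]; simp
  have m1 : h.tv (v + w) 1 ∈ isoQ B Q := by
    have := h.refl_mem_isoQ hQ h2 (v := v + w) (by rw [hQ1]; exact one_ne_zero)
    rwa [hQ1, inv_one] at this
  have m2 : h.tv (c • v + w) c⁻¹ ∈ isoQ B Q := by
    have := h.refl_mem_isoQ hQ h2 (v := c • v + w) (by rw [hQ2]; exact hc)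
    rwa [hQ2] at this
  refine ⟨h.tv (c • v + w) c⁻¹ * h.tv (v + w) 1, mul_mem m2 m1, ?_⟩
  rw [LinearEquiv.mul_apply]
  have e1 : h.tv (v + w) 1 v = w := by
    rw [tv_apply, map_add, h.alt, hvw, zero_add, mul_one, one_smul]
    have : v + (v + w) = ((1 : K) + 1) • v + w := by rw [add_smul, one_smul]; abel
    rw [this, h2, zero_smul, zero_add]
  rw [e1, tv_apply, map_add, map_smul, h.alt, hwv, add_zero, smul_eq_mul, mul_one,
    inv_mul_cancel₀ hc, one_smul]
  have : w + (c • v + w) = c • v + ((1 : K) + 1) • w := by rw [add_smul, one_smul]; abel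
  rw [this, h2, zero_smul, add_zero]

/-- For a singular vector, one non-trivial transvection in `M ⊇ isoQ` gives all of them. -/
lemma mem_Xset_of_singular (h : SympData B) (hQ : QuadData B Q) (h2 : (1 : K) + 1 = 0)
    (hsq : ∀ a : K, ∃ s, s ^ 2 = a) {M : Subgroup (V ≃ₗ[K] V)} (hPM : isoQ B Q ≤ M) {v : V}
    (hv0 : v ≠ 0) (hv : Q v = 0) {c : K} (hc : c ≠ 0) (hcM : h.tv v c ∈ M) : v ∈ h.Xset M := by
  intro d
  by_cases hd : d = 0
  · rw [hd, h.tv_zero_right]; exact one_mem _
  obtain ⟨s, hs⟩ := hsq (d / c)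
  have hs0 : s ≠ 0 := by
    rintro rfl
    have : d / c = 0 := by rw [← hs]; ring
    rcases div_eq_zero_iff.1 this with h0 | h0
    · exact hd h0
    · exact hc h0
  obtain ⟨g, hg, hgv⟩ := h.exists_rot hQ h2 hv0 hv hs0
  have : h.tv v d = g * h.tv v c * g⁻¹ := by
    rw [h.conj_tv hg.1, hgv, h.tv_smul, hs]
    congr 1
    field_simp
  rw [this]
  exact mul_mem (mul_mem (hPM hg) hcM) (inv_mem (hPM hg))

section FD

variable [FiniteDimensional K V]

/-- existence of a non-zero singular vector in dimension at least three -/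
lemma exists_singular (h : SympData B) (hQ : QuadData B Q) (h2 : (1 : K) + 1 = 0)
    (hsq : ∀ a : K, ∃ s, s ^ 2 = a) (hdim : 3 ≤ Module.finrank K V) :
    ∃ v : V, v ≠ 0 ∧ Q v = 0 := by
  have hpos : 0 < Module.finrank K V := by omega
  obtain ⟨e, he⟩ := Module.finrank_pos_iff_exists_ne_zero.1 hpos
  have hfr := LinearMap.BilinForm.finrank_orthogonal h.nondegenerate (Submodule.span K {e})
  rw [finrank_span_singleton he] at hfr
  have : ∃ z ∈ B.orthogonal (Submodule.span K {e}), z ∉ Submodule.span K {e} := by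
    by_contra hcon
    push Not at hcon
    have hle : B.orthogonal (Submodule.span K {e}) ≤ Submodule.span K {e} := hcon
    have := Submodule.finrank_mono hle
    rw [finrank_span_singleton he] at this
    omega
  obtain ⟨z, hz, hzn⟩ := this
  have hez : B e z = 0 :=
    h.eq_zero_comm.1 ((h.mem_orthogonal.1 hz) e (Submodule.mem_span_singleton_self _))
  by_cases hQe : Q e = 0
  · exact ⟨e, he, hQe⟩
  · obtain ⟨s, hs⟩ := hsq (Q z / Q e)
    refine ⟨s • e + z, ?_, ?_⟩
    · intro h0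
      apply hzn
      have : z = (-s) • e := by
        rw [neg_smul]; exact eq_neg_of_add_eq_zero_right h0
      rw [this]
      exact Submodule.smul_mem _ _ (Submodule.mem_span_singleton_self _)
    · rw [hQ.polar, hQ.smul, hs, map_smul, LinearMap.smul_apply, hez, div_mul_cancel₀ _ hQe]
      simp only [smul_eq_mul, mul_zero, add_zero]
      linear_combination (Q z) * h2

/-- **Maximality** of the orthogonal group in the symplectic group, characteristic two. -/
theorem isoQ_max (h : SympData B) (hQ : QuadData B Q) (h2 : (1 : K) + 1 = 0)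
    (hsq : ∀ a : K, ∃ s, s ^ 2 = a) (hdim : 3 ≤ Module.finrank K V)
    (M : Subgroup (V ≃ₗ[K] V)) (hPM : isoQ B Q ≤ M) (hMS : M ≤ Sp B) :
    M = isoQ B Q ∨ M = Sp B := by
  by_cases hM : M ≤ isoQ B Q
  · left; exact le_antisymm hM hPM
  right
  apply le_antisymm hMS
  rw [h.Sp_eq_TN_top]
  apply h.TN_top_le_of_Xset
  obtain ⟨g, hgM, hg⟩ := SetLike.not_le_iff_exists.1 hM
  have hgS : g ∈ Sp B := hMS hgM
  have hginvS : g⁻¹ ∈ Sp B := inv_mem hgS
  obtain ⟨v₁, hv₁0, hv₁⟩ := h.exists_singular hQ h2 hsq hdim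
  have hadd : ∀ a b : K, a + b = 0 → a = b := by
    intro a b hab
    have : b + b = 0 := by linear_combination b * h2
    linear_combination hab - this
  -- making a vector singular by adding a multiple of a singular vector
  have hmk : ∀ (v x : V), Q v = 0 → B x v ≠ 0 → Q (x + (Q x / B x v) • v) = 0 := by
    intro v x hv hxv
    rw [hQ.polar, hQ.smul, hv, map_smul, smul_eq_mul, div_mul_cancel₀ _ hxv]
    linear_combination (Q x) * h2
  -- some singular vector is not singular for `Q ∘ g⁻¹`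
  have hex : ∃ v : V, v ≠ 0 ∧ Q v = 0 ∧ Q (g⁻¹ v) ≠ 0 := by
    by_contra hcon
    push Not at hcon
    apply hg
    -- `δ x = Q (g⁻¹ x) + Q x` vanishes identically
    have hδadd : ∀ x y, Q (g⁻¹ (x + y)) + Q (x + y) =
        (Q (g⁻¹ x) + Q x) + (Q (g⁻¹ y) + Q y) := by
      intro x y
      rw [map_add, hQ.polar, hQ.polar, hginvS x y]
      linear_combination (B x y) * h2
    have hδsmul : ∀ (c : K) x, Q (g⁻¹ (c • x)) + Q (c • x) = c ^ 2 * (Q (g⁻¹ x) + Q x) := by
      intro c x
      rw [map_smul, hQ.smul, hQ.smul]; ring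
    have hδsing : ∀ v, Q v = 0 → Q (g⁻¹ v) + Q v = 0 := by
      intro v hv
      by_cases hv0 : v = 0
      · rw [hv0, map_zero, Q_zero hQ]; ring
      · rw [hcon v hv0 hv, hv]; ring
    have hδ1 : ∀ x, B x v₁ ≠ 0 → Q (g⁻¹ x) + Q x = 0 := by
      intro x hx
      have h1 := hδsing _ (hmk v₁ x hv₁ hx)
      rw [hδadd, hδsmul, hδsing v₁ hv₁, mul_zero, add_zero] at h1
      exact h1
    have hδ : ∀ x, Q (g⁻¹ x) + Q x = 0 := by
      intro x
      by_cases hx : B x v₁ = 0
      · have : ∃ z, B z v₁ ≠ 0 := by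
          by_contra hc2
          push Not at hc2
          exact hv₁0 (h.nondeg v₁ fun y => h.eq_zero_comm.1 (hc2 y))
        obtain ⟨z, hz⟩ := this
        have hxz : B (x + z) v₁ ≠ 0 := by
          rw [map_add, LinearMap.add_apply, hx, zero_add]; exact hz
        have h1 := hδ1 _ hxz
        rw [hδadd, hδ1 z hz, add_zero] at h1
        exact h1
      · exact hδ1 x hx
    have hginv : g⁻¹ ∈ isoQ B Q := ⟨hginvS, fun x => hadd _ _ (hδ x)⟩
    have := inv_mem hginv
    rwa [inv_inv] at this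
  obtain ⟨v₂, hv₂0, hv₂, hv₂'⟩ := hex
  -- `v₂ ∈ X`
  have hv₂X : v₂ ∈ h.Xset M := by
    have h1 : h.tv (g⁻¹ v₂) (Q (g⁻¹ v₂))⁻¹ ∈ M := hPM (h.refl_mem_isoQ hQ h2 hv₂')
    have h3 : g * h.tv (g⁻¹ v₂) (Q (g⁻¹ v₂))⁻¹ * g⁻¹ ∈ M := mul_mem (mul_mem hgM h1) (inv_mem hgM)
    rw [h.conj_tv hgS] at h3
    have e : g (g⁻¹ v₂) = v₂ := by rw [← LinearEquiv.mul_apply, mul_inv_cancel]; rfl
    rw [e] at h3
    exact h.mem_Xset_of_singular hQ h2 hsq hPM hv₂0 hv₂ (inv_ne_zero hv₂') h3
  -- singular vectors with non-zero product are conjugate under `isoQ`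
  have hconj : ∀ v v' : V, Q v = 0 → Q v' = 0 → B v v' ≠ 0 → v ∈ h.Xset M → v' ∈ h.Xset M := by
    intro v v' hv hv' hvv hvX
    have hQu : Q (v + v') = B v v' := by rw [hQ.polar, hv, hv']; ring
    have hu : Q (v + v') ≠ 0 := by rw [hQu]; exact hvv
    have hr := h.refl_mem_isoQ hQ h2 hu
    have hmap : h.tv (v + v') (Q (v + v'))⁻¹ v = v' := by
      rw [tv_apply, map_add, h.alt, zero_add, hQu, inv_mul_cancel₀ hvv, one_smul]
      have : v + (v + v') = ((1 : K) + 1) • v + v' := by rw [add_smul, one_smul]; abel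
      rw [this, h2, zero_smul, zero_add]
    rw [← hmap]
    exact h.map_mem_Xset hvX (hPM hr) hr.1
  -- every non-zero singular vector is in `X`
  have hsing : ∀ v : V, v ≠ 0 → Q v = 0 → v ∈ h.Xset M := by
    intro v hv0 hv
    by_cases hvv : B v₂ v = 0
    · have hne : ∀ a : V, a ≠ 0 → ∃ u ∈ (⊤ : Submodule K V), B a u ≠ 0 := by
        intro a ha0
        by_contra hcon
        push Not at hcon
        exact ha0 (h.nondeg a fun y => hcon y trivial)
      obtain ⟨z, _, hz1, hz2⟩ := exists_both_ne_zero ⊤ (B v₂) (B v) (hne v₂ hv₂0) (hne v hv0)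
      have hz1' : B z v₂ ≠ 0 := fun h0 => hz1 (h.eq_zero_comm.1 h0)
      set v₃ : V := z + (Q z / B z v₂) • v₂ with hv₃
      have hv₃s : Q v₃ = 0 := hmk v₂ z hv₂ hz1'
      have h23 : B v₂ v₃ ≠ 0 := by
        rw [hv₃, map_add, map_smul, h.alt]; simpa using hz1
      have h3v : B v₃ v ≠ 0 := by
        rw [hv₃, map_add, map_smul, LinearMap.add_apply, LinearMap.smul_apply, hvv]
        simp only [smul_eq_mul, mul_zero, add_zero]
        exact fun h0 => hz2 (h.eq_zero_comm.1 h0)
      exact hconj v₃ v hv₃s hv h3v (hconj v₂ v₃ hv₂ hv₃s h23 hv₂X)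
    · exact hconj v₂ v hv₂ hv hvv hv₂X
  -- every vector is in `X`
  intro v
  by_cases hv0 : v = 0
  · rw [hv0]; exact h.zero_mem_Xset M
  by_cases hv : Q v = 0
  · exact hsing v hv0 hv
  -- a singular `x` with `B v x ≠ 0`
  have hx : ∃ x : V, x ≠ 0 ∧ Q x = 0 ∧ B v x ≠ 0 := by
    by_cases hvv : B v v₂ = 0
    · have hne : ∀ a : V, a ≠ 0 → ∃ u ∈ (⊤ : Submodule K V), B a u ≠ 0 := by
        intro a ha0
        by_contra hcon
        push Not at hcon
        exact ha0 (h.nondeg a fun y => hcon y trivial)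
      obtain ⟨z, _, hz1, hz2⟩ := exists_both_ne_zero ⊤ (B v₂) (B v) (hne v₂ hv₂0) (hne v hv0)
      have hz1' : B z v₂ ≠ 0 := fun h0 => hz1 (h.eq_zero_comm.1 h0)
      refine ⟨z + (Q z / B z v₂) • v₂, ?_, hmk v₂ z hv₂ hz1', ?_⟩
      · intro h0
        have : B v₂ (z + (Q z / B z v₂) • v₂) = 0 := by rw [h0]; simp
        rw [map_add, map_smul, h.alt] at this
        simp only [smul_eq_mul, mul_zero, add_zero] at this
        exact hz1 this
      · rw [map_add, map_smul, hvv]
        simpa using hz2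
    · exact ⟨v₂, hv₂0, hv₂, hvv⟩
  obtain ⟨x, hx0, hxs, hvx⟩ := hx
  set y : V := v + (Q v / B v x) • x with hy
  have hys : Q y = 0 := hmk x v hxs hvx
  have hyx : B y x ≠ 0 := by
    rw [hy, map_add, map_smul, LinearMap.add_apply, LinearMap.smul_apply, h.alt]
    simpa using hvx
  have hy0 : y ≠ 0 := by
    intro h0
    rw [h0] at hyx
    simp at hyx
  have hyX := hsing y hy0 hys
  have hxX := hsing x hx0 hxs
  -- `v = y + μ x`
  have hsum : y + (Q v / B v x) • x ∈ h.Xset M := by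
    by_cases hμ : Q v / B v x = 0
    · rw [hμ, zero_smul, add_zero]; exact hyX
    · apply h.add_mem_Xset hyX (h.smul_mem_Xset hxX _)
      rw [map_smul, smul_eq_mul]
      exact mul_ne_zero hμ hyx
  have e : y + (Q v / B v x) • x = v := by
    rw [hy, add_assoc, ← add_smul]
    have : Q v / B v x + Q v / B v x = 0 := by linear_combination (Q v / B v x) * h2
    rw [this, zero_smul, add_zero]
  rwa [e] at hsum

/-- the orthogonal group is a proper subgroup of the symplectic group -/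
theorem isoQ_lt (h : SympData B) (hQ : QuadData B Q) (h2 : (1 : K) + 1 = 0)
    (hsq : ∀ a : K, ∃ s, s ^ 2 = a) (hdim : 3 ≤ Module.finrank K V) : isoQ B Q < Sp B := by
  rw [SetLike.lt_iff_le_and_exists]
  refine ⟨isoQ_le_Sp, ?_⟩
  obtain ⟨v, hv0, hv⟩ := h.exists_singular hQ h2 hsq hdim
  refine ⟨h.tv v 1, h.tv_mem_Sp _ _, fun hmem => ?_⟩
  have : ∃ x, B x v ≠ 0 := by
    by_contra hcon
    push Not at hcon
    exact hv0 (h.nondeg v fun y => h.eq_zero_comm.1 (hcon y))
  obtain ⟨x, hx⟩ := this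
  have := hmem.2 x
  rw [h.Q_tv hQ, hv] at this
  have h3 : (B x v) ^ 2 = 0 := by linear_combination this
  exact hx (pow_eq_zero_iff (two_ne_zero) |>.1 h3)

end FD

end SympData

end Cfsg.Agent.Lib.Helper94
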