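/-
Helper94: abstract quadratic spaces: the isometry group, reflections, and products of two
reflections as commutators.
-/
import Mathlib
import Cfsg.Agent.Lib.Helper94.SympMax
import Cfsg.Agent.Lib.Helper94.SympOrth

set_option autoImplicit false
set_option linter.unusedSimpArgs false
set_option linter.unusedSectionVars false

namespace Cfsg.Agent.Lib.Helper94

open LinearMap (BilinForm)
open scoped commutatorElement

variable {K V : Type*} [Field K] [AddCommGroup V] [Module K V]

/-- The isometry group of a function `Q`. -/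
def OG (Q : V → K) : Subgroup (V ≃ₗ[K] V) where
  carrier := {g | ∀ x, Q (g x) = Q x}
  mul_mem' {a b} ha hb := by
    intro x
    rw [LinearEquiv.mul_apply, ha, hb]
  one_mem' := fun x => rfl
  inv_mem' {a} ha := by
    intro x
    have := ha (a⁻¹ x)
    rw [← LinearEquiv.mul_apply, mul_inv_cancel] at this
    exact this.symm

lemma mem_OG {Q : V → K} {g : V ≃ₗ[K] V} : g ∈ OG Q ↔ ∀ x, Q (g x) = Q x := Iff.rfl

namespace QuadData

variable {B : BilinForm K V} {Q : V → K}

lemma zero (hQ : QuadData B Q) : Q 0 = 0 := by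
  have := hQ.smul 0 0
  simpa using this

lemma symm (hQ : QuadData B Q) (u v : V) : B u v = B v u := by
  have h1 := hQ.polar u v
  have h2 := hQ.polar v u
  rw [add_comm v u] at h2
  linear_combination h2 - h1

lemma self (hQ : QuadData B Q) (x : V) : B x x = 2 * Q x := by
  have h1 := hQ.polar x x
  have h2 := hQ.smul 2 x
  rw [two_smul] at h2
  linear_combination h2 - h1

lemma neg (hQ : QuadData B Q) (x : V) : Q (-x) = Q x := by
  have := hQ.smul (-1) x
  simpa using this

lemma sub (hQ : QuadData B Q) (u v : V) : Q (u - v) = Q u + Q v - B u v := by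
  rw [sub_eq_add_neg, hQ.polar, hQ.neg, map_neg]
  ring

lemma B_map (hQ : QuadData B Q) {g : V ≃ₗ[K] V} (hg : g ∈ OG Q) (x y : V) :
    B (g x) (g y) = B x y := by
  have h1 := hQ.polar (g x) (g y)
  rw [← map_add, hg (x + y), hg x, hg y, hQ.polar] at h1
  linear_combination -h1

/-- The reflection along a non-singular vector. -/
noncomputable def refl (hQ : QuadData B Q) (a : V) (ha : Q a ≠ 0) : V ≃ₗ[K] V :=
  Module.reflection (x := a) (f := (Q a)⁻¹ • B.flip a) (by
    have h1 : (B.flip a) a = B a a := rfl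
    rw [LinearMap.smul_apply, h1, hQ.self, smul_eq_mul]
    field_simp)

lemma refl_apply (hQ : QuadData B Q) (a : V) (ha : Q a ≠ 0) (x : V) :
    hQ.refl a ha x = x - ((Q a)⁻¹ * B x a) • a := by
  rw [refl, Module.reflection_apply]
  simp

lemma refl_mem_OG (hQ : QuadData B Q) (a : V) (ha : Q a ≠ 0) : hQ.refl a ha ∈ OG Q := by
  intro x
  rw [refl_apply, hQ.sub, hQ.smul, map_smul, smul_eq_mul]
  field_simp
  ring

lemma refl_inv (hQ : QuadData B Q) (a : V) (ha : Q a ≠ 0) :
    (hQ.refl a ha)⁻¹ = hQ.refl a ha := rfl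

lemma refl_congr (hQ : QuadData B Q) {a b : V} (hab : a = b) (ha : Q a ≠ 0) :
    hQ.refl a ha = hQ.refl b (hab ▸ ha) := by
  subst hab; rfl

lemma conj_refl (hQ : QuadData B Q) {g : V ≃ₗ[K] V} (hg : g ∈ OG Q) (a : V) (ha : Q a ≠ 0) :
    g * hQ.refl a ha * g⁻¹ = hQ.refl (g a) (by rwa [hg a]) := by
  ext x
  rw [LinearEquiv.mul_apply, LinearEquiv.mul_apply, refl_apply, refl_apply, map_sub, map_smul,
    ← LinearEquiv.mul_apply, mul_inv_cancel, LinearEquiv.coe_one, id_eq, hg a]
  congr 3
  have := hQ.B_map hg (g⁻¹ x) a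
  rw [← LinearEquiv.mul_apply, mul_inv_cancel, LinearEquiv.coe_one, id_eq] at this
  exact this.symm

/-- the reflection along `a - b` swaps `a` and `b` when `Q a = Q b`. -/
lemma refl_swap (hQ : QuadData B Q) {a b : V} (hab : Q a = Q b) (hd : Q (a - b) ≠ 0) :
    hQ.refl (a - b) hd a = b := by
  rw [refl_apply]
  have h1 : B a (a - b) = Q (a - b) := by
    rw [map_sub, hQ.self, hQ.sub, ← hab]; ring
  rw [h1, inv_mul_cancel₀ hd, one_smul]
  abel

/-- A product of two reflections along vectors of the same norm is a commutator. -/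
lemma refl_mul_refl_mem (hQ : QuadData B Q) {a b : V} (ha : Q a ≠ 0) (hb : Q b ≠ 0)
    (hab : Q a = Q b) (hd : Q (a - b) ≠ 0) :
    hQ.refl a ha * hQ.refl b hb ∈ ⁅OG Q, OG Q⁆ := by
  have hg := hQ.refl_mem_OG (a - b) hd
  have h1 : hQ.refl a ha * hQ.refl b hb = ⁅hQ.refl a ha, hQ.refl (a - b) hd⁆ := by
    rw [commutatorElement_def, refl_inv, mul_assoc (hQ.refl a ha), mul_assoc (hQ.refl a ha),
      hQ.conj_refl hg a ha]
    congr 1
    exact hQ.refl_congr (hQ.refl_swap hab hd).symm hb
  rw [h1]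
  exact Subgroup.commutator_mem_commutator (hQ.refl_mem_OG a ha) hg

lemma commutator_le_OG : ⁅OG Q, OG Q⁆ ≤ OG Q := by
  rw [Subgroup.commutator_le]
  intro g1 h1 g2 h2
  rw [commutatorElement_def]
  exact mul_mem (mul_mem (mul_mem h1 h2) (inv_mem h1)) (inv_mem h2)

end QuadData

end Cfsg.Agent.Lib.Helper94
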