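/-
Helper94: bridge between subgroups of `GL ι F` (matrices acting on column vectors) and subgroups
of the group of linear automorphisms of `ι → F`; the standard symplectic form as a bilinear form.
-/
import Mathlib
import Cfsg.Prelude.Def_GeometricClasses
import Cfsg.Agent.Lib.Helper94.SympBasic
import Cfsg.Agent.Lib.Helper94.SympMax

set_option autoImplicit false

namespace Cfsg.Agent.Lib.Helper94

open scoped MatrixGroups Matrix
open LinearMap (BilinForm)

section Transport

variable {G G' : Type*} [Group G] [Group G']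

/-- Maximality transports along a group isomorphism. -/
lemma isMaximalIn_of_map (Φ : G ≃* G') {K H : Subgroup G}
    (hmax : Cfsg.Geo.IsMaximalIn (K.map Φ.toMonoidHom) (H.map Φ.toMonoidHom)) :
    Cfsg.Geo.IsMaximalIn K H := by
  obtain ⟨hlt, hM⟩ := hmax
  refine ⟨(Subgroup.map_lt_map_iff_of_injective Φ.injective).1 hlt, fun M hHM hMK => ?_⟩
  rcases hM (M.map Φ.toMonoidHom) (Subgroup.map_mono hHM) (Subgroup.map_mono hMK) with h | h
  · left; exact Subgroup.map_injective Φ.injective h
  · right; exact Subgroup.map_injective Φ.injective h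

end Transport

variable {ι : Type} [Fintype ι] [DecidableEq ι] {F : Type*} [Field F]

/-- `GL ι F` as the group of linear automorphisms of `ι → F`. -/
noncomputable def glEquiv (ι : Type) [Fintype ι] [DecidableEq ι] (F : Type*) [Field F] :
    GL ι F ≃* ((ι → F) ≃ₗ[F] (ι → F)) :=
  Matrix.GeneralLinearGroup.toLin.trans (LinearMap.GeneralLinearGroup.generalLinearEquiv F (ι → F))

lemma glEquiv_apply (g : GL ι F) (x : ι → F) : glEquiv ι F g x = (g : Matrix ι ι F) *ᵥ x := by
  simp [glEquiv]

lemma glEquiv_symm_mulVec (e : (ι → F) ≃ₗ[F] (ι → F)) (x : ι → F) :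
    (((glEquiv ι F).symm e : GL ι F) : Matrix ι ι F) *ᵥ x = e x := by
  rw [← glEquiv_apply, MulEquiv.apply_symm_apply]

/-- the image of the subspace stabiliser -/
lemma map_subspaceStabilizer (W : Submodule F (ι → F)) :
    (Cfsg.Geo.subspaceStabilizer W).map (glEquiv ι F).toMonoidHom = stabSub W := by
  ext e
  rw [Subgroup.mem_map_equiv]
  simp only [Cfsg.Geo.subspaceStabilizer, Cfsg.stabilizing, Subgroup.mem_mk, Submonoid.mem_mk,
    Subsemigroup.mem_mk, Set.mem_ofPred_eq, mem_stabSub, SetLike.mem_coe]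
  constructor
  · intro h v
    have := h v
    rwa [show (Cfsg.glToMat ι F) ((glEquiv ι F).symm e) = (((glEquiv ι F).symm e : GL ι F) :
      Matrix ι ι F) from rfl, glEquiv_symm_mulVec] at this
  · intro h v
    rw [show (Cfsg.glToMat ι F) ((glEquiv ι F).symm e) = (((glEquiv ι F).symm e : GL ι F) :
      Matrix ι ι F) from rfl, glEquiv_symm_mulVec]
    exact h v

/-- The standard symplectic form as a bilinear form. -/
noncomputable def sympBilin (m : ℕ) (F : Type*) [Field F] : BilinForm F (Fin m ⊕ Fin m → F) :=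
  Matrix.toBilin' (Matrix.J (Fin m) F)

lemma sympBilin_apply (m : ℕ) (u v : Fin m ⊕ Fin m → F) :
    sympBilin m F u v = Cfsg.sympForm m F u v := by
  simp [sympBilin, Cfsg.sympForm, Matrix.toBilin'_apply']

lemma sympForm_eq_sum (m : ℕ) (u v : Fin m ⊕ Fin m → F) :
    Cfsg.sympForm m F u v =
      ∑ i, (u (Sum.inr i) * v (Sum.inl i) - u (Sum.inl i) * v (Sum.inr i)) := by
  simp only [Cfsg.sympForm, Matrix.J, dotProduct, Matrix.mulVec, Fintype.sum_sum_type,
    Matrix.fromBlocks_apply₁₁, Matrix.fromBlocks_apply₁₂, Matrix.fromBlocks_apply₂₁,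
    Matrix.fromBlocks_apply₂₂, Matrix.zero_apply, zero_mul, Finset.sum_const_zero, zero_add,
    add_zero, Matrix.neg_apply, Matrix.one_apply, neg_mul, ite_mul, one_mul, Finset.sum_neg_distrib,
    Finset.sum_ite_eq, Finset.mem_univ, if_true, mul_neg]
  rw [Finset.sum_sub_distrib]
  ring

lemma sympData_sympBilin (m : ℕ) : SympData (sympBilin m F) where
  alt := by
    intro x
    rw [sympBilin_apply, sympForm_eq_sum]
    apply Finset.sum_eq_zero
    intro i _
    ring
  nondeg := by
    intro x hx
    funext k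
    rcases k with i | i
    · have := hx (Pi.single (Sum.inr i) 1)
      rw [sympBilin_apply, sympForm_eq_sum] at this
      simp only [Pi.single_apply, reduceCtorEq, if_false, mul_zero, zero_sub, Sum.inr.injEq,
        mul_ite, mul_one, Finset.sum_neg_distrib, Finset.sum_ite_eq', Finset.mem_univ, if_true,
        neg_eq_zero] at this
      simpa using this
    · have := hx (Pi.single (Sum.inl i) 1)
      rw [sympBilin_apply, sympForm_eq_sum] at this
      simp only [Pi.single_apply, reduceCtorEq, if_false, mul_zero, sub_zero, Sum.inl.injEq,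
        mul_ite, mul_one, Finset.sum_ite_eq', Finset.mem_univ, if_true] at this
      simpa using this

/-- the image of the symplectic group -/
lemma map_spGL (m : ℕ) :
    (Cfsg.spGL m F).map (glEquiv (Fin m ⊕ Fin m) F).toMonoidHom = SympData.Sp (sympBilin m F) := by
  ext e
  rw [Subgroup.mem_map_equiv]
  simp only [Cfsg.spGL, Cfsg.preserving, Subgroup.mem_mk, Submonoid.mem_mk,
    Subsemigroup.mem_mk, Set.mem_ofPred_eq, SympData.mem_Sp, sympBilin_apply]
  constructor
  · intro h u v
    have := h u v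
    rwa [show (Cfsg.glToMat (Fin m ⊕ Fin m) F) ((glEquiv (Fin m ⊕ Fin m) F).symm e) =
      (((glEquiv (Fin m ⊕ Fin m) F).symm e : GL (Fin m ⊕ Fin m) F) :
      Matrix (Fin m ⊕ Fin m) (Fin m ⊕ Fin m) F) from rfl, glEquiv_symm_mulVec,
      glEquiv_symm_mulVec] at this
  · intro h u v
    rw [show (Cfsg.glToMat (Fin m ⊕ Fin m) F) ((glEquiv (Fin m ⊕ Fin m) F).symm e) =
      (((glEquiv (Fin m ⊕ Fin m) F).symm e : GL (Fin m ⊕ Fin m) F) :
      Matrix (Fin m ⊕ Fin m) (Fin m ⊕ Fin m) F) from rfl, glEquiv_symm_mulVec,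
      glEquiv_symm_mulVec]
    exact h u v

lemma map_inf_equiv {G G' : Type*} [Group G] [Group G'] (Φ : G ≃* G') (H K : Subgroup G) :
    (H ⊓ K).map Φ.toMonoidHom = H.map Φ.toMonoidHom ⊓ K.map Φ.toMonoidHom :=
  Subgroup.map_inf H K Φ.toMonoidHom Φ.injective

end Cfsg.Agent.Lib.Helper94
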