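/-
Helper94: bridge between the Prelude's orthogonal vocabulary (`isometryGroup`, `omegaGL`,
`IsNondegenerateQuadraticForm`) and the abstract quadratic spaces of `OrthBasic`.
-/
import Mathlib
import Cfsg.Prelude.Def_GeometricClasses
import Cfsg.Agent.Lib.Helper94.SympBridge
import Cfsg.Agent.Lib.Helper94.OrthBasic

set_option autoImplicit false
set_option linter.unusedSimpArgs false
set_option linter.unusedSectionVars false
set_option linter.unusedVariables false

namespace Cfsg.Agent.Lib.Helper94

open scoped MatrixGroups Matrix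
open LinearMap (BilinForm)
open scoped commutatorElement

variable {ι : Type} [Fintype ι] [DecidableEq ι] {F : Type*} [Field F]

/-- The polar form of a quadratic form in the sense of the Prelude, as a bilinear form. -/
noncomputable def polarBilin {Q : (ι → F) → F} (hQ : Cfsg.Geo.IsNondegenerateQuadraticForm Q) :
    BilinForm F (ι → F) :=
  LinearMap.mk₂ F (QuadraticMap.polar Q) hQ.polar_bilinear.add_left
    (fun c x v => by rw [hQ.polar_bilinear.smul_left, smul_eq_mul])
    hQ.polar_bilinear.add_right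
    (fun c x v => by rw [hQ.polar_bilinear.smul_right, smul_eq_mul])

lemma polarBilin_apply {Q : (ι → F) → F} (hQ : Cfsg.Geo.IsNondegenerateQuadraticForm Q)
    (u v : ι → F) : polarBilin hQ u v = QuadraticMap.polar Q u v := rfl

lemma quadData_polarBilin {Q : (ι → F) → F} (hQ : Cfsg.Geo.IsNondegenerateQuadraticForm Q) :
    QuadData (polarBilin hQ) Q where
  smul := hQ.smul
  polar := fun u v => by
    rw [polarBilin_apply, QuadraticMap.polar]; ring

lemma nondeg_polarBilin {Q : (ι → F) → F} (hQ : Cfsg.Geo.IsNondegenerateQuadraticForm Q)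
    (x : ι → F) (hx : ∀ y, polarBilin hQ x y = 0) : x = 0 := by
  by_contra h0
  obtain ⟨y, hy⟩ := (hQ.nondegenerate x h0).2
  exact hy (hx y)

/-- the image of the isometry group -/
lemma map_isometryGroup (Q : (ι → F) → F) :
    (Cfsg.isometryGroup F Q).map (glEquiv ι F).toMonoidHom = OG Q := by
  ext e
  rw [Subgroup.mem_map_equiv]
  simp only [Cfsg.isometryGroup, Cfsg.preserving, Subgroup.mem_mk, Submonoid.mem_mk,
    Subsemigroup.mem_mk, Set.mem_ofPred_eq, mem_OG]
  constructor
  · intro h u
    have := h u u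
    rwa [show (Units.coeHom (Matrix ι ι F)) ((glEquiv ι F).symm e) =
      (((glEquiv ι F).symm e : GL ι F) : Matrix ι ι F) from rfl, glEquiv_symm_mulVec] at this
  · intro h u _
    rw [show (Units.coeHom (Matrix ι ι F)) ((glEquiv ι F).symm e) =
      (((glEquiv ι F).symm e : GL ι F) : Matrix ι ι F) from rfl, glEquiv_symm_mulVec]
    exact h u

lemma omegaGL_eq (Q : (ι → F) → F) :
    Cfsg.Geo.omegaGL Q = ⁅Cfsg.isometryGroup F Q, Cfsg.isometryGroup F Q⁆ := by
  rw [Cfsg.Geo.omegaGL, Cfsg.Omega, commutator_def, Subgroup.map_commutator,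
    ← MonoidHom.range_eq_map, Subgroup.range_subtype]

/-- the image of `Ω` -/
lemma map_omegaGL (Q : (ι → F) → F) :
    (Cfsg.Geo.omegaGL Q).map (glEquiv ι F).toMonoidHom = ⁅OG Q, OG Q⁆ := by
  rw [omegaGL_eq, Subgroup.map_commutator, map_isometryGroup]

/-- a plus-type plane has a hyperbolic basis -/
lemma exists_hyp_basis {Q : (ι → F) → F} (hQ : Cfsg.Geo.IsNondegenerateQuadraticForm Q)
    (W : Submodule F (ι → F)) (hdim : Module.finrank F W = 2)
    (hW : Cfsg.Geo.IsNondegenerateOn (QuadraticMap.polar Q) W)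
    (hplus : Cfsg.Geo.IsPlusTypeOn Q W) :
    ∃ e f : ι → F, W = Submodule.span F {e, f} ∧ Q e = 0 ∧ Q f = 0 ∧ polarBilin hQ e f = 1 := by
  have hD := quadData_polarBilin hQ
  obtain ⟨U, hUW, hUs, hUd⟩ := hplus
  have hU1 : Module.finrank F U = 1 := by omega
  have hUne : U ≠ ⊥ := by
    intro h
    rw [h, finrank_bot] at hU1
    omega
  obtain ⟨e, heU, he0⟩ := Submodule.exists_mem_ne_zero_of_ne_bot hUne
  have he : Q e = 0 := hUs e heU
  have heW : e ∈ W := hUW heU
  obtain ⟨x, hxW, hx⟩ := (hW e heW he0).2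
  rw [← polarBilin_apply hQ] at hx
  have hee : polarBilin hQ e e = 0 := by rw [hD.self, he, mul_zero]
  obtain ⟨f0, hf0⟩ : ∃ f0, f0 = x - (Q x / polarBilin hQ e x) • e := ⟨_, rfl⟩
  have hf0W : f0 ∈ W := by
    rw [hf0]; exact W.sub_mem hxW (W.smul_mem _ heW)
  have hQf0 : Q f0 = 0 := by
    rw [hf0, hD.sub, hD.smul, he, map_smul, smul_eq_mul, hD.symm x e]
    field_simp
    ring
  have hBf0 : polarBilin hQ e f0 = polarBilin hQ e x := by
    rw [hf0, map_sub, map_smul, hee, smul_eq_mul, mul_zero, sub_zero]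
  obtain ⟨f, hf⟩ : ∃ f, f = (polarBilin hQ e x)⁻¹ • f0 := ⟨_, rfl⟩
  have hfW : f ∈ W := by rw [hf]; exact W.smul_mem _ hf0W
  have hQf : Q f = 0 := by rw [hf, hD.smul, hQf0, mul_zero]
  have hef : polarBilin hQ e f = 1 := by
    rw [hf, map_smul, hBf0, smul_eq_mul, inv_mul_cancel₀ hx]
  refine ⟨e, f, ?_, he, hQf, hef⟩
  have hle : Submodule.span F {e, f} ≤ W := by
    rw [Submodule.span_le]
    intro v hv
    rcases hv with rfl | rfl
    · exact heW
    · exact hfW
  have hli : LinearIndependent F ![e, f] := by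
    rw [LinearIndependent.pair_iff]
    intro s t hst
    have h1 : polarBilin hQ e (s • e + t • f) = t := by
      rw [map_add, map_smul, map_smul, hee, hef, smul_eq_mul, smul_eq_mul, mul_zero, mul_one,
        zero_add]
    rw [hst, map_zero] at h1
    have ht : t = 0 := h1.symm
    rw [ht, zero_smul, add_zero] at hst
    rcases smul_eq_zero.1 hst with h | h
    · exact ⟨h, ht⟩
    · exact absurd h he0
  have hfr : Module.finrank F (Submodule.span F {e, f}) = 2 := by
    have h1 := finrank_span_eq_card hli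
    have h2 : Set.range ![e, f] = {e, f} := by
      simp [Matrix.range_cons, Matrix.range_empty, Set.pair_comm]
    rw [h2, Fintype.card_fin] at h1
    exact h1
  exact (Submodule.eq_of_le_of_finrank_eq hle (by rw [hfr, hdim])).symm

end Cfsg.Agent.Lib.Helper94
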