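/-
Helper94: maximal totally singular subspaces and the Dickson parity.

For a quadratic form `Q` with non-degenerate polar form on a space `V` of dimension `2k`, a totally
singular subspace `U` of dimension `k` and an isometry `g`:
`par g = (k - dim (U ⊓ g U) : ZMod 2)`, where `par` is helper13's parity of the codimension of the
fixed space (`Cfsg.Agent.Lib.Helper13.par`).
-/
import Mathlib
import Cfsg.Agent.Lib.Helper13.Dickson
import Cfsg.Agent.Lib.Helper36.AltEven

set_option autoImplicit false
set_option linter.unusedSectionVars false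
set_option linter.unusedVariables false

namespace Cfsg.Agent.Lib.Helper94

open Module Cfsg.Agent.Lib.Helper13
open LinearMap (BilinForm)

variable {F V : Type*} [Field F] [AddCommGroup V] [Module F V]

local notation "pol" => QuadraticMap.polar

/-- An alternating form on a subspace `X` has even rank: if `R` is its radical in `X` then
`dim X = dim R + 2m`. -/
theorem exists_finrank_eq_add_two_mul [FiniteDimensional F V] (β : BilinForm F V)
    (X R : Submodule F V) (hRX : R ≤ X) (halt : ∀ x ∈ X, β x x = 0)
    (hrad : ∀ x ∈ X, (x ∈ R ↔ ∀ y ∈ X, β x y = 0)) :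
    ∃ m : ℕ, finrank F X = finrank F R + 2 * m := by
  obtain ⟨C', hC'⟩ := Submodule.exists_isCompl R
  set C : Submodule F V := C' ⊓ X with hC
  have hCX : C ≤ X := inf_le_right
  have hinf : R ⊓ C = ⊥ := by
    rw [eq_bot_iff]
    intro x hx
    have h1 : x ∈ R ⊓ C' := ⟨hx.1, hx.2.1⟩
    rw [hC'.inf_eq_bot] at h1
    exact h1
  have hsup : R ⊔ C = X := by
    rw [hC, ← sup_inf_assoc_of_le C' hRX, hC'.sup_eq_top, top_inf_eq]
  have hdim : finrank F X = finrank F R + finrank F C := by
    have := Submodule.finrank_sup_add_finrank_inf_eq R C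
    rw [hsup, hinf, finrank_bot, add_zero] at this
    exact this
  -- skew-symmetry on `X`
  have hskew : ∀ x ∈ X, ∀ y ∈ X, β x y = - β y x := by
    intro x hx y hy
    have h := halt (x + y) (X.add_mem hx hy)
    simp only [map_add, LinearMap.add_apply, halt x hx, halt y hy] at h
    linear_combination h
  set βC : BilinForm F C := β.restrict C with hβC
  have hβCapp : ∀ x y : C, βC x y = β (x : V) (y : V) := fun x y => rfl
  have hA : βC.IsAlt := fun x => by rw [hβCapp]; exact halt _ (hCX x.2)
  have hleft : ∀ x : C, (∀ y : C, βC x y = 0) → x = 0 := by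
    intro x hx
    have hxR : (x : V) ∈ R := by
      rw [hrad _ (hCX x.2)]
      intro y hy
      rw [← hsup] at hy
      obtain ⟨r, hr, c, hc, rfl⟩ := Submodule.mem_sup.mp hy
      have h1 : β (x : V) c = 0 := hx ⟨c, hc⟩
      have h2 : β (x : V) r = 0 := by
        rw [hskew _ (hCX x.2) r (hRX hr), ((hrad r (hRX hr)).1 hr) _ (hCX x.2), neg_zero]
      rw [map_add, h1, h2, add_zero]
    have : (x : V) ∈ R ⊓ C := ⟨hxR, x.2⟩
    rw [hinf, Submodule.mem_bot] at this
    exact Subtype.ext this
  have hN : βC.Nondegenerate := by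
    refine ⟨hleft, ?_⟩
    intro y hy
    apply hleft
    intro x
    rw [hβCapp, hskew _ (hCX y.2) _ (hCX x.2), ← hβCapp, hy x, neg_zero]
  obtain ⟨m, hm⟩ := Cfsg.Agent.Lib.Helper36.even_finrank_of_isAlt_nondegenerate βC hA hN
  exact ⟨m, by rw [hdim, hm]; ring⟩

/-- a totally singular subspace is totally isotropic for the polar form -/
theorem polar_eq_zero_of_singular (Q : QuadraticForm F V) (U : Submodule F V)
    (hU : ∀ u ∈ U, Q u = 0) {x y : V} (hx : x ∈ U) (hy : y ∈ U) : pol (⇑Q) x y = 0 := by
  unfold QuadraticMap.polar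
  rw [hU _ (U.add_mem hx hy), hU x hx, hU y hy]
  ring

/-- a totally singular subspace of half the dimension is its own orthogonal -/
theorem orthogonal_eq_self [FiniteDimensional F V] (Q : QuadraticForm F V)
    (hQ : (QuadraticMap.polarBilin Q).Nondegenerate) (U : Submodule F V)
    (hU : ∀ u ∈ U, Q u = 0) (hdim : 2 * finrank F U = finrank F V) :
    LinearMap.BilinForm.orthogonal (QuadraticMap.polarBilin Q) U = U := by
  symm
  apply Submodule.eq_of_le_of_finrank_eq
  · intro x hx
    rw [LinearMap.BilinForm.mem_orthogonal_iff]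
    intro n hn
    exact polar_eq_zero_of_singular Q U hU hn hx
  · rw [LinearMap.BilinForm.finrank_orthogonal hQ]
    omega

/-- rank–nullity for the restriction of an endomorphism to a subspace -/
theorem finrank_map_add_finrank_ker_inf [FiniteDimensional F V] (N : V →ₗ[F] V) (U : Submodule F V) :
    finrank F (U.map N) + finrank F (LinearMap.ker N ⊓ U : Submodule F V) = finrank F U := by
  have h := LinearMap.finrank_range_add_finrank_ker (N.domRestrict U)
  rw [LinearMap.range_domRestrict, LinearMap.ker_domRestrict] at h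
  have h2 : finrank F ((LinearMap.ker N).comap U.subtype) = finrank F (LinearMap.ker N ⊓ U : Submodule F V) := by
    rw [← Submodule.finrank_map_subtype_eq U ((LinearMap.ker N).comap U.subtype),
      Submodule.map_comap_subtype, inf_comm]
  rw [h2] at h
  exact h

/-- **Parabolic lemma.** An isometry stabilising a totally singular subspace of half the dimension
has a fixed space of even dimension. -/
theorem even_finrank_fixSub_of_stab [FiniteDimensional F V] (Q : QuadraticForm F V)
    (hQ : (QuadraticMap.polarBilin Q).Nondegenerate) (U : Submodule F V)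
    (hU : ∀ u ∈ U, Q u = 0) (hdim : 2 * finrank F U = finrank F V)
    (g : V ≃ₗ[F] V) (hg : ∀ z, Q (g z) = Q z) (hgU : ∀ u ∈ U, g u ∈ U) :
    ∃ m : ℕ, finrank F (fixSub g) = 2 * m := by
  set B : BilinForm F V := QuadraticMap.polarBilin Q with hB
  have hBapp : ∀ x y, B x y = pol (⇑Q) x y := fun x y => rfl
  have hrefl : B.IsRefl := polarBilin_isRefl Q
  have hpolg : ∀ z w, pol (⇑Q) (g z) (g w) = pol (⇑Q) z w := by
    intro z w
    unfold QuadraticMap.polar
    rw [← map_add, hg, hg, hg]
  set N : V →ₗ[F] V := (g : V →ₗ[F] V) - LinearMap.id with hN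
  have hNapp : ∀ x, N x = g x - x := fun x => rfl
  have hfix : fixSub g = LinearMap.ker N := rfl
  have hUU : B.orthogonal U = U := orthogonal_eq_self Q hQ U hU hdim
  -- `g` maps `U` onto `U`
  have hmapU : U.map (g : V →ₗ[F] V) = U := by
    apply Submodule.eq_of_le_of_finrank_eq
    · rintro _ ⟨u, hu, rfl⟩
      exact hgU u hu
    · exact LinearEquiv.finrank_map_eq g U
  have hsurjU : ∀ y ∈ U, ∃ y' ∈ U, g y' = y := by
    intro y hy
    rw [← hmapU] at hy
    obtain ⟨y', hy', rfl⟩ := hy
    exact ⟨y', hy', rfl⟩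
  set NU : Submodule F V := U.map N with hNU
  have hNUU : NU ≤ U := by
    rintro _ ⟨u, hu, rfl⟩
    rw [hNapp]
    exact U.sub_mem (hgU u hu) hu
  set K₂ : Submodule F V := U.comap N with hK₂
  have hK₂eq : K₂ = B.orthogonal NU := by
    ext x
    rw [hK₂, Submodule.mem_comap, LinearMap.BilinForm.mem_orthogonal_iff]
    constructor
    · intro hx n hn
      obtain ⟨y', hy', rfl⟩ := hn
      -- `pol (N y') x = - pol (g y') (N x)`
      have h1 : pol (⇑Q) (g y') (N x) = 0 :=
        polar_eq_zero_of_singular Q U hU (hgU y' hy') hx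
      rw [hBapp, hNapp, QuadraticMap.polar_sub_left]
      rw [hNapp, QuadraticMap.polar_sub_right, hpolg] at h1
      linear_combination -h1
    · intro hx
      rw [← hUU, LinearMap.BilinForm.mem_orthogonal_iff]
      intro y hy
      obtain ⟨y', hy', rfl⟩ := hsurjU y hy
      have h1 := hx (N y') ⟨y', hy', rfl⟩
      rw [hBapp, hNapp, QuadraticMap.polar_sub_left] at h1
      rw [hBapp, hNapp, QuadraticMap.polar_sub_right, hpolg]
      linear_combination -h1
  have hdimK₂ : finrank F K₂ = finrank F V - finrank F NU := by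
    rw [hK₂eq, LinearMap.BilinForm.finrank_orthogonal hQ]
  have hdimNU := finrank_map_add_finrank_ker_inf N U
  -- the alternating form
  set β : BilinForm F V := LinearMap.BilinForm.comp B N LinearMap.id with hβ
  have hβapp : ∀ x y, β x y = pol (⇑Q) (N x) y := fun x y => rfl
  have halt : ∀ x ∈ K₂, β x x = 0 := by
    intro x hx
    have hx' : N x ∈ U := hx
    have h1 : Q (N x) = 0 := hU _ hx'
    rw [hNapp, Q_sub, hg] at h1
    rw [hβapp, hNapp, QuadraticMap.polar_sub_left, polar_self']
    linear_combination -h1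
  set R : Submodule F V := U ⊔ fixSub g with hR
  have hUK₂ : U ≤ K₂ := by
    intro u hu
    exact hNUU ⟨u, hu, rfl⟩
  have hfK₂ : fixSub g ≤ K₂ := by
    intro x hx
    rw [hfix, LinearMap.mem_ker] at hx
    show N x ∈ U
    rw [hx]
    exact U.zero_mem
  have hRK₂ : R ≤ K₂ := sup_le hUK₂ hfK₂
  have hrad : ∀ x ∈ K₂, (x ∈ R ↔ ∀ y ∈ K₂, β x y = 0) := by
    intro x hx
    constructor
    · intro hxR y hy
      obtain ⟨u, hu, f, hf, rfl⟩ := Submodule.mem_sup.mp hxR
      rw [hfix, LinearMap.mem_ker] at hf
      rw [hβapp, map_add, hf, add_zero]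
      rw [hK₂eq, LinearMap.BilinForm.mem_orthogonal_iff] at hy
      exact hy (N u) ⟨u, hu, rfl⟩
    · intro hxy
      have h1 : N x ∈ B.orthogonal K₂ := by
        rw [LinearMap.BilinForm.mem_orthogonal_iff]
        intro n hn
        rw [hBapp, QuadraticMap.polar_comm]
        exact hxy n hn
      rw [hK₂eq, LinearMap.BilinForm.orthogonal_orthogonal hQ hrefl] at h1
      obtain ⟨u, hu, hux⟩ := h1
      have h2 : x - u ∈ fixSub g := by
        rw [hfix, LinearMap.mem_ker, map_sub, hux, sub_self]
      have : x = u + (x - u) := by abel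
      rw [this]
      exact Submodule.add_mem_sup hu h2
  obtain ⟨m, hm⟩ := exists_finrank_eq_add_two_mul β K₂ R hRK₂ halt hrad
  have hdimR := Submodule.finrank_sup_add_finrank_inf_eq U (fixSub g)
  have hcomm : (U ⊓ fixSub g : Submodule F V) = LinearMap.ker N ⊓ U := by rw [hfix, inf_comm]
  rw [hcomm] at hdimR
  have key : ∀ (k n nu k2 r f d m : ℕ), 2 * k = n → nu + d = k → k2 = n - nu → k2 = r + 2 * m →
      r + d = k + f → f = 2 * (d - m) := by
    intro k n nu k2 r f d m h1 h2 h3 h4 h5
    omega
  exact ⟨_, key _ _ _ _ _ _ _ _ hdim hdimNU hdimK₂ hm hdimR⟩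

/-- **Step lemma.** Two distinct totally singular subspaces of half the dimension can be brought
closer by a reflection. -/
theorem exists_refl_finrank_inf_succ [FiniteDimensional F V] (Q : QuadraticForm F V)
    (hQ : (QuadraticMap.polarBilin Q).Nondegenerate) (U U' : Submodule F V)
    (hU : ∀ u ∈ U, Q u = 0) (hU' : ∀ u ∈ U', Q u = 0) (hdim : 2 * finrank F U = finrank F V)
    (hdim' : finrank F U' = finrank F U) (hne : U ≠ U') :
    ∃ T ∈ reflSet Q, finrank F (U ⊓ U'.map (T : V →ₗ[F] V) : Submodule F V)
      = finrank F (U ⊓ U' : Submodule F V) + 1 := by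
  have hUU : LinearMap.BilinForm.orthogonal (QuadraticMap.polarBilin Q) U = U :=
    orthogonal_eq_self Q hQ U hU hdim
  -- a non-orthogonal pair
  obtain ⟨u, hu, u₀, hu₀, hne0⟩ : ∃ u ∈ U, ∃ u' ∈ U', pol (⇑Q) u u' ≠ 0 := by
    by_contra hcon
    push Not at hcon
    apply hne
    symm
    apply Submodule.eq_of_le_of_finrank_eq
    · intro x hx
      rw [← hUU, LinearMap.BilinForm.mem_orthogonal_iff]
      intro n hn
      exact hcon n hn x hx
    · exact hdim'
  set u' : V := (pol (⇑Q) u u₀)⁻¹ • u₀ with hu'def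
  have hu' : u' ∈ U' := U'.smul_mem _ hu₀
  have huu' : pol (⇑Q) u u' = 1 := by
    rw [hu'def, QuadraticMap.polar_smul_right, smul_eq_mul, inv_mul_cancel₀ hne0]
  have hQu : Q u = 0 := hU u hu
  have hQu' : Q u' = 0 := hU' u' hu'
  set v : V := u - u' with hv
  have hQv : Q v = -1 := by
    rw [hv, Q_sub, hQu, hQu', huu']
    ring
  have hQv0 : Q v ≠ 0 := by rw [hQv]; exact neg_ne_zero.2 one_ne_zero
  obtain ⟨T, hT⟩ := exists_equiv_of_isom Q hQ (reflLin Q v) (reflLin_isom Q v hQv0)
  have hTapp : ∀ z, T z = z + pol (⇑Q) v z • v := by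
    intro z
    rw [hT, reflLin_apply, hQv]
    have : ((-1 : F))⁻¹ = -1 := by norm_num
    rw [this, neg_one_mul, neg_smul, sub_neg_eq_add]
  refine ⟨T, ⟨v, hQv0, hT⟩, ?_⟩
  set I : Submodule F V := U ⊓ U' with hI
  have huI : u ∉ I := by
    intro h
    have := polar_eq_zero_of_singular Q U' hU' h.2 hu'
    rw [huu'] at this
    exact one_ne_zero this
  have hu0 : u ≠ 0 := by
    rintro rfl
    exact huI I.zero_mem
  have hTu' : T u' = u := by
    rw [hTapp, hv, QuadraticMap.polar_sub_left, huu', polar_self', hQu']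
    simp
  have hTI : ∀ i ∈ I, T i = i := by
    intro i hi
    rw [hTapp, hv, QuadraticMap.polar_sub_left, polar_eq_zero_of_singular Q U hU hu hi.1,
      polar_eq_zero_of_singular Q U' hU' hu' hi.2]
    simp
  have hkey : (U ⊓ U'.map (T : V →ₗ[F] V) : Submodule F V) = I ⊔ Submodule.span F {u} := by
    apply le_antisymm
    · rintro x ⟨hxU, y, hy, rfl⟩
      have hxU' : T y ∈ U := hxU
      have hTy : T y = y + pol (⇑Q) u y • (u - u') := by
        rw [hTapp, hv, QuadraticMap.polar_sub_left, polar_eq_zero_of_singular Q U' hU' hu' hy, sub_zero]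
      set c := pol (⇑Q) u y with hc
      have h1 : y - c • u' ∈ U := by
        have : y - c • u' = T y - c • u := by
          rw [hTy, smul_sub]
          abel
        rw [this]
        exact U.sub_mem hxU' (U.smul_mem _ hu)
      have h2 : y - c • u' ∈ U' := U'.sub_mem hy (U'.smul_mem _ hu')
      have h3 : (T : V →ₗ[F] V) y = (y - c • u') + c • u := by
        show T y = _
        rw [hTy, smul_sub]
        abel
      rw [h3]
      exact Submodule.add_mem_sup ⟨h1, h2⟩ (Submodule.smul_mem _ _ (Submodule.mem_span_singleton_self u))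
    · apply sup_le
      · intro i hi
        exact ⟨hi.1, ⟨i, hi.2, hTI i hi⟩⟩
      · rw [Submodule.span_le]
        intro x hx
        rw [Set.mem_singleton_iff] at hx
        rw [hx]
        exact ⟨hu, ⟨u', hu', hTu'⟩⟩
  rw [hkey]
  have hinf : I ⊓ Submodule.span F {u} = ⊥ := by
    rw [eq_bot_iff]
    rintro x ⟨hxI, hxu⟩
    obtain ⟨c, rfl⟩ := Submodule.mem_span_singleton.mp hxu
    by_cases hc : c = 0
    · rw [hc, zero_smul]; exact Submodule.zero_mem _
    · exfalso
      apply huI
      have := I.smul_mem c⁻¹ hxI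
      rwa [smul_smul, inv_mul_cancel₀ hc, one_smul] at this
  have h := Submodule.finrank_sup_add_finrank_inf_eq I (Submodule.span F {u})
  rw [hinf, finrank_bot, add_zero, finrank_span_singleton hu0] at h
  exact h

/-- **Maximal totally singular subspaces and the Dickson parity.** -/
theorem par_eq_of_max_singular [FiniteDimensional F V] (Q : QuadraticForm F V)
    (hQ : (QuadraticMap.polarBilin Q).Nondegenerate) (U : Submodule F V)
    (hU : ∀ u ∈ U, Q u = 0) (hdim : 2 * finrank F U = finrank F V)
    (g : V ≃ₗ[F] V) (hg : g ∈ isoGroup Q) :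
    par g = ((finrank F U - finrank F (U ⊓ U.map (g : V →ₗ[F] V) : Submodule F V) : ℕ) : ZMod 2) := by
  have main : ∀ (j : ℕ) (g : V ≃ₗ[F] V), g ∈ isoGroup Q →
      finrank F U - finrank F (U ⊓ U.map (g : V →ₗ[F] V) : Submodule F V) = j →
      par g = (j : ZMod 2) := by
    intro j
    induction j with
    | zero =>
      intro g hg hj
      have hle : finrank F (U ⊓ U.map (g : V →ₗ[F] V) : Submodule F V) ≤ finrank F U :=
        Submodule.finrank_mono inf_le_left
      have heq : (U ⊓ U.map (g : V →ₗ[F] V) : Submodule F V) = U :=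
        Submodule.eq_of_le_of_finrank_eq inf_le_left (by omega)
      have hUg : U ≤ U.map (g : V →ₗ[F] V) := by
        intro x hx
        have h : x ∈ (U ⊓ U.map (g : V →ₗ[F] V) : Submodule F V) := by rw [heq]; exact hx
        exact h.2
      have hmap : U.map (g : V →ₗ[F] V) = U :=
        (Submodule.eq_of_le_of_finrank_eq hUg (LinearEquiv.finrank_map_eq g U).symm).symm
      have hgU : ∀ u ∈ U, g u ∈ U := by
        intro u hu
        rw [← hmap]
        exact ⟨u, hu, rfl⟩
      obtain ⟨m, hm⟩ := even_finrank_fixSub_of_stab Q hQ U hU hdim g hg hgU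
      unfold par
      rw [hm, ← hdim]
      push_cast
      have h2 : (2 : ZMod 2) = 0 := by decide
      rw [h2, zero_mul, zero_mul, add_zero]
    | succ j ih =>
      intro g hg hj
      set U' : Submodule F V := U.map (g : V →ₗ[F] V) with hU'def
      have hU' : ∀ u ∈ U', Q u = 0 := by
        rintro _ ⟨u, hu, rfl⟩
        show Q (g u) = 0
        rw [hg u, hU u hu]
      have hdim' : finrank F U' = finrank F U := LinearEquiv.finrank_map_eq g U
      have hne : U ≠ U' := by
        intro h
        rw [← h, inf_idem] at hj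
        omega
      obtain ⟨T, hT, hfr⟩ := exists_refl_finrank_inf_succ Q hQ U U' hU hU' hdim hdim' hne
      have hTiso : T ∈ isoGroup Q := reflGroup_le_isoGroup Q (Subgroup.subset_closure hT)
      have hmapmul : U.map ((T * g : V ≃ₗ[F] V) : V →ₗ[F] V) = U'.map (T : V →ₗ[F] V) := by
        rw [hU'def, ← Submodule.map_comp]
        rfl
      have hj' : finrank F U - finrank F (U ⊓ U.map ((T * g : V ≃ₗ[F] V) : V →ₗ[F] V) : Submodule F V) = j := by
        rw [hmapmul, hfr]
        omega
      have h1 := ih (T * g) (Subgroup.mul_mem _ hTiso hg) hj'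
      rw [par_refl_mul Q hQ g hg T hT] at h1
      push_cast
      have h2 : (1 : ZMod 2) + 1 = 0 := by decide
      linear_combination h1 - h2
  exact main _ g hg rfl

end Cfsg.Agent.Lib.Helper94
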