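/-
Helper94: bridge between the Prelude's `isometryGroup` / `Omega` (matrix groups) and the Dickson
parity `par` of helper13 on `isoGroup Q`, plus the characteristic-two characterisation of `Ω`
(helper36).
-/
import Mathlib
import Cfsg.Agent.Lib.Helper94.MaxSingular
import Cfsg.Agent.Lib.Helper94.OrthBridge
import Cfsg.Agent.Lib.Helper36.DicksonAbs

set_option autoImplicit false
set_option linter.unusedSectionVars false
set_option linter.unusedVariables false

namespace Cfsg.Agent.Lib.Helper94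

open scoped MatrixGroups Matrix
open scoped commutatorElement
open Module
open LinearMap (BilinForm)

/-- the commutator subgroup of a subgroup, viewed in the ambient group -/
lemma map_subtype_commutator {G : Type*} [Group G] (H : Subgroup G) :
    (commutator H).map H.subtype = ⁅H, H⁆ := by
  rw [commutator_def, Subgroup.map_commutator, ← MonoidHom.range_eq_map, Subgroup.range_subtype]

lemma mem_commutator_subtype_iff {G : Type*} [Group G] (H : Subgroup G) (x : H) :
    x ∈ commutator H ↔ (x : G) ∈ ⁅H, H⁆ := by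
  rw [← map_subtype_commutator]
  exact (Subgroup.mem_map_iff_mem H.subtype_injective).symm

section matrix

variable {ι : Type} [Fintype ι] [DecidableEq ι] {F : Type*} [Field F]

/-- membership in `Ω` (Prelude) in terms of linear automorphisms -/
lemma mem_Omega_iff (Q : (ι → F) → F) (g : ↥(Cfsg.isometryGroup F Q)) :
    g ∈ Cfsg.Omega F Q ↔ glEquiv ι F (g : GL ι F) ∈ ⁅OG Q, OG Q⁆ := by
  rw [← map_omegaGL, Cfsg.Geo.omegaGL]
  constructor
  · intro h
    exact ⟨(g : GL ι F), ⟨g, h, rfl⟩, rfl⟩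
  · rintro ⟨g', ⟨g'', hg'', hg'⟩, hgg⟩
    have h1 : g' = (g : GL ι F) := (glEquiv ι F).injective hgg
    have h2 : g'' = g := Subtype.ext (hg'.trans h1)
    rw [← h2]
    exact hg''

lemma glEquiv_mem_OG (Q : (ι → F) → F) (g : ↥(Cfsg.isometryGroup F Q)) :
    glEquiv ι F (g : GL ι F) ∈ OG Q := by
  rw [← map_isometryGroup]
  exact ⟨(g : GL ι F), g.2, rfl⟩

lemma glEquiv_coe (g : GL ι F) :
    ((glEquiv ι F g : (ι → F) ≃ₗ[F] (ι → F)) : (ι → F) →ₗ[F] (ι → F)) = Matrix.mulVecLin (g : Matrix ι ι F) := by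
  apply LinearMap.ext
  intro x
  show glEquiv ι F g x = _
  rw [glEquiv_apply, Matrix.mulVecLin_apply]

end matrix

section abstract

variable {F V : Type*} [Field F] [AddCommGroup V] [Module F V]

lemma OG_eq_isoGroup (Q : QuadraticForm F V) : OG (⇑Q) = Cfsg.Agent.Lib.Helper13.isoGroup Q := by
  ext g
  rfl

lemma isoGroup13_eq_isoGroup36 (Q : QuadraticForm F V) :
    Cfsg.Agent.Lib.Helper13.isoGroup Q = Cfsg.Agent.Lib.Helper36.isoGroup Q := by
  ext g
  rfl

/-- elements of `Ω` have trivial Dickson parity -/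
lemma par_eq_zero_of_mem_commutator [FiniteDimensional F V] (Q : QuadraticForm F V)
    (hQ : (QuadraticMap.polarBilin Q).Nondegenerate)
    (hF : (∀ a b : F, ∃ x : F, x ≠ a ∧ x ≠ b) ∨ Module.finrank F V ≠ 4)
    (x : V ≃ₗ[F] V) (hx : x ∈ ⁅OG (⇑Q), OG (⇑Q)⁆) : Cfsg.Agent.Lib.Helper13.par x = 0 := by
  rw [OG_eq_isoGroup, ← map_subtype_commutator] at hx
  obtain ⟨y, hy, rfl⟩ := hx
  have h := Abelianization.commutator_subset_ker (Cfsg.Agent.Lib.Helper13.parHom Q hQ hF) hy
  rw [MonoidHom.mem_ker, Cfsg.Agent.Lib.Helper13.parHom_apply] at h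
  exact h

/-- in characteristic two over a perfect field, trivial Dickson parity characterises `Ω` -/
lemma mem_commutator_of_par_eq_zero [CharP F 2] [FiniteDimensional F V] (Q : QuadraticForm F V)
    (hQ : (QuadraticMap.polarBilin Q).Nondegenerate)
    (hF : (∀ a b : F, ∃ x : F, x ≠ a ∧ x ≠ b) ∨ Module.finrank F V ≠ 4)
    (hsq : ∀ a : F, IsSquare a)
    (x : V ≃ₗ[F] V) (hx : x ∈ OG (⇑Q)) (hpar : Cfsg.Agent.Lib.Helper13.par x = 0) :
    x ∈ ⁅OG (⇑Q), OG (⇑Q)⁆ := by
  rw [OG_eq_isoGroup, isoGroup13_eq_isoGroup36] at hx ⊢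
  rw [← map_subtype_commutator]
  refine ⟨⟨x, hx⟩, ?_, rfl⟩
  rw [SetLike.mem_coe, Cfsg.Agent.Lib.Helper36.mem_commutator_isoGroup_iff Q hQ hF hsq]
  show Even (finrank F (LinearMap.range ((x : V →ₗ[F] V) - LinearMap.id)))
  have h1 := LinearMap.finrank_range_add_finrank_ker ((x : V →ₗ[F] V) - LinearMap.id)
  unfold Cfsg.Agent.Lib.Helper13.par Cfsg.Agent.Lib.Helper13.fixSub at hpar
  rw [← Nat.cast_add, ZMod.natCast_eq_zero_iff_even] at hpar
  have h2 : finrank F (LinearMap.range ((x : V →ₗ[F] V) - LinearMap.id))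
      + 2 * finrank F (LinearMap.ker ((x : V →ₗ[F] V) - LinearMap.id))
      = finrank F (LinearMap.ker ((x : V →ₗ[F] V) - LinearMap.id)) + finrank F V := by omega
  have h3 : Even (finrank F (LinearMap.range ((x : V →ₗ[F] V) - LinearMap.id))
      + 2 * finrank F (LinearMap.ker ((x : V →ₗ[F] V) - LinearMap.id))) := by rw [h2]; exact hpar
  rw [Nat.even_add] at h3
  exact h3.2 (even_two_mul _)

end abstract

end Cfsg.Agent.Lib.Helper94
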