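/-
Helper94: Siegel transformations `x ↦ x + B(x,a) b - B(x,b) a` (`a, b` singular and orthogonal)
of an abstract quadratic space; they are commutators in the isometry group when a hyperbolic pair
orthogonal to `a, b` exists.  Bridge from `QuadData` to `QuadraticForm` and to the Dickson parity.
-/
import Mathlib
import Cfsg.Agent.Lib.Helper94.OrthBasic
import Cfsg.Agent.Lib.Helper94.MaxSingularBridge

set_option autoImplicit false
set_option linter.unusedSimpArgs false
set_option linter.unusedSectionVars false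
set_option linter.unusedVariables false

namespace Cfsg.Agent.Lib.Helper94

open LinearMap (BilinForm)
open scoped commutatorElement
open Module

variable {K V : Type*} [Field K] [AddCommGroup V] [Module K V]

namespace QuadData

variable {B : BilinForm K V} {Q : V → K}

/-! ### The associated `QuadraticForm` -/

/-- the quadratic form structure -/
def toQF (hQ : QuadData B Q) : QuadraticForm K V where
  toFun := Q
  toFun_smul := by
    intro a x
    rw [hQ.smul, smul_eq_mul]
    ring
  exists_companion' := ⟨B, fun x y => hQ.polar x y⟩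

lemma toQF_apply (hQ : QuadData B Q) (x : V) : hQ.toQF x = Q x := rfl

lemma polar_toQF (hQ : QuadData B Q) (x y : V) : QuadraticMap.polar (⇑hQ.toQF) x y = B x y := by
  unfold QuadraticMap.polar
  rw [toQF_apply, toQF_apply, toQF_apply, hQ.polar]
  ring

lemma polarBilin_toQF (hQ : QuadData B Q) : QuadraticMap.polarBilin hQ.toQF = B := by
  apply LinearMap.ext
  intro x
  apply LinearMap.ext
  intro y
  exact hQ.polar_toQF x y

lemma nondeg_toQF (hQ : QuadData B Q) (hnd : ∀ x, (∀ y, B x y = 0) → x = 0) :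
    (QuadraticMap.polarBilin hQ.toQF).Nondegenerate := by
  rw [polarBilin_toQF]
  refine ⟨hnd, ?_⟩
  intro y hy
  apply hnd
  intro x
  rw [hQ.symm]
  exact hy x

/-- elements of `Ω` have trivial Dickson parity -/
lemma par_eq_zero_of_mem (hQ : QuadData B Q) [FiniteDimensional K V]
    (hnd : ∀ x, (∀ y, B x y = 0) → x = 0)
    (hF : (∀ a b : K, ∃ x : K, x ≠ a ∧ x ≠ b) ∨ Module.finrank K V ≠ 4)
    {g : V ≃ₗ[K] V} (hg : g ∈ ⁅OG Q, OG Q⁆) : Cfsg.Agent.Lib.Helper13.par g = 0 :=
  par_eq_zero_of_mem_commutator hQ.toQF (hQ.nondeg_toQF hnd) hF g hg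

/-- the Dickson parity via a totally singular subspace of half the dimension -/
lemma par_eq (hQ : QuadData B Q) [FiniteDimensional K V]
    (hnd : ∀ x, (∀ y, B x y = 0) → x = 0) (U : Submodule K V) (hU : ∀ u ∈ U, Q u = 0)
    (hdim : 2 * finrank K U = finrank K V) {g : V ≃ₗ[K] V} (hg : g ∈ OG Q) :
    Cfsg.Agent.Lib.Helper13.par g
      = ((finrank K U - finrank K (U ⊓ U.map (g : V →ₗ[K] V) : Submodule K V) : ℕ) : ZMod 2) :=
  par_eq_of_max_singular hQ.toQF (hQ.nondeg_toQF hnd) U hU hdim g hg

/-- a vector outside a subspace is detected by a vector orthogonal to the subspace -/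
lemma exists_dual_vec (hQ : QuadData B Q) [FiniteDimensional K V]
    (hnd : ∀ x, (∀ y, B x y = 0) → x = 0) (S : Submodule K V) {e : V} (he : e ∉ S) :
    ∃ y : V, (∀ s ∈ S, B s y = 0) ∧ B e y = 1 := by
  have hN := hQ.nondeg_toQF hnd
  rw [polarBilin_toQF] at hN
  have hrefl : B.IsRefl := fun x y h => by rw [hQ.symm]; exact h
  obtain ⟨y, hy, hey⟩ : ∃ y ∈ B.orthogonal S, B e y ≠ 0 := by
    by_contra hcon
    push Not at hcon
    apply he
    rw [← LinearMap.BilinForm.orthogonal_orthogonal hN hrefl S,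
      LinearMap.BilinForm.mem_orthogonal_iff]
    intro n hn
    show B n e = 0
    rw [hQ.symm]
    exact hcon n hn
  refine ⟨(B e y)⁻¹ • y, ?_, ?_⟩
  · intro s hs
    rw [map_smul, smul_eq_mul]
    have : B s y = 0 := hy s hs
    rw [this, mul_zero]
  · rw [map_smul, smul_eq_mul, inv_mul_cancel₀ hey]

/-! ### Siegel transformations -/

/-- the underlying linear map -/
def siegelLin (B : BilinForm K V) (a b : V) : V →ₗ[K] V :=
  LinearMap.id + (B.flip a).smulRight b - (B.flip b).smulRight a

lemma siegelLin_apply (a b x : V) : siegelLin B a b x = x + B x a • b - B x b • a := by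
  simp [siegelLin, LinearMap.smulRight_apply]

lemma siegelLin_comp (hQ : QuadData B Q) {a b : V} (ha : Q a = 0) (hb : Q b = 0)
    (hab : B a b = 0) (x : V) : siegelLin B a b (siegelLin B b a x) = x := by
  have haa : B a a = 0 := by rw [hQ.self, ha, mul_zero]
  have hbb : B b b = 0 := by rw [hQ.self, hb, mul_zero]
  have hba : B b a = 0 := by rw [hQ.symm, hab]
  rw [siegelLin_apply, siegelLin_apply]
  simp only [map_add, map_sub, map_smul, LinearMap.add_apply, LinearMap.sub_apply,
    LinearMap.smul_apply, haa, hbb, hab, hba, smul_eq_mul, mul_zero, add_zero, sub_zero]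
  abel

open Classical in
/-- the Siegel transformation `x ↦ x + B(x,a) b - B(x,b) a`, and `1` unless `a, b` are singular
and orthogonal -/
noncomputable def siegel (B : BilinForm K V) (Q : V → K) (a b : V) : V ≃ₗ[K] V :=
  if h : QuadData B Q ∧ Q a = 0 ∧ Q b = 0 ∧ B a b = 0 then
    LinearEquiv.ofLinearMap (siegelLin B a b) (siegelLin B b a)
      (LinearMap.ext fun x => siegelLin_comp h.1 h.2.1 h.2.2.1 h.2.2.2 x)
      (LinearMap.ext fun x => siegelLin_comp h.1 h.2.2.1 h.2.1
        (by rw [h.1.symm]; exact h.2.2.2) x)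
  else 1

lemma siegel_apply (hQ : QuadData B Q) {a b : V} (ha : Q a = 0) (hb : Q b = 0)
    (hab : B a b = 0) (x : V) : siegel B Q a b x = x + B x a • b - B x b • a := by
  unfold siegel
  rw [dif_pos ⟨hQ, ha, hb, hab⟩]
  exact siegelLin_apply a b x

lemma siegel_mem_OG (hQ : QuadData B Q) {a b : V} (ha : Q a = 0) (hb : Q b = 0)
    (hab : B a b = 0) : siegel B Q a b ∈ OG Q := by
  intro x
  have hba : B b a = 0 := by rw [hQ.symm, hab]
  rw [siegel_apply hQ ha hb hab, hQ.sub, hQ.polar, hQ.smul, hQ.smul, ha, hb]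
  simp only [map_add, map_smul, LinearMap.add_apply, LinearMap.smul_apply, smul_eq_mul, hba, hab]
  ring

lemma siegel_inv (hQ : QuadData B Q) {a b : V} (ha : Q a = 0) (hb : Q b = 0)
    (hab : B a b = 0) : (siegel B Q a b)⁻¹ = siegel B Q b a := by
  have hba : B b a = 0 := by rw [hQ.symm, hab]
  apply inv_eq_of_mul_eq_one_right
  apply LinearEquiv.ext
  intro x
  rw [LinearEquiv.mul_apply, siegel_apply hQ hb ha hba, siegel_apply hQ ha hb hab]
  have h := siegelLin_comp hQ ha hb hab x
  rw [siegelLin_apply, siegelLin_apply] at h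
  exact h

lemma conj_siegel (hQ : QuadData B Q) {g : V ≃ₗ[K] V} (hg : g ∈ OG Q) {a b : V} (ha : Q a = 0)
    (hb : Q b = 0) (hab : B a b = 0) :
    g * siegel B Q a b * g⁻¹ = siegel B Q (g a) (g b) := by
  have ha' : Q (g a) = 0 := by rw [hg a, ha]
  have hb' : Q (g b) = 0 := by rw [hg b, hb]
  have hab' : B (g a) (g b) = 0 := by rw [hQ.B_map hg, hab]
  apply LinearEquiv.ext
  intro x
  rw [LinearEquiv.mul_apply, LinearEquiv.mul_apply, siegel_apply hQ ha hb hab,
    siegel_apply hQ ha' hb' hab', map_sub, map_add, map_smul, map_smul]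
  have hx : g (g⁻¹ x) = x := by
    rw [← LinearEquiv.mul_apply, mul_inv_cancel]; rfl
  have h1 : B (g⁻¹ x) a = B x (g a) := by
    have := hQ.B_map hg (g⁻¹ x) a
    rw [hx] at this
    exact this.symm
  have h2 : B (g⁻¹ x) b = B x (g b) := by
    have := hQ.B_map hg (g⁻¹ x) b
    rw [hx] at this
    exact this.symm
  rw [hx, h1, h2]

lemma siegel_add_left (hQ : QuadData B Q) {a a' b : V} (ha : Q a = 0) (ha' : Q a' = 0)
    (hb : Q b = 0) (hab : B a b = 0) (ha'b : B a' b = 0) (haa' : B a a' = 0) :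
    siegel B Q (a + a') b = siegel B Q a b * siegel B Q a' b := by
  have hsum : Q (a + a') = 0 := by rw [hQ.polar, ha, ha', haa']; ring
  have hsumb : B (a + a') b = 0 := by rw [map_add, LinearMap.add_apply, hab, ha'b, add_zero]
  have hbb : B b b = 0 := by rw [hQ.self, hb, mul_zero]
  have hba : B b a = 0 := by rw [hQ.symm, hab]
  have ha'a : B a' a = 0 := by rw [hQ.symm, haa']
  apply LinearEquiv.ext
  intro x
  rw [LinearEquiv.mul_apply, siegel_apply hQ hsum hb hsumb, siegel_apply hQ ha hb hab,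
    siegel_apply hQ ha' hb ha'b]
  simp only [map_add, map_sub, map_smul, LinearMap.add_apply, LinearMap.sub_apply,
    LinearMap.smul_apply, hbb, hba, ha'a, ha'b, smul_eq_mul, mul_zero, add_zero, sub_zero,
    smul_add]
  module

lemma siegel_neg_left (hQ : QuadData B Q) {a b : V} (ha : Q a = 0) (hb : Q b = 0)
    (hab : B a b = 0) : siegel B Q (-a) b = (siegel B Q a b)⁻¹ := by
  have hba : B b a = 0 := by rw [hQ.symm, hab]
  have hna : Q (-a) = 0 := by rw [hQ.neg, ha]
  have hnab : B (-a) b = 0 := by rw [map_neg, LinearMap.neg_apply, hab, neg_zero]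
  rw [siegel_inv hQ ha hb hab]
  apply LinearEquiv.ext
  intro x
  rw [siegel_apply hQ hna hb hnab, siegel_apply hQ hb ha hba]
  simp only [map_neg, neg_smul, smul_neg]
  abel

/-- **Siegel transformations are commutators** when a hyperbolic pair orthogonal to `a, b`
exists. -/
theorem siegel_mem_commutator (hQ : QuadData B Q) {a b c c' : V} (ha : Q a = 0) (hb : Q b = 0)
    (hab : B a b = 0) (hc : Q c = 0) (hc' : Q c' = 0) (hcc' : B c c' = 1) (hca : B c a = 0)
    (hcb : B c b = 0) (hc'a : B c' a = 0) (hc'b : B c' b = 0) :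
    siegel B Q a b ∈ ⁅OG Q, OG Q⁆ := by
  have hac : B a c = 0 := by rw [hQ.symm, hca]
  have hbc : B b c = 0 := by rw [hQ.symm, hcb]
  have hba : B b a = 0 := by rw [hQ.symm, hab]
  have hc'c : B c' c = 1 := by rw [hQ.symm, hcc']
  have hna : Q (-a) = 0 := by rw [hQ.neg, ha]
  have hnab : B (-a) b = 0 := by rw [map_neg, LinearMap.neg_apply, hab, neg_zero]
  have hnac' : B (-a) c' = 0 := by
    rw [map_neg, LinearMap.neg_apply, hQ.symm, hc'a, neg_zero]
  set g := siegel B Q a c with hg
  set t := siegel B Q c' b with ht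
  have hgO : g ∈ OG Q := siegel_mem_OG hQ ha hc hac
  have htO : t ∈ OG Q := siegel_mem_OG hQ hc' hb hc'b
  have hgc' : g c' = -a + c' := by
    rw [hg, siegel_apply hQ ha hc hac, hc'a, hc'c, zero_smul, one_smul]
    abel
  have hgb : g b = b := by
    rw [hg, siegel_apply hQ ha hc hac, hba, hbc, zero_smul, zero_smul]
    abel
  have h1 : g * t * g⁻¹ = siegel B Q (-a) b * t := by
    rw [ht, conj_siegel hQ hgO hc' hb hc'b, hgc', hgb,
      siegel_add_left hQ hna hc' hb hnab hc'b hnac']
  have h2 : ⁅g, t⁆ = (siegel B Q a b)⁻¹ := by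
    rw [commutatorElement_def, h1, mul_inv_cancel_right, siegel_neg_left hQ ha hb hab]
  have h3 : (siegel B Q a b)⁻¹ ∈ ⁅OG Q, OG Q⁆ := by
    rw [← h2]
    exact Subgroup.commutator_mem_commutator hgO htO
  have := inv_mem h3
  rwa [inv_inv] at this

end QuadData

end Cfsg.Agent.Lib.Helper94
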