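/-
Helper94: stabilisers of orthogonal decompositions into non-degenerate subspaces in the (abstract)
symplectic group are maximal (transvection method).
-/
import Mathlib
import Cfsg.Agent.Lib.Helper94.SympBasic
import Cfsg.Agent.Lib.Helper94.SympMax

set_option autoImplicit false

namespace Cfsg.Agent.Lib.Helper94

open LinearMap (BilinForm)

variable {K V : Type*} [Field K] [AddCommGroup V] [Module K V]

namespace SympData

variable {B : BilinForm K V}

/-- `N₁` and `N₂` are orthogonal. -/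
def Ortho (B : BilinForm K V) (N₁ N₂ : Submodule K V) : Prop := ∀ u ∈ N₁, ∀ v ∈ N₂, B u v = 0

lemma Ortho.symm (h : SympData B) {N₁ N₂ : Submodule K V} (h12 : Ortho B N₁ N₂) :
    Ortho B N₂ N₁ := fun u hu v hv => h.eq_zero_comm.1 (h12 v hv u hu)

/-- The sum of two orthogonal non-degenerate subspaces is non-degenerate. -/
lemma NondegOn.sup (h : SympData B) {N₁ N₂ : Submodule K V} (h1 : NondegOn B N₁)
    (h2 : NondegOn B N₂) (h12 : Ortho B N₁ N₂) : NondegOn B (N₁ ⊔ N₂) := by
  intro x hx hxy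
  obtain ⟨a, ha, b, hb, rfl⟩ := Submodule.mem_sup.1 hx
  have ha0 : a = 0 := by
    apply h1 a ha
    intro y hy
    have := hxy y (Submodule.mem_sup_left hy)
    rwa [map_add, LinearMap.add_apply, (h12.symm h) b hb y hy, add_zero] at this
  have hb0 : b = 0 := by
    apply h2 b hb
    intro y hy
    have := hxy y (Submodule.mem_sup_right hy)
    rwa [map_add, LinearMap.add_apply, h12 a ha y hy, zero_add] at this
  rw [ha0, hb0, add_zero]

lemma nondegOn_bot : NondegOn B (⊥ : Submodule K V) := by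
  intro x hx _
  simpa using hx

/-- Existence of a hyperbolic partner inside a non-degenerate subspace. -/
lemma exists_hyp_partner {N : Submodule K V} (hN : NondegOn B N) {e : V} (he : e ∈ N)
    (he0 : e ≠ 0) : ∃ f ∈ N, B e f = 1 := by
  by_contra hcon
  push Not at hcon
  apply he0
  apply hN e he
  intro y hy
  by_contra hne
  apply hcon ((B e y)⁻¹ • y) (N.smul_mem _ hy)
  rw [map_smul, smul_eq_mul, inv_mul_cancel₀ hne]

lemma pair_linearIndependent (h : SympData B) {e f : V} (hef : B e f = 1) :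
    LinearIndependent K ![e, f] := by
  rw [LinearIndependent.pair_iff]
  intro s t hst
  have h1 : B (s • e + t • f) f = 0 := by rw [hst]; simp
  have h2 : B (s • e + t • f) e = 0 := by rw [hst]; simp
  have hfe : B f e = -1 := by rw [h.skew, hef]
  simp only [map_add, map_smul, LinearMap.add_apply, LinearMap.smul_apply, smul_eq_mul, h.alt,
    hef, hfe, mul_zero, mul_one, add_zero, zero_add, mul_neg, neg_eq_zero] at h1 h2
  exact ⟨h1, h2⟩

section FD

variable [FiniteDimensional K V]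

/-- Dimension of the complement of a hyperbolic pair. -/
lemma finrank_hypCompl (h : SympData B) {N : Submodule K V} {e f : V} (he : e ∈ N) (hf : f ∈ N)
    (hef : B e f = 1) : Module.finrank K (hypCompl B N e f) + 2 = Module.finrank K N := by
  set H : Submodule K V := Submodule.span K {e, f} with hH
  have hH2 : Module.finrank K H = 2 := by
    have := finrank_span_eq_card (h.pair_linearIndependent hef)
    rw [Matrix.range_cons_cons_empty] at this
    simpa using this
  have hsup : H ⊔ hypCompl B N e f = N := by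
    apply le_antisymm
    · apply sup_le
      · rw [hH, Submodule.span_le]
        intro x hx
        rcases hx with rfl | rfl
        · exact he
        · exact hf
      · exact hypCompl_le N e f
    · intro x hx
      rw [eq_hypProj_add (B := B) e f x, add_comm]
      apply Submodule.add_mem_sup
      · rw [hH, Submodule.mem_span_pair]
        exact ⟨B x f, -B x e, by simp [sub_eq_add_neg]⟩
      · exact h.hypProj_mem_hypCompl he hf hef hx
  have hinf : H ⊓ hypCompl B N e f = ⊥ := by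
    rw [eq_bot_iff]
    rintro x ⟨hx1, hx2⟩
    rw [hH] at hx1
    obtain ⟨a, b, rfl⟩ := Submodule.mem_span_pair.1 hx1
    obtain ⟨_, h1, h2⟩ := h.mem_hypCompl.1 hx2
    have hfe : B f e = -1 := by rw [h.skew, hef]
    simp only [map_add, map_smul, LinearMap.add_apply, LinearMap.smul_apply, smul_eq_mul, h.alt,
      hef, hfe, mul_zero, mul_one, add_zero, zero_add, mul_neg, neg_eq_zero] at h1 h2
    simp [h1, h2]
  have := Submodule.finrank_sup_add_finrank_inf_eq H (hypCompl B N e f)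
  rw [hsup, hinf, finrank_bot, hH2] at this
  omega

omit [FiniteDimensional K V] in
/-- the image of a non-degenerate subspace under an isometry is non-degenerate -/
lemma NondegOn.map {N : Submodule K V} (hN : NondegOn B N) {g : V ≃ₗ[K] V} (hg : g ∈ Sp B) :
    NondegOn B (N.map (g : V →ₗ[K] V)) := by
  rintro x ⟨u, hu, rfl⟩ hxy
  have : u = 0 := by
    apply hN u hu
    intro y hy
    have := hxy (g y) ⟨y, hy, rfl⟩
    simpa [hg u y] using this
  simp [this]

/-- `TN U` is transitive on the non-degenerate subspaces of `U` of a given dimension. -/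
theorem TN_trans_nondeg (h : SympData B) : ∀ (d : ℕ) (U N₁ N₂ : Submodule K V), N₁ ≤ U → N₂ ≤ U →
    NondegOn B N₁ → NondegOn B N₂ → Module.finrank K N₁ = d → Module.finrank K N₂ = d →
    ∃ s ∈ h.TN U, N₁.map (s : V →ₗ[K] V) = N₂ := by
  intro d
  induction d using Nat.strong_induction_on with
  | _ d ih =>
    intro U N₁ N₂ h1U h2U hN1 hN2 hd1 hd2
    by_cases hbot : N₁ = ⊥
    · have hd0 : d = 0 := by rw [← hd1, hbot, finrank_bot]
      have : N₂ = ⊥ := by
        rw [hd0] at hd2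
        exact Submodule.finrank_eq_zero.1 hd2
      refine ⟨1, one_mem _, ?_⟩
      rw [hbot, this]
      simp
    · obtain ⟨e₁, he₁, he₁0⟩ := Submodule.exists_mem_ne_zero_of_ne_bot hbot
      obtain ⟨f₁, hf₁, hef₁⟩ := exists_hyp_partner hN1 he₁ he₁0
      have hbot2 : N₂ ≠ ⊥ := by
        intro h0
        apply hbot
        rw [h0, finrank_bot] at hd2
        rw [← hd2] at hd1
        exact Submodule.finrank_eq_zero.1 hd1
      obtain ⟨e₂, he₂, he₂0⟩ := Submodule.exists_mem_ne_zero_of_ne_bot hbot2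
      obtain ⟨f₂, hf₂, hef₂⟩ := exists_hyp_partner hN2 he₂ he₂0
      obtain ⟨s₀, hs₀, hs₀e, hs₀f⟩ :=
        h.TN_hyp_trans (h1U he₁) (h1U hf₁) (h2U he₂) (h2U hf₂) hef₁ hef₂
      set N₁' : Submodule K V := N₁.map (s₀ : V →ₗ[K] V) with hN₁'
      have hs₀Sp : s₀ ∈ Sp B := h.TN_le_Sp U hs₀
      have hN1' : NondegOn B N₁' := hN1.map hs₀Sp
      have h1U' : N₁' ≤ U := by
        rintro x ⟨u, hu, rfl⟩
        exact h.TN_map_mem le_rfl hs₀ (h1U hu)
      have he₂' : e₂ ∈ N₁' := ⟨e₁, he₁, hs₀e⟩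
      have hf₂' : f₂ ∈ N₁' := ⟨f₁, hf₁, hs₀f⟩
      have hfr1 : Module.finrank K N₁' = d := by
        rw [hN₁', LinearEquiv.finrank_map_eq]; exact hd1
      have hd2' := h.finrank_hypCompl he₂ hf₂ hef₂
      have hd1' := h.finrank_hypCompl he₂' hf₂' hef₂
      have hlt : d - 2 < d := by omega
      obtain ⟨s₁, hs₁, hs₁N⟩ := ih (d - 2) hlt (hypCompl B U e₂ f₂) (hypCompl B N₁' e₂ f₂)
        (hypCompl B N₂ e₂ f₂)
        (fun x hx => by
          obtain ⟨hx1, hx2, hx3⟩ := h.mem_hypCompl.1 hx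
          exact h.mem_hypCompl.2 ⟨h1U' hx1, hx2, hx3⟩)
        (fun x hx => by
          obtain ⟨hx1, hx2, hx3⟩ := h.mem_hypCompl.1 hx
          exact h.mem_hypCompl.2 ⟨h2U hx1, hx2, hx3⟩)
        (h.hypCompl_nondegOn hN1' he₂' hf₂' hef₂) (h.hypCompl_nondegOn hN2 he₂ hf₂ hef₂)
        (by omega) (by omega)
      have hs₁e : s₁ e₂ = e₂ := h.TN_fix hs₁ (fun u hu => by
        have := (h.mem_hypCompl.1 hu).2.1
        exact h.eq_zero_comm.1 this)
      have hs₁f : s₁ f₂ = f₂ := h.TN_fix hs₁ (fun u hu => by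
        have := (h.mem_hypCompl.1 hu).2.2
        exact h.eq_zero_comm.1 this)
      refine ⟨s₁ * s₀, mul_mem (h.TN_mono (hypCompl_le U e₂ f₂) hs₁) hs₀, ?_⟩
      have hmap : N₁.map ((s₁ * s₀ : V ≃ₗ[K] V) : V →ₗ[K] V) = N₁'.map (s₁ : V →ₗ[K] V) := by
        rw [hN₁', ← Submodule.map_comp]
        rfl
      rw [hmap]
      -- both inclusions via the decomposition along the hyperbolic pair
      have hle : N₁'.map (s₁ : V →ₗ[K] V) ≤ N₂ := by
        rintro x ⟨u, hu, rfl⟩
        rw [eq_hypProj_add (B := B) e₂ f₂ u, map_add, map_sub, map_smul, map_smul]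
        apply N₂.add_mem
        · have hp : hypProj B e₂ f₂ u ∈ hypCompl B N₁' e₂ f₂ :=
            h.hypProj_mem_hypCompl he₂' hf₂' hef₂ hu
          have : (s₁ : V →ₗ[K] V) (hypProj B e₂ f₂ u) ∈ hypCompl B N₂ e₂ f₂ := by
            rw [← hs₁N]; exact ⟨_, hp, rfl⟩
          exact hypCompl_le N₂ e₂ f₂ this
        · have e1 : (s₁ : V →ₗ[K] V) e₂ = e₂ := hs₁e
          have e2 : (s₁ : V →ₗ[K] V) f₂ = f₂ := hs₁f
          rw [e1, e2]
          exact N₂.sub_mem (N₂.smul_mem _ he₂) (N₂.smul_mem _ hf₂)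
      apply Submodule.eq_of_le_of_finrank_eq hle
      rw [LinearEquiv.finrank_map_eq, hfr1, hd2]

/-! ### Orthogonal decompositions -/

/-- The stabiliser of a family of subspaces: the automorphisms permuting its members. -/
def stabDec {t : ℕ} (D : Fin t → Submodule K V) : Subgroup (V ≃ₗ[K] V) where
  carrier := {g | ∃ σ : Equiv.Perm (Fin t), ∀ i, (D i).map (g : V →ₗ[K] V) = D (σ i)}
  mul_mem' {a b} ha hb := by
    obtain ⟨σ, hσ⟩ := ha
    obtain ⟨τ, hτ⟩ := hb
    refine ⟨τ.trans σ, fun i => ?_⟩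
    have : ((a * b : V ≃ₗ[K] V) : V →ₗ[K] V) = (a : V →ₗ[K] V) ∘ₗ (b : V →ₗ[K] V) := rfl
    rw [this, Submodule.map_comp, hτ, hσ, Equiv.trans_apply]
  one_mem' := ⟨1, fun i => by
    have : ((1 : V ≃ₗ[K] V) : V →ₗ[K] V) = LinearMap.id := rfl
    rw [this, Submodule.map_id]; rfl⟩
  inv_mem' {a} ha := by
    obtain ⟨σ, hσ⟩ := ha
    refine ⟨σ.symm, fun i => ?_⟩
    have h1 := hσ (σ.symm i)
    rw [Equiv.apply_symm_apply] at h1
    rw [← h1, ← Submodule.map_comp]
    have : ((a⁻¹ : V ≃ₗ[K] V) : V →ₗ[K] V) ∘ₗ (a : V →ₗ[K] V) = LinearMap.id := by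
      ext x
      change a⁻¹ (a x) = x
      rw [← LinearEquiv.mul_apply, inv_mul_cancel]; rfl
    rw [this, Submodule.map_id]

omit [FiniteDimensional K V] in
lemma mem_stabDec {t : ℕ} {D : Fin t → Submodule K V} {g : V ≃ₗ[K] V} :
    g ∈ stabDec D ↔ ∃ σ : Equiv.Perm (Fin t), ∀ i, (D i).map (g : V →ₗ[K] V) = D (σ i) := Iff.rfl

omit [FiniteDimensional K V] in
/-- If `g` and `g⁻¹` map `N` into itself then `g` maps `N` onto itself. -/
lemma map_eq_of_maps {N : Submodule K V} {g : V ≃ₗ[K] V} (h1 : ∀ x ∈ N, g x ∈ N)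
    (h2 : ∀ x ∈ N, g⁻¹ x ∈ N) : N.map (g : V →ₗ[K] V) = N := by
  apply le_antisymm
  · rintro x ⟨u, hu, rfl⟩
    exact h1 u hu
  · intro x hx
    refine ⟨g⁻¹ x, h2 x hx, ?_⟩
    change g (g⁻¹ x) = x
    rw [← LinearEquiv.mul_apply, mul_inv_cancel]; rfl

/-- An orthogonal decomposition of `V` into non-degenerate subspaces of equal dimension. -/
structure OrthoDecomp (B : BilinForm K V) {t : ℕ} (k : ℕ) (D : Fin t → Submodule K V) : Prop where
  two_le : 2 ≤ t
  pos : 0 < k
  finrank_eq : ∀ i, Module.finrank K (D i) = k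
  iSup_eq_top : iSup D = ⊤
  nondeg : ∀ i, NondegOn B (D i)
  ortho : ∀ i j, i ≠ j → Ortho B (D i) (D j)

namespace OrthoDecomp

variable {t k : ℕ} {D : Fin t → Submodule K V}

omit [FiniteDimensional K V] in
lemma ne_bot (hD : OrthoDecomp B k D) (i : Fin t) : D i ≠ ⊥ := by
  intro h0
  have := hD.finrank_eq i
  rw [h0, finrank_bot] at this
  have := hD.pos
  omega

omit [FiniteDimensional K V] in
lemma pair_not_mem (hD : OrthoDecomp B k D) {i j : Fin t} (hij : i ≠ j) {a b : V}
    (ha : a ∈ D i) (ha0 : a ≠ 0) (hb : b ∈ D j) (hb0 : b ≠ 0) (l : Fin t) : a + b ∉ D l := by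
  intro hab
  by_cases hli : l = i
  · have hlj : l ≠ j := by rw [hli]; exact hij
    apply hb0
    apply hD.nondeg j b hb
    intro u hu
    have h1 := hD.ortho l j hlj (a + b) hab u hu
    have h2 := hD.ortho i j hij a ha u hu
    rwa [map_add, LinearMap.add_apply, h2, zero_add] at h1
  · apply ha0
    apply hD.nondeg i a ha
    intro u hu
    have h1 := hD.ortho l i hli (a + b) hab u hu
    have h2 := hD.ortho j i (Ne.symm hij) b hb u hu
    rwa [map_add, LinearMap.add_apply, h2, add_zero] at h1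

omit [FiniteDimensional K V] in
lemma inter_eq_zero (hD : OrthoDecomp B k D) {i j : Fin t} (hij : i ≠ j) {x : V}
    (hi : x ∈ D i) (hj : x ∈ D j) : x = 0 :=
  hD.nondeg i x hi fun y hy => hD.ortho j i (Ne.symm hij) x hj y hy

omit [FiniteDimensional K V] in
/-- The partial sums are orthogonal to the members not involved. -/
lemma ortho_finsetSup (h : SympData B) (hD : OrthoDecomp B k D) (S : Finset (Fin t)) {l : Fin t}
    (hl : l ∉ S) : Ortho B (D l) (⨆ i ∈ S, D i) := by
  have : (⨆ i ∈ S, D i) ≤ B.orthogonal (D l) := by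
    apply iSup₂_le
    intro i hi x hx
    have hil : i ≠ l := by
      rintro rfl; exact hl hi
    exact h.mem_orthogonal.2 fun u hu => hD.ortho i l hil x hx u hu
  intro u hu v hv
  exact h.eq_zero_comm.1 ((h.mem_orthogonal.1 (this hv)) u hu)

omit [FiniteDimensional K V] in
lemma nondegOn_finsetSup (h : SympData B) (hD : OrthoDecomp B k D) (S : Finset (Fin t)) :
    NondegOn B (⨆ i ∈ S, D i) := by
  induction S using Finset.induction_on with
  | empty => simpa using nondegOn_bot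
  | insert l S hl ih =>
    rw [Finset.iSup_insert]
    exact (hD.nondeg l).sup h ih (hD.ortho_finsetSup h S hl)

omit [FiniteDimensional K V] in
/-- Transvections along vectors of the members stabilise the decomposition. -/
lemma tv_mem_stabDec (h : SympData B) (hD : OrthoDecomp B k D) {i : Fin t} {y : V} (hy : y ∈ D i)
    (c : K) : h.tv y c ∈ stabDec D := by
  refine ⟨1, fun l => ?_⟩
  have key : ∀ c : K, ∀ x ∈ D l, h.tv y c x ∈ D l := by
    intro c x hx
    by_cases hli : l = i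
    · rw [tv_apply]
      subst hli
      exact (D l).add_mem hx ((D l).smul_mem _ hy)
    · rw [h.tv_fix_of_ortho (hD.ortho l i hli x hx y hy)]
      exact hx
  apply map_eq_of_maps (key c)
  rw [tv_inv]
  exact key (-c)

/-- decomposition of a vector along a member -/
lemma exists_decomp (h : SympData B) (hD : OrthoDecomp B k D) (j : Fin t) (x : V) :
    ∃ a ∈ D j, ∃ r ∈ B.orthogonal (D j), x = a + r := by
  have := ((hD.nondeg j).isCompl h).sup_eq_top
  have hx : x ∈ D j ⊔ B.orthogonal (D j) := by rw [this]; trivial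
  obtain ⟨a, ha, r, hr, rfl⟩ := Submodule.mem_sup.1 hx
  exact ⟨a, ha, r, hr, rfl⟩

/-- a non-zero vector has a non-zero component -/
lemma exists_component_ne_zero (h : SympData B) (hD : OrthoDecomp B k D) {x : V} (hx : x ≠ 0) :
    ∃ j, ∃ a ∈ D j, a ≠ 0 ∧ ∃ r ∈ B.orthogonal (D j), x = a + r := by
  by_contra hcon
  push Not at hcon
  apply hx
  have h1 : ∀ j, x ∈ B.orthogonal (D j) := by
    intro j
    obtain ⟨a, ha, r, hr, hxar⟩ := hD.exists_decomp h j x
    by_cases ha0 : a = 0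
    · rw [hxar, ha0, zero_add]; exact hr
    · exact absurd hxar (hcon j a ha ha0 r hr)
  apply h.nondeg x
  intro y
  have hy : y ∈ iSup D := by rw [hD.iSup_eq_top]; trivial
  have : iSup D ≤ LinearMap.ker (B x) := by
    apply iSup_le
    intro j u hu
    exact (h.mem_orthogonal.1 (h1 j)) u hu
  exact this hy

omit [FiniteDimensional K V] in
/-- sliding in two members at once -/
lemma slide_two (h : SympData B) (hD : OrthoDecomp B k D) {M : Subgroup (V ≃ₗ[K] V)}
    (hDX : ∀ i, ∀ u ∈ D i, u ∈ h.Xset M) {j l : Fin t} (hjl : j ≠ l) {s : V}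
    (hsj : ∀ u ∈ D j, B s u = 0) (hsl : ∀ u ∈ D l, B s u = 0) {a₀ b₀ : V} (ha₀ : a₀ ∈ D j)
    (ha₀0 : a₀ ≠ 0) (hb₀ : b₀ ∈ D l) (hb₀0 : b₀ ≠ 0) (hX : a₀ + (b₀ + s) ∈ h.Xset M) :
    ∀ a' ∈ D j, a' ≠ 0 → ∀ b' ∈ D l, b' ≠ 0 → a' + (b' + s) ∈ h.Xset M := by
  intro a' ha' ha'0 b' hb' hb'0
  have h1 : a' + (b₀ + s) ∈ h.Xset M := by
    refine h.slide (hD.nondeg j) (hDX j) (r := b₀ + s) ?_ ha₀ ha₀0 hX a' ha' ha'0
    intro u hu
    rw [map_add, LinearMap.add_apply, hD.ortho l j (Ne.symm hjl) b₀ hb₀ u hu, hsj u hu, add_zero]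
  have h2 : b₀ + (a' + s) ∈ h.Xset M := by
    have e : b₀ + (a' + s) = a' + (b₀ + s) := by abel
    rw [e]; exact h1
  have h3 : b' + (a' + s) ∈ h.Xset M := by
    refine h.slide (hD.nondeg l) (hDX l) (r := a' + s) ?_ hb₀ hb₀0 h2 b' hb' hb'0
    intro u hu
    rw [map_add, LinearMap.add_apply, hD.ortho j l hjl a' ha' u hu, hsl u hu, add_zero]
  have e : a' + (b' + s) = b' + (a' + s) := by abel
  rw [e]; exact h3

/-- existence of a suitable second vector, from the hypothesis excluding `k = 2`, `|K| = 2` -/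
lemma exists_ortho_partner (h : SympData B) (hD : OrthoDecomp B k D)
    (hex : (∃ c : K, c ≠ 0 ∧ c ≠ -1) ∨ k ≠ 2) {l : Fin t} {a : V} (ha : a ∈ D l) (ha0 : a ≠ 0) :
    ∃ b ∈ D l, B a b = 0 ∧ b ≠ 0 ∧ a + b ≠ 0 := by
  rcases hex with ⟨c, hc0, hc1⟩ | hk
  · refine ⟨c • a, (D l).smul_mem _ ha, by simp [h.alt], smul_ne_zero hc0 ha0, ?_⟩
    have : a + c • a = (1 + c) • a := by rw [add_smul, one_smul]
    rw [this]
    apply smul_ne_zero _ ha0
    intro h0
    apply hc1
    linear_combination h0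
  · obtain ⟨f, hf, hef⟩ := exists_hyp_partner (hD.nondeg l) ha ha0
    have hfr := h.finrank_hypCompl ha hf hef
    rw [hD.finrank_eq l] at hfr
    have hne : hypCompl B (D l) a f ≠ ⊥ := by
      intro h0
      rw [h0, finrank_bot] at hfr
      omega
    obtain ⟨b, hb, hb0⟩ := Submodule.exists_mem_ne_zero_of_ne_bot hne
    obtain ⟨hbD, hba, hbf⟩ := h.mem_hypCompl.1 hb
    refine ⟨b, hbD, h.eq_zero_comm.1 hba, hb0, ?_⟩
    intro h0
    have : a = -b := eq_neg_of_add_eq_zero_left h0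
    rw [this, map_neg, LinearMap.neg_apply, hbf, neg_zero] at hef
    exact zero_ne_one hef

/-- A vector of `X` outside every member yields a vector of `X` supported on exactly two
members. -/
lemma exists_pair_of_outside (h : SympData B) (hD : OrthoDecomp B k D)
    {M : Subgroup (V ≃ₗ[K] V)} (hDX : ∀ i, ∀ u ∈ D i, u ∈ h.Xset M)
    (hex : (∃ c : K, c ≠ 0 ∧ c ≠ -1) ∨ k ≠ 2) {x : V} (hxX : x ∈ h.Xset M)
    (hx : ∀ i, x ∉ D i) :
    ∃ i j, i ≠ j ∧ ∃ a ∈ D i, a ≠ 0 ∧ ∃ b ∈ D j, b ≠ 0 ∧ a + b ∈ h.Xset M := by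
  have hx0 : x ≠ 0 := by
    rintro rfl
    exact hx ⟨0, by have := hD.two_le; omega⟩ (D _).zero_mem
  obtain ⟨j, aj, haj, haj0, r, hr, hxr⟩ := hD.exists_component_ne_zero h hx0
  have hr0 : r ≠ 0 := by
    rintro rfl
    apply hx j
    rw [hxr, add_zero]; exact haj
  obtain ⟨l, al, hal, hal0, r', hr', hrr'⟩ := hD.exists_component_ne_zero h hr0
  have hlj : l ≠ j := by
    rintro rfl
    apply hal0
    apply hD.nondeg l al hal
    intro u hu
    have e : al = r - r' := by rw [hrr']; abel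
    rw [e, map_sub, LinearMap.sub_apply, (h.mem_orthogonal.1 hr) u hu,
      (h.mem_orthogonal.1 hr') u hu, sub_zero]
  have hr'j : ∀ u ∈ D j, B r' u = 0 := by
    intro u hu
    have e : r' = r - al := by rw [hrr']; abel
    rw [e, map_sub, LinearMap.sub_apply, (h.mem_orthogonal.1 hr) u hu,
      hD.ortho l j hlj al hal u hu, sub_zero]
  have hr'l : ∀ u ∈ D l, B r' u = 0 := h.mem_orthogonal.1 hr'
  have hjl : j ≠ l := Ne.symm hlj
  -- choose the partners
  have : ∃ a' ∈ D j, B aj a' ≠ 0 := by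
    by_contra hcon
    push Not at hcon
    exact haj0 (hD.nondeg j aj haj hcon)
  obtain ⟨a', ha', haa'⟩ := this
  have ha'0 : a' ≠ 0 := by
    rintro rfl
    simp at haa'
  obtain ⟨b', hb', hab', hb'0, hsum⟩ := hD.exists_ortho_partner h hex hal hal0
  -- P = x and Q
  have hP : aj + (al + r') ∈ h.Xset M := by
    rw [← hrr', ← hxr]; exact hxX
  have hnegX : (-aj) + ((-al) + (-r')) ∈ h.Xset M := by
    have := h.neg_mem_Xset hP
    have e : -(aj + (al + r')) = (-aj) + ((-al) + (-r')) := by abel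
    rwa [e] at this
  have hQ : a' + (b' + (-r')) ∈ h.Xset M :=
    hD.slide_two h hDX hjl (s := -r')
      (fun u hu => by rw [map_neg, LinearMap.neg_apply, hr'j u hu, neg_zero])
      (fun u hu => by rw [map_neg, LinearMap.neg_apply, hr'l u hu, neg_zero])
      ((D j).neg_mem haj) (neg_ne_zero.2 haj0) ((D l).neg_mem hal) (neg_ne_zero.2 hal0) hnegX
      a' ha' ha'0 b' hb' hb'0
  have hBPQ : B (aj + (al + r')) (a' + (b' + (-r'))) ≠ 0 := by
    have e : B (aj + (al + r')) (a' + (b' + (-r'))) = B aj a' := by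
      simp only [map_add, map_neg, LinearMap.add_apply, h.alt,
        hD.ortho j l hjl aj haj b' hb', hD.ortho l j hlj al hal a' ha', hab',
        hr'j a' ha', hr'l b' hb', h.eq_zero_comm.1 (hr'j aj haj), h.eq_zero_comm.1 (hr'l al hal)]
      ring
    rw [e]; exact haa'
  have hsumX := h.add_mem_Xset hP hQ hBPQ
  have e : aj + (al + r') + (a' + (b' + (-r'))) = (aj + a') + (al + b') := by abel
  rw [e] at hsumX
  refine ⟨j, l, hjl, aj + a', (D j).add_mem haj ha', ?_, al + b', (D l).add_mem hal hb', hsum, hsumX⟩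
  intro h0
  have : a' = -aj := eq_neg_of_add_eq_zero_right h0
  rw [this, map_neg, h.alt, neg_zero] at haa'
  exact haa' rfl

/-- If every vector of `X` lies in a member, then `M` stabilises the decomposition. -/
lemma le_stabDec_of_forall_mem (h : SympData B) (hD : OrthoDecomp B k D)
    {M : Subgroup (V ≃ₗ[K] V)} (hMS : M ≤ Sp B) (hDX : ∀ i, ∀ u ∈ D i, u ∈ h.Xset M)
    (hall : ∀ x ∈ h.Xset M, ∃ i, x ∈ D i) : M ≤ stabDec D := by
  intro g hg
  have key : ∀ i, ∃ l, (D i).map (g : V →ₗ[K] V) = D l := by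
    intro i
    obtain ⟨a₀, ha₀, ha₀0⟩ := Submodule.exists_mem_ne_zero_of_ne_bot (hD.ne_bot i)
    have hga₀X : g a₀ ∈ h.Xset M := h.map_mem_Xset (hDX i a₀ ha₀) hg (hMS hg)
    obtain ⟨l₀, hl₀⟩ := hall _ hga₀X
    have hga₀0 : g a₀ ≠ 0 := fun h0 => ha₀0 (g.map_eq_zero_iff.1 h0)
    refine ⟨l₀, ?_⟩
    apply Submodule.eq_of_le_of_finrank_eq
    · rintro x ⟨a, ha, rfl⟩
      change g a ∈ D l₀
      by_cases hga0 : g a = 0
      · rw [hga0]; exact (D l₀).zero_mem
      · have hgaX : g a ∈ h.Xset M := h.map_mem_Xset (hDX i a ha) hg (hMS hg)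
        obtain ⟨l, hl⟩ := hall _ hgaX
        by_cases hll : l = l₀
        · rw [← hll]; exact hl
        · exfalso
          have hsumX : g (a₀ + a) ∈ h.Xset M :=
            h.map_mem_Xset (hDX i _ ((D i).add_mem ha₀ ha)) hg (hMS hg)
          obtain ⟨l', hl'⟩ := hall _ hsumX
          rw [map_add] at hl'
          exact hD.pair_not_mem (Ne.symm hll) hl₀ hga₀0 hl hga0 l' hl'
    · rw [LinearEquiv.finrank_map_eq, hD.finrank_eq, hD.finrank_eq]
  choose σ hσ using key
  have hinj : Function.Injective σ := by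
    intro i i' hii
    by_contra hne
    have h1 : (D i).map (g : V →ₗ[K] V) = (D i').map (g : V →ₗ[K] V) := by
      rw [hσ, hσ, hii]
    have h2 : D i = D i' := Submodule.map_injective_of_injective g.injective h1
    obtain ⟨a, ha, ha0⟩ := Submodule.exists_mem_ne_zero_of_ne_bot (hD.ne_bot i)
    exact ha0 (hD.inter_eq_zero hne ha (h2 ▸ ha))
  exact ⟨Equiv.ofBijective σ (Finite.injective_iff_bijective.1 hinj), hσ⟩

/-- An isometry swapping two members and fixing the others. -/
lemma exists_swap (h : SympData B) (hD : OrthoDecomp B k D) {i j : Fin t} (hij : i ≠ j) :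
    ∃ s ∈ Sp B, ∀ l, (D l).map (s : V →ₗ[K] V) = D (Equiv.swap i j l) := by
  have hU : NondegOn B (D i ⊔ D j) := (hD.nondeg i).sup h (hD.nondeg j) (hD.ortho i j hij)
  obtain ⟨s, hs, hsij⟩ := h.TN_trans_nondeg k (D i ⊔ D j) (D i) (D j) le_sup_left le_sup_right
    (hD.nondeg i) (hD.nondeg j) (hD.finrank_eq i) (hD.finrank_eq j)
  have hsSp : s ∈ Sp B := h.TN_le_Sp _ hs
  refine ⟨s, hsSp, fun l => ?_⟩
  by_cases hli : l = i
  · subst hli
    rw [Equiv.swap_apply_left]; exact hsij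
  by_cases hlj : l = j
  · subst hlj
    rw [Equiv.swap_apply_right]
    apply Submodule.eq_of_le_of_finrank_eq
    · rintro x ⟨b, hb, rfl⟩
      change s b ∈ D i
      have hsbU : s b ∈ D i ⊔ D l := h.TN_map_mem le_rfl hs (Submodule.mem_sup_right hb)
      obtain ⟨a', ha', b', hb', hab⟩ := Submodule.mem_sup.1 hsbU
      have hb'0 : b' = 0 := by
        apply hD.nondeg l b' hb'
        intro b'' hb''
        have : b'' ∈ (D i).map (s : V →ₗ[K] V) := by rw [hsij]; exact hb''
        obtain ⟨a'', ha'', rfl⟩ := this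
        have e : b' = s b - a' := by rw [← hab]; abel
        change B b' (s a'') = 0
        rw [e, map_sub, LinearMap.sub_apply, hsSp b a'', hD.ortho l i hli b hb a'' ha'', zero_sub,
          neg_eq_zero]
        have hsa'' : s a'' ∈ D l := by rw [← hsij]; exact ⟨a'', ha'', rfl⟩
        exact hD.ortho i l hij a' ha' _ hsa''
      rw [← hab, hb'0, add_zero]; exact ha'
    · rw [LinearEquiv.finrank_map_eq, hD.finrank_eq, hD.finrank_eq]
  · rw [Equiv.swap_apply_of_ne_of_ne hli hlj]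
    have hfix : ∀ x ∈ D l, s x = x := by
      intro x hx
      apply h.TN_fix hs
      intro u hu
      obtain ⟨a, ha, b, hb, rfl⟩ := Submodule.mem_sup.1 hu
      rw [map_add, hD.ortho l i hli x hx a ha, hD.ortho l j hlj x hx b hb, add_zero]
    ext x
    constructor
    · rintro ⟨u, hu, rfl⟩
      change s u ∈ D l
      rw [hfix u hu]; exact hu
    · intro hx
      exact ⟨x, hx, hfix x hx⟩

/-- Some vector of `X` is supported exactly on the members `i` and `j`. -/
def PairIn (h : SympData B) (M : Subgroup (V ≃ₗ[K] V)) (D : Fin t → Submodule K V)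
    (i j : Fin t) : Prop :=
  i ≠ j ∧ ∃ a ∈ D i, a ≠ 0 ∧ ∃ b ∈ D j, b ≠ 0 ∧ a + b ∈ h.Xset M

omit [FiniteDimensional K V] in
lemma PairIn.map (h : SympData B) {M : Subgroup (V ≃ₗ[K] V)} {i j : Fin t}
    (hp : PairIn h M D i j) {p : V ≃ₗ[K] V} (hpM : p ∈ M) (hpS : p ∈ Sp B)
    {σ : Equiv.Perm (Fin t)} (hσ : ∀ l, (D l).map (p : V →ₗ[K] V) = D (σ l)) :
    PairIn h M D (σ i) (σ j) := by
  obtain ⟨hij, a, ha, ha0, b, hb, hb0, hab⟩ := hp
  refine ⟨fun h0 => hij (σ.injective h0), p a, ?_, ?_, p b, ?_, ?_, ?_⟩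
  · rw [← hσ]; exact ⟨a, ha, rfl⟩
  · exact fun h0 => ha0 (p.map_eq_zero_iff.1 h0)
  · rw [← hσ]; exact ⟨b, hb, rfl⟩
  · exact fun h0 => hb0 (p.map_eq_zero_iff.1 h0)
  · rw [← map_add]; exact h.map_mem_Xset hab hpM hpS

lemma PairIn.all (h : SympData B) (hD : OrthoDecomp B k D) {M : Subgroup (V ≃ₗ[K] V)}
    (hPM : stabDec D ⊓ Sp B ≤ M) {i j : Fin t} (hp : PairIn h M D i j) :
    ∀ i' j', i' ≠ j' → PairIn h M D i' j' := by
  intro i' j' hij'
  have hij := hp.1
  -- step 1
  have step1 : ∃ l, l ≠ i' ∧ PairIn h M D i' l := by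
    by_cases hii : i = i'
    · subst hii
      exact ⟨j, Ne.symm hij, hp⟩
    · obtain ⟨s, hsS, hs⟩ := hD.exists_swap h hii
      have hsM : s ∈ M := hPM ⟨⟨_, hs⟩, hsS⟩
      have := hp.map h hsM hsS hs
      rw [Equiv.swap_apply_left] at this
      exact ⟨_, Ne.symm this.1, this⟩
  obtain ⟨l, hli', hl⟩ := step1
  by_cases hlj : l = j'
  · subst hlj; exact hl
  · obtain ⟨s, hsS, hs⟩ := hD.exists_swap h hlj
    have hsM : s ∈ M := hPM ⟨⟨_, hs⟩, hsS⟩
    have := hl.map h hsM hsS hs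
    rwa [Equiv.swap_apply_left, Equiv.swap_apply_of_ne_of_ne (Ne.symm hli') hij'] at this

omit [FiniteDimensional K V] in
/-- If all pairs are in, every partial sum of the decomposition lies in `X`. -/
lemma finsetSup_subset_Xset (h : SympData B) (hD : OrthoDecomp B k D)
    {M : Subgroup (V ≃ₗ[K] V)} (hDX : ∀ i, ∀ u ∈ D i, u ∈ h.Xset M)
    (hpairs : ∀ i j, i ≠ j → PairIn h M D i j) (S : Finset (Fin t)) :
    ∀ x ∈ ⨆ i ∈ S, D i, x ∈ h.Xset M := by
  induction S using Finset.induction_on with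
  | empty =>
    intro x hx
    have : x = 0 := by simpa using hx
    rw [this]; exact h.zero_mem_Xset M
  | insert l S hl ih =>
    intro x hx
    rw [Finset.iSup_insert] at hx
    obtain ⟨a, ha, y, hy, rfl⟩ := Submodule.mem_sup.1 hx
    by_cases ha0 : a = 0
    · rw [ha0, zero_add]; exact ih y hy
    by_cases hy0 : y = 0
    · rw [hy0, add_zero]; exact hDX l a ha
    have hSne : S.Nonempty := by
      by_contra hne
      rw [Finset.not_nonempty_iff_eq_empty] at hne
      apply hy0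
      rw [hne] at hy
      simpa using hy
    obtain ⟨j, hj⟩ := hSne
    have hlj : l ≠ j := by
      rintro rfl; exact hl hj
    obtain ⟨_, a₀, ha₀, ha₀0, b₀, hb₀, hb₀0, hab₀⟩ := hpairs l j hlj
    have hb₀S : b₀ ∈ ⨆ i ∈ S, D i := by
      have : D j ≤ ⨆ i ∈ S, D i := le_iSup₂ (f := fun i _ => D i) j hj
      exact this hb₀
    have hortho := hD.ortho_finsetSup h S hl
    -- slide in the partial sum
    have h1 : y + a₀ ∈ h.Xset M := by
      refine h.slide (hD.nondegOn_finsetSup h S) ih (r := a₀) ?_ hb₀S hb₀0 ?_ y hy hy0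
      · intro n hn; exact hortho a₀ ha₀ n hn
      · rw [add_comm]; exact hab₀
    -- slide in the member `l`
    refine h.slide (hD.nondeg l) (hDX l) (r := y) ?_ ha₀ ha₀0 ?_ a ha ha0
    · intro n hn; exact h.eq_zero_comm.1 (hortho n hn y hy)
    · rw [add_comm]; exact h1

end OrthoDecomp

/-- **Maximality** of the stabiliser of an orthogonal decomposition into non-degenerate subspaces. -/
theorem stabDec_max (h : SympData B) {t k : ℕ} {D : Fin t → Submodule K V}
    (hD : OrthoDecomp B k D) (hex : (∃ c : K, c ≠ 0 ∧ c ≠ -1) ∨ k ≠ 2)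
    (M : Subgroup (V ≃ₗ[K] V)) (hPM : stabDec D ⊓ Sp B ≤ M) (hMS : M ≤ Sp B) :
    M = stabDec D ⊓ Sp B ∨ M = Sp B := by
  by_cases hM : M ≤ stabDec D
  · left
    exact le_antisymm (le_inf hM hMS) hPM
  right
  apply le_antisymm hMS
  rw [h.Sp_eq_TN_top]
  apply h.TN_top_le_of_Xset
  have hDX : ∀ i, ∀ u ∈ D i, u ∈ h.Xset M := by
    intro i y hy c
    exact hPM ⟨hD.tv_mem_stabDec h hy c, h.tv_mem_Sp _ _⟩
  have hout : ∃ x ∈ h.Xset M, ∀ i, x ∉ D i := by
    by_contra hcon
    push Not at hcon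
    exact hM (hD.le_stabDec_of_forall_mem h hMS hDX hcon)
  obtain ⟨x, hxX, hx⟩ := hout
  obtain ⟨i, j, hij, hpair⟩ := hD.exists_pair_of_outside h hDX hex hxX hx
  have hp : OrthoDecomp.PairIn h M D i j := ⟨hij, hpair⟩
  have hall := hp.all h hD hPM
  intro v
  have := hD.finsetSup_subset_Xset h hDX hall Finset.univ v
  apply this
  have e : (⨆ i ∈ (Finset.univ : Finset (Fin t)), D i) = iSup D := by simp
  rw [e, hD.iSup_eq_top]; trivial

omit [FiniteDimensional K V] in
/-- The stabiliser of the decomposition is a proper subgroup of the isometry group. -/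
theorem stabDec_lt (h : SympData B) {t k : ℕ} {D : Fin t → Submodule K V}
    (hD : OrthoDecomp B k D) : stabDec D ⊓ Sp B < Sp B := by
  rw [SetLike.lt_iff_le_and_exists]
  refine ⟨inf_le_right, ?_⟩
  have h2 := hD.two_le
  let i0 : Fin t := ⟨0, by omega⟩
  let i1 : Fin t := ⟨1, by omega⟩
  have h01 : i0 ≠ i1 := by
    intro h0
    have := congrArg Fin.val h0
    simp [i0, i1] at this
  obtain ⟨a, ha, ha0⟩ := Submodule.exists_mem_ne_zero_of_ne_bot (hD.ne_bot i0)
  obtain ⟨b, hb, hb0⟩ := Submodule.exists_mem_ne_zero_of_ne_bot (hD.ne_bot i1)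
  have hab0 : a + b ≠ 0 := by
    intro h0
    apply hD.pair_not_mem h01 ha ha0 hb hb0 i0
    rw [h0]; exact (D i0).zero_mem
  have hne : ∀ a : V, a ≠ 0 → ∃ u ∈ (⊤ : Submodule K V), B a u ≠ 0 := by
    intro a ha0
    by_contra hcon
    push Not at hcon
    exact ha0 (h.nondeg a fun y => hcon y trivial)
  obtain ⟨g, hg, hga⟩ := h.TN_trans (U := ⊤) (w := a) (w' := a + b) trivial trivial
    (hne a ha0) (hne _ hab0)
  refine ⟨g, h.TN_le_Sp ⊤ hg, fun hgP => ?_⟩
  obtain ⟨σ, hσ⟩ := hgP.1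
  have : g a ∈ D (σ i0) := by rw [← hσ]; exact ⟨a, ha, rfl⟩
  rw [hga] at this
  exact hD.pair_not_mem h01 ha ha0 hb hb0 _ this


end FD

end SympData

end Cfsg.Agent.Lib.Helper94
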