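/-
Helper94: non-maximality in `Ω` of (i) the stabiliser of a pair of complementary maximal totally
singular subspaces of odd dimension, (ii) the stabiliser of a totally singular subspace of
dimension `n/2 - 1` in a space of plus type.  Both use the Dickson parity (`MaxSingular`).
-/
import Mathlib
import Cfsg.Agent.Lib.Helper94.OrthSiegel
import Cfsg.Agent.Lib.Helper94.SympDecomp

set_option autoImplicit false
set_option linter.unusedSimpArgs false
set_option linter.unusedSectionVars false
set_option linter.unusedVariables false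

namespace Cfsg.Agent.Lib.Helper94

open LinearMap (BilinForm)
open scoped commutatorElement
open Module

variable {K V : Type*} [Field K] [AddCommGroup V] [Module K V]

/-- a subspace of larger dimension has a vector outside a subspace of smaller dimension -/
lemma exists_mem_not_mem_of_finrank_lt [FiniteDimensional K V] (U S : Submodule K V)
    (h : finrank K S < finrank K U) : ∃ x ∈ U, x ∉ S := by
  by_contra hcon
  push Not at hcon
  have : U ≤ S := hcon
  have := Submodule.finrank_mono this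
  omega

lemma inv_apply_eq_of_apply_eq (g : V ≃ₗ[K] V) (v : V) (h : g v = v) : g⁻¹ v = v := by
  calc g⁻¹ v = g⁻¹ (g v) := by rw [h]
    _ = v := by rw [← LinearEquiv.mul_apply, inv_mul_cancel]; rfl

lemma mem_stabSub_of_map_eq {N : Submodule K V} {g : V ≃ₗ[K] V}
    (h : N.map (g : V →ₗ[K] V) = N) : g ∈ stabSub N := by
  intro v
  constructor
  · intro hv
    rw [← h]
    exact ⟨v, hv, rfl⟩
  · intro hv
    rw [← h] at hv
    obtain ⟨u, hu, huv⟩ := hv
    have : u = v := g.injective huv
    rw [← this]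
    exact hu

lemma map_eq_of_map_le [FiniteDimensional K V] {N N' : Submodule K V} {g : V ≃ₗ[K] V}
    (h : ∀ x ∈ N, g x ∈ N') (hfr : finrank K N = finrank K N') :
    N.map (g : V →ₗ[K] V) = N' := by
  apply Submodule.eq_of_le_of_finrank_eq
  · rintro _ ⟨x, hx, rfl⟩
    exact h x hx
  · rw [← hfr]
    exact LinearEquiv.finrank_map_eq g N

/-- a nonzero vector of a subspace of dimension at least two killed by a functional -/
lemma exists_ne_zero_mem_ker [FiniteDimensional K V] (W : Submodule K V) (φ : V →ₗ[K] K)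
    (h : 2 ≤ finrank K W) : ∃ x ∈ W, x ≠ 0 ∧ φ x = 0 := by
  have hlt : finrank K K < finrank K W := by
    rw [Module.finrank_self]
    omega
  have hker : LinearMap.ker (φ.domRestrict W) ≠ ⊥ := LinearMap.ker_ne_bot_of_finrank_lt hlt
  obtain ⟨x, hx, hx0⟩ := Submodule.exists_mem_ne_zero_of_ne_bot hker
  refine ⟨x, x.2, ?_, ?_⟩
  · intro h0
    apply hx0
    exact Subtype.ext h0
  · exact LinearMap.mem_ker.1 hx

namespace QuadData

variable {B : BilinForm K V} {Q : V → K}

lemma B_eq_zero_of_singular (hQ : QuadData B Q) (U : Submodule K V) (hU : ∀ u ∈ U, Q u = 0)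
    {x y : V} (hx : x ∈ U) (hy : y ∈ U) : B x y = 0 := by
  have h := hQ.polar x y
  rw [hU _ (U.add_mem hx hy), hU x hx, hU y hy] at h
  linear_combination -h

/-- In a pair of complementary totally singular subspaces `U, U'` (dim `U ≥ 3`) there is a Siegel
transformation in `Ω` fixing `U` pointwise and moving some vector of `U'` out of `U'`. -/
lemma exists_siegel_moving (hQ : QuadData B Q) [FiniteDimensional K V]
    (hnd : ∀ x, (∀ y, B x y = 0) → x = 0) (U U' : Submodule K V)
    (hU : ∀ u ∈ U, Q u = 0) (hU' : ∀ u ∈ U', Q u = 0) (hsup : U ⊔ U' = ⊤)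
    (h3 : 3 ≤ finrank K U) :
    ∃ c ∈ ⁅OG Q, OG Q⁆, (∀ u ∈ U, c u = u) ∧ ∃ f ∈ U', ∃ b ∈ U, b ≠ 0 ∧ c f = f + b := by
  -- three independent vectors of `U`
  obtain ⟨b, hbU, hb0'⟩ := exists_mem_not_mem_of_finrank_lt U ⊥ (by rw [finrank_bot]; omega)
  have hb0 : b ≠ 0 := fun h => hb0' (by rw [h]; exact Submodule.zero_mem _)
  have hfb : finrank K (Submodule.span K {b}) = 1 := finrank_span_singleton hb0
  obtain ⟨a, haU, hab'⟩ := exists_mem_not_mem_of_finrank_lt U (Submodule.span K {b}) (by omega)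
  have hfab : finrank K (Submodule.span K {a, b}) ≤ 2 := by
    rw [Submodule.span_insert]
    have h1 := Submodule.finrank_add_le_finrank_add_finrank (Submodule.span K {a}) (Submodule.span K {b})
    have h2 : finrank K (Submodule.span K {a}) ≤ 1 := by
      have := finrank_span_le_card (R := K) ({a} : Set V)
      simpa using this
    omega
  obtain ⟨c₀, hc₀U, hc₀'⟩ := exists_mem_not_mem_of_finrank_lt U (Submodule.span K {a, b}) (by omega)
  -- the partner of `c₀` in `U'`
  obtain ⟨y, hyS, hyc⟩ := hQ.exists_dual_vec hnd (Submodule.span K {a, b}) hc₀'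
  have hya : B a y = 0 := hyS a (Submodule.subset_span (by simp))
  have hyb : B b y = 0 := hyS b (Submodule.subset_span (by simp))
  have hy : y ∈ U ⊔ U' := by rw [hsup]; trivial
  obtain ⟨y₀, hy₀, y₁, hy₁, hyy⟩ := Submodule.mem_sup.mp hy
  have hBU : ∀ {x z : V}, x ∈ U → z ∈ U → B x z = 0 := fun hx hz =>
    hQ.B_eq_zero_of_singular U hU hx hz
  have hBU' : ∀ {x z : V}, x ∈ U' → z ∈ U' → B x z = 0 := fun hx hz =>
    hQ.B_eq_zero_of_singular U' hU' hx hz
  have hc₀y₁ : B c₀ y₁ = 1 := by
    have : B c₀ y = B c₀ y₀ + B c₀ y₁ := by rw [← hyy, map_add]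
    rw [hyc, hBU hc₀U hy₀, zero_add] at this
    exact this.symm
  have hay₁ : B a y₁ = 0 := by
    have : B a y = B a y₀ + B a y₁ := by rw [← hyy, map_add]
    rw [hya, hBU haU hy₀, zero_add] at this
    exact this.symm
  have hby₁ : B b y₁ = 0 := by
    have : B b y = B b y₀ + B b y₁ := by rw [← hyy, map_add]
    rw [hyb, hBU hbU hy₀, zero_add] at this
    exact this.symm
  -- the vector `f`
  obtain ⟨z, hzS, hza⟩ := hQ.exists_dual_vec hnd (Submodule.span K {b}) hab'
  have hzb : B b z = 0 := hzS b (Submodule.mem_span_singleton_self b)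
  have hz : z ∈ U ⊔ U' := by rw [hsup]; trivial
  obtain ⟨z₀, hz₀, f, hf, hzz⟩ := Submodule.mem_sup.mp hz
  have haf : B a f = 1 := by
    have : B a z = B a z₀ + B a f := by rw [← hzz, map_add]
    rw [hza, hBU haU hz₀, zero_add] at this
    exact this.symm
  have hbf : B b f = 0 := by
    have : B b z = B b z₀ + B b f := by rw [← hzz, map_add]
    rw [hzb, hBU hbU hz₀, zero_add] at this
    exact this.symm
  have hQa := hU a haU
  have hQb := hU b hbU
  have hab : B a b = 0 := hBU haU hbU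
  refine ⟨siegel B Q a b, ?_, ?_, f, hf, b, hbU, hb0, ?_⟩
  · exact hQ.siegel_mem_commutator hQa hQb hab (hU c₀ hc₀U) (hU' y₁ hy₁) hc₀y₁
      (hBU hc₀U haU) (hBU hc₀U hbU) (by rw [hQ.symm]; exact hay₁) (by rw [hQ.symm]; exact hby₁)
  · intro u hu
    rw [hQ.siegel_apply hQa hQb hab, hBU hu haU, hBU hu hbU, zero_smul, zero_smul]
    abel
  · rw [hQ.siegel_apply hQa hQb hab, hQ.symm f a, haf, hQ.symm f b, hbf, one_smul, zero_smul]
    abel

/-- **Non-maximality** of the stabiliser of a pair of complementary totally singular subspaces of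
odd dimension. -/
theorem exists_between_two_singular (hQ : QuadData B Q) [FiniteDimensional K V]
    (hnd : ∀ x, (∀ y, B x y = 0) → x = 0)
    (hF : (∀ a b : K, ∃ x : K, x ≠ a ∧ x ≠ b) ∨ Module.finrank K V ≠ 4)
    {k : ℕ} (hk : Odd k) (hk3 : 3 ≤ k) (D : Fin 2 → Submodule K V)
    (hfr : ∀ i, finrank K (D i) = k) (hts : ∀ i, ∀ x ∈ D i, Q x = 0)
    (hinf : D 0 ⊓ D 1 = ⊥) (hsup : D 0 ⊔ D 1 = ⊤) :
    ∃ K' : Subgroup (V ≃ₗ[K] V),
      SympData.stabDec D ⊓ ⁅OG Q, OG Q⁆ < K' ∧ K' < ⁅OG Q, OG Q⁆ := by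
  have hdimV : 2 * finrank K (D 0) = finrank K V := by
    have h := Submodule.finrank_sup_add_finrank_inf_eq (D 0) (D 1)
    rw [hsup, hinf, finrank_bot, finrank_top, hfr 0, hfr 1] at h
    rw [hfr 0]
    omega
  have h01 : ∀ i : Fin 2, i = 0 ∨ i = 1 := by
    intro i
    fin_cases i
    · left; rfl
    · right; rfl
  refine ⟨stabSub (D 0) ⊓ ⁅OG Q, OG Q⁆, ?_, ?_⟩
  · rw [lt_iff_le_and_ne]
    constructor
    · -- containment, by parity
      rintro g ⟨hgD, hgΩ⟩
      refine ⟨?_, hgΩ⟩
      obtain ⟨σ, hσ⟩ := hgD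
      rcases h01 (σ 0) with h0 | h0
      · apply mem_stabSub_of_map_eq
        rw [hσ 0, h0]
      · exfalso
        have hgO : g ∈ OG Q := commutator_le_OG hgΩ
        have hpar := hQ.par_eq hnd (D 0) (hts 0) hdimV hgO
        rw [hσ 0, h0, hinf, finrank_bot, Nat.sub_zero, hfr 0,
          hQ.par_eq_zero_of_mem hnd hF hgΩ] at hpar
        have : Even k := (ZMod.natCast_eq_zero_iff_even).1 hpar.symm
        exact (Nat.not_even_iff_odd.2 hk) this
    · -- strictness
      obtain ⟨c, hcΩ, hcfix, f, hf, b, hb, hb0, hcf⟩ :=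
        hQ.exists_siegel_moving hnd (D 0) (D 1) (hts 0) (hts 1) hsup (by rw [hfr 0]; exact hk3)
      intro heq
      have hc : c ∈ stabSub (D 0) ⊓ ⁅OG Q, OG Q⁆ := by
        refine ⟨?_, hcΩ⟩
        apply mem_stabSub_of_maps
        · intro v hv
          rw [hcfix v hv]; exact hv
        · intro v hv
          rw [inv_apply_eq_of_apply_eq c v (hcfix v hv)]; exact hv
      rw [← heq] at hc
      obtain ⟨σ, hσ⟩ := hc.1
      have hcf' : c f ∈ D (σ 1) := by
        rw [← hσ 1]
        exact ⟨f, hf, rfl⟩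
      rcases h01 (σ 1) with h1 | h1
      · rw [h1, hcf] at hcf'
        have hf0 : f ∈ D 0 := by
          have := (D 0).sub_mem hcf' hb
          rwa [add_sub_cancel_right] at this
        have : f ∈ D 0 ⊓ D 1 := ⟨hf0, hf⟩
        rw [hinf, Submodule.mem_bot] at this
        rw [this, map_zero, zero_add] at hcf
        exact hb0 hcf.symm
      · rw [h1, hcf] at hcf'
        have hb1 : b ∈ D 1 := by
          have := (D 1).sub_mem hcf' hf
          rwa [add_sub_cancel_left] at this
        have : b ∈ D 0 ⊓ D 1 := ⟨hb, hb1⟩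
        rw [hinf, Submodule.mem_bot] at this
        exact hb0 this
  · rw [lt_iff_le_and_ne]
    refine ⟨inf_le_right, ?_⟩
    have hsup' : D 1 ⊔ D 0 = ⊤ := by rw [sup_comm]; exact hsup
    obtain ⟨c, hcΩ, -, f, hf, b, hb, hb0, hcf⟩ :=
      hQ.exists_siegel_moving hnd (D 1) (D 0) (hts 1) (hts 0) hsup' (by rw [hfr 1]; exact hk3)
    intro heq
    rw [← heq] at hcΩ
    have hcf' : c f ∈ D 0 := (hcΩ.1 f).1 hf
    rw [hcf] at hcf'
    have hb0' : b ∈ D 0 := by
      have := (D 0).sub_mem hcf' hf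
      rwa [add_sub_cancel_left] at this
    have : b ∈ D 0 ⊓ D 1 := ⟨hb0', hb⟩
    rw [hinf, Submodule.mem_bot] at this
    exact hb0 this

end QuadData

end Cfsg.Agent.Lib.Helper94
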