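/-
Helper94: non-maximality in `Ω` of the stabiliser of a totally singular subspace of dimension
`n/2 - 1` in a quadratic space of plus type (the subspace lies in exactly two maximal totally
singular subspaces, which elements of `Ω` cannot interchange).
-/
import Mathlib
import Cfsg.Agent.Lib.Helper94.OrthSingular

set_option autoImplicit false
set_option linter.unusedSimpArgs false
set_option linter.unusedSectionVars false
set_option linter.unusedVariables false

namespace Cfsg.Agent.Lib.Helper94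

open LinearMap (BilinForm)
open scoped commutatorElement
open Module

variable {K V : Type*} [Field K] [AddCommGroup V] [Module K V]

lemma finrank_sup_span_singleton [FiniteDimensional K V] (W : Submodule K V) {u : V} (hu : u ∉ W) :
    finrank K (W ⊔ Submodule.span K {u} : Submodule K V) = finrank K W + 1 := by
  have hu0 : u ≠ 0 := by
    rintro rfl
    exact hu W.zero_mem
  have hinf : W ⊓ Submodule.span K {u} = ⊥ := by
    rw [eq_bot_iff]
    rintro x ⟨hxI, hxu⟩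
    obtain ⟨c, rfl⟩ := Submodule.mem_span_singleton.mp hxu
    by_cases hc : c = 0
    · rw [hc, zero_smul]; exact Submodule.zero_mem _
    · exfalso
      apply hu
      have := W.smul_mem c⁻¹ hxI
      rwa [smul_smul, inv_mul_cancel₀ hc, one_smul] at this
  have h := Submodule.finrank_sup_add_finrank_inf_eq W (Submodule.span K {u})
  rw [hinf, finrank_bot, add_zero, finrank_span_singleton hu0] at h
  exact h

lemma mem_sup_span_singleton {W : Submodule K V} {u x : V} :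
    x ∈ W ⊔ Submodule.span K {u} ↔ ∃ w ∈ W, ∃ s : K, x = w + s • u := by
  rw [Submodule.mem_sup]
  constructor
  · rintro ⟨w, hw, p, hp, rfl⟩
    obtain ⟨s, rfl⟩ := Submodule.mem_span_singleton.mp hp
    exact ⟨w, hw, s, rfl⟩
  · rintro ⟨w, hw, s, rfl⟩
    exact ⟨w, hw, s • u, Submodule.smul_mem _ _ (Submodule.mem_span_singleton_self u), rfl⟩

namespace QuadData

variable {B : BilinForm K V} {Q : V → K}

lemma nondegenerate_of (hQ : QuadData B Q) (hnd : ∀ x, (∀ y, B x y = 0) → x = 0) :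
    B.Nondegenerate := by
  have := hQ.nondeg_toQF hnd
  rwa [polarBilin_toQF] at this

lemma isRefl_of (hQ : QuadData B Q) : B.IsRefl := fun x y h => by rw [hQ.symm]; exact h

lemma orthogonal_eq_self' (hQ : QuadData B Q) [FiniteDimensional K V]
    (hnd : ∀ x, (∀ y, B x y = 0) → x = 0) (U : Submodule K V) (hU : ∀ u ∈ U, Q u = 0)
    (hdim : 2 * finrank K U = finrank K V) : B.orthogonal U = U := by
  have := orthogonal_eq_self hQ.toQF (hQ.nondeg_toQF hnd) U hU hdim
  rwa [polarBilin_toQF] at this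

lemma finrank_span_pair (hQ : QuadData B Q) {e f : V} (hee : B e e = 0) (hef : B e f = 1) :
    finrank K (Submodule.span K {e, f}) = 2 := by
  have he0 : e ≠ 0 := by
    rintro rfl
    rw [map_zero, LinearMap.zero_apply] at hef
    exact zero_ne_one hef
  have hli : LinearIndependent K ![e, f] := by
    rw [LinearIndependent.pair_iff]
    intro s t hst
    have h1 : B e (s • e + t • f) = t := by
      rw [map_add, map_smul, map_smul, hee, hef, smul_eq_mul, smul_eq_mul, mul_zero, mul_one,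
        zero_add]
    rw [hst, map_zero] at h1
    have ht : t = 0 := h1.symm
    rw [ht, zero_smul, add_zero] at hst
    rcases smul_eq_zero.1 hst with h | h
    · exact ⟨h, ht⟩
    · exact absurd h he0
  have h1 := finrank_span_eq_card hli
  have h2 : Set.range ![e, f] = {e, f} := by
    simp [Matrix.range_cons, Matrix.range_empty, Set.pair_comm]
  rw [h2, Fintype.card_fin] at h1
  exact h1

/-- **Non-maximality** of the stabiliser in `Ω` of a totally singular subspace of dimension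
`k - 1` in a space of dimension `2k` containing a totally singular subspace of dimension `k`. -/
theorem exists_between_submax_singular (hQ : QuadData B Q) [FiniteDimensional K V]
    (hnd : ∀ x, (∀ y, B x y = 0) → x = 0)
    (hF : (∀ a b : K, ∃ x : K, x ≠ a ∧ x ≠ b) ∨ Module.finrank K V ≠ 4)
    {k : ℕ} (hk : 3 ≤ k) (hV : finrank K V = 2 * k)
    (U' : Submodule K V) (hU' : ∀ x ∈ U', Q x = 0) (hU'k : finrank K U' = k)
    (W : Submodule K V) (hW : ∀ x ∈ W, Q x = 0) (hWk : finrank K W + 1 = k) :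
    ∃ K' : Subgroup (V ≃ₗ[K] V),
      stabSub W ⊓ ⁅OG Q, OG Q⁆ < K' ∧ K' < ⁅OG Q, OG Q⁆ := by
  have hN := hQ.nondegenerate_of hnd
  have hrefl := hQ.isRefl_of
  have hBW : ∀ {x z : V}, x ∈ W → z ∈ W → B x z = 0 := fun hx hz =>
    hQ.B_eq_zero_of_singular W hW hx hz
  -- Step 1: a singular vector `u₁ ∈ W⊥ \\ W`
  obtain ⟨u₁, hu₁U', hu₁W, hu₁nW⟩ : ∃ u₁ ∈ U', (∀ w ∈ W, B w u₁ = 0) ∧ u₁ ∉ W := by
    have hU'orth : B.orthogonal U' = U' :=
      hQ.orthogonal_eq_self' hnd U' hU' (by rw [hU'k, hV])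
    have hX : (U' ⊓ B.orthogonal W : Submodule K V) = B.orthogonal (U' ⊔ W) := by
      ext z
      rw [Submodule.mem_inf, LinearMap.BilinForm.mem_orthogonal_iff,
        LinearMap.BilinForm.mem_orthogonal_iff]
      constructor
      · rintro ⟨hz1, hz2⟩ n hn
        obtain ⟨a, ha, b, hb, rfl⟩ := Submodule.mem_sup.mp hn
        rw [map_add, LinearMap.add_apply, hz2 b hb, add_zero]
        rw [← hU'orth, LinearMap.BilinForm.mem_orthogonal_iff] at hz1
        exact hz1 a ha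
      · intro h
        constructor
        · rw [← hU'orth, LinearMap.BilinForm.mem_orthogonal_iff]
          intro n hn
          exact h n (Submodule.mem_sup_left hn)
        · intro n hn
          exact h n (Submodule.mem_sup_right hn)
    have h1 : finrank K (U' ⊓ B.orthogonal W : Submodule K V)
        = finrank K V - finrank K (U' ⊔ W : Submodule K V) := by
      rw [hX, LinearMap.BilinForm.finrank_orthogonal hN]
    have h2 := Submodule.finrank_sup_add_finrank_inf_eq U' W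
    have h3 : finrank K (U' ⊔ W : Submodule K V) ≤ finrank K V := Submodule.finrank_le _
    obtain ⟨u₁, hu₁, hu₁'⟩ := exists_mem_not_mem_of_finrank_lt
      (U' ⊓ B.orthogonal W : Submodule K V) (U' ⊓ W : Submodule K V) (by omega)
    refine ⟨u₁, hu₁.1, ?_, ?_⟩
    · intro w hw
      exact hu₁.2 w hw
    · intro h
      exact hu₁' ⟨hu₁.1, h⟩
  have hQu₁ : Q u₁ = 0 := hU' u₁ hu₁U'
  have hu₁u₁ : B u₁ u₁ = 0 := by rw [hQ.self, hQu₁, mul_zero]
  have hu₁W' : ∀ w ∈ W, B u₁ w = 0 := fun w hw => by rw [hQ.symm]; exact hu₁W w hw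
  -- Step 2: the hyperbolic partner `u₂`
  obtain ⟨y, hyW, hy1⟩ := hQ.exists_dual_vec hnd W hu₁nW
  set u₂ : V := y - Q y • u₁ with hu₂
  have hQu₂ : Q u₂ = 0 := by
    rw [hu₂, hQ.sub, hQ.smul, hQu₁, map_smul, smul_eq_mul, hQ.symm y u₁, hy1]
    ring
  have hu₁u₂ : B u₁ u₂ = 1 := by
    rw [hu₂, map_sub, map_smul, hu₁u₁, hy1, smul_zero, sub_zero]
  have hu₂u₁ : B u₂ u₁ = 1 := by rw [hQ.symm]; exact hu₁u₂
  have hu₂u₂ : B u₂ u₂ = 0 := by rw [hQ.self, hQu₂, mul_zero]
  have hu₂W : ∀ w ∈ W, B w u₂ = 0 := by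
    intro w hw
    rw [hu₂, map_sub, map_smul, hyW w hw, hu₁W w hw, smul_zero, sub_zero]
  have hu₂W' : ∀ w ∈ W, B u₂ w = 0 := fun w hw => by rw [hQ.symm]; exact hu₂W w hw
  have hu₂nW : u₂ ∉ W := by
    intro h
    have := hu₁W u₂ h
    rw [hu₂u₁] at this
    exact one_ne_zero this
  -- Step 3: the plane `P` and the decomposition of `W⊥`
  set P : Submodule K V := Submodule.span K {u₁, u₂} with hP
  have hu₁P : u₁ ∈ P := Submodule.subset_span (by simp)
  have hu₂P : u₂ ∈ P := Submodule.subset_span (by simp)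
  have hWP : W ⊓ P = ⊥ := by
    rw [eq_bot_iff]
    rintro x ⟨hxW, hxP⟩
    obtain ⟨s, t, rfl⟩ := Submodule.mem_span_pair.1 hxP
    have h1 := hu₂W' _ hxW
    rw [map_add, map_smul, map_smul, hu₂u₁, hu₂u₂, smul_eq_mul, smul_eq_mul, mul_one, mul_zero,
      add_zero] at h1
    have h2 := hu₁W' _ hxW
    rw [map_add, map_smul, map_smul, hu₁u₁, hu₁u₂, smul_eq_mul, smul_eq_mul, mul_one, mul_zero,
      zero_add] at h2
    rw [h1, h2, zero_smul, zero_smul, add_zero]
    exact Submodule.zero_mem _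
  have hfP : finrank K P = 2 := hQ.finrank_span_pair hu₁u₁ hu₁u₂
  have hfWP : finrank K (W ⊔ P : Submodule K V) = k + 1 := by
    have := Submodule.finrank_sup_add_finrank_inf_eq W P
    rw [hWP, finrank_bot, hfP] at this
    omega
  have hPW : ∀ p ∈ P, ∀ w ∈ W, B p w = 0 := by
    intro p hp w hw
    obtain ⟨s, t, rfl⟩ := Submodule.mem_span_pair.1 hp
    rw [map_add, map_smul, map_smul, LinearMap.add_apply, LinearMap.smul_apply,
      LinearMap.smul_apply, hu₁W' w hw, hu₂W' w hw, smul_zero, smul_zero, add_zero]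
  have hWPorth : B.orthogonal (W ⊔ P) = W := by
    symm
    apply Submodule.eq_of_le_of_finrank_eq
    · intro w hw
      rw [LinearMap.BilinForm.mem_orthogonal_iff]
      intro n hn
      obtain ⟨w', hw', p, hp, rfl⟩ := Submodule.mem_sup.mp hn
      rw [map_add, LinearMap.add_apply, hBW hw' hw, hPW p hp w hw, add_zero]
    · rw [LinearMap.BilinForm.finrank_orthogonal hN, hfWP, hV]
      omega
  set U₁ : Submodule K V := W ⊔ Submodule.span K {u₁} with hU₁
  set U₂ : Submodule K V := W ⊔ Submodule.span K {u₂} with hU₂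
  have key3 : ∀ z, (∀ w ∈ W, B w z = 0) → Q z = 0 → z ∈ U₁ ∨ z ∈ U₂ := by
    intro z hzW hQz
    set α := B z u₂ with hα
    set β := B z u₁ with hβ
    set z' : V := z - α • u₁ - β • u₂ with hz'
    have hz'W : z' ∈ W := by
      rw [← hWPorth, LinearMap.BilinForm.mem_orthogonal_iff]
      intro n hn
      obtain ⟨w, hw, p, hp, rfl⟩ := Submodule.mem_sup.mp hn
      have h1 : B w z' = 0 := by
        rw [hz', map_sub, map_sub, map_smul, map_smul, hzW w hw, hu₁W w hw, hu₂W w hw]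
        simp
      have h2 : B p z' = 0 := by
        obtain ⟨s, t, rfl⟩ := Submodule.mem_span_pair.1 hp
        have e1 : B u₁ z' = 0 := by
          rw [hz', map_sub, map_sub, map_smul, map_smul, hu₁u₁, hu₁u₂, hQ.symm u₁ z, ← hβ]
          simp
        have e2 : B u₂ z' = 0 := by
          rw [hz', map_sub, map_sub, map_smul, map_smul, hu₂u₁, hu₂u₂, hQ.symm u₂ z, ← hα]
          simp
        rw [map_add, map_smul, map_smul, LinearMap.add_apply, LinearMap.smul_apply,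
          LinearMap.smul_apply, e1, e2, smul_zero, smul_zero, add_zero]
      show B (w + p) z' = 0
      rw [map_add, LinearMap.add_apply, h1, h2, add_zero]
    have hzdec : z = z' + α • u₁ + β • u₂ := by rw [hz']; abel
    have hQz' : Q z = α * β := by
      rw [hzdec, hQ.polar, hQ.polar, hQ.smul, hQ.smul, hW z' hz'W, hQu₁, hQu₂]
      simp only [map_add, map_smul, LinearMap.add_apply, LinearMap.smul_apply, smul_eq_mul,
        hu₁W z' hz'W, hu₂W z' hz'W, hu₁u₂]
      ring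
    rw [hQz] at hQz'
    rcases mul_eq_zero.1 hQz'.symm with h0 | h0
    · right
      rw [hU₂, mem_sup_span_singleton]
      refine ⟨z', hz'W, β, ?_⟩
      rw [hzdec, h0, zero_smul, add_zero]
    · left
      rw [hU₁, mem_sup_span_singleton]
      refine ⟨z', hz'W, α, ?_⟩
      rw [hzdec, h0, zero_smul, add_zero]
  -- Step 4: the two maximal totally singular subspaces
  have hWU₁ : W ≤ U₁ := le_sup_left
  have hWU₂ : W ≤ U₂ := le_sup_left
  have hu₁U₁ : u₁ ∈ U₁ := Submodule.mem_sup_right (Submodule.mem_span_singleton_self u₁)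
  have hu₂U₂ : u₂ ∈ U₂ := Submodule.mem_sup_right (Submodule.mem_span_singleton_self u₂)
  have hU₁ts : ∀ x ∈ U₁, Q x = 0 := by
    intro x hx
    rw [hU₁, mem_sup_span_singleton] at hx
    obtain ⟨w, hw, s, rfl⟩ := hx
    rw [hQ.polar, hQ.smul, hW w hw, hQu₁, map_smul, hu₁W w hw]
    simp
  have hU₂ts : ∀ x ∈ U₂, Q x = 0 := by
    intro x hx
    rw [hU₂, mem_sup_span_singleton] at hx
    obtain ⟨w, hw, s, rfl⟩ := hx
    rw [hQ.polar, hQ.smul, hW w hw, hQu₂, map_smul, hu₂W w hw]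
    simp
  have hfU₁ : finrank K U₁ = k := by
    rw [hU₁, finrank_sup_span_singleton W hu₁nW, hWk]
  have hfU₂ : finrank K U₂ = k := by
    rw [hU₂, finrank_sup_span_singleton W hu₂nW, hWk]
  have hu₁nU₂ : u₁ ∉ U₂ := by
    intro h
    rw [hU₂, mem_sup_span_singleton] at h
    obtain ⟨w, hw, t, ht⟩ := h
    have h1 : B u₁ u₁ = t := by
      have e : B u₁ u₁ = B u₁ (w + t • u₂) := by rw [← ht]
      rw [e, map_add, map_smul, hu₁W' w hw, hu₁u₂, smul_eq_mul, mul_one, zero_add]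
    rw [hu₁u₁] at h1
    rw [← h1, zero_smul, add_zero] at ht
    exact hu₁nW (ht ▸ hw)
  have hu₂nU₁ : u₂ ∉ U₁ := by
    intro h
    rw [hU₁, mem_sup_span_singleton] at h
    obtain ⟨w, hw, t, ht⟩ := h
    have h1 : B u₂ u₂ = t := by
      have e : B u₂ u₂ = B u₂ (w + t • u₁) := by rw [← ht]
      rw [e, map_add, map_smul, hu₂W' w hw, hu₂u₁, smul_eq_mul, mul_one, zero_add]
    rw [hu₂u₂] at h1
    rw [← h1, zero_smul, add_zero] at ht
    exact hu₂nW (ht ▸ hw)
  have hfU₁₂ : finrank K (U₁ ⊓ U₂ : Submodule K V) + 1 = k := by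
    have h1 : finrank K W ≤ finrank K (U₁ ⊓ U₂ : Submodule K V) :=
      Submodule.finrank_mono (le_inf hWU₁ hWU₂)
    have h2 : (U₁ ⊓ U₂ : Submodule K V) < U₁ := by
      rw [lt_iff_le_and_ne]
      refine ⟨inf_le_left, ?_⟩
      intro heq
      apply hu₁nU₂
      have : u₁ ∈ (U₁ ⊓ U₂ : Submodule K V) := by rw [heq]; exact hu₁U₁
      exact this.2
    have h3 := Submodule.finrank_lt_finrank_of_lt h2
    omega
  have hdimU₁ : 2 * finrank K U₁ = finrank K V := by rw [hfU₁, hV]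
  -- shared data for the witnesses
  have hfW2 : 2 ≤ finrank K W := by omega
  obtain ⟨w₀, hw₀W, hw₀0'⟩ := exists_mem_not_mem_of_finrank_lt W ⊥ (by rw [finrank_bot]; omega)
  have hw₀0 : w₀ ≠ 0 := fun h => hw₀0' (by rw [h]; exact Submodule.zero_mem _)
  have hw₀P : w₀ ∉ P := by
    intro h
    have : w₀ ∈ W ⊓ P := ⟨hw₀W, h⟩
    rw [hWP, Submodule.mem_bot] at this
    exact hw₀0 this
  obtain ⟨y₂, hy₂P, hy₂w⟩ := hQ.exists_dual_vec hnd P hw₀P
  set a : V := y₂ - Q y₂ • w₀ with ha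
  have hQw₀ : Q w₀ = 0 := hW w₀ hw₀W
  have hw₀w₀ : B w₀ w₀ = 0 := by rw [hQ.self, hQw₀, mul_zero]
  have hQa : Q a = 0 := by
    rw [ha, hQ.sub, hQ.smul, hQw₀, map_smul, smul_eq_mul, hQ.symm y₂ w₀, hy₂w]
    ring
  have hw₀a : B w₀ a = 1 := by
    rw [ha, map_sub, map_smul, hw₀w₀, hy₂w, smul_zero, sub_zero]
  have hu₁a : B u₁ a = 0 := by
    rw [ha, map_sub, map_smul, hy₂P u₁ hu₁P, hu₁W' w₀ hw₀W, smul_zero, sub_zero]
  have hu₂a : B u₂ a = 0 := by
    rw [ha, map_sub, map_smul, hy₂P u₂ hu₂P, hu₂W' w₀ hw₀W, smul_zero, sub_zero]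
  have hau₁ : B a u₁ = 0 := by rw [hQ.symm]; exact hu₁a
  have hau₂ : B a u₂ = 0 := by rw [hQ.symm]; exact hu₂a
  obtain ⟨c₀, hc₀W, hc₀0, hc₀a'⟩ := exists_ne_zero_mem_ker W (B.flip a) hfW2
  have hc₀a : B c₀ a = 0 := hc₀a'
  have hc₀S : c₀ ∉ (Submodule.span K {a} ⊔ P : Submodule K V) := by
    intro h
    obtain ⟨q, hq, p, hp, hqp⟩ := Submodule.mem_sup.mp h
    obtain ⟨l, rfl⟩ := Submodule.mem_span_singleton.mp hq
    have h1 : B w₀ c₀ = 0 := hBW hw₀W hc₀W
    rw [← hqp, map_add, map_smul, hw₀a, smul_eq_mul, mul_one, hQ.symm w₀ p, hPW p hp w₀ hw₀W,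
      add_zero] at h1
    rw [h1, zero_smul, zero_add] at hqp
    have : c₀ ∈ W ⊓ P := ⟨hc₀W, hqp ▸ hp⟩
    rw [hWP, Submodule.mem_bot] at this
    exact hc₀0 this
  obtain ⟨y₃, hy₃S, hy₃c⟩ := hQ.exists_dual_vec hnd _ hc₀S
  have hay₃ : B a y₃ = 0 :=
    hy₃S a (Submodule.mem_sup_left (Submodule.mem_span_singleton_self a))
  have hu₁y₃ : B u₁ y₃ = 0 := hy₃S u₁ (Submodule.mem_sup_right hu₁P)
  have hu₂y₃ : B u₂ y₃ = 0 := hy₃S u₂ (Submodule.mem_sup_right hu₂P)
  set c₀' : V := y₃ - Q y₃ • c₀ with hc₀'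
  have hQc₀ : Q c₀ = 0 := hW c₀ hc₀W
  have hc₀c₀ : B c₀ c₀ = 0 := by rw [hQ.self, hQc₀, mul_zero]
  have hQc₀' : Q c₀' = 0 := by
    rw [hc₀', hQ.sub, hQ.smul, hQc₀, map_smul, smul_eq_mul, hQ.symm y₃ c₀, hy₃c]
    ring
  have hc₀c₀' : B c₀ c₀' = 1 := by
    rw [hc₀', map_sub, map_smul, hc₀c₀, hy₃c, smul_zero, sub_zero]
  have hc₀u₁ : B c₀ u₁ = 0 := hu₁W c₀ hc₀W
  have hc₀u₂ : B c₀ u₂ = 0 := hu₂W c₀ hc₀W
  have hc₀'a : B c₀' a = 0 := by
    rw [hQ.symm, hc₀', map_sub, map_smul, hay₃, hQ.symm a c₀, hc₀a, smul_zero, sub_zero]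
  have hc₀'u₁ : B c₀' u₁ = 0 := by
    rw [hQ.symm, hc₀', map_sub, map_smul, hu₁y₃, hu₁W' c₀ hc₀W, smul_zero, sub_zero]
  have hc₀'u₂ : B c₀' u₂ = 0 := by
    rw [hQ.symm, hc₀', map_sub, map_smul, hu₂y₃, hu₂W' c₀ hc₀W, smul_zero, sub_zero]
  have hc1 : siegel B Q a u₁ ∈ ⁅OG Q, OG Q⁆ :=
    hQ.siegel_mem_commutator hQa hQu₁ hau₁ hQc₀ hQc₀' hc₀c₀' hc₀a hc₀u₁ hc₀'a hc₀'u₁
  have hc2 : siegel B Q a u₂ ∈ ⁅OG Q, OG Q⁆ :=
    hQ.siegel_mem_commutator hQa hQu₂ hau₂ hQc₀ hQc₀' hc₀c₀' hc₀a hc₀u₂ hc₀'a hc₀'u₂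
  have hw₀u₁ : B w₀ u₁ = 0 := hu₁W w₀ hw₀W
  have hw₀u₂ : B w₀ u₂ = 0 := hu₂W w₀ hw₀W
  refine ⟨stabSub U₁ ⊓ ⁅OG Q, OG Q⁆, ?_, ?_⟩
  · rw [lt_iff_le_and_ne]
    constructor
    · rintro g ⟨hgW, hgΩ⟩
      refine ⟨?_, hgΩ⟩
      have hgO : g ∈ OG Q := commutator_le_OG hgΩ
      have hgW1 : ∀ w ∈ W, g w ∈ W := fun w hw => (hgW w).1 hw
      have hgW2 : ∀ w ∈ W, g⁻¹ w ∈ W := fun w hw => (((stabSub W).inv_mem hgW) w).1 hw
      have hgu₁W : ∀ w ∈ W, B w (g u₁) = 0 := by
        intro w hw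
        have hx : g (g⁻¹ w) = w := by
          rw [← LinearEquiv.mul_apply, mul_inv_cancel]; rfl
        rw [← hx, hQ.B_map hgO]
        exact hu₁W _ (hgW2 w hw)
      have hQgu₁ : Q (g u₁) = 0 := by rw [hgO u₁, hQu₁]
      rcases key3 (g u₁) hgu₁W hQgu₁ with h | h
      · apply mem_stabSub_of_map_eq
        apply map_eq_of_map_le _ rfl
        intro x hx
        rw [hU₁, mem_sup_span_singleton] at hx
        obtain ⟨w, hw, s, rfl⟩ := hx
        rw [map_add, map_smul]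
        exact U₁.add_mem (hWU₁ (hgW1 w hw)) (U₁.smul_mem _ h)
      · exfalso
        have hmap : U₁.map (g : V →ₗ[K] V) = U₂ := by
          apply map_eq_of_map_le _ (by rw [hfU₁, hfU₂])
          intro x hx
          rw [hU₁, mem_sup_span_singleton] at hx
          obtain ⟨w, hw, s, rfl⟩ := hx
          rw [map_add, map_smul]
          exact U₂.add_mem (hWU₂ (hgW1 w hw)) (U₂.smul_mem _ h)
        have hpar := hQ.par_eq hnd U₁ hU₁ts hdimU₁ hgO
        rw [hmap, hQ.par_eq_zero_of_mem hnd hF hgΩ, hfU₁] at hpar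
        have h1 : k - finrank K (U₁ ⊓ U₂ : Submodule K V) = 1 := by omega
        rw [h1] at hpar
        revert hpar
        decide
    · intro heq
      have hc : siegel B Q a u₁ ∈ stabSub U₁ ⊓ ⁅OG Q, OG Q⁆ := by
        refine ⟨?_, hc1⟩
        apply mem_stabSub_of_maps
        · intro v hv
          rw [hQ.siegel_apply hQa hQu₁ hau₁, hQ.B_eq_zero_of_singular U₁ hU₁ts hv hu₁U₁,
            zero_smul, sub_zero]
          exact U₁.add_mem hv (U₁.smul_mem _ hu₁U₁)
        · intro v hv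
          rw [hQ.siegel_inv hQa hQu₁ hau₁, hQ.siegel_apply hQu₁ hQa hu₁a,
            hQ.B_eq_zero_of_singular U₁ hU₁ts hv hu₁U₁, zero_smul, add_zero]
          exact U₁.sub_mem hv (U₁.smul_mem _ hu₁U₁)
      rw [← heq] at hc
      have h1 := (hc.1 w₀).1 hw₀W
      rw [hQ.siegel_apply hQa hQu₁ hau₁, hw₀a, hw₀u₁, one_smul, zero_smul, sub_zero] at h1
      apply hu₁nW
      have := W.sub_mem h1 hw₀W
      rwa [add_sub_cancel_left] at this
  · rw [lt_iff_le_and_ne]
    refine ⟨inf_le_right, ?_⟩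
    intro heq
    rw [← heq] at hc2
    have h1 := (hc2.1 w₀).1 (hWU₁ hw₀W)
    rw [hQ.siegel_apply hQa hQu₂ hau₂, hw₀a, hw₀u₂, one_smul, zero_smul, sub_zero] at h1
    apply hu₂nU₁
    have := U₁.sub_mem h1 (hWU₁ hw₀W)
    rwa [add_sub_cancel_left] at this

end QuadData

end Cfsg.Agent.Lib.Helper94
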