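/-
Helper94: a four-dimensional non-degenerate subspace containing a totally singular plane is the
orthogonal sum of two hyperbolic planes.
-/
import Mathlib
import Cfsg.Agent.Lib.Helper94.OrthSingular2

set_option autoImplicit false
set_option linter.unusedSimpArgs false
set_option linter.unusedSectionVars false
set_option linter.unusedVariables false

namespace Cfsg.Agent.Lib.Helper94

open LinearMap (BilinForm)
open Module

variable {K V : Type*} [Field K] [AddCommGroup V] [Module K V]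

namespace QuadData

variable {B : BilinForm K V} {Q : V → K}

/-- a nonzero singular vector of a non-degenerate subspace has a hyperbolic partner in it -/
lemma exists_hyp_partner_in (hQ : QuadData B Q) (W : Submodule K V)
    (hW : ∀ w ∈ W, w ≠ 0 → ∃ x ∈ W, B w x ≠ 0) {e : V} (heW : e ∈ W) (he0 : e ≠ 0)
    (he : Q e = 0) : ∃ f ∈ W, Q f = 0 ∧ B e f = 1 := by
  have hee : B e e = 0 := by rw [hQ.self, he, mul_zero]
  obtain ⟨x, hxW, hx⟩ := hW e heW he0
  obtain ⟨x'', hx''⟩ : ∃ x'', x'' = (B e x)⁻¹ • x := ⟨_, rfl⟩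
  have hx''W : x'' ∈ W := by rw [hx'']; exact W.smul_mem _ hxW
  have h4 : B e x'' = 1 := by
    simp only [hx'', map_smul, smul_eq_mul]
    exact inv_mul_cancel₀ hx
  refine ⟨x'' - (Q x'') • e, W.sub_mem hx''W (W.smul_mem _ heW), ?_, ?_⟩
  · rw [hQ.sub, hQ.smul, he, map_smul, smul_eq_mul, hQ.symm x'' e, h4]
    ring
  · rw [map_sub, map_smul, h4, hee, smul_eq_mul, mul_zero, sub_zero]

/-- a singular vector of a non-degenerate subspace orthogonal to a hyperbolic pair `e, f` of the
subspace has a singular partner in it orthogonal to `e, f` -/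
lemma exists_partner_in (hQ : QuadData B Q) (W : Submodule K V)
    (hW : ∀ w ∈ W, w ≠ 0 → ∃ x ∈ W, B w x ≠ 0) {e f y : V} (heW : e ∈ W) (hfW : f ∈ W)
    (hyW : y ∈ W)
    (he : Q e = 0) (hf : Q f = 0) (hef : B e f = 1) (hy0 : y ≠ 0) (hy : Q y = 0)
    (hye : B y e = 0) (hyf : B y f = 0) :
    ∃ y' ∈ W, Q y' = 0 ∧ B y y' = 1 ∧ B y' e = 0 ∧ B y' f = 0 := by
  have hee : B e e = 0 := by rw [hQ.self, he, mul_zero]
  have hff : B f f = 0 := by rw [hQ.self, hf, mul_zero]
  have hyy : B y y = 0 := by rw [hQ.self, hy, mul_zero]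
  have hfe : B f e = 1 := by rw [hQ.symm, hef]
  obtain ⟨x, hxW, hx⟩ := hW y hyW hy0
  obtain ⟨x', hx'⟩ : ∃ x', x' = x - (B x f) • e - (B x e) • f := ⟨_, rfl⟩
  have hx'W : x' ∈ W := by
    rw [hx']; exact W.sub_mem (W.sub_mem hxW (W.smul_mem _ heW)) (W.smul_mem _ hfW)
  have h1 : B y x' = B y x := by
    simp only [hx', map_sub, map_smul, hye, hyf, smul_eq_mul, mul_zero, sub_zero]
  have h2 : B x' e = 0 := by
    simp only [hx', map_sub, map_smul, LinearMap.sub_apply, LinearMap.smul_apply, hee, hfe,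
      smul_eq_mul, mul_zero, mul_one, sub_zero, sub_self]
  have h3 : B x' f = 0 := by
    simp only [hx', map_sub, map_smul, LinearMap.sub_apply, LinearMap.smul_apply, hff, hef,
      smul_eq_mul, mul_zero, mul_one, sub_zero, sub_self]
  obtain ⟨x'', hx''⟩ : ∃ x'', x'' = (B y x)⁻¹ • x' := ⟨_, rfl⟩
  have hx''W : x'' ∈ W := by rw [hx'']; exact W.smul_mem _ hx'W
  have h4 : B y x'' = 1 := by
    simp only [hx'', map_smul, smul_eq_mul, h1]
    exact inv_mul_cancel₀ hx
  have h5 : B x'' e = 0 := by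
    simp only [hx'', map_smul, LinearMap.smul_apply, h2, smul_eq_mul, mul_zero]
  have h6 : B x'' f = 0 := by
    simp only [hx'', map_smul, LinearMap.smul_apply, h3, smul_eq_mul, mul_zero]
  refine ⟨x'' - (Q x'') • y, W.sub_mem hx''W (W.smul_mem _ hyW), ?_, ?_, ?_, ?_⟩
  · rw [hQ.sub, hQ.smul, hy, map_smul, smul_eq_mul, hQ.symm x'' y, h4]
    ring
  · rw [map_sub, map_smul, h4, hyy, smul_eq_mul, mul_zero, sub_zero]
  · rw [map_sub, map_smul, LinearMap.sub_apply, LinearMap.smul_apply, h5, hye, smul_eq_mul,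
      mul_zero, sub_zero]
  · rw [map_sub, map_smul, LinearMap.sub_apply, LinearMap.smul_apply, h6, hyf, smul_eq_mul,
      mul_zero, sub_zero]

/-- a four-dimensional non-degenerate subspace containing a totally singular plane is the
orthogonal sum of two hyperbolic planes -/
theorem exists_hyp_basis4 [FiniteDimensional K V] (hQ : QuadData B Q) (W U : Submodule K V)
    (hdim : finrank K W = 4) (hW : ∀ w ∈ W, w ≠ 0 → ∃ x ∈ W, B w x ≠ 0)
    (hUW : U ≤ W) (hU : ∀ u ∈ U, Q u = 0) (hUd : finrank K U = 2) :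
    ∃ e f e' f' : V, W = Submodule.span K {e, f} ⊔ Submodule.span K {e', f'} ∧
      Q e = 0 ∧ Q f = 0 ∧ Q e' = 0 ∧ Q f' = 0 ∧ B e f = 1 ∧ B e' f' = 1 ∧
      B e e' = 0 ∧ B e f' = 0 ∧ B f e' = 0 ∧ B f f' = 0 := by
  have hUne : U ≠ ⊥ := by
    intro h
    rw [h, finrank_bot] at hUd
    omega
  obtain ⟨e, heU, he0⟩ := Submodule.exists_mem_ne_zero_of_ne_bot hUne
  have he : Q e = 0 := hU e heU
  have heW : e ∈ W := hUW heU
  obtain ⟨e1, he1U, he1⟩ := exists_mem_not_mem_of_finrank_lt U (Submodule.span K {e})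
    (by rw [finrank_span_singleton he0, hUd]; omega)
  obtain ⟨f, hfW, hf, hef⟩ := hQ.exists_hyp_partner_in W hW heW he0 he
  have hee : B e e = 0 := by rw [hQ.self, he, mul_zero]
  have hff : B f f = 0 := by rw [hQ.self, hf, mul_zero]
  have hfe : B f e = 1 := by rw [hQ.symm, hef]
  obtain ⟨y, hy⟩ : ∃ y, y = e1 - (B e1 f) • e := ⟨_, rfl⟩
  have hyU : y ∈ U := by rw [hy]; exact U.sub_mem he1U (U.smul_mem _ heU)
  have hyW : y ∈ W := hUW hyU
  have hQy : Q y = 0 := hU y hyU
  have hy0 : y ≠ 0 := by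
    intro h0
    apply he1
    rw [Submodule.mem_span_singleton]
    refine ⟨B e1 f, ?_⟩
    rw [hy, sub_eq_zero] at h0
    exact h0.symm
  have hye : B y e = 0 := hQ.B_eq_zero_of_singular U hU hyU heU
  have hyf : B y f = 0 := by
    rw [hy, map_sub, map_smul, LinearMap.sub_apply, LinearMap.smul_apply, hef, smul_eq_mul,
      mul_one, sub_self]
  obtain ⟨y', hy'W, hQy', hyy', hy'e, hy'f⟩ :=
    hQ.exists_partner_in W hW heW hfW hyW he hf hef hy0 hQy hye hyf
  have hyy : B y y = 0 := by rw [hQ.self, hQy, mul_zero]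
  refine ⟨e, f, y, y', ?_, he, hf, hQy, hQy', hef, hyy', by rw [hQ.symm, hye],
    by rw [hQ.symm, hy'e], by rw [hQ.symm, hyf], by rw [hQ.symm, hy'f]⟩
  have hle : Submodule.span K {e, f} ⊔ Submodule.span K {y, y'} ≤ W := by
    apply sup_le
    · rw [Submodule.span_le]
      intro v hv
      rcases hv with rfl | rfl
      · exact heW
      · exact hfW
    · rw [Submodule.span_le]
      intro v hv
      rcases hv with rfl | rfl
      · exact hyW
      · exact hy'W
  have hinf : Submodule.span K {e, f} ⊓ Submodule.span K {y, y'} = ⊥ := by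
    rw [Submodule.eq_bot_iff]
    intro x hx
    obtain ⟨hx1, hx2⟩ := hx
    rw [SetLike.mem_coe, Submodule.mem_span_pair] at hx1 hx2
    obtain ⟨α, β, rfl⟩ := hx1
    obtain ⟨γ, δ, h3⟩ := hx2
    have h4 : B (α • e + β • f) e = β := by
      simp only [map_add, map_smul, LinearMap.add_apply, LinearMap.smul_apply, hee, hfe,
        smul_eq_mul, mul_zero, mul_one, zero_add]
    have h5 : B (α • e + β • f) f = α := by
      simp only [map_add, map_smul, LinearMap.add_apply, LinearMap.smul_apply, hef, hff,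
        smul_eq_mul, mul_zero, mul_one, add_zero]
    rw [← h3] at h4 h5
    simp only [map_add, map_smul, LinearMap.add_apply, LinearMap.smul_apply, hye, hy'e, hyf,
      hy'f, smul_eq_mul, mul_zero, add_zero] at h4 h5
    rw [← h4, ← h5, zero_smul, zero_smul, add_zero]
  have hfr := Submodule.finrank_sup_add_finrank_inf_eq (Submodule.span K {e, f})
    (Submodule.span K {y, y'})
  rw [hinf, finrank_bot, add_zero, hQ.finrank_span_pair hee hef,
    hQ.finrank_span_pair hyy hyy'] at hfr
  exact (Submodule.eq_of_le_of_finrank_eq hle (by rw [hfr, hdim])).symm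

end QuadData

end Cfsg.Agent.Lib.Helper94
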