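/-
Helper94: over the fields with two or three elements, the stabiliser of a hyperbolic plane in the
commutator subgroup of the isometry group of a quadratic form is not maximal.
-/
import Mathlib
import Cfsg.Agent.Lib.Helper94.OrthBasic

set_option autoImplicit false
set_option linter.unusedSimpArgs false
set_option linter.unusedSectionVars false
set_option linter.unusedVariables false

namespace Cfsg.Agent.Lib.Helper94

open LinearMap (BilinForm)
open scoped commutatorElement

variable {K V : Type*} [Field K] [AddCommGroup V] [Module K V]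

/-- a nonzero vector orthogonal to a given finite family, when the dimension is large -/
lemma exists_ne_zero_orth [FiniteDimensional K V] (B : BilinForm K V) {k : ℕ} (s : Fin k → V)
    (hk : k < Module.finrank K V) : ∃ x : V, x ≠ 0 ∧ ∀ i, B x (s i) = 0 := by
  let f : V →ₗ[K] (Fin k → K) := LinearMap.pi (fun i => B.flip (s i))
  have hf : LinearMap.ker f ≠ ⊥ :=
    LinearMap.ker_ne_bot_of_finrank_lt (by rw [Module.finrank_fin_fun]; exact hk)
  obtain ⟨x, hx, hx0⟩ := Submodule.exists_mem_ne_zero_of_ne_bot hf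
  refine ⟨x, hx0, fun i => ?_⟩
  have := congrFun (LinearMap.mem_ker.1 hx) i
  simpa [f] using this

namespace QuadData

variable {B : BilinForm K V} {Q : V → K}

/-- a singular vector orthogonal to `e, f` has a singular partner orthogonal to `e, f` -/
lemma exists_partner (hQ : QuadData B Q) (hnd : ∀ x, (∀ y, B x y = 0) → x = 0) {e f y : V}
    (he : Q e = 0) (hf : Q f = 0) (hef : B e f = 1) (hy0 : y ≠ 0) (hy : Q y = 0)
    (hye : B y e = 0) (hyf : B y f = 0) :
    ∃ y', Q y' = 0 ∧ B y y' = 1 ∧ B y' e = 0 ∧ B y' f = 0 := by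
  have hee : B e e = 0 := by rw [hQ.self, he, mul_zero]
  have hff : B f f = 0 := by rw [hQ.self, hf, mul_zero]
  have hyy : B y y = 0 := by rw [hQ.self, hy, mul_zero]
  have hfe : B f e = 1 := by rw [hQ.symm, hef]
  have hey : B e y = 0 := by rw [hQ.symm, hye]
  have hfy : B f y = 0 := by rw [hQ.symm, hyf]
  obtain ⟨x, hx⟩ : ∃ x, B y x ≠ 0 := by
    by_contra hcon
    push Not at hcon
    exact hy0 (hnd y hcon)
  obtain ⟨x', hx'⟩ : ∃ x', x' = x - (B x f) • e - (B x e) • f := ⟨_, rfl⟩
  have h1 : B y x' = B y x := by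
    simp only [hx', map_sub, map_smul, hye, hyf, smul_eq_mul, mul_zero, sub_zero]
  have h2 : B x' e = 0 := by
    simp only [hx', map_sub, map_smul, LinearMap.sub_apply, LinearMap.smul_apply, hee, hfe,
      smul_eq_mul, mul_zero, mul_one, sub_zero, sub_self]
  have h3 : B x' f = 0 := by
    simp only [hx', map_sub, map_smul, LinearMap.sub_apply, LinearMap.smul_apply, hff, hef,
      smul_eq_mul, mul_zero, mul_one, sub_zero, sub_self]
  obtain ⟨x'', hx''⟩ : ∃ x'', x'' = (B y x)⁻¹ • x' := ⟨_, rfl⟩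
  have h4 : B y x'' = 1 := by
    simp only [hx'', map_smul, smul_eq_mul, h1]
    exact inv_mul_cancel₀ hx
  have h5 : B x'' e = 0 := by
    simp only [hx'', map_smul, LinearMap.smul_apply, h2, smul_eq_mul, mul_zero]
  have h6 : B x'' f = 0 := by
    simp only [hx'', map_smul, LinearMap.smul_apply, h3, smul_eq_mul, mul_zero]
  refine ⟨x'' - (Q x'') • y, ?_, ?_, ?_, ?_⟩
  · rw [hQ.sub, hQ.smul, hy, map_smul, smul_eq_mul, hQ.symm x'' y, h4]
    ring
  · rw [map_sub, map_smul, h4, hyy, smul_eq_mul, mul_zero, sub_zero]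
  · rw [map_sub, map_smul, LinearMap.sub_apply, LinearMap.smul_apply, h5, hye, smul_eq_mul,
      mul_zero, sub_zero]
  · rw [map_sub, map_smul, LinearMap.sub_apply, LinearMap.smul_apply, h6, hyf, smul_eq_mul,
      mul_zero, sub_zero]

section SmallField

variable [Fintype K]

lemma three_eq_zero (hK : Fintype.card K = 3) : (3 : K) = 0 := by
  have := Nat.cast_card_eq_zero K
  rw [hK] at this
  exact_mod_cast this

lemma two_eq_zero (hK : Fintype.card K = 2) : (2 : K) = 0 := by
  have := Nat.cast_card_eq_zero K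
  rw [hK] at this
  exact_mod_cast this

lemma eq_of_card_three (hK : Fintype.card K = 3) (c : K) : c = 0 ∨ c = 1 ∨ c = -1 := by
  by_cases hc : c = 0
  · left; exact hc
  right
  have h1 := FiniteField.pow_card_sub_one_eq_one c hc
  rw [hK] at h1
  have h2 : (c - 1) * (c + 1) = 0 := by
    have : c ^ 2 = 1 := h1
    linear_combination this
  rcases mul_eq_zero.1 h2 with h | h
  · left; exact sub_eq_zero.1 h
  · right; exact eq_neg_of_add_eq_zero_left h

lemma eq_of_card_two (hK : Fintype.card K = 2) (c : K) : c = 0 ∨ c = 1 := by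
  by_cases hc : c = 0
  · left; exact hc
  right
  have h1 := FiniteField.pow_card_sub_one_eq_one c hc
  rw [hK] at h1
  simpa using h1

/-- a nonzero singular vector orthogonal to `e, f` (three elements) -/
lemma exists_singular3 [FiniteDimensional K V] (hQ : QuadData B Q) (hK : Fintype.card K = 3)
    (e f : V) (hdim : 5 ≤ Module.finrank K V) :
    ∃ y, y ≠ 0 ∧ Q y = 0 ∧ B y e = 0 ∧ B y f = 0 := by
  by_contra hcon
  push Not at hcon
  have h3 := three_eq_zero hK
  have h2ne : (2 : K) ≠ 0 := by
    intro h2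
    have : (1 : K) = 0 := by linear_combination h3 - h2
    exact one_ne_zero this
  obtain ⟨x1, hx10, hx1⟩ := exists_ne_zero_orth B ![e, f] (by omega)
  obtain ⟨x2, hx20, hx2⟩ := exists_ne_zero_orth B ![e, f, x1] (by omega)
  obtain ⟨x3, hx30, hx3⟩ := exists_ne_zero_orth B ![e, f, x1, x2] (by omega)
  have e1 : B x1 e = 0 := hx1 0
  have f1 : B x1 f = 0 := hx1 1
  have e2 : B x2 e = 0 := hx2 0
  have f2 : B x2 f = 0 := hx2 1
  have h21 : B x2 x1 = 0 := hx2 2
  have e3 : B x3 e = 0 := hx3 0
  have f3 : B x3 f = 0 := hx3 1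
  have h31 : B x3 x1 = 0 := hx3 2
  have h32 : B x3 x2 = 0 := hx3 3
  have h12 : B x1 x2 = 0 := by rw [hQ.symm, h21]
  have h13 : B x1 x3 = 0 := by rw [hQ.symm, h31]
  have h23 : B x2 x3 = 0 := by rw [hQ.symm, h32]
  have key : ∀ y, B y e = 0 → B y f = 0 → Q y = 0 → y = 0 := by
    intro y h1 h2 h3
    by_contra h0
    exact hcon y h0 h3 h1 h2
  have q1 : Q x1 ≠ 0 := fun h => hx10 (key x1 e1 f1 h)
  have q2 : Q x2 ≠ 0 := fun h => hx20 (key x2 e2 f2 h)
  have q3 : Q x3 ≠ 0 := fun h => hx30 (key x3 e3 f3 h)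
  have hcombo : ∀ β γ : K, Q x1 + β ^ 2 * Q x2 + γ ^ 2 * Q x3 ≠ 0 := by
    intro β γ hz
    have hy : x1 + (β • x2 + γ • x3) = 0 := by
      apply key
      · simp only [map_add, map_smul, LinearMap.add_apply, LinearMap.smul_apply, e1, e2, e3,
          smul_eq_mul, mul_zero, add_zero]
      · simp only [map_add, map_smul, LinearMap.add_apply, LinearMap.smul_apply, f1, f2, f3,
          smul_eq_mul, mul_zero, add_zero]
      · simp only [hQ.polar, hQ.smul, map_add, map_smul, LinearMap.add_apply,
          LinearMap.smul_apply, h12, h13, h23, smul_eq_mul, mul_zero, add_zero]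
        linear_combination hz
    have hB : B (x1 + (β • x2 + γ • x3)) x1 = 2 * Q x1 := by
      simp only [map_add, map_smul, LinearMap.add_apply, LinearMap.smul_apply, h21, h31,
        smul_eq_mul, mul_zero, add_zero, hQ.self]
    rw [hy, map_zero, LinearMap.zero_apply] at hB
    rcases mul_eq_zero.1 hB.symm with h | h
    · exact h2ne h
    · exact q1 h
  rcases eq_of_card_three hK (Q x1) with h1 | h1 | h1
  · exact q1 h1
  all_goals
    rcases eq_of_card_three hK (Q x2) with h2 | h2 | h2
    · exact q2 h2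
    all_goals
      rcases eq_of_card_three hK (Q x3) with h3' | h3' | h3'
      · exact q3 h3'
  · exact hcombo 1 1 (by rw [h1, h2, h3']; linear_combination h3)
  · exact hcombo 0 1 (by rw [h1, h2, h3']; ring)
  · exact hcombo 1 0 (by rw [h1, h2, h3']; ring)
  · exact hcombo 1 0 (by rw [h1, h2, h3']; ring)
  · exact hcombo 1 0 (by rw [h1, h2, h3']; ring)
  · exact hcombo 1 0 (by rw [h1, h2, h3']; ring)
  · exact hcombo 0 1 (by rw [h1, h2, h3']; ring)
  · exact hcombo 1 1 (by rw [h1, h2, h3']; linear_combination -h3)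

/-- a nonzero singular vector orthogonal to `e, f` (two elements) -/
lemma exists_singular2 [FiniteDimensional K V] (hQ : QuadData B Q)
    (hnd : ∀ x, (∀ y, B x y = 0) → x = 0) (hK : Fintype.card K = 2)
    (e f : V) (hdim : 5 ≤ Module.finrank K V) :
    ∃ y, y ≠ 0 ∧ Q y = 0 ∧ B y e = 0 ∧ B y f = 0 := by
  by_contra hcon
  push Not at hcon
  have h2 := two_eq_zero hK
  obtain ⟨x1, hx10, hx1⟩ := exists_ne_zero_orth B ![e, f] (by omega)
  obtain ⟨w, hw⟩ : ∃ w, B x1 w ≠ 0 := by
    by_contra hc
    push Not at hc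
    exact hx10 (hnd x1 hc)
  obtain ⟨x2, hx20, hx2⟩ := exists_ne_zero_orth B ![e, f, x1, w] (by omega)
  have e1 : B x1 e = 0 := hx1 0
  have f1 : B x1 f = 0 := hx1 1
  have e2 : B x2 e = 0 := hx2 0
  have f2 : B x2 f = 0 := hx2 1
  have h21 : B x2 x1 = 0 := hx2 2
  have h2w : B x2 w = 0 := hx2 3
  have h12 : B x1 x2 = 0 := by rw [hQ.symm, h21]
  have key : ∀ y, B y e = 0 → B y f = 0 → Q y = 0 → y = 0 := by
    intro y h1 h2 h3
    by_contra h0
    exact hcon y h0 h3 h1 h2
  have q1 : Q x1 = 1 := by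
    rcases eq_of_card_two hK (Q x1) with h | h
    · exact absurd (key x1 e1 f1 h) hx10
    · exact h
  have q2 : Q x2 = 1 := by
    rcases eq_of_card_two hK (Q x2) with h | h
    · exact absurd (key x2 e2 f2 h) hx20
    · exact h
  have hy : x1 + x2 = 0 := by
    apply key
    · rw [map_add, LinearMap.add_apply, e1, e2, add_zero]
    · rw [map_add, LinearMap.add_apply, f1, f2, add_zero]
    · rw [hQ.polar, q1, q2, h12]
      linear_combination h2
  have hB : B (x1 + x2) w = B x1 w := by
    rw [map_add, LinearMap.add_apply, h2w, add_zero]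
  rw [hy, map_zero, LinearMap.zero_apply] at hB
  exact hw hB.symm

end SmallField

end QuadData

end Cfsg.Agent.Lib.Helper94
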