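/-
Helper94: over the fields with two or three elements, the stabiliser of a hyperbolic plane in the
commutator subgroup of the isometry group of a quadratic form is not maximal (main theorems).
-/
import Mathlib
import Cfsg.Agent.Lib.Helper94.OrthPlane

set_option autoImplicit false
set_option linter.unusedSimpArgs false
set_option linter.unusedSectionVars false
set_option linter.unusedVariables false

namespace Cfsg.Agent.Lib.Helper94

open LinearMap (BilinForm)
open scoped commutatorElement

variable {K V : Type*} [Field K] [AddCommGroup V] [Module K V]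

namespace QuadData

variable {B : BilinForm K V} {Q : V → K}

lemma inv_apply_of_apply (g : V ≃ₗ[K] V) (v : V) (h : g v = v) : g⁻¹ v = v := by
  calc g⁻¹ v = g⁻¹ (g v) := by rw [h]
    _ = v := by rw [← LinearEquiv.mul_apply, inv_mul_cancel]; rfl

lemma refl_apply_of_orth (hQ : QuadData B Q) (a : V) (ha : Q a ≠ 0) {x : V} (hx : B x a = 0) :
    hQ.refl a ha x = x := by
  rw [refl_apply, hx, mul_zero, zero_smul, sub_zero]

/-- the stabiliser of a hyperbolic plane stabilises the line of `e + f` (small fields) -/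
lemma stab_plane_le (hQ : QuadData B Q) (hsq : ∀ c : K, c ≠ 0 → c * c = 1) {e f : V}
    (he : Q e = 0) (hf : Q f = 0) (hef : B e f = 1) :
    stabSub (Submodule.span K {e, f}) ⊓ ⁅OG Q, OG Q⁆ ≤
      stabSub (Submodule.span K {e + f}) ⊓ ⁅OG Q, OG Q⁆ := by
  have key : ∀ g ∈ stabSub (Submodule.span K {e, f}) ⊓ ⁅OG Q, OG Q⁆,
      ∀ v ∈ Submodule.span K {e + f}, g v ∈ Submodule.span K {e + f} := by
    intro g hg v hv
    obtain ⟨c, rfl⟩ := Submodule.mem_span_singleton.1 hv
    rw [map_smul]
    apply Submodule.smul_mem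
    have hgO : g ∈ OG Q := commutator_le_OG hg.2
    have hu : e + f ∈ Submodule.span K {e, f} :=
      Submodule.add_mem _ (Submodule.subset_span (by simp)) (Submodule.subset_span (by simp))
    have hgu := (hg.1 (e + f)).1 hu
    obtain ⟨α, β, hαβ⟩ := Submodule.mem_span_pair.1 hgu
    have hQu : Q (g (e + f)) = 1 := by
      rw [hgO (e + f), hQ.polar, he, hf, hef]; ring
    rw [← hαβ, hQ.polar, hQ.smul, hQ.smul, he, hf] at hQu
    simp only [map_smul, LinearMap.smul_apply, hef, smul_eq_mul, mul_zero, mul_one, zero_add,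
      add_zero] at hQu
    have hα : α ≠ 0 := by
      rintro rfl
      rw [mul_zero] at hQu
      exact zero_ne_one hQu
    have hβ : α = β := by
      have := hsq α hα
      have h2 : α * α = β * α := by rw [this]; exact hQu.symm
      exact mul_right_cancel₀ hα h2
    rw [← hαβ, ← hβ, ← smul_add]
    exact Submodule.smul_mem _ _ (Submodule.mem_span_singleton_self _)
  intro g hg
  refine ⟨mem_stabSub_of_maps (key g hg) (key g⁻¹ (inv_mem hg)), hg.2⟩


/-- **Non-maximality**, three elements. -/
theorem exists_between_plane3 [Fintype K] [FiniteDimensional K V] (hQ : QuadData B Q)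
    (hnd : ∀ x, (∀ y, B x y = 0) → x = 0) (hK : Fintype.card K = 3)
    (hdim : 5 ≤ Module.finrank K V) {e f : V} (he : Q e = 0) (hf : Q f = 0) (hef : B e f = 1) :
    ∃ K' : Subgroup (V ≃ₗ[K] V),
      stabSub (Submodule.span K {e, f}) ⊓ ⁅OG Q, OG Q⁆ < K' ∧ K' < ⁅OG Q, OG Q⁆ := by
  obtain ⟨y, hy0, hy, hye, hyf⟩ := hQ.exists_singular3 hK e f hdim
  obtain ⟨y', hy', hyy', hy'e, hy'f⟩ := hQ.exists_partner hnd he hf hef hy0 hy hye hyf
  have h3 := three_eq_zero hK
  have h2ne : (2 : K) ≠ 0 := by
    intro h2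
    have : (1 : K) = 0 := by linear_combination h3 - h2
    exact one_ne_zero this
  have hsq : ∀ c : K, c ≠ 0 → c * c = 1 := by
    intro c hc
    rcases eq_of_card_three hK c with h | h | h
    · exact absurd h hc
    · rw [h, one_mul]
    · rw [h]; ring
  have hee : B e e = 0 := by rw [hQ.self, he, mul_zero]
  have hff : B f f = 0 := by rw [hQ.self, hf, mul_zero]
  have hyy : B y y = 0 := by rw [hQ.self, hy, mul_zero]
  have hy'y' : B y' y' = 0 := by rw [hQ.self, hy', mul_zero]
  have hfe : B f e = 1 := by rw [hQ.symm, hef]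
  have hey : B e y = 0 := by rw [hQ.symm, hye]
  have hfy : B f y = 0 := by rw [hQ.symm, hyf]
  have hey' : B e y' = 0 := by rw [hQ.symm, hy'e]
  have hfy' : B f y' = 0 := by rw [hQ.symm, hy'f]
  have hy'y : B y' y = 1 := by rw [hQ.symm, hyy']
  have hWy : ∀ w ∈ Submodule.span K {e, f}, B w y = 0 ∧ B w y' = 0 := by
    intro w hw
    obtain ⟨α, β, rfl⟩ := Submodule.mem_span_pair.1 hw
    simp only [map_add, map_smul, LinearMap.add_apply, LinearMap.smul_apply, hey, hfy, hey', hfy',
      smul_eq_mul, mul_zero, add_zero, and_self]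
  have hUy : ∀ w ∈ Submodule.span K {e + f}, B w y = 0 ∧ B w y' = 0 := by
    intro w hw
    obtain ⟨α, rfl⟩ := Submodule.mem_span_singleton.1 hw
    simp only [map_add, map_smul, LinearMap.add_apply, LinearMap.smul_apply, hey, hfy, hey', hfy',
      smul_eq_mul, mul_zero, add_zero, and_self]
  have heW : e ∈ Submodule.span K {e, f} := Submodule.subset_span (by simp)
  have hfW : f ∈ Submodule.span K {e, f} := Submodule.subset_span (by simp)
  refine ⟨stabSub (Submodule.span K {e + f}) ⊓ ⁅OG Q, OG Q⁆, ?_, ?_⟩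
  · -- strictly larger than the plane stabiliser
    rw [SetLike.lt_iff_le_and_exists]
    refine ⟨hQ.stab_plane_le hsq he hf hef, ?_⟩
    have hQa : Q ((e - f) + (y - y')) = 1 := by
      simp only [hQ.polar, hQ.sub, hQ.smul, hQ.neg, map_add, map_sub, map_neg, map_smul, LinearMap.add_apply, LinearMap.sub_apply, LinearMap.neg_apply, LinearMap.smul_apply, smul_eq_mul, he, hf, hy, hy', hee, hef, hey, hey', hfe, hff, hfy, hfy', hye, hyf, hyy, hyy', hy'e, hy'f, hy'y, hy'y']
      linear_combination (-1 : K) * h3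
    have hQb : Q (y + y') = 1 := by
      simp only [hQ.polar, hQ.sub, hQ.smul, hQ.neg, map_add, map_sub, map_neg, map_smul, LinearMap.add_apply, LinearMap.sub_apply, LinearMap.neg_apply, LinearMap.smul_apply, smul_eq_mul, he, hf, hy, hy', hee, hef, hey, hey', hfe, hff, hfy, hfy', hye, hyf, hyy, hyy', hy'e, hy'f, hy'y, hy'y']
      ring
    have hQab : Q ((e - f) + (y - y') - (y + y')) ≠ 0 := by
      have : Q ((e - f) + (y - y') - (y + y')) = 2 := by
        rw [hQ.sub, hQa, hQb]
        simp only [hQ.polar, hQ.sub, hQ.smul, hQ.neg, map_add, map_sub, map_neg, map_smul, LinearMap.add_apply, LinearMap.sub_apply, LinearMap.neg_apply, LinearMap.smul_apply, smul_eq_mul, he, hf, hy, hy', hee, hef, hey, hey', hfe, hff, hfy, hfy', hye, hyf, hyy, hyy', hy'e, hy'f, hy'y, hy'y']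
        ring
      rw [this]; exact h2ne
    have ha : Q ((e - f) + (y - y')) ≠ 0 := by rw [hQa]; exact one_ne_zero
    have hb : Q (y + y') ≠ 0 := by rw [hQb]; exact one_ne_zero
    have hgu : (hQ.refl _ ha * hQ.refl _ hb) (e + f) = e + f := by
      rw [LinearEquiv.mul_apply, hQ.refl_apply_of_orth _ hb, hQ.refl_apply_of_orth _ ha]
      · simp only [hQ.polar, hQ.sub, hQ.smul, hQ.neg, map_add, map_sub, map_neg, map_smul, LinearMap.add_apply, LinearMap.sub_apply, LinearMap.neg_apply, LinearMap.smul_apply, smul_eq_mul, he, hf, hy, hy', hee, hef, hey, hey', hfe, hff, hfy, hfy', hye, hyf, hyy, hyy', hy'e, hy'f, hy'y, hy'y']; ring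
      · simp only [hQ.polar, hQ.sub, hQ.smul, hQ.neg, map_add, map_sub, map_neg, map_smul, LinearMap.add_apply, LinearMap.sub_apply, LinearMap.neg_apply, LinearMap.smul_apply, smul_eq_mul, he, hf, hy, hy', hee, hef, hey, hey', hfe, hff, hfy, hfy', hye, hyf, hyy, hyy', hy'e, hy'f, hy'y, hy'y']; ring
    have hgu' : (hQ.refl _ ha * hQ.refl _ hb) (e - f) = y' - y := by
      rw [LinearEquiv.mul_apply, hQ.refl_apply_of_orth _ hb, hQ.refl_apply, hQa]
      · have : B (e - f) ((e - f) + (y - y')) = 1 := by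
          simp only [hQ.polar, hQ.sub, hQ.smul, hQ.neg, map_add, map_sub, map_neg, map_smul, LinearMap.add_apply, LinearMap.sub_apply, LinearMap.neg_apply, LinearMap.smul_apply, smul_eq_mul, he, hf, hy, hy', hee, hef, hey, hey', hfe, hff, hfy, hfy', hye, hyf, hyy, hyy', hy'e, hy'f, hy'y, hy'y']
          linear_combination (-1 : K) * h3
        rw [this, inv_one, one_mul, one_smul]
        abel
      · simp only [hQ.polar, hQ.sub, hQ.smul, hQ.neg, map_add, map_sub, map_neg, map_smul, LinearMap.add_apply, LinearMap.sub_apply, LinearMap.neg_apply, LinearMap.smul_apply, smul_eq_mul, he, hf, hy, hy', hee, hef, hey, hey', hfe, hff, hfy, hfy', hye, hyf, hyy, hyy', hy'e, hy'f, hy'y, hy'y']; ring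
    refine ⟨hQ.refl _ ha * hQ.refl _ hb, ⟨?_, hQ.refl_mul_refl_mem ha hb (by rw [hQa, hQb]) hQab⟩,
      ?_⟩
    · have hfix : ∀ v ∈ Submodule.span K {e + f}, (hQ.refl _ ha * hQ.refl _ hb) v = v := by
        intro v hv
        obtain ⟨c, rfl⟩ := Submodule.mem_span_singleton.1 hv
        rw [map_smul, hgu]
      apply mem_stabSub_of_maps
      · intro v hv; rw [hfix v hv]; exact hv
      · intro v hv
        rw [inv_apply_of_apply _ _ (hfix v hv)]; exact hv
    · intro hmem
      have h1 := (hmem.1 (e - f)).1 (Submodule.sub_mem _ heW hfW)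
      rw [hgu'] at h1
      have := (hWy _ h1).1
      simp only [map_sub, LinearMap.sub_apply, hyy, hy'y, sub_zero] at this
      exact one_ne_zero this
  · -- strictly smaller than the commutator subgroup
    rw [SetLike.lt_iff_le_and_exists]
    refine ⟨inf_le_right, ?_⟩
    have hQa : Q ((e + f) + (y + y')) = -1 := by
      simp only [hQ.polar, hQ.sub, hQ.smul, hQ.neg, map_add, map_sub, map_neg, map_smul, LinearMap.add_apply, LinearMap.sub_apply, LinearMap.neg_apply, LinearMap.smul_apply, smul_eq_mul, he, hf, hy, hy', hee, hef, hey, hey', hfe, hff, hfy, hfy', hye, hyf, hyy, hyy', hy'e, hy'f, hy'y, hy'y']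
      linear_combination h3
    have hQb : Q (y - y') = -1 := by
      simp only [hQ.polar, hQ.sub, hQ.smul, hQ.neg, map_add, map_sub, map_neg, map_smul, LinearMap.add_apply, LinearMap.sub_apply, LinearMap.neg_apply, LinearMap.smul_apply, smul_eq_mul, he, hf, hy, hy', hee, hef, hey, hey', hfe, hff, hfy, hfy', hye, hyf, hyy, hyy', hy'e, hy'f, hy'y, hy'y']
      ring
    have hQab : Q ((e + f) + (y + y') - (y - y')) ≠ 0 := by
      have : Q ((e + f) + (y + y') - (y - y')) = 1 := by
        rw [hQ.sub, hQa, hQb]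
        simp only [hQ.polar, hQ.sub, hQ.smul, hQ.neg, map_add, map_sub, map_neg, map_smul, LinearMap.add_apply, LinearMap.sub_apply, LinearMap.neg_apply, LinearMap.smul_apply, smul_eq_mul, he, hf, hy, hy', hee, hef, hey, hey', hfe, hff, hfy, hfy', hye, hyf, hyy, hyy', hy'e, hy'f, hy'y, hy'y']
        linear_combination (-1 : K) * h3
      rw [this]; exact one_ne_zero
    have ha : Q ((e + f) + (y + y')) ≠ 0 := by rw [hQa]; exact neg_ne_zero.2 one_ne_zero
    have hb : Q (y - y') ≠ 0 := by rw [hQb]; exact neg_ne_zero.2 one_ne_zero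
    have hgu : (hQ.refl _ ha * hQ.refl _ hb) (e + f) = -(y + y') := by
      rw [LinearEquiv.mul_apply, hQ.refl_apply_of_orth _ hb, hQ.refl_apply, hQa]
      · have : B (e + f) ((e + f) + (y + y')) = 2 := by
          simp only [hQ.polar, hQ.sub, hQ.smul, hQ.neg, map_add, map_sub, map_neg, map_smul, LinearMap.add_apply, LinearMap.sub_apply, LinearMap.neg_apply, LinearMap.smul_apply, smul_eq_mul, he, hf, hy, hy', hee, hef, hey, hey', hfe, hff, hfy, hfy', hye, hyf, hyy, hyy', hy'e, hy'f, hy'y, hy'y']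
          ring
        have h4 : ((-1 : K)⁻¹ * 2) = 1 := by
          rw [inv_neg, inv_one]; linear_combination (-1 : K) * h3
        rw [this, h4, one_smul]
        abel
      · simp only [hQ.polar, hQ.sub, hQ.smul, hQ.neg, map_add, map_sub, map_neg, map_smul, LinearMap.add_apply, LinearMap.sub_apply, LinearMap.neg_apply, LinearMap.smul_apply, smul_eq_mul, he, hf, hy, hy', hee, hef, hey, hey', hfe, hff, hfy, hfy', hye, hyf, hyy, hyy', hy'e, hy'f, hy'y, hy'y']; ring
    refine ⟨hQ.refl _ ha * hQ.refl _ hb, hQ.refl_mul_refl_mem ha hb (by rw [hQa, hQb]) hQab, ?_⟩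
    intro hmem
    have h1 := (hmem.1 (e + f)).1 (Submodule.mem_span_singleton_self _)
    rw [hgu] at h1
    have := (hUy _ h1).1
    simp only [map_neg, map_add, LinearMap.neg_apply, LinearMap.add_apply, hyy, hy'y, zero_add,
      neg_eq_zero] at this
    exact one_ne_zero this


/-- **Non-maximality**, two elements. -/
theorem exists_between_plane2 [Fintype K] [FiniteDimensional K V] (hQ : QuadData B Q)
    (hnd : ∀ x, (∀ y, B x y = 0) → x = 0) (hK : Fintype.card K = 2)
    (hdim : 5 ≤ Module.finrank K V) {e f : V} (he : Q e = 0) (hf : Q f = 0) (hef : B e f = 1) :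
    ∃ K' : Subgroup (V ≃ₗ[K] V),
      stabSub (Submodule.span K {e, f}) ⊓ ⁅OG Q, OG Q⁆ < K' ∧ K' < ⁅OG Q, OG Q⁆ := by
  obtain ⟨y, hy0, hy, hye, hyf⟩ := hQ.exists_singular2 hnd hK e f hdim
  obtain ⟨y', hy', hyy', hy'e, hy'f⟩ := hQ.exists_partner hnd he hf hef hy0 hy hye hyf
  have h2 := two_eq_zero hK
  have hsq : ∀ c : K, c ≠ 0 → c * c = 1 := by
    intro c hc
    rcases eq_of_card_two hK c with h | h
    · exact absurd h hc
    · rw [h, one_mul]
  have hee : B e e = 0 := by rw [hQ.self, he, mul_zero]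
  have hff : B f f = 0 := by rw [hQ.self, hf, mul_zero]
  have hyy : B y y = 0 := by rw [hQ.self, hy, mul_zero]
  have hy'y' : B y' y' = 0 := by rw [hQ.self, hy', mul_zero]
  have hfe : B f e = 1 := by rw [hQ.symm, hef]
  have hey : B e y = 0 := by rw [hQ.symm, hye]
  have hfy : B f y = 0 := by rw [hQ.symm, hyf]
  have hey' : B e y' = 0 := by rw [hQ.symm, hy'e]
  have hfy' : B f y' = 0 := by rw [hQ.symm, hy'f]
  have hy'y : B y' y = 1 := by rw [hQ.symm, hyy']
  have hWy : ∀ w ∈ Submodule.span K {e, f}, B w y = 0 ∧ B w y' = 0 := by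
    intro w hw
    obtain ⟨α, β, rfl⟩ := Submodule.mem_span_pair.1 hw
    simp only [map_add, map_smul, LinearMap.add_apply, LinearMap.smul_apply, hey, hfy, hey', hfy',
      smul_eq_mul, mul_zero, add_zero, and_self]
  have hUy : ∀ w ∈ Submodule.span K {e + f}, B w y = 0 ∧ B w y' = 0 := by
    intro w hw
    obtain ⟨α, rfl⟩ := Submodule.mem_span_singleton.1 hw
    simp only [map_add, map_smul, LinearMap.add_apply, LinearMap.smul_apply, hey, hfy, hey', hfy',
      smul_eq_mul, mul_zero, add_zero, and_self]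
  have heW : e ∈ Submodule.span K {e, f} := Submodule.subset_span (by simp)
  have hfW : f ∈ Submodule.span K {e, f} := Submodule.subset_span (by simp)
  refine ⟨stabSub (Submodule.span K {e + f}) ⊓ ⁅OG Q, OG Q⁆, ?_, ?_⟩
  · -- strictly larger than the plane stabiliser
    rw [SetLike.lt_iff_le_and_exists]
    refine ⟨hQ.stab_plane_le hsq he hf hef, ?_⟩
    have hQa : Q ((e + f) + y) = 1 := by
      simp only [hQ.polar, hQ.sub, hQ.smul, hQ.neg, map_add, map_sub, map_neg, map_smul, LinearMap.add_apply, LinearMap.sub_apply, LinearMap.neg_apply, LinearMap.smul_apply, smul_eq_mul, he, hf, hy, hy', hee, hef, hey, hey', hfe, hff, hfy, hfy', hye, hyf, hyy, hyy', hy'e, hy'f, hy'y, hy'y']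
      ring
    have hQb : Q (y + y') = 1 := by
      simp only [hQ.polar, hQ.sub, hQ.smul, hQ.neg, map_add, map_sub, map_neg, map_smul, LinearMap.add_apply, LinearMap.sub_apply, LinearMap.neg_apply, LinearMap.smul_apply, smul_eq_mul, he, hf, hy, hy', hee, hef, hey, hey', hfe, hff, hfy, hfy', hye, hyf, hyy, hyy', hy'e, hy'f, hy'y, hy'y']
      ring
    have hQab : Q ((e + f) + y - (y + y')) ≠ 0 := by
      have : Q ((e + f) + y - (y + y')) = 1 := by
        rw [hQ.sub, hQa, hQb]
        simp only [hQ.polar, hQ.sub, hQ.smul, hQ.neg, map_add, map_sub, map_neg, map_smul, LinearMap.add_apply, LinearMap.sub_apply, LinearMap.neg_apply, LinearMap.smul_apply, smul_eq_mul, he, hf, hy, hy', hee, hef, hey, hey', hfe, hff, hfy, hfy', hye, hyf, hyy, hyy', hy'e, hy'f, hy'y, hy'y']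
        ring
      rw [this]; exact one_ne_zero
    have ha : Q ((e + f) + y) ≠ 0 := by rw [hQa]; exact one_ne_zero
    have hb : Q (y + y') ≠ 0 := by rw [hQb]; exact one_ne_zero
    have hgu : (hQ.refl _ ha * hQ.refl _ hb) (e + f) = e + f := by
      rw [LinearEquiv.mul_apply, hQ.refl_apply_of_orth _ hb, hQ.refl_apply_of_orth _ ha]
      · simp only [hQ.polar, hQ.sub, hQ.smul, hQ.neg, map_add, map_sub, map_neg, map_smul, LinearMap.add_apply, LinearMap.sub_apply, LinearMap.neg_apply, LinearMap.smul_apply, smul_eq_mul, he, hf, hy, hy', hee, hef, hey, hey', hfe, hff, hfy, hfy', hye, hyf, hyy, hyy', hy'e, hy'f, hy'y, hy'y']; linear_combination h2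
      · simp only [hQ.polar, hQ.sub, hQ.smul, hQ.neg, map_add, map_sub, map_neg, map_smul, LinearMap.add_apply, LinearMap.sub_apply, LinearMap.neg_apply, LinearMap.smul_apply, smul_eq_mul, he, hf, hy, hy', hee, hef, hey, hey', hfe, hff, hfy, hfy', hye, hyf, hyy, hyy', hy'e, hy'f, hy'y, hy'y']; ring
    have hge : (hQ.refl _ ha * hQ.refl _ hb) e = -f - y := by
      rw [LinearEquiv.mul_apply, hQ.refl_apply_of_orth _ hb, hQ.refl_apply, hQa]
      · have : B e ((e + f) + y) = 1 := by
          simp only [hQ.polar, hQ.sub, hQ.smul, hQ.neg, map_add, map_sub, map_neg, map_smul, LinearMap.add_apply, LinearMap.sub_apply, LinearMap.neg_apply, LinearMap.smul_apply, smul_eq_mul, he, hf, hy, hy', hee, hef, hey, hey', hfe, hff, hfy, hfy', hye, hyf, hyy, hyy', hy'e, hy'f, hy'y, hy'y']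
          ring
        rw [this, inv_one, one_mul, one_smul]
        abel
      · simp only [hQ.polar, hQ.sub, hQ.smul, hQ.neg, map_add, map_sub, map_neg, map_smul, LinearMap.add_apply, LinearMap.sub_apply, LinearMap.neg_apply, LinearMap.smul_apply, smul_eq_mul, he, hf, hy, hy', hee, hef, hey, hey', hfe, hff, hfy, hfy', hye, hyf, hyy, hyy', hy'e, hy'f, hy'y, hy'y']; ring
    refine ⟨hQ.refl _ ha * hQ.refl _ hb, ⟨?_, hQ.refl_mul_refl_mem ha hb (by rw [hQa, hQb]) hQab⟩,
      ?_⟩
    · have hfix : ∀ v ∈ Submodule.span K {e + f}, (hQ.refl _ ha * hQ.refl _ hb) v = v := by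
        intro v hv
        obtain ⟨c, rfl⟩ := Submodule.mem_span_singleton.1 hv
        rw [map_smul, hgu]
      apply mem_stabSub_of_maps
      · intro v hv; rw [hfix v hv]; exact hv
      · intro v hv
        rw [inv_apply_of_apply _ _ (hfix v hv)]; exact hv
    · intro hmem
      have h1 := (hmem.1 e).1 heW
      rw [hge] at h1
      have := (hWy _ h1).2
      simp only [map_sub, map_neg, LinearMap.sub_apply, LinearMap.neg_apply, hfy', hyy', neg_zero,
        zero_sub, neg_eq_zero] at this
      exact one_ne_zero this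
  · -- strictly smaller than the commutator subgroup
    rw [SetLike.lt_iff_le_and_exists]
    refine ⟨inf_le_right, ?_⟩
    have hQa : Q (e + (y + y')) = 1 := by
      simp only [hQ.polar, hQ.sub, hQ.smul, hQ.neg, map_add, map_sub, map_neg, map_smul, LinearMap.add_apply, LinearMap.sub_apply, LinearMap.neg_apply, LinearMap.smul_apply, smul_eq_mul, he, hf, hy, hy', hee, hef, hey, hey', hfe, hff, hfy, hfy', hye, hyf, hyy, hyy', hy'e, hy'f, hy'y, hy'y']
      ring
    have hQb : Q (f + (y + y')) = 1 := by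
      simp only [hQ.polar, hQ.sub, hQ.smul, hQ.neg, map_add, map_sub, map_neg, map_smul, LinearMap.add_apply, LinearMap.sub_apply, LinearMap.neg_apply, LinearMap.smul_apply, smul_eq_mul, he, hf, hy, hy', hee, hef, hey, hey', hfe, hff, hfy, hfy', hye, hyf, hyy, hyy', hy'e, hy'f, hy'y, hy'y']
      ring
    have hQab : Q (e + (y + y') - (f + (y + y'))) ≠ 0 := by
      have : Q (e + (y + y') - (f + (y + y'))) = -1 := by
        rw [hQ.sub, hQa, hQb]
        simp only [hQ.polar, hQ.sub, hQ.smul, hQ.neg, map_add, map_sub, map_neg, map_smul, LinearMap.add_apply, LinearMap.sub_apply, LinearMap.neg_apply, LinearMap.smul_apply, smul_eq_mul, he, hf, hy, hy', hee, hef, hey, hey', hfe, hff, hfy, hfy', hye, hyf, hyy, hyy', hy'e, hy'f, hy'y, hy'y']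
        ring
      rw [this]; exact neg_ne_zero.2 one_ne_zero
    have ha : Q (e + (y + y')) ≠ 0 := by rw [hQa]; exact one_ne_zero
    have hb : Q (f + (y + y')) ≠ 0 := by rw [hQb]; exact one_ne_zero
    have hgu1 : hQ.refl _ hb (e + f) = e - (y + y') := by
      rw [hQ.refl_apply, hQb]
      have : B (e + f) (f + (y + y')) = 1 := by
        simp only [hQ.polar, hQ.sub, hQ.smul, hQ.neg, map_add, map_sub, map_neg, map_smul, LinearMap.add_apply, LinearMap.sub_apply, LinearMap.neg_apply, LinearMap.smul_apply, smul_eq_mul, he, hf, hy, hy', hee, hef, hey, hey', hfe, hff, hfy, hfy', hye, hyf, hyy, hyy', hy'e, hy'f, hy'y, hy'y']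
        ring
      rw [this, inv_one, one_mul, one_smul]
      abel
    have hgu : (hQ.refl _ ha * hQ.refl _ hb) (e + f) = e - (y + y') := by
      rw [LinearEquiv.mul_apply, hgu1, hQ.refl_apply_of_orth _ ha]
      simp only [hQ.polar, hQ.sub, hQ.smul, hQ.neg, map_add, map_sub, map_neg, map_smul, LinearMap.add_apply, LinearMap.sub_apply, LinearMap.neg_apply, LinearMap.smul_apply, smul_eq_mul, he, hf, hy, hy', hee, hef, hey, hey', hfe, hff, hfy, hfy', hye, hyf, hyy, hyy', hy'e, hy'f, hy'y, hy'y']
      linear_combination (-1 : K) * h2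
    refine ⟨hQ.refl _ ha * hQ.refl _ hb, hQ.refl_mul_refl_mem ha hb (by rw [hQa, hQb]) hQab, ?_⟩
    intro hmem
    have h1 := (hmem.1 (e + f)).1 (Submodule.mem_span_singleton_self _)
    rw [hgu] at h1
    have := (hUy _ h1).1
    simp only [map_sub, map_add, LinearMap.sub_apply, LinearMap.add_apply, hey, hyy, hy'y, zero_add,
      zero_sub, neg_eq_zero] at this
    exact one_ne_zero this

end QuadData

end Cfsg.Agent.Lib.Helper94
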