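/-
Helper94: over the field with three elements, the stabiliser (in the commutator subgroup of the
isometry group) of an orthogonal decomposition whose members carry a canonical orthogonal frame
is not maximal: it is contained in the stabiliser of the set of frame vectors.
-/
import Mathlib
import Cfsg.Agent.Lib.Helper94.SympDecomp
import Cfsg.Agent.Lib.Helper94.OrthPlane2

set_option autoImplicit false
set_option linter.unusedSimpArgs false
set_option linter.unusedSectionVars false
set_option linter.unusedVariables false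

namespace Cfsg.Agent.Lib.Helper94

open LinearMap (BilinForm)
open scoped commutatorElement

variable {K V : Type*} [Field K] [AddCommGroup V] [Module K V]

/-- The stabiliser of a set of vectors. -/
def stabSet (S : Set V) : Subgroup (V ≃ₗ[K] V) where
  carrier := {g | ∀ v, v ∈ S ↔ g v ∈ S}
  mul_mem' {a b} ha hb := by
    intro v
    rw [LinearEquiv.mul_apply]
    exact (hb v).trans (ha _)
  one_mem' := by intro v; rfl
  inv_mem' {a} ha := by
    intro v
    have := ha (a⁻¹ v)
    rw [← LinearEquiv.mul_apply, mul_inv_cancel] at this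
    exact this.symm

lemma mem_stabSet_of_maps {S : Set V} {g : V ≃ₗ[K] V} (h1 : ∀ v ∈ S, g v ∈ S)
    (h2 : ∀ v ∈ S, g⁻¹ v ∈ S) : g ∈ stabSet (K := K) S := by
  intro v
  refine ⟨h1 v, fun hv => ?_⟩
  have := h2 _ hv
  rwa [← LinearEquiv.mul_apply, inv_mul_cancel] at this

namespace QuadData

variable {B : BilinForm K V} {Q : V → K}

lemma refl_swap' (hQ : QuadData B Q) {a b : V} (hab : Q a = Q b) (hd : Q (a - b) ≠ 0) :
    hQ.refl (a - b) hd b = a := by
  rw [refl_apply]
  have h1 : B b (a - b) = -Q (a - b) := by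
    rw [map_sub, hQ.self, hQ.sub, hab, hQ.symm b a]; ring
  rw [h1, mul_neg, inv_mul_cancel₀ hd, neg_smul, one_smul]
  abel

/-- The set of vectors of norm `c` lying in a member of the decomposition. -/
def frameSet (Q : V → K) {t : ℕ} (D : Fin t → Submodule K V) (c : K) : Set V :=
  {v | Q v = c ∧ ∃ i, v ∈ D i}

/-- the stabiliser of the decomposition stabilises the frame set -/
lemma stabDec_le_stabSet (hQ : QuadData B Q) {t : ℕ} (D : Fin t → Submodule K V) (c : K) :
    SympData.stabDec D ⊓ ⁅OG Q, OG Q⁆ ≤ stabSet (frameSet Q D c) ⊓ ⁅OG Q, OG Q⁆ := by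
  have key : ∀ g ∈ SympData.stabDec D ⊓ ⁅OG Q, OG Q⁆, ∀ v ∈ frameSet Q D c,
      g v ∈ frameSet Q D c := by
    intro g hg v hv
    obtain ⟨σ, hσ⟩ := hg.1
    have hgO : g ∈ OG Q := commutator_le_OG hg.2
    obtain ⟨hv1, i, hvi⟩ := hv
    refine ⟨by rw [hgO v, hv1], σ i, ?_⟩
    rw [← hσ i]
    exact Submodule.mem_map_of_mem hvi
  intro g hg
  exact ⟨mem_stabSet_of_maps (key g hg) (key g⁻¹ (inv_mem hg)), hg.2⟩

/-- a reflection along the difference of two frame vectors in different members preserves the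
frame set -/
lemma refl_diff_maps (hQ : QuadData B Q) (h2 : (2 : K) ≠ 0) {t : ℕ} (D : Fin t → Submodule K V)
    (horth : ∀ i j, i ≠ j → ∀ u ∈ D i, ∀ v ∈ D j, B u v = 0) {c : K} (hc : c ≠ 0)
    {i j : Fin t} (hij : i ≠ j) {p q : V} (hp : p ∈ D i) (hq : q ∈ D j) (hQp : Q p = c)
    (hQq : Q q = c)
    (hPp : ∀ v ∈ D i, Q v = c → v = p ∨ v = -p ∨ B v p = 0)
    (hPq : ∀ v ∈ D j, Q v = c → v = q ∨ v = -q ∨ B v q = 0)
    (hd : Q (p - q) ≠ 0) :
    ∀ v ∈ frameSet Q D c, hQ.refl (p - q) hd v ∈ frameSet Q D c := by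
  have hpS : p ∈ frameSet Q D c := ⟨hQp, i, hp⟩
  have hqS : q ∈ frameSet Q D c := ⟨hQq, j, hq⟩
  have hnpS : -p ∈ frameSet Q D c := ⟨by rw [hQ.neg, hQp], i, (D i).neg_mem hp⟩
  have hnqS : -q ∈ frameSet Q D c := ⟨by rw [hQ.neg, hQq], j, (D j).neg_mem hq⟩
  have hpq : Q p = Q q := by rw [hQp, hQq]
  intro v hv
  obtain ⟨hv1, l, hvl⟩ := hv
  by_cases hli : l = i
  · subst hli
    rcases hPp v hvl hv1 with h | h | h
    · rw [h, hQ.refl_swap hpq hd]; exact hqS
    · rw [h, map_neg, hQ.refl_swap hpq hd]; exact hnqS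
    · rw [hQ.refl_apply_of_orth]
      · exact ⟨hv1, l, hvl⟩
      · rw [map_sub, h, horth l j hij v hvl q hq, sub_zero]
  by_cases hlj : l = j
  · subst hlj
    rcases hPq v hvl hv1 with h | h | h
    · rw [h, hQ.refl_swap' hpq hd]; exact hpS
    · rw [h, map_neg, hQ.refl_swap' hpq hd]; exact hnpS
    · rw [hQ.refl_apply_of_orth]
      · exact ⟨hv1, l, hvl⟩
      · rw [map_sub, h, horth l i hli v hvl p hp, sub_zero]
  · rw [hQ.refl_apply_of_orth]
    · exact ⟨hv1, l, hvl⟩
    · rw [map_sub, horth l i hli v hvl p hp, horth l j hlj v hvl q hq, sub_zero]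


/-- **Non-maximality** of the stabiliser of a decomposition with canonical frames (three elements).
-/
theorem exists_between_frame [Fintype K] (hQ : QuadData B Q) (hK : Fintype.card K = 3) {t : ℕ}
    (D : Fin t → Submodule K V)
    (horth : ∀ i j, i ≠ j → ∀ u ∈ D i, ∀ v ∈ D j, B u v = 0) {c : K} (hc : c ≠ 0)
    {i0 i1 i2 : Fin t} (h01 : i0 ≠ i1) (h02 : i0 ≠ i2) (h12 : i1 ≠ i2)
    {x x' y y' z : V} (hx : x ∈ D i0) (hx' : x' ∈ D i0) (hy : y ∈ D i1) (hy' : y' ∈ D i1)
    (hz : z ∈ D i2)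
    (hQx : Q x = c) (hQx' : Q x' = c) (hQy : Q y = c) (hQy' : Q y' = c) (hQz : Q z = c)
    (hxx' : B x x' = 0) (hyy' : B y y' = 0)
    (hPx : ∀ v ∈ D i0, Q v = c → v = x ∨ v = -x ∨ B v x = 0)
    (hPy : ∀ v ∈ D i1, Q v = c → v = y ∨ v = -y ∨ B v y = 0)
    (hPz : ∀ v ∈ D i2, Q v = c → v = z ∨ v = -z ∨ B v z = 0) :
    ∃ K' : Subgroup (V ≃ₗ[K] V),
      SympData.stabDec D ⊓ ⁅OG Q, OG Q⁆ < K' ∧ K' < ⁅OG Q, OG Q⁆ := by
  have h3 := three_eq_zero hK
  have h2 : (2 : K) ≠ 0 := by
    intro h2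
    have : (1 : K) = 0 := by linear_combination h3 - h2
    exact one_ne_zero this
  have h2c : 2 * c ≠ 0 := mul_ne_zero h2 hc
  -- the table of values
  have bxx : B x x = 2 * c := by rw [hQ.self, hQx]
  have bx'x' : B x' x' = 2 * c := by rw [hQ.self, hQx']
  have byy : B y y = 2 * c := by rw [hQ.self, hQy]
  have by'y' : B y' y' = 2 * c := by rw [hQ.self, hQy']
  have bzz : B z z = 2 * c := by rw [hQ.self, hQz]
  have bx'x : B x' x = 0 := by rw [hQ.symm, hxx']
  have by'y : B y' y = 0 := by rw [hQ.symm, hyy']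
  have bxy : B x y = 0 := horth i0 i1 h01 x hx y hy
  have bxy' : B x y' = 0 := horth i0 i1 h01 x hx y' hy'
  have bx'y : B x' y = 0 := horth i0 i1 h01 x' hx' y hy
  have bx'y' : B x' y' = 0 := horth i0 i1 h01 x' hx' y' hy'
  have bxz : B x z = 0 := horth i0 i2 h02 x hx z hz
  have bx'z : B x' z = 0 := horth i0 i2 h02 x' hx' z hz
  have byz : B y z = 0 := horth i1 i2 h12 y hy z hz
  have by'z : B y' z = 0 := horth i1 i2 h12 y' hy' z hz
  have byx : B y x = 0 := by rw [hQ.symm, bxy]
  have by'x : B y' x = 0 := by rw [hQ.symm, bxy']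
  have byx' : B y x' = 0 := by rw [hQ.symm, bx'y]
  have by'x' : B y' x' = 0 := by rw [hQ.symm, bx'y']
  have bzx : B z x = 0 := by rw [hQ.symm, bxz]
  have bzx' : B z x' = 0 := by rw [hQ.symm, bx'z]
  have bzy : B z y = 0 := by rw [hQ.symm, byz]
  have bzy' : B z y' = 0 := by rw [hQ.symm, by'z]
  refine ⟨stabSet (frameSet Q D c) ⊓ ⁅OG Q, OG Q⁆, ?_, ?_⟩
  · rw [SetLike.lt_iff_le_and_exists]
    refine ⟨hQ.stabDec_le_stabSet D c, ?_⟩
    have hQa : Q (x - y) = 2 * c := by rw [hQ.sub, hQx, hQy, bxy]; ring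
    have hQb : Q (z - y) = 2 * c := by rw [hQ.sub, hQz, hQy, bzy]; ring
    have ha : Q (x - y) ≠ 0 := by rw [hQa]; exact h2c
    have hb : Q (z - y) ≠ 0 := by rw [hQb]; exact h2c
    have hab : Q ((x - y) - (z - y)) ≠ 0 := by
      have e1 : (x - y) - (z - y) = x - z := by abel
      rw [e1, hQ.sub, hQx, hQz, bxz]
      intro h
      apply h2c
      linear_combination h
    have hRa := hQ.refl_diff_maps h2 D horth hc h01 hx hy hQx hQy hPx hPy ha
    have hRb := hQ.refl_diff_maps h2 D horth hc h12.symm hz hy hQz hQy hPz hPy hb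
    refine ⟨hQ.refl _ ha * hQ.refl _ hb,
      ⟨?_, hQ.refl_mul_refl_mem ha hb (by rw [hQa, hQb]) hab⟩, ?_⟩
    · apply mem_stabSet_of_maps
      · intro v hv
        rw [LinearEquiv.mul_apply]
        exact hRa _ (hRb _ hv)
      · intro v hv
        rw [mul_inv_rev, refl_inv, refl_inv, LinearEquiv.mul_apply]
        exact hRb _ (hRa _ hv)
    · intro hmem
      obtain ⟨σ, hσ⟩ := hmem.1
      have hgx : (hQ.refl _ ha * hQ.refl _ hb) x = y := by
        rw [LinearEquiv.mul_apply, hQ.refl_apply_of_orth _ hb, hQ.refl_swap (by rw [hQx, hQy]) ha]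
        rw [map_sub, bxz, bxy, sub_zero]
      have hgx' : (hQ.refl _ ha * hQ.refl _ hb) x' = x' := by
        rw [LinearEquiv.mul_apply, hQ.refl_apply_of_orth _ hb, hQ.refl_apply_of_orth _ ha]
        · rw [map_sub, bx'x, bx'y, sub_zero]
        · rw [map_sub, bx'z, bx'y, sub_zero]
      have h1 : y ∈ D (σ i0) := by
        rw [← hσ i0]
        have := Submodule.mem_map_of_mem (f := ((hQ.refl _ ha * hQ.refl _ hb : V ≃ₗ[K] V) :
          V →ₗ[K] V)) hx
        rwa [LinearEquiv.coe_coe, hgx] at this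
      have h2' : x' ∈ D (σ i0) := by
        rw [← hσ i0]
        have := Submodule.mem_map_of_mem (f := ((hQ.refl _ ha * hQ.refl _ hb : V ≃ₗ[K] V) :
          V →ₗ[K] V)) hx'
        rwa [LinearEquiv.coe_coe, hgx'] at this
      by_cases hs : σ i0 = i0
      · rw [hs] at h1
        have := horth i0 i1 h01 y h1 y hy
        rw [byy] at this
        exact h2c this
      · have := horth (σ i0) i0 hs x' h2' x' hx'
        rw [bx'x'] at this
        exact h2c this
  · rw [SetLike.lt_iff_le_and_exists]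
    refine ⟨inf_le_right, ?_⟩
    have hQa : Q ((x + x') + (y + y')) = c := by
      simp only [hQ.polar, map_add, LinearMap.add_apply, hQx, hQx', hQy, hQy', hxx', hyy', bxy, bxy',
        bx'y, bx'y']
      linear_combination c * h3
    have ha : Q ((x + x') + (y + y')) ≠ 0 := by rw [hQa]; exact hc
    have hb : Q z ≠ 0 := by rw [hQz]; exact hc
    have hab : Q ((x + x') + (y + y') - z) ≠ 0 := by
      have : Q ((x + x') + (y + y') - z) = 2 * c := by
        rw [hQ.sub, hQa, hQz]
        simp only [map_add, LinearMap.add_apply, bxz, bx'z, byz, by'z]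
        ring
      rw [this]; exact h2c
    have hgx : (hQ.refl _ ha * hQ.refl _ hb) x = x - (2 : K) • ((x + x') + (y + y')) := by
      rw [LinearEquiv.mul_apply, hQ.refl_apply_of_orth _ hb bxz, hQ.refl_apply, hQa]
      have : B x ((x + x') + (y + y')) = 2 * c := by
        simp only [map_add, bxx, hxx', bxy, bxy', add_zero]
      rw [this]
      congr 2
      field_simp
    refine ⟨hQ.refl _ ha * hQ.refl _ hb, hQ.refl_mul_refl_mem ha hb (by rw [hQa, hQz]) hab, ?_⟩
    intro hmem
    have hxS : x ∈ frameSet Q D c := ⟨hQx, i0, hx⟩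
    have h1 := (hmem.1 x).1 hxS
    rw [hgx] at h1
    obtain ⟨_, l, hl⟩ := h1
    by_cases hli : l = i0
    · subst hli
      have := horth l i1 h01 _ hl y hy
      simp only [map_sub, map_add, map_smul, LinearMap.sub_apply, LinearMap.add_apply,
        LinearMap.smul_apply, bxy, bx'y, byy, by'y, smul_eq_mul, add_zero, zero_add, zero_sub,
        neg_eq_zero] at this
      rcases mul_eq_zero.1 this with h | h
      · exact h2 h
      · exact h2c h
    · have := horth l i0 hli _ hl x hx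
      simp only [map_sub, map_add, map_smul, LinearMap.sub_apply, LinearMap.add_apply,
        LinearMap.smul_apply, bxx, bx'x, byx, by'x, smul_eq_mul, add_zero] at this
      have h4 : c = 0 := by
        linear_combination this + c * h3
      exact hc h4

end QuadData

end Cfsg.Agent.Lib.Helper94
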