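/-
Helper94: in odd characteristic, the stabiliser (in the commutator subgroup of the isometry group)
of an orthogonal decomposition whose members carry a canonical frame vector is not maximal: it is
contained in the stabiliser of the set of frame vectors.  Version with five members.
-/
import Mathlib
import Cfsg.Agent.Lib.Helper94.OrthFrame

set_option autoImplicit false
set_option linter.unusedSimpArgs false
set_option linter.unusedSectionVars false
set_option linter.unusedVariables false

namespace Cfsg.Agent.Lib.Helper94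

open LinearMap (BilinForm)
open scoped commutatorElement

variable {K V : Type*} [Field K] [AddCommGroup V] [Module K V]

namespace QuadData

variable {B : BilinForm K V} {Q : V → K}

/-- **Non-maximality** of the stabiliser of a decomposition with canonical frame vectors, odd
characteristic. -/
theorem exists_between_frame_odd (hQ : QuadData B Q) (h2 : (2 : K) ≠ 0) {t : ℕ}
    (D : Fin t → Submodule K V)
    (horth : ∀ i j, i ≠ j → ∀ u ∈ D i, ∀ v ∈ D j, B u v = 0) {c : K} (hc : c ≠ 0)
    {i0 i1 i2 i3 i4 : Fin t} (h01 : i0 ≠ i1) (h02 : i0 ≠ i2) (h03 : i0 ≠ i3) (h04 : i0 ≠ i4)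
    (h12 : i1 ≠ i2) (h13 : i1 ≠ i3) (h14 : i1 ≠ i4) (h23 : i2 ≠ i3) (h24 : i2 ≠ i4)
    (h34 : i3 ≠ i4)
    {x x' y z w v : V} (hx : x ∈ D i0) (hx' : x' ∈ D i0) (hy : y ∈ D i1) (hz : z ∈ D i2)
    (hw : w ∈ D i3) (hv : v ∈ D i4)
    (hQx : Q x = c) (hQy : Q y = c) (hQz : Q z = c) (hQw : Q w = c) (hQv : Q v = c)
    (hx'x : B x' x = 0) (hx'x' : B x' x' ≠ 0)
    (hPx : ∀ u ∈ D i0, Q u = c → u = x ∨ u = -x ∨ B u x = 0)
    (hPy : ∀ u ∈ D i1, Q u = c → u = y ∨ u = -y ∨ B u y = 0)
    (hPz : ∀ u ∈ D i2, Q u = c → u = z ∨ u = -z ∨ B u z = 0) :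
    ∃ K' : Subgroup (V ≃ₗ[K] V),
      SympData.stabDec D ⊓ ⁅OG Q, OG Q⁆ < K' ∧ K' < ⁅OG Q, OG Q⁆ := by
  have h2c : 2 * c ≠ 0 := mul_ne_zero h2 hc
  have bxx : B x x = 2 * c := by rw [hQ.self, hQx]
  have byy : B y y = 2 * c := by rw [hQ.self, hQy]
  have bxy : B x y = 0 := horth i0 i1 h01 x hx y hy
  have bxz : B x z = 0 := horth i0 i2 h02 x hx z hz
  have bxw : B x w = 0 := horth i0 i3 h03 x hx w hw
  have bxv : B x v = 0 := horth i0 i4 h04 x hx v hv
  have byz : B y z = 0 := horth i1 i2 h12 y hy z hz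
  have byw : B y w = 0 := horth i1 i3 h13 y hy w hw
  have byv : B y v = 0 := horth i1 i4 h14 y hy v hv
  have bzw : B z w = 0 := horth i2 i3 h23 z hz w hw
  have bzv : B z v = 0 := horth i2 i4 h24 z hz v hv
  have bwv : B w v = 0 := horth i3 i4 h34 w hw v hv
  have bx'y : B x' y = 0 := horth i0 i1 h01 x' hx' y hy
  have bx'z : B x' z = 0 := horth i0 i2 h02 x' hx' z hz
  have byx : B y x = 0 := by rw [hQ.symm, bxy]
  have bzx : B z x = 0 := by rw [hQ.symm, bxz]
  have bzy : B z y = 0 := by rw [hQ.symm, byz]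
  have bwx : B w x = 0 := by rw [hQ.symm, bxw]
  have bwy : B w y = 0 := by rw [hQ.symm, byw]
  refine ⟨stabSet (frameSet Q D c) ⊓ ⁅OG Q, OG Q⁆, ?_, ?_⟩
  · rw [SetLike.lt_iff_le_and_exists]
    refine ⟨hQ.stabDec_le_stabSet D c, ?_⟩
    have hQa : Q (x - y) = 2 * c := by rw [hQ.sub, hQx, hQy, bxy]; ring
    have hQb : Q (z - y) = 2 * c := by rw [hQ.sub, hQz, hQy, bzy]; ring
    have ha : Q (x - y) ≠ 0 := by rw [hQa]; exact h2c
    have hb : Q (z - y) ≠ 0 := by rw [hQb]; exact h2c
    have hab : Q ((x - y) - (z - y)) ≠ 0 := by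
      have e1 : (x - y) - (z - y) = x - z := by abel
      rw [e1, hQ.sub, hQx, hQz, bxz]
      intro h
      apply h2c
      linear_combination h
    have hRa := hQ.refl_diff_maps h2 D horth hc h01 hx hy hQx hQy hPx hPy ha
    have hRb := hQ.refl_diff_maps h2 D horth hc h12.symm hz hy hQz hQy hPz hPy hb
    refine ⟨hQ.refl _ ha * hQ.refl _ hb,
      ⟨?_, hQ.refl_mul_refl_mem ha hb (by rw [hQa, hQb]) hab⟩, ?_⟩
    · apply mem_stabSet_of_maps
      · intro u hu
        rw [LinearEquiv.mul_apply]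
        exact hRa _ (hRb _ hu)
      · intro u hu
        rw [mul_inv_rev, refl_inv, refl_inv, LinearEquiv.mul_apply]
        exact hRb _ (hRa _ hu)
    · intro hmem
      obtain ⟨σ, hσ⟩ := hmem.1
      have hgx : (hQ.refl _ ha * hQ.refl _ hb) x = y := by
        rw [LinearEquiv.mul_apply, hQ.refl_apply_of_orth _ hb, hQ.refl_swap (by rw [hQx, hQy]) ha]
        rw [map_sub, bxz, bxy, sub_zero]
      have hgx' : (hQ.refl _ ha * hQ.refl _ hb) x' = x' := by
        rw [LinearEquiv.mul_apply, hQ.refl_apply_of_orth _ hb, hQ.refl_apply_of_orth _ ha]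
        · rw [map_sub, hx'x, bx'y, sub_zero]
        · rw [map_sub, bx'z, bx'y, sub_zero]
      have h1 : y ∈ D (σ i0) := by
        rw [← hσ i0]
        have := Submodule.mem_map_of_mem (f := ((hQ.refl _ ha * hQ.refl _ hb : V ≃ₗ[K] V) :
          V →ₗ[K] V)) hx
        rwa [LinearEquiv.coe_coe, hgx] at this
      have h2' : x' ∈ D (σ i0) := by
        rw [← hσ i0]
        have := Submodule.mem_map_of_mem (f := ((hQ.refl _ ha * hQ.refl _ hb : V ≃ₗ[K] V) :
          V →ₗ[K] V)) hx'
        rwa [LinearEquiv.coe_coe, hgx'] at this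
      by_cases hs : σ i0 = i0
      · rw [hs] at h1
        have := horth i0 i1 h01 y h1 y hy
        rw [byy] at this
        exact h2c this
      · exact hx'x' (horth (σ i0) i0 hs x' h2' x' hx')
  · rw [SetLike.lt_iff_le_and_exists]
    refine ⟨inf_le_right, ?_⟩
    have hQa : Q (x + y + z + w) = 4 * c := by
      simp only [hQ.polar, map_add, LinearMap.add_apply, hQx, hQy, hQz, hQw, bxy, bxz, bxw, byz,
        byw, bzw]
      ring
    have hQb : Q ((2 : K) • v) = 4 * c := by
      rw [hQ.smul, hQv]; ring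
    have h4c : 4 * c ≠ 0 := by
      have : (4 : K) = 2 * 2 := by norm_num
      rw [this]
      exact mul_ne_zero (mul_ne_zero h2 h2) hc
    have ha : Q (x + y + z + w) ≠ 0 := by rw [hQa]; exact h4c
    have hb : Q ((2 : K) • v) ≠ 0 := by rw [hQb]; exact h4c
    have hBab : B (x + y + z + w) ((2 : K) • v) = 0 := by
      simp only [map_add, map_smul, LinearMap.add_apply, LinearMap.smul_apply, bxv, byv, bzv, bwv,
        smul_eq_mul, mul_zero, add_zero]
    have hab : Q ((x + y + z + w) - (2 : K) • v) ≠ 0 := by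
      rw [hQ.sub, hQa, hQb, hBab]
      intro h
      apply h4c
      have : (4 : K) * c * 2 = 0 := by linear_combination h
      rcases mul_eq_zero.1 this with h' | h'
      · exact h'
      · exact absurd h' h2
    have hBxa : B x (x + y + z + w) = 2 * c := by
      simp only [map_add, bxx, bxy, bxz, bxw, add_zero]
    have hgx : (hQ.refl _ ha * hQ.refl _ hb) x =
        x - ((4 * c)⁻¹ * (2 * c)) • (x + y + z + w) := by
      rw [LinearEquiv.mul_apply, hQ.refl_apply_of_orth _ hb (by
        rw [map_smul, bxv, smul_eq_mul, mul_zero]), hQ.refl_apply, hQa, hBxa]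
    have h4 : (4 : K) ≠ 0 := by
      have : (4 : K) = 2 * 2 := by norm_num
      rw [this]
      exact mul_ne_zero h2 h2
    have hcoef : (4 * c)⁻¹ * (2 * c) * (2 * c) = c := by
      rw [mul_inv]
      have e1 : (4 : K)⁻¹ * c⁻¹ * (2 * c) * (2 * c) = ((4 : K)⁻¹ * 4) * (c⁻¹ * c) * c := by ring
      rw [e1, inv_mul_cancel₀ h4, inv_mul_cancel₀ hc]
      ring
    refine ⟨hQ.refl _ ha * hQ.refl _ hb, hQ.refl_mul_refl_mem ha hb (by rw [hQa, hQb]) hab, ?_⟩
    intro hmem
    have hxS : x ∈ frameSet Q D c := ⟨hQx, i0, hx⟩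
    have h1 := (hmem.1 x).1 hxS
    rw [hgx] at h1
    obtain ⟨_, l, hl⟩ := h1
    by_cases hli : l = i0
    · subst hli
      have := horth l i1 h01 _ hl y hy
      simp only [map_sub, map_add, map_smul, LinearMap.sub_apply, LinearMap.add_apply,
        LinearMap.smul_apply, bxy, byy, bzy, bwy, smul_eq_mul, add_zero, zero_add, zero_sub,
        neg_eq_zero] at this
      apply hc
      rw [← hcoef]
      rw [this]
    · have := horth l i0 hli _ hl x hx
      simp only [map_sub, map_add, map_smul, LinearMap.sub_apply, LinearMap.add_apply,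
        LinearMap.smul_apply, bxx, byx, bzx, bwx, smul_eq_mul, add_zero] at this
      apply hc
      have h5 : (4 * c)⁻¹ * (2 * c) * (2 * c) = 2 * c := by linear_combination -this
      rw [hcoef] at h5
      have : c = 0 := by linear_combination -h5
      exact this

end QuadData

end Cfsg.Agent.Lib.Helper94
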