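/-
Helper94: orthogonal decompositions into hyperbolic planes with chosen hyperbolic bases.  In odd
characteristic, when every unit of the field has square `1` or `-1`, the stabiliser of such a
decomposition (in the commutator subgroup of the isometry group) is not maximal.
-/
import Mathlib
import Cfsg.Agent.Lib.Helper94.OrthFrameOdd

set_option autoImplicit false
set_option linter.unusedSimpArgs false
set_option linter.unusedSectionVars false
set_option linter.unusedVariables false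

namespace Cfsg.Agent.Lib.Helper94

open LinearMap (BilinForm)
open scoped commutatorElement

variable {K V : Type*} [Field K] [AddCommGroup V] [Module K V]

/-- A family of pairwise orthogonal hyperbolic planes, with hyperbolic bases. -/
structure HypDec (B : BilinForm K V) (Q : V → K) {t : ℕ} (D : Fin t → Submodule K V)
    (e f : Fin t → V) : Prop where
  Qe : ∀ i, Q (e i) = 0
  Qf : ∀ i, Q (f i) = 0
  Bef : ∀ i, B (e i) (f i) = 1
  span : ∀ i, D i = Submodule.span K {e i, f i}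
  orth : ∀ i j, i ≠ j → ∀ u ∈ D i, ∀ v ∈ D j, B u v = 0

namespace HypDec

variable {B : BilinForm K V} {Q : V → K} {t : ℕ} {D : Fin t → Submodule K V} {e f : Fin t → V}

lemma e_mem (h : HypDec B Q D e f) (i : Fin t) : e i ∈ D i := by
  rw [h.span]; exact Submodule.subset_span (Set.mem_insert _ _)

lemma f_mem (h : HypDec B Q D e f) (i : Fin t) : f i ∈ D i := by
  rw [h.span]; exact Submodule.subset_span (Set.mem_insert_of_mem _ rfl)

lemma exists_eq (h : HypDec B Q D e f) {i : Fin t} {v : V} (hv : v ∈ D i) :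
    ∃ α γ : K, v = α • e i + γ • f i := by
  rw [h.span, Submodule.mem_span_pair] at hv
  obtain ⟨α, γ, rfl⟩ := hv
  exact ⟨α, γ, rfl⟩

lemma comb_mem (h : HypDec B Q D e f) (i : Fin t) (α γ : K) : α • e i + γ • f i ∈ D i :=
  (D i).add_mem ((D i).smul_mem _ (h.e_mem i)) ((D i).smul_mem _ (h.f_mem i))

lemma add_mem' (h : HypDec B Q D e f) (i : Fin t) : e i + f i ∈ D i :=
  (D i).add_mem (h.e_mem i) (h.f_mem i)

lemma Bee (h : HypDec B Q D e f) (hQ : QuadData B Q) (i : Fin t) : B (e i) (e i) = 0 := by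
  rw [hQ.self, h.Qe, mul_zero]

lemma Bff (h : HypDec B Q D e f) (hQ : QuadData B Q) (i : Fin t) : B (f i) (f i) = 0 := by
  rw [hQ.self, h.Qf, mul_zero]

lemma Bfe (h : HypDec B Q D e f) (hQ : QuadData B Q) (i : Fin t) : B (f i) (e i) = 1 := by
  rw [hQ.symm, h.Bef]

lemma Q_comb (h : HypDec B Q D e f) (hQ : QuadData B Q) (i : Fin t) (α γ : K) :
    Q (α • e i + γ • f i) = α * γ := by
  rw [hQ.polar, hQ.smul, hQ.smul, h.Qe, h.Qf]
  simp only [map_smul, LinearMap.smul_apply, h.Bef, smul_eq_mul]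
  ring

lemma Q_add (h : HypDec B Q D e f) (hQ : QuadData B Q) (i : Fin t) : Q (e i + f i) = 1 := by
  rw [hQ.polar, h.Qe, h.Qf, h.Bef]; ring

/-- pairing of a vector of a member with `e + f` -/
lemma B_comb_add (h : HypDec B Q D e f) (hQ : QuadData B Q) (i : Fin t) (α γ : K) :
    B (α • e i + γ • f i) (e i + f i) = α + γ := by
  simp only [map_add, map_smul, LinearMap.add_apply, LinearMap.smul_apply, h.Bee hQ, h.Bff hQ,
    h.Bef, h.Bfe hQ, smul_eq_mul]
  ring

/-- a vector lying in a member and pairing non-trivially with vectors of two different members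
does not exist -/
lemma false_of_two (h : HypDec B Q D e f) {y s2 s3 : V} {l i2 i3 : Fin t} (h23 : i2 ≠ i3)
    (hy : y ∈ D l) (hs2 : s2 ∈ D i2) (hs3 : s3 ∈ D i3) (h2 : B y s2 ≠ 0) (h3 : B y s3 ≠ 0) :
    False := by
  by_cases hl : l = i2
  · subst hl
    exact h3 (h.orth l i3 h23 y hy s3 hs3)
  · exact h2 (h.orth l i2 hl y hy s2 hs2)

/-- the norm one vectors of a member, when all units have square `±1` -/
lemma nice (h : HypDec B Q D e f) (hQ : QuadData B Q)
    (hsq : ∀ α : K, α ≠ 0 → α ^ 2 = 1 ∨ α ^ 2 = -1) (i : Fin t) :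
    ∀ u ∈ D i, Q u = 1 → u = e i + f i ∨ u = -(e i + f i) ∨ B u (e i + f i) = 0 := by
  intro u hu hQu
  obtain ⟨α, γ, rfl⟩ := h.exists_eq hu
  rw [h.Q_comb hQ] at hQu
  have hα : α ≠ 0 := by
    rintro rfl
    rw [zero_mul] at hQu
    exact zero_ne_one hQu
  rcases hsq α hα with h1 | h1
  · have h3 : (α - 1) * (α + 1) = 0 := by linear_combination h1
    rcases mul_eq_zero.1 h3 with h4 | h4
    · have h5 : α = 1 := by linear_combination h4
      have h6 : γ = 1 := by rw [h5, one_mul] at hQu; exact hQu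
      left
      rw [h5, h6, one_smul, one_smul]
    · have h5 : α = -1 := by linear_combination h4
      have h6 : γ = -1 := by rw [h5] at hQu; linear_combination -hQu
      right; left
      rw [h5, h6, neg_smul, neg_smul, one_smul, one_smul, neg_add]
  · right; right
    rw [h.B_comb_add hQ]
    have h3 : α * (α + γ) = 0 := by linear_combination h1 + hQu
    rcases mul_eq_zero.1 h3 with h4 | h4
    · exact absurd h4 hα
    · exact h4

/-- **Non-maximality** of the stabiliser of a decomposition into hyperbolic planes, when all units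
of the field have square `±1` and the characteristic is odd. -/
theorem exists_between_odd (h : HypDec B Q D e f) (hQ : QuadData B Q) (h2 : (2 : K) ≠ 0)
    (hsq : ∀ α : K, α ≠ 0 → α ^ 2 = 1 ∨ α ^ 2 = -1) (ht : 5 ≤ t) :
    ∃ K' : Subgroup (V ≃ₗ[K] V),
      SympData.stabDec D ⊓ ⁅OG Q, OG Q⁆ < K' ∧ K' < ⁅OG Q, OG Q⁆ := by
  obtain ⟨i0, hi0⟩ : ∃ i0 : Fin t, i0 = ⟨0, by omega⟩ := ⟨_, rfl⟩
  obtain ⟨i1, hi1⟩ : ∃ i1 : Fin t, i1 = ⟨1, by omega⟩ := ⟨_, rfl⟩
  obtain ⟨i2, hi2⟩ : ∃ i2 : Fin t, i2 = ⟨2, by omega⟩ := ⟨_, rfl⟩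
  obtain ⟨i3, hi3⟩ : ∃ i3 : Fin t, i3 = ⟨3, by omega⟩ := ⟨_, rfl⟩
  obtain ⟨i4, hi4⟩ : ∃ i4 : Fin t, i4 = ⟨4, by omega⟩ := ⟨_, rfl⟩
  have h01 : i0 ≠ i1 := by rw [hi0, hi1]; intro h; simp [Fin.ext_iff] at h
  have h02 : i0 ≠ i2 := by rw [hi0, hi2]; intro h; simp [Fin.ext_iff] at h
  have h03 : i0 ≠ i3 := by rw [hi0, hi3]; intro h; simp [Fin.ext_iff] at h
  have h04 : i0 ≠ i4 := by rw [hi0, hi4]; intro h; simp [Fin.ext_iff] at h
  have h12 : i1 ≠ i2 := by rw [hi1, hi2]; intro h; simp [Fin.ext_iff] at h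
  have h13 : i1 ≠ i3 := by rw [hi1, hi3]; intro h; simp [Fin.ext_iff] at h
  have h14 : i1 ≠ i4 := by rw [hi1, hi4]; intro h; simp [Fin.ext_iff] at h
  have h23 : i2 ≠ i3 := by rw [hi2, hi3]; intro h; simp [Fin.ext_iff] at h
  have h24 : i2 ≠ i4 := by rw [hi2, hi4]; intro h; simp [Fin.ext_iff] at h
  have h34 : i3 ≠ i4 := by rw [hi3, hi4]; intro h; simp [Fin.ext_iff] at h
  have hx' : e i0 - f i0 ∈ D i0 := (D i0).sub_mem (h.e_mem i0) (h.f_mem i0)
  have hx'x : B (e i0 - f i0) (e i0 + f i0) = 0 := by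
    simp only [map_add, map_sub, LinearMap.sub_apply, h.Bee hQ, h.Bff hQ, h.Bef, h.Bfe hQ]
    ring
  have hx'x' : B (e i0 - f i0) (e i0 - f i0) ≠ 0 := by
    simp only [map_sub, LinearMap.sub_apply, h.Bee hQ, h.Bff hQ, h.Bef, h.Bfe hQ]
    intro h0
    apply h2
    linear_combination -h0
  exact hQ.exists_between_frame_odd h2 D h.orth one_ne_zero h01 h02 h03 h04 h12 h13 h14 h23 h24
    h34 (h.add_mem' i0) hx' (h.add_mem' i1) (h.add_mem' i2) (h.add_mem' i3) (h.add_mem' i4)
    (h.Q_add hQ i0) (h.Q_add hQ i1) (h.Q_add hQ i2) (h.Q_add hQ i3) (h.Q_add hQ i4) hx'x hx'x'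
    (h.nice hQ hsq i0) (h.nice hQ hsq i1) (h.nice hQ hsq i2)

end HypDec

end Cfsg.Agent.Lib.Helper94
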