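/-
Helper94: `Ω` is transitive on each class of maximal totally singular subspaces (abstract form):
a product of two reflections along vectors of equal norm is a commutator (Witt), and two
subspaces in the same class are connected by an even number of reflections of norm `-1`.
-/
import Mathlib
import Cfsg.Agent.Lib.Helper94.MaxSingular

set_option autoImplicit false
set_option linter.unusedSectionVars false
set_option linter.unusedVariables false

namespace Cfsg.Agent.Lib.Helper94

open Module Cfsg.Agent.Lib.Helper13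
open LinearMap (BilinForm)
open scoped commutatorElement

variable {F V : Type*} [Field F] [AddCommGroup V] [Module F V]

local notation "pol" => QuadraticMap.polar

/-- two reflections along vectors of the same norm are conjugate in the isometry group -/
theorem refl_conj_of_eq [FiniteDimensional F V] (Q : QuadraticForm F V)
    (hQ : (QuadraticMap.polarBilin Q).Nondegenerate)
    (v v' : V) (hv : Q v ≠ 0) (hvv' : Q v = Q v') (T T' : V ≃ₗ[F] V)
    (hT : ∀ z, T z = reflLin Q v z) (hT' : ∀ z, T' z = reflLin Q v' z) :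
    ∃ h ∈ isoGroup Q, h * T * h⁻¹ = T' := by
  have hv' : Q v' ≠ 0 := by rw [← hvv']; exact hv
  have hv0 : v ≠ 0 := by
    rintro rfl
    rw [QuadraticMap.map_zero] at hv
    exact hv rfl
  have hv'0 : v' ≠ 0 := by
    rintro rfl
    rw [QuadraticMap.map_zero] at hv'
    exact hv' rfl
  obtain ⟨h, hh, -, hhv⟩ := quad_core Q hQ ⊥ v v'
    (by rw [Submodule.mem_bot]; exact hv0) (by rw [Submodule.mem_bot]; exact hv'0)
    hvv' (by
      intro x hx
      rw [Submodule.mem_bot] at hx
      rw [hx, QuadraticMap.polar_zero_left])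
  have hpolh : ∀ z w, pol (⇑Q) (h z) (h w) = pol (⇑Q) z w := by
    intro z w
    unfold QuadraticMap.polar
    rw [← map_add, hh, hh, hh]
  refine ⟨h, hh, ?_⟩
  apply LinearEquiv.ext
  intro z
  change h (T (h⁻¹ z)) = T' z
  have hz : h (h⁻¹ z) = z := h.apply_symm_apply z
  rw [hT, hT', reflLin_apply, reflLin_apply, map_sub, map_smul, hz, hhv, ← hvv',
    ← hpolh v (h⁻¹ z), hz, hhv]

/-- a product of two reflections along vectors of the same norm lies in `Ω` -/
theorem refl_mul_refl_mem_commutator [FiniteDimensional F V] (Q : QuadraticForm F V)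
    (hQ : (QuadraticMap.polarBilin Q).Nondegenerate)
    (v v' : V) (hv : Q v ≠ 0) (hvv' : Q v = Q v') (T T' : V ≃ₗ[F] V)
    (hT : ∀ z, T z = reflLin Q v z) (hT' : ∀ z, T' z = reflLin Q v' z) :
    T' * T ∈ ⁅isoGroup Q, isoGroup Q⁆ := by
  obtain ⟨h, hh, hconj⟩ := refl_conj_of_eq Q hQ v v' hv hvv' T T' hT hT'
  have hTiso : T ∈ isoGroup Q := reflGroup_le_isoGroup Q (Subgroup.subset_closure ⟨v, hv, hT⟩)
  have hTT : T * T = 1 := by
    apply LinearEquiv.ext
    intro z
    change T (T z) = z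
    rw [hT, hT, reflLin_reflLin Q v hv]
  have hTinv : T⁻¹ = T := inv_eq_of_mul_eq_one_right hTT
  have : T' * T = ⁅h, T⁆ := by
    rw [commutatorElement_def, hTinv, hconj]
  rw [this]
  exact Subgroup.commutator_mem_commutator hh hTiso

/-- **Step lemma** with the norm of the reflection vector exposed. -/
theorem exists_refl_neg_one_finrank_inf_succ [FiniteDimensional F V] (Q : QuadraticForm F V)
    (hQ : (QuadraticMap.polarBilin Q).Nondegenerate) (U U' : Submodule F V)
    (hU : ∀ u ∈ U, Q u = 0) (hU' : ∀ u ∈ U', Q u = 0) (hdim : 2 * finrank F U = finrank F V)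
    (hdim' : finrank F U' = finrank F U) (hne : U ≠ U') :
    ∃ (v : V) (T : V ≃ₗ[F] V), Q v = -1 ∧ (∀ z, T z = reflLin Q v z) ∧
      finrank F (U ⊓ U'.map (T : V →ₗ[F] V) : Submodule F V)
        = finrank F (U ⊓ U' : Submodule F V) + 1 := by
  have hUU : LinearMap.BilinForm.orthogonal (QuadraticMap.polarBilin Q) U = U :=
    orthogonal_eq_self Q hQ U hU hdim
  obtain ⟨u, hu, u₀, hu₀, hne0⟩ : ∃ u ∈ U, ∃ u' ∈ U', pol (⇑Q) u u' ≠ 0 := by
    by_contra hcon
    push Not at hcon
    apply hne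
    symm
    apply Submodule.eq_of_le_of_finrank_eq
    · intro x hx
      rw [← hUU, LinearMap.BilinForm.mem_orthogonal_iff]
      intro n hn
      exact hcon n hn x hx
    · exact hdim'
  set u' : V := (pol (⇑Q) u u₀)⁻¹ • u₀ with hu'def
  have hu' : u' ∈ U' := U'.smul_mem _ hu₀
  have huu' : pol (⇑Q) u u' = 1 := by
    rw [hu'def, QuadraticMap.polar_smul_right, smul_eq_mul, inv_mul_cancel₀ hne0]
  have hQu : Q u = 0 := hU u hu
  have hQu' : Q u' = 0 := hU' u' hu'
  set v : V := u - u' with hv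
  have hQv : Q v = -1 := by
    rw [hv, Q_sub, hQu, hQu', huu']
    ring
  have hQv0 : Q v ≠ 0 := by rw [hQv]; exact neg_ne_zero.2 one_ne_zero
  obtain ⟨T, hT⟩ := exists_equiv_of_isom Q hQ (reflLin Q v) (reflLin_isom Q v hQv0)
  have hTapp : ∀ z, T z = z + pol (⇑Q) v z • v := by
    intro z
    rw [hT, reflLin_apply, hQv]
    have : ((-1 : F))⁻¹ = -1 := by norm_num
    rw [this, neg_one_mul, neg_smul, sub_neg_eq_add]
  refine ⟨v, T, hQv, hT, ?_⟩
  set I : Submodule F V := U ⊓ U' with hI
  have huI : u ∉ I := by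
    intro h
    have := polar_eq_zero_of_singular Q U' hU' h.2 hu'
    rw [huu'] at this
    exact one_ne_zero this
  have hu0 : u ≠ 0 := by
    rintro rfl
    exact huI I.zero_mem
  have hTu' : T u' = u := by
    rw [hTapp, hv, QuadraticMap.polar_sub_left, huu', polar_self', hQu']
    simp
  have hTI : ∀ i ∈ I, T i = i := by
    intro i hi
    rw [hTapp, hv, QuadraticMap.polar_sub_left, polar_eq_zero_of_singular Q U hU hu hi.1,
      polar_eq_zero_of_singular Q U' hU' hu' hi.2]
    simp
  have hkey : (U ⊓ U'.map (T : V →ₗ[F] V) : Submodule F V) = I ⊔ Submodule.span F {u} := by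
    apply le_antisymm
    · rintro x ⟨hxU, y, hy, rfl⟩
      have hxU' : T y ∈ U := hxU
      have hTy : T y = y + pol (⇑Q) u y • (u - u') := by
        rw [hTapp, hv, QuadraticMap.polar_sub_left, polar_eq_zero_of_singular Q U' hU' hu' hy, sub_zero]
      set c := pol (⇑Q) u y with hc
      have h1 : y - c • u' ∈ U := by
        have : y - c • u' = T y - c • u := by
          rw [hTy, smul_sub]
          abel
        rw [this]
        exact U.sub_mem hxU' (U.smul_mem _ hu)
      have h2 : y - c • u' ∈ U' := U'.sub_mem hy (U'.smul_mem _ hu')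
      have h3 : (T : V →ₗ[F] V) y = (y - c • u') + c • u := by
        show T y = _
        rw [hTy, smul_sub]
        abel
      rw [h3]
      exact Submodule.add_mem_sup ⟨h1, h2⟩ (Submodule.smul_mem _ _ (Submodule.mem_span_singleton_self u))
    · apply sup_le
      · intro i hi
        exact ⟨hi.1, ⟨i, hi.2, hTI i hi⟩⟩
      · rw [Submodule.span_le]
        intro x hx
        rw [Set.mem_singleton_iff] at hx
        rw [hx]
        exact ⟨hu, ⟨u', hu', hTu'⟩⟩
  rw [hkey]
  have hinf : I ⊓ Submodule.span F {u} = ⊥ := by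
    rw [eq_bot_iff]
    rintro x ⟨hxI, hxu⟩
    obtain ⟨c, rfl⟩ := Submodule.mem_span_singleton.mp hxu
    by_cases hc : c = 0
    · rw [hc, zero_smul]; exact Submodule.zero_mem _
    · exfalso
      apply huI
      have := I.smul_mem c⁻¹ hxI
      rwa [smul_smul, inv_mul_cancel₀ hc, one_smul] at this
  have h := Submodule.finrank_sup_add_finrank_inf_eq I (Submodule.span F {u})
  rw [hinf, finrank_bot, add_zero, finrank_span_singleton hu0] at h
  exact h

/-- **`Ω` is transitive on each class of maximal totally singular subspaces.** -/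
theorem exists_mem_commutator_map_eq [FiniteDimensional F V] (Q : QuadraticForm F V)
    (hQ : (QuadraticMap.polarBilin Q).Nondegenerate) (W : Submodule F V)
    (hW : ∀ u ∈ W, Q u = 0) (hdim : 2 * finrank F W = finrank F V) :
    ∀ (j : ℕ) (U : Submodule F V), (∀ u ∈ U, Q u = 0) → finrank F U = finrank F W →
      finrank F W - finrank F (W ⊓ U : Submodule F V) = 2 * j →
      ∃ g ∈ ⁅isoGroup Q, isoGroup Q⁆, U.map (g : V →ₗ[F] V) = W := by
  intro j
  induction j with
  | zero =>
    intro U hU hfr hj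
    have hle : finrank F (W ⊓ U : Submodule F V) ≤ finrank F W := Submodule.finrank_mono inf_le_left
    have h1 : (W ⊓ U : Submodule F V) = W :=
      Submodule.eq_of_le_of_finrank_eq inf_le_left (by omega)
    have h2 : W ≤ U := by
      intro x hx
      have : x ∈ (W ⊓ U : Submodule F V) := by rw [h1]; exact hx
      exact this.2
    have h3 : W = U := Submodule.eq_of_le_of_finrank_eq h2 hfr.symm
    refine ⟨1, Subgroup.one_mem _, ?_⟩
    rw [h3]
    exact Submodule.map_id U
  | succ j ih =>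
    intro U hU hfr hj
    have hne : W ≠ U := by
      intro h
      rw [← h, inf_idem] at hj
      omega
    obtain ⟨v₁, T₁, hv₁, hT₁, hf₁⟩ :=
      exists_refl_neg_one_finrank_inf_succ Q hQ W U hW hU hdim hfr hne
    have hv₁0 : Q v₁ ≠ 0 := by rw [hv₁]; exact neg_ne_zero.2 one_ne_zero
    have hT₁iso : T₁ ∈ isoGroup Q :=
      reflGroup_le_isoGroup Q (Subgroup.subset_closure ⟨v₁, hv₁0, hT₁⟩)
    set U₁ : Submodule F V := U.map (T₁ : V →ₗ[F] V) with hU₁def
    have hU₁ : ∀ u ∈ U₁, Q u = 0 := by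
      rintro _ ⟨u, hu, rfl⟩
      show Q (T₁ u) = 0
      rw [hT₁iso u, hU u hu]
    have hfr₁ : finrank F U₁ = finrank F W := by
      rw [hU₁def, LinearEquiv.finrank_map_eq T₁ U, hfr]
    have hne₁ : W ≠ U₁ := by
      intro h
      rw [← h, inf_idem] at hf₁
      omega
    obtain ⟨v₂, T₂, hv₂, hT₂, hf₂⟩ :=
      exists_refl_neg_one_finrank_inf_succ Q hQ W U₁ hW hU₁ hdim hfr₁ hne₁
    have hv₂0 : Q v₂ ≠ 0 := by rw [hv₂]; exact neg_ne_zero.2 one_ne_zero
    have hT₂iso : T₂ ∈ isoGroup Q :=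
      reflGroup_le_isoGroup Q (Subgroup.subset_closure ⟨v₂, hv₂0, hT₂⟩)
    set U₂ : Submodule F V := U₁.map (T₂ : V →ₗ[F] V) with hU₂def
    have hU₂ : ∀ u ∈ U₂, Q u = 0 := by
      rintro _ ⟨u, hu, rfl⟩
      show Q (T₂ u) = 0
      rw [hT₂iso u, hU₁ u hu]
    have hfr₂ : finrank F U₂ = finrank F W := by
      rw [hU₂def, LinearEquiv.finrank_map_eq T₂ U₁, hfr₁]
    have hj₂ : finrank F W - finrank F (W ⊓ U₂ : Submodule F V) = 2 * j := by
      rw [hf₂, hf₁]
      omega
    obtain ⟨g', hg', hmap⟩ := ih U₂ hU₂ hfr₂ hj₂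
    have hTT : T₂ * T₁ ∈ ⁅isoGroup Q, isoGroup Q⁆ :=
      refl_mul_refl_mem_commutator Q hQ v₁ v₂ hv₁0 (by rw [hv₁, hv₂]) T₁ T₂ hT₁ hT₂
    refine ⟨g' * (T₂ * T₁), Subgroup.mul_mem _ hg' hTT, ?_⟩
    have : ((g' * (T₂ * T₁) : V ≃ₗ[F] V) : V →ₗ[F] V)
        = (g' : V →ₗ[F] V) ∘ₗ ((T₂ : V →ₗ[F] V) ∘ₗ (T₁ : V →ₗ[F] V)) := rfl
    rw [this, Submodule.map_comp, Submodule.map_comp]
    exact hmap

end Cfsg.Agent.Lib.Helper94
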