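/-
Helper94: products of two reflections and the group `Ω` (the commutator subgroup of the isometry
group) in characteristic two: `Ω` is generated by the products `r_a r_b` with `Q a = Q b = c`, every
isometry can be corrected into `Ω` by a reflection, and Witt's lemma in the `QuadData` vocabulary.
-/
import Mathlib
import Cfsg.Agent.Lib.Helper94.MaxSingular2
import Cfsg.Agent.Lib.Helper94.MaxSingularBridge
import Cfsg.Agent.Lib.Helper94.OrthSiegel
import Cfsg.Agent.Lib.Helper94.OrthSingular2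

set_option autoImplicit false
set_option linter.unusedSimpArgs false
set_option linter.unusedSectionVars false
set_option linter.unusedVariables false

namespace Cfsg.Agent.Lib.Helper94

open LinearMap (BilinForm)
open scoped commutatorElement
open Module

variable {K V : Type*} [Field K] [AddCommGroup V] [Module K V]

namespace QuadData

variable {B : BilinForm K V} {Q : V → K}

/-- the reflections of `QuadData` are those of helper13 -/
lemma refl_eq_reflLin (hQ : QuadData B Q) (a : V) (ha : Q a ≠ 0) (z : V) :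
    hQ.refl a ha z = Cfsg.Agent.Lib.Helper13.reflLin hQ.toQF a z := by
  rw [refl_apply, Cfsg.Agent.Lib.Helper13.reflLin_apply, polar_toQF, toQF_apply, hQ.symm a z]

lemma refl_mem_reflSet (hQ : QuadData B Q) (a : V) (ha : Q a ≠ 0) :
    hQ.refl a ha ∈ Cfsg.Agent.Lib.Helper13.reflSet hQ.toQF :=
  ⟨a, ha, fun z => hQ.refl_eq_reflLin a ha z⟩

lemma refl_mul_self (hQ : QuadData B Q) (a : V) (ha : Q a ≠ 0) :
    hQ.refl a ha * hQ.refl a ha = 1 := by
  have := mul_inv_cancel (hQ.refl a ha)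
  rwa [refl_inv] at this

/-- a reflection only depends on the line of its vector -/
lemma refl_smul (hQ : QuadData B Q) (a : V) (ha : Q a ≠ 0) (l : K) (hl : l ≠ 0)
    (hla : Q (l • a) ≠ 0) : hQ.refl (l • a) hla = hQ.refl a ha := by
  apply LinearEquiv.ext
  intro z
  rw [refl_apply, refl_apply, hQ.smul, map_smul, smul_smul]
  congr 2
  simp only [smul_eq_mul]
  field_simp

/-- a product of two reflections along vectors of the same norm lies in `Ω` -/
lemma refl_mul_refl_mem' [FiniteDimensional K V] (hQ : QuadData B Q)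
    (hnd : ∀ x, (∀ y, B x y = 0) → x = 0) {a b : V} (ha : Q a ≠ 0) (hb : Q b ≠ 0)
    (hab : Q a = Q b) : hQ.refl a ha * hQ.refl b hb ∈ ⁅OG Q, OG Q⁆ := by
  have h := refl_mul_refl_mem_commutator hQ.toQF (hQ.nondeg_toQF hnd) b a hb hab.symm
    (hQ.refl b hb) (hQ.refl a ha) (fun z => hQ.refl_eq_reflLin b hb z)
    (fun z => hQ.refl_eq_reflLin a ha z)
  rw [← OG_eq_isoGroup] at h
  exact h

/-- **Witt's lemma**: an isometry fixing a subspace pointwise and moving `x` to `y` -/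
lemma exists_isometry_fixing [FiniteDimensional K V] (hQ : QuadData B Q)
    (hnd : ∀ x, (∀ y, B x y = 0) → x = 0) (H : Submodule K V) {x y : V} (hx : x ∉ H)
    (hy : y ∉ H) (hxy : Q x = Q y) (hH : ∀ h ∈ H, B h (y - x) = 0) :
    ∃ T : V ≃ₗ[K] V, T ∈ OG Q ∧ (∀ h ∈ H, T h = h) ∧ T x = y := by
  obtain ⟨T, hT1, hT2, hT3⟩ := Cfsg.Agent.Lib.Helper13.quad_core hQ.toQF (hQ.nondeg_toQF hnd) H x y
    hx hy hxy (fun h hh => by rw [polar_toQF]; exact hH h hh)
  exact ⟨T, hT1, hT2, hT3⟩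


/-- the parity of an isometry followed by a reflection -/
lemma par_mul_refl [FiniteDimensional K V] (hQ : QuadData B Q)
    (hnd : ∀ x, (∀ y, B x y = 0) → x = 0)
    (hF : (∀ a b : K, ∃ x : K, x ≠ a ∧ x ≠ b) ∨ Module.finrank K V ≠ 4)
    {T : V ≃ₗ[K] V} (hT : T ∈ OG Q) (b : V) (hb : Q b ≠ 0) :
    Cfsg.Agent.Lib.Helper13.par (T * hQ.refl b hb) = Cfsg.Agent.Lib.Helper13.par T + 1 := by
  have hT' : T ∈ Cfsg.Agent.Lib.Helper13.isoGroup hQ.toQF := by rw [← OG_eq_isoGroup]; exact hT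
  have hTr := Cfsg.Agent.Lib.Helper13.isoGroup_le_reflGroup hQ.toQF (hQ.nondeg_toQF hnd) hF hT'
  have hb' : hQ.refl b hb ∈ Cfsg.Agent.Lib.Helper13.isoGroup hQ.toQF := by
    rw [← OG_eq_isoGroup]; exact hQ.refl_mem_OG b hb
  rw [Cfsg.Agent.Lib.Helper13.par_mul hQ.toQF (hQ.nondeg_toQF hnd) T hTr _ hb',
    Cfsg.Agent.Lib.Helper13.par_refl hQ.toQF (hQ.nondeg_toQF hnd) _ (hQ.refl_mem_reflSet b hb)]

lemma zmod2_cases (a : ZMod 2) : a = 0 ∨ a = 1 := by
  fin_cases a
  · left; rfl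
  · right; rfl

/-- in characteristic two, every isometry lies in `Ω` up to a reflection -/
lemma mem_commutator_or_mul_refl [CharP K 2] [FiniteDimensional K V] (hQ : QuadData B Q)
    (hnd : ∀ x, (∀ y, B x y = 0) → x = 0)
    (hF : (∀ a b : K, ∃ x : K, x ≠ a ∧ x ≠ b) ∨ Module.finrank K V ≠ 4)
    (hsq : ∀ a : K, IsSquare a) {T : V ≃ₗ[K] V} (hT : T ∈ OG Q) (b : V) (hb : Q b ≠ 0) :
    T ∈ ⁅OG Q, OG Q⁆ ∨ T * hQ.refl b hb ∈ ⁅OG Q, OG Q⁆ := by
  rcases zmod2_cases (Cfsg.Agent.Lib.Helper13.par T) with h | h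
  · left
    exact mem_commutator_of_par_eq_zero hQ.toQF (hQ.nondeg_toQF hnd) hF hsq T hT h
  · right
    apply mem_commutator_of_par_eq_zero hQ.toQF (hQ.nondeg_toQF hnd) hF hsq _
      (mul_mem hT (hQ.refl_mem_OG b hb))
    rw [hQ.par_mul_refl hnd hF hT b hb, h]
    exact CharTwo.add_self_eq_zero _

/-- in characteristic two over a perfect field, `Ω` is generated by the products of two reflections
along vectors of a fixed non-zero norm -/
lemma commutator_le_of_refl_pairs [CharP K 2] [FiniteDimensional K V] (hQ : QuadData B Q)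
    (hnd : ∀ x, (∀ y, B x y = 0) → x = 0)
    (hF : (∀ a b : K, ∃ x : K, x ≠ a ∧ x ≠ b) ∨ Module.finrank K V ≠ 4)
    (hsq : ∀ a : K, IsSquare a) {c₀ : K} (hc₀ : c₀ ≠ 0) {v₀ : V} (hv₀ : Q v₀ = c₀)
    (M : Subgroup (V ≃ₗ[K] V))
    (hM : ∀ (a b : V) (ha : Q a ≠ 0) (hb : Q b ≠ 0), Q a = c₀ → Q b = c₀ →
      hQ.refl a ha * hQ.refl b hb ∈ M) : ⁅OG Q, OG Q⁆ ≤ M := by
  have hv₀' : Q v₀ ≠ 0 := by rw [hv₀]; exact hc₀
  have hndQ := hQ.nondeg_toQF hnd
  -- normalising reflection vectors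
  have hnorm : ∀ T ∈ Cfsg.Agent.Lib.Helper13.reflSet hQ.toQF, ∃ (a : V) (ha : Q a ≠ 0),
      Q a = c₀ ∧ T = hQ.refl a ha := by
    rintro T ⟨v, hv, hTv⟩
    rw [toQF_apply] at hv
    obtain ⟨l, hl⟩ := hsq (c₀ / Q v)
    have hl0 : l ≠ 0 := by
      rintro rfl
      rw [mul_zero] at hl
      exact (div_ne_zero hc₀ hv) hl
    have hQa : Q (l • v) = c₀ := by
      rw [hQ.smul, pow_two, ← hl]
      field_simp
    have ha : Q (l • v) ≠ 0 := by rw [hQa]; exact hc₀
    refine ⟨l • v, ha, hQa, ?_⟩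
    rw [hQ.refl_smul v hv l hl0 ha]
    apply LinearEquiv.ext
    intro z
    rw [hTv, hQ.refl_eq_reflLin v hv]
  -- the induction
  have key : ∀ x ∈ Cfsg.Agent.Lib.Helper13.reflGroup hQ.toQF, x ∈ OG Q ∧
      (Cfsg.Agent.Lib.Helper13.par x = 0 → x ∈ M) ∧
      (Cfsg.Agent.Lib.Helper13.par x = 1 → hQ.refl v₀ hv₀' * x ∈ M) := by
    intro x hx
    unfold Cfsg.Agent.Lib.Helper13.reflGroup at hx
    have hstep : ∀ T ∈ Cfsg.Agent.Lib.Helper13.reflSet hQ.toQF, ∀ y : V ≃ₗ[K] V,
        (y ∈ OG Q ∧ (Cfsg.Agent.Lib.Helper13.par y = 0 → y ∈ M) ∧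
          (Cfsg.Agent.Lib.Helper13.par y = 1 → hQ.refl v₀ hv₀' * y ∈ M)) →
        (T * y ∈ OG Q ∧ (Cfsg.Agent.Lib.Helper13.par (T * y) = 0 → T * y ∈ M) ∧
          (Cfsg.Agent.Lib.Helper13.par (T * y) = 1 → hQ.refl v₀ hv₀' * (T * y) ∈ M)) := by
      intro T hT y ⟨hy, hy0, hy1⟩
      obtain ⟨a, ha, hQa, rfl⟩ := hnorm T hT
      have hy' : y ∈ Cfsg.Agent.Lib.Helper13.isoGroup hQ.toQF := by
        rw [← OG_eq_isoGroup]; exact hy
      have hpar := Cfsg.Agent.Lib.Helper13.par_refl_mul hQ.toQF hndQ y hy' _ hT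
      refine ⟨mul_mem (hQ.refl_mem_OG a ha) hy, ?_, ?_⟩
      · intro h0
        rw [hpar] at h0
        have h1 : Cfsg.Agent.Lib.Helper13.par y = 1 := by
          have h2 : (1 : ZMod 2) + 1 = 0 := CharTwo.add_self_eq_zero _
          linear_combination h0 - h2
        have h3 := hy1 h1
        have h4 := hM a v₀ ha hv₀' hQa hv₀
        have : hQ.refl a ha * y = (hQ.refl a ha * hQ.refl v₀ hv₀') * (hQ.refl v₀ hv₀' * y) := by
          rw [mul_assoc, ← mul_assoc (hQ.refl v₀ hv₀'), hQ.refl_mul_self, one_mul]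
        rw [this]
        exact mul_mem h4 h3
      · intro h1
        rw [hpar] at h1
        have h0 : Cfsg.Agent.Lib.Helper13.par y = 0 := by
          linear_combination h1
        have h3 := hy0 h0
        have h4 := hM v₀ a hv₀' ha hv₀ hQa
        rw [← mul_assoc]
        exact mul_mem h4 h3
    induction hx using Subgroup.closure_induction_left with
    | one =>
      refine ⟨one_mem _, fun _ => one_mem _, fun h => ?_⟩
      rw [Cfsg.Agent.Lib.Helper13.par_one] at h
      exact absurd h (by decide)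
    | mul_left T hT y _ ih => exact hstep T hT y ih
    | inv_mul_cancel T hT y _ ih =>
      obtain ⟨a, ha, hQa, hTa⟩ := hnorm T hT
      have : T⁻¹ = T := by rw [hTa, refl_inv]
      rw [this]
      exact hstep T hT y ih
  intro x hx
  have hxO : x ∈ OG Q := commutator_le_OG hx
  have hx' : x ∈ Cfsg.Agent.Lib.Helper13.isoGroup hQ.toQF := by rw [← OG_eq_isoGroup]; exact hxO
  have hxr := Cfsg.Agent.Lib.Helper13.isoGroup_le_reflGroup hQ.toQF hndQ hF hx'
  exact (key x hxr).2.1 (par_eq_zero_of_mem_commutator hQ.toQF hndQ hF x hx)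


/-- a non-singular vector orthogonal to two given vectors -/
lemma exists_nonsingular_orth [FiniteDimensional K V] (hQ : QuadData B Q)
    (hnd : ∀ x, (∀ y, B x y = 0) → x = 0) (hdim : 5 ≤ finrank K V) (u u' : V) :
    ∃ b : V, Q b ≠ 0 ∧ B b u = 0 ∧ B b u' = 0 := by
  by_contra hcon
  push Not at hcon
  let f : V →ₗ[K] (Fin 2 → K) := LinearMap.pi ![B.flip u, B.flip u']
  have hmem : ∀ x, x ∈ LinearMap.ker f ↔ B x u = 0 ∧ B x u' = 0 := by
    intro x
    rw [LinearMap.mem_ker]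
    constructor
    · intro h
      have h0 := congrFun h 0
      have h1 := congrFun h 1
      simp only [f, LinearMap.pi_apply, Matrix.cons_val_zero, Matrix.cons_val_one,
        LinearMap.flip_apply, Pi.zero_apply] at h0 h1
      exact ⟨h0, h1⟩
    · rintro ⟨h0, h1⟩
      ext i
      fin_cases i
      · simpa [f] using h0
      · simpa [f] using h1
  have hZ : ∀ z ∈ LinearMap.ker f, Q z = 0 := by
    intro z hz
    obtain ⟨h0, h1⟩ := (hmem z).1 hz
    by_contra hne
    exact hcon z hne h0 h1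
  have hle : LinearMap.ker f ≤ B.orthogonal (LinearMap.ker f) := by
    intro x hx
    rw [LinearMap.BilinForm.mem_orthogonal_iff]
    intro y hy
    exact hQ.B_eq_zero_of_singular _ hZ hy hx
  have h1 := Submodule.finrank_mono hle
  rw [LinearMap.BilinForm.finrank_orthogonal (hQ.nondegenerate_of hnd)] at h1
  have h2 := LinearMap.finrank_range_add_finrank_ker f
  have h3 : finrank K (LinearMap.range f) ≤ 2 := by
    have := Submodule.finrank_le (LinearMap.range f)
    rwa [Module.finrank_fin_fun] at this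
  omega

/-- in characteristic two over a perfect field a non-singular vector can be rescaled to any
non-zero norm -/
lemma exists_smul_norm (hQ : QuadData B Q) (hsq : ∀ a : K, IsSquare a) {b : V} (hb : Q b ≠ 0)
    (c : K) : ∃ l : K, Q (l • b) = c := by
  obtain ⟨l, hl⟩ := hsq (c / Q b)
  refine ⟨l, ?_⟩
  rw [hQ.smul, pow_two, ← hl]
  field_simp

/-- a vector of prescribed norm orthogonal to two given vectors -/
lemma exists_norm_orth [FiniteDimensional K V] (hQ : QuadData B Q)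
    (hnd : ∀ x, (∀ y, B x y = 0) → x = 0) (hsq : ∀ a : K, IsSquare a)
    (hdim : 5 ≤ finrank K V) (u u' : V) (c : K) :
    ∃ b : V, Q b = c ∧ B b u = 0 ∧ B b u' = 0 := by
  obtain ⟨b, hb, h1, h2⟩ := hQ.exists_nonsingular_orth hnd hdim u u'
  obtain ⟨l, hl⟩ := hQ.exists_smul_norm hsq hb c
  refine ⟨l • b, hl, ?_, ?_⟩
  · rw [map_smul, LinearMap.smul_apply, h1, smul_zero]
  · rw [map_smul, LinearMap.smul_apply, h2, smul_zero]

end QuadData

end Cfsg.Agent.Lib.Helper94
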