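/-
Helper94: over the field with two elements, the stabiliser (in the commutator subgroup of the
isometry group) of an orthogonal decomposition into hyperbolic planes is not maximal: it lies in
the stabiliser of the set of the non-singular vectors of the planes.
-/
import Mathlib
import Cfsg.Agent.Lib.Helper94.HypDec
import Cfsg.Agent.Lib.Helper94.OmegaRefl

set_option autoImplicit false
set_option linter.unusedSimpArgs false
set_option linter.unusedSectionVars false
set_option linter.unusedVariables false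

namespace Cfsg.Agent.Lib.Helper94

open LinearMap (BilinForm)
open scoped commutatorElement

variable {K V : Type*} [Field K] [AddCommGroup V] [Module K V]

/-- an element of the stabiliser of a decomposition maps a vector of a member into a member -/
lemma exists_mem_of_mem_stabDec {t : ℕ} {D : Fin t → Submodule K V} {g : V ≃ₗ[K] V}
    (hg : g ∈ SympData.stabDec D) {i : Fin t} {x : V} (hx : x ∈ D i) : ∃ l, g x ∈ D l := by
  obtain ⟨σ, hσ⟩ := hg
  refine ⟨σ i, ?_⟩
  rw [← hσ i]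
  exact Submodule.mem_map_of_mem (f := (g : V →ₗ[K] V)) hx

namespace HypDec

variable {B : BilinForm K V} {Q : V → K} {t : ℕ} {D : Fin t → Submodule K V} {e f : Fin t → V}

/-- in characteristic two, the norm of the sum of three pairwise orthogonal vectors of norms
`c1, c2, c3` -/
lemma Q_add3 (hQ : QuadData B Q) {x y z : V} (hxy : B x y = 0) (hxz : B x z = 0)
    (hyz : B y z = 0) : Q (x + y + z) = Q x + Q y + Q z := by
  rw [hQ.polar, hQ.polar, hxy, map_add, LinearMap.add_apply, hxz, hyz]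
  ring

/-- **Non-maximality** of the stabiliser of a decomposition into hyperbolic planes over the field
with two elements. -/
theorem exists_between_two [Fintype K] [FiniteDimensional K V] (h : HypDec B Q D e f)
    (hQ : QuadData B Q) (hnd : ∀ x, (∀ y, B x y = 0) → x = 0) (hK : Fintype.card K = 2)
    (ht : 4 ≤ t) :
    ∃ K' : Subgroup (V ≃ₗ[K] V),
      SympData.stabDec D ⊓ ⁅OG Q, OG Q⁆ < K' ∧ K' < ⁅OG Q, OG Q⁆ := by
  have h2 : (2 : K) = 0 := QuadData.two_eq_zero hK
  obtain ⟨i0, hi0⟩ : ∃ i0 : Fin t, i0 = ⟨0, by omega⟩ := ⟨_, rfl⟩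
  obtain ⟨i1, hi1⟩ : ∃ i1 : Fin t, i1 = ⟨1, by omega⟩ := ⟨_, rfl⟩
  obtain ⟨i2, hi2⟩ : ∃ i2 : Fin t, i2 = ⟨2, by omega⟩ := ⟨_, rfl⟩
  obtain ⟨i3, hi3⟩ : ∃ i3 : Fin t, i3 = ⟨3, by omega⟩ := ⟨_, rfl⟩
  have h01 : i0 ≠ i1 := by rw [hi0, hi1]; intro h; simp [Fin.ext_iff] at h
  have h02 : i0 ≠ i2 := by rw [hi0, hi2]; intro h; simp [Fin.ext_iff] at h
  have h03 : i0 ≠ i3 := by rw [hi0, hi3]; intro h; simp [Fin.ext_iff] at h
  have h12 : i1 ≠ i2 := by rw [hi1, hi2]; intro h; simp [Fin.ext_iff] at h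
  have h13 : i1 ≠ i3 := by rw [hi1, hi3]; intro h; simp [Fin.ext_iff] at h
  have h23 : i2 ≠ i3 := by rw [hi2, hi3]; intro h; simp [Fin.ext_iff] at h
  -- the non-singular vectors
  obtain ⟨u, hu⟩ : ∃ u : Fin t → V, u = fun i => e i + f i := ⟨_, rfl⟩
  have hu_mem : ∀ i, u i ∈ D i := fun i => by rw [hu]; exact h.add_mem' i
  have hQu : ∀ i, Q (u i) = 1 := fun i => by rw [hu]; exact h.Q_add hQ i
  have hBuu : ∀ i j, B (u i) (u j) = 0 := by
    intro i j
    by_cases hij : i = j
    · subst hij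
      rw [hQ.self, hQu, h2, zero_mul]
    · exact h.orth i j hij _ (hu_mem i) _ (hu_mem j)
  have hframe : ∀ v ∈ QuadData.frameSet Q D 1, ∃ l, v = u l := by
    intro v hv
    obtain ⟨hv1, l, hvl⟩ := hv
    obtain ⟨α, γ, rfl⟩ := h.exists_eq hvl
    rw [h.Q_comb hQ] at hv1
    refine ⟨l, ?_⟩
    rcases QuadData.eq_of_card_two hK α with hα | hα
    · rw [hα, zero_mul] at hv1
      exact absurd hv1 zero_ne_one
    rcases QuadData.eq_of_card_two hK γ with hγ | hγ
    · rw [hγ, mul_zero] at hv1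
      exact absurd hv1 zero_ne_one
    rw [hα, hγ, one_smul, one_smul, hu]
  have hframeB : ∀ v ∈ QuadData.frameSet Q D 1, ∀ j, B v (u j) = 0 := by
    intro v hv j
    obtain ⟨l, rfl⟩ := hframe v hv
    exact hBuu l j
  have hone : (1 : K) ≠ 0 := one_ne_zero
  have hBeu : ∀ i, B (e i) (u i) = 1 := fun i => by
    rw [hu]
    simp only [map_add, h.Bee hQ, h.Bef, zero_add]
  have hBfu : ∀ i, B (f i) (u i) = 1 := fun i => by
    rw [hu]
    simp only [map_add, h.Bff hQ, h.Bfe hQ, add_zero]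
  have hBue : ∀ i, B (u i) (e i) = 1 := fun i => by rw [hQ.symm, hBeu]
  have hBuf : ∀ i, B (u i) (f i) = 1 := fun i => by rw [hQ.symm, hBfu]
  refine ⟨stabSet (QuadData.frameSet Q D 1) ⊓ ⁅OG Q, OG Q⁆, ?_, ?_⟩
  · rw [SetLike.lt_iff_le_and_exists]
    refine ⟨hQ.stabDec_le_stabSet D 1, ?_⟩
    have hQa : Q (u i0 + u i1 + u i2) = 1 := by
      rw [Q_add3 hQ (hBuu _ _) (hBuu _ _) (hBuu _ _), hQu, hQu, hQu]
      linear_combination h2
    have ha : Q (u i0 + u i1 + u i2) ≠ 0 := by rw [hQa]; exact hone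
    have hb : Q (u i3) ≠ 0 := by rw [hQu]; exact hone
    have hfixa : ∀ v ∈ QuadData.frameSet Q D 1, hQ.refl _ ha v = v := by
      intro v hv
      apply hQ.refl_apply_of_orth
      rw [map_add, map_add, hframeB v hv, hframeB v hv, hframeB v hv, add_zero, add_zero]
    have hfixb : ∀ v ∈ QuadData.frameSet Q D 1, hQ.refl _ hb v = v := by
      intro v hv
      apply hQ.refl_apply_of_orth
      exact hframeB v hv _
    refine ⟨hQ.refl _ ha * hQ.refl _ hb,
      ⟨?_, hQ.refl_mul_refl_mem' hnd ha hb (by rw [hQa, hQu])⟩, ?_⟩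
    · apply mem_stabSet_of_maps
      · intro v hv
        rw [LinearEquiv.mul_apply, hfixb v hv, hfixa v hv]
        exact hv
      · intro v hv
        rw [mul_inv_rev, QuadData.refl_inv, QuadData.refl_inv, LinearEquiv.mul_apply, hfixa v hv,
          hfixb v hv]
        exact hv
    · intro hmem
      obtain ⟨l, hl⟩ := exists_mem_of_mem_stabDec hmem.1 (h.e_mem i0)
      have hge : (hQ.refl _ ha * hQ.refl _ hb) (e i0) = e i0 - (u i0 + u i1 + u i2) := by
        rw [LinearEquiv.mul_apply, hQ.refl_apply_of_orth _ hb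
          (h.orth i0 i3 h03 _ (h.e_mem i0) _ (hu_mem i3)), hQ.refl_apply, hQa]
        have : B (e i0) (u i0 + u i1 + u i2) = 1 := by
          rw [map_add, map_add, hBeu, h.orth i0 i1 h01 _ (h.e_mem i0) _ (hu_mem i1),
            h.orth i0 i2 h02 _ (h.e_mem i0) _ (hu_mem i2), add_zero, add_zero]
        rw [this, inv_one, one_mul, one_smul]
      rw [hge] at hl
      apply h.false_of_two h12 hl (h.e_mem i1) (h.e_mem i2)
      · simp only [map_sub, map_add, LinearMap.sub_apply, LinearMap.add_apply, hBue,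
          h.orth i0 i1 h01 _ (h.e_mem i0) _ (h.e_mem i1),
          h.orth i0 i1 h01 _ (hu_mem i0) _ (h.e_mem i1),
          h.orth i2 i1 h12.symm _ (hu_mem i2) _ (h.e_mem i1)]
        norm_num
      · simp only [map_sub, map_add, LinearMap.sub_apply, LinearMap.add_apply, hBue,
          h.orth i0 i2 h02 _ (h.e_mem i0) _ (h.e_mem i2),
          h.orth i0 i2 h02 _ (hu_mem i0) _ (h.e_mem i2),
          h.orth i1 i2 h12 _ (hu_mem i1) _ (h.e_mem i2)]
        norm_num
  · rw [SetLike.lt_iff_le_and_exists]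
    refine ⟨inf_le_right, ?_⟩
    have hQa : Q (e i0 + e i1 + u i2) = 1 := by
      rw [Q_add3 hQ (h.orth i0 i1 h01 _ (h.e_mem i0) _ (h.e_mem i1))
        (h.orth i0 i2 h02 _ (h.e_mem i0) _ (hu_mem i2))
        (h.orth i1 i2 h12 _ (h.e_mem i1) _ (hu_mem i2)), h.Qe, h.Qe, hQu]
      ring
    have ha : Q (e i0 + e i1 + u i2) ≠ 0 := by rw [hQa]; exact hone
    have hb : Q (u i3) ≠ 0 := by rw [hQu]; exact hone
    refine ⟨hQ.refl _ ha * hQ.refl _ hb, hQ.refl_mul_refl_mem' hnd ha hb (by rw [hQa, hQu]), ?_⟩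
    intro hmem
    have hxS : u i0 ∈ QuadData.frameSet Q D 1 := ⟨hQu i0, i0, hu_mem i0⟩
    have h1 := (hmem.1 (u i0)).1 hxS
    have hgu : (hQ.refl _ ha * hQ.refl _ hb) (u i0) = u i0 - (e i0 + e i1 + u i2) := by
      rw [LinearEquiv.mul_apply, hQ.refl_apply_of_orth _ hb (hBuu _ _), hQ.refl_apply, hQa]
      have : B (u i0) (e i0 + e i1 + u i2) = 1 := by
        rw [map_add, map_add, hBue, h.orth i0 i1 h01 _ (hu_mem i0) _ (h.e_mem i1), hBuu,
          add_zero, add_zero]
      rw [this, inv_one, one_mul, one_smul]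
    rw [hgu] at h1
    obtain ⟨_, l, hl⟩ := h1
    apply h.false_of_two h12 hl (h.f_mem i1) (h.e_mem i2)
    · simp only [map_sub, map_add, LinearMap.sub_apply, LinearMap.add_apply, h.Bef,
        h.orth i0 i1 h01 _ (h.e_mem i0) _ (h.f_mem i1),
        h.orth i0 i1 h01 _ (hu_mem i0) _ (h.f_mem i1),
        h.orth i2 i1 h12.symm _ (hu_mem i2) _ (h.f_mem i1)]
      norm_num
    · simp only [map_sub, map_add, LinearMap.sub_apply, LinearMap.add_apply, hBue,
        h.orth i0 i2 h02 _ (h.e_mem i0) _ (h.e_mem i2),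
        h.orth i0 i2 h02 _ (hu_mem i0) _ (h.e_mem i2),
        h.orth i1 i2 h12 _ (h.e_mem i1) _ (h.e_mem i2)]
      norm_num

end HypDec

end Cfsg.Agent.Lib.Helper94
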