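/-
Helper94: over the field with four elements, the stabiliser (in the commutator subgroup of the
isometry group) of an orthogonal decomposition into hyperbolic planes is not maximal: it lies in
the stabiliser of the additive group generated by the vectors of norm one of the planes (a
structure over the prime field).
-/
import Mathlib
import Cfsg.Agent.Lib.Helper94.HypDec2

set_option autoImplicit false
set_option linter.unusedSimpArgs false
set_option linter.unusedSectionVars false
set_option linter.unusedVariables false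

namespace Cfsg.Agent.Lib.Helper94

open LinearMap (BilinForm)
open scoped commutatorElement

variable {K V : Type*} [Field K] [AddCommGroup V] [Module K V]

/-- the stabiliser of a set stabilises the additive subgroup it generates -/
lemma stabSet_le_stabSet_closure (S : Set V) :
    stabSet (K := K) S ≤ stabSet (K := K) (AddSubgroup.closure S : Set V) := by
  have key : ∀ g ∈ stabSet (K := K) S, ∀ v ∈ AddSubgroup.closure S,
      g v ∈ AddSubgroup.closure S := by
    intro g hg v hv
    induction hv using AddSubgroup.closure_induction with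
    | mem x hx => exact AddSubgroup.subset_closure ((hg x).1 hx)
    | zero => rw [map_zero]; exact zero_mem _
    | add x y _ _ hx hy => rw [map_add]; exact add_mem hx hy
    | neg x _ hx => rw [map_neg]; exact neg_mem hx
  intro g hg
  exact mem_stabSet_of_maps (key g hg) (key g⁻¹ (inv_mem hg))

section FourElements

variable [Fintype K]

lemma two_eq_zero_of_card_four (hK : Fintype.card K = 4) : (2 : K) = 0 := by
  have h4 := Nat.cast_card_eq_zero K
  rw [hK] at h4
  have h5 : (2 : K) * 2 = 0 := by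
    have : ((4 : ℕ) : K) = 2 * 2 := by norm_num
    rw [← this]; exact h4
  rcases mul_eq_zero.1 h5 with h | h <;> exact h

lemma exists_omega_of_card_four (hK : Fintype.card K = 4) :
    ∃ ω : K, ω ≠ 0 ∧ ω ^ 2 + ω + 1 = 0 := by
  classical
  have hlt : ({0, 1} : Finset K).card < (Finset.univ : Finset K).card := by
    have h1 : ({0, 1} : Finset K).card ≤ 2 := Finset.card_le_two
    rw [Finset.card_univ, hK]
    omega
  obtain ⟨ω, _, hω⟩ := Finset.exists_mem_notMem_of_card_lt_card hlt
  have hω0 : ω ≠ 0 := by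
    rintro rfl
    exact hω (by simp)
  have hω1 : ω ≠ 1 := by
    rintro rfl
    exact hω (by simp)
  refine ⟨ω, hω0, ?_⟩
  have h3 := FiniteField.pow_card_sub_one_eq_one ω hω0
  rw [hK] at h3
  have h4 : (ω - 1) * (ω ^ 2 + ω + 1) = 0 := by
    have : ω ^ 3 = 1 := h3
    linear_combination this
  rcases mul_eq_zero.1 h4 with h | h
  · exact absurd (sub_eq_zero.1 h) hω1
  · exact h

/-- over the field with four elements `ρ + ρ⁻¹` lies in the prime field -/
lemma exists_int_of_mul_eq_one (hK : Fintype.card K = 4) {ρ γ : K} (h : ρ * γ = 1) :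
    ∃ n : ℤ, ρ + γ = n := by
  have hρ : ρ ≠ 0 := by
    rintro rfl
    rw [zero_mul] at h
    exact zero_ne_one h
  have h3 := FiniteField.pow_card_sub_one_eq_one ρ hρ
  rw [hK] at h3
  have h3' : ρ ^ 3 = 1 := h3
  have h4 : (ρ - 1) * (ρ ^ 2 + ρ + 1) = 0 := by linear_combination h3'
  rcases mul_eq_zero.1 h4 with h5 | h5
  · have h6 : ρ = 1 := sub_eq_zero.1 h5
    have h7 : γ = 1 := by rw [h6, one_mul] at h; exact h
    refine ⟨2, ?_⟩
    rw [h6, h7]; norm_num
  · have h7 : γ = ρ ^ 2 := by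
      have : γ = (ρ * γ) * ρ ^ 2 := by
        have : (ρ * γ) * ρ ^ 2 = γ * ρ ^ 3 := by ring
        rw [this, h3', mul_one]
      rw [this, h, one_mul]
    refine ⟨-1, ?_⟩
    rw [h7]
    push_cast
    linear_combination h5

lemma intCast_eq_of_two_eq_zero (h2 : (2 : K) = 0) (n : ℤ) : (n : K) = 0 ∨ (n : K) = 1 := by
  have h1 := Int.emod_add_mul_ediv n 2
  rcases Int.emod_two_eq_zero_or_one n with h | h
  · left
    rw [h, zero_add] at h1
    rw [← h1]
    push_cast
    rw [h2, zero_mul]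
  · right
    rw [h] at h1
    rw [← h1]
    push_cast
    rw [h2, zero_mul, add_zero]

end FourElements

namespace HypDec

variable {B : BilinForm K V} {Q : V → K} {t : ℕ} {D : Fin t → Submodule K V} {e f : Fin t → V}

lemma B_comb (h : HypDec B Q D e f) (hQ : QuadData B Q) (i : Fin t) (α γ α' γ' : K) :
    B (α • e i + γ • f i) (α' • e i + γ' • f i) = α * γ' + γ * α' := by
  simp only [map_add, map_smul, LinearMap.add_apply, LinearMap.smul_apply, h.Bee hQ, h.Bff hQ,
    h.Bef, h.Bfe hQ, smul_eq_mul]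
  ring

/-- a reflection along a vector of norm one of a lattice, having integral pairings with the
generators, preserves the lattice -/
lemma refl_maps_closure (hQ : QuadData B Q) {S : Set V} {a : V} (ha : Q a ≠ 0) (hQa : Q a = 1)
    (haS : a ∈ AddSubgroup.closure S) (hint : ∀ s ∈ S, ∃ n : ℤ, B s a = n) :
    ∀ x ∈ AddSubgroup.closure S, hQ.refl a ha x ∈ AddSubgroup.closure S := by
  intro x hx
  induction hx using AddSubgroup.closure_induction with
  | mem s hs =>
    obtain ⟨n, hn⟩ := hint s hs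
    rw [hQ.refl_apply, hQa, inv_one, one_mul, hn, Int.cast_smul_eq_zsmul]
    exact sub_mem (AddSubgroup.subset_closure hs) (zsmul_mem haS n)
  | zero => rw [map_zero]; exact zero_mem _
  | add x y _ _ hx hy => rw [map_add]; exact add_mem hx hy
  | neg x _ hx => rw [map_neg]; exact neg_mem hx

/-- **Non-maximality** of the stabiliser of a decomposition into hyperbolic planes over the field
with four elements. -/
theorem exists_between_four [Fintype K] [FiniteDimensional K V] (h : HypDec B Q D e f)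
    (hQ : QuadData B Q) (hnd : ∀ x, (∀ y, B x y = 0) → x = 0) (hK : Fintype.card K = 4)
    (ht : 4 ≤ t) :
    ∃ K' : Subgroup (V ≃ₗ[K] V),
      SympData.stabDec D ⊓ ⁅OG Q, OG Q⁆ < K' ∧ K' < ⁅OG Q, OG Q⁆ := by
  have h2 : (2 : K) = 0 := two_eq_zero_of_card_four hK
  obtain ⟨ω, hω0, hω⟩ := exists_omega_of_card_four hK
  obtain ⟨i0, hi0⟩ : ∃ i0 : Fin t, i0 = ⟨0, by omega⟩ := ⟨_, rfl⟩
  obtain ⟨i1, hi1⟩ : ∃ i1 : Fin t, i1 = ⟨1, by omega⟩ := ⟨_, rfl⟩
  obtain ⟨i2, hi2⟩ : ∃ i2 : Fin t, i2 = ⟨2, by omega⟩ := ⟨_, rfl⟩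
  obtain ⟨i3, hi3⟩ : ∃ i3 : Fin t, i3 = ⟨3, by omega⟩ := ⟨_, rfl⟩
  have h01 : i0 ≠ i1 := by rw [hi0, hi1]; intro h; simp [Fin.ext_iff] at h
  have h02 : i0 ≠ i2 := by rw [hi0, hi2]; intro h; simp [Fin.ext_iff] at h
  have h03 : i0 ≠ i3 := by rw [hi0, hi3]; intro h; simp [Fin.ext_iff] at h
  have h12 : i1 ≠ i2 := by rw [hi1, hi2]; intro h; simp [Fin.ext_iff] at h
  have h13 : i1 ≠ i3 := by rw [hi1, hi3]; intro h; simp [Fin.ext_iff] at h
  have h23 : i2 ≠ i3 := by rw [hi2, hi3]; intro h; simp [Fin.ext_iff] at h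
  -- the vectors `e + f`
  obtain ⟨u, hu⟩ : ∃ u : Fin t → V, u = fun i => e i + f i := ⟨_, rfl⟩
  have hu_mem : ∀ i, u i ∈ D i := fun i => by rw [hu]; exact h.add_mem' i
  have hQu : ∀ i, Q (u i) = 1 := fun i => by rw [hu]; exact h.Q_add hQ i
  have hBuu : ∀ i j, B (u i) (u j) = 0 := by
    intro i j
    by_cases hij : i = j
    · subst hij
      rw [hQ.self, hQu, h2, zero_mul]
    · exact h.orth i j hij _ (hu_mem i) _ (hu_mem j)
  obtain ⟨S, hS⟩ : ∃ S : Set V, S = QuadData.frameSet Q D 1 := ⟨_, rfl⟩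
  have huS : ∀ i, u i ∈ S := fun i => by rw [hS]; exact ⟨hQu i, i, hu_mem i⟩
  have huL : ∀ i, u i ∈ AddSubgroup.closure S := fun i => AddSubgroup.subset_closure (huS i)
  have hintu : ∀ s ∈ S, ∀ j, ∃ n : ℤ, B s (u j) = n := by
    intro s hs j
    rw [hS] at hs
    obtain ⟨hs1, l, hsl⟩ := hs
    by_cases hlj : l = j
    · subst hlj
      obtain ⟨ρ, γ, rfl⟩ := h.exists_eq hsl
      rw [h.Q_comb hQ] at hs1
      rw [hu]
      simp only
      rw [h.B_comb_add hQ]
      exact exists_int_of_mul_eq_one hK hs1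
    · exact ⟨0, by rw [h.orth l j hlj _ hsl _ (hu_mem j), Int.cast_zero]⟩
  have hone : (1 : K) ≠ 0 := one_ne_zero
  have hBeu : ∀ i, B (e i) (u i) = 1 := fun i => by
    rw [hu]
    simp only [map_add, h.Bee hQ, h.Bef, zero_add]
  have hBue : ∀ i, B (u i) (e i) = 1 := fun i => by rw [hQ.symm, hBeu]
  refine ⟨stabSet (AddSubgroup.closure S : Set V) ⊓ ⁅OG Q, OG Q⁆, ?_, ?_⟩
  · rw [SetLike.lt_iff_le_and_exists]
    refine ⟨le_trans (hQ.stabDec_le_stabSet D 1) (inf_le_inf_right _ ?_), ?_⟩
    · rw [hS]; exact stabSet_le_stabSet_closure _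
    have hQa : Q (u i0 + u i1 + u i2) = 1 := by
      rw [Q_add3 hQ (hBuu _ _) (hBuu _ _) (hBuu _ _), hQu, hQu, hQu]
      linear_combination h2
    have ha : Q (u i0 + u i1 + u i2) ≠ 0 := by rw [hQa]; exact hone
    have hb : Q (u i3) ≠ 0 := by rw [hQu]; exact hone
    have haL : u i0 + u i1 + u i2 ∈ AddSubgroup.closure S :=
      add_mem (add_mem (huL i0) (huL i1)) (huL i2)
    have hinta : ∀ s ∈ S, ∃ n : ℤ, B s (u i0 + u i1 + u i2) = n := by
      intro s hs
      obtain ⟨n0, hn0⟩ := hintu s hs i0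
      obtain ⟨n1, hn1⟩ := hintu s hs i1
      obtain ⟨n2, hn2⟩ := hintu s hs i2
      refine ⟨n0 + n1 + n2, ?_⟩
      rw [map_add, map_add, hn0, hn1, hn2]
      push_cast
      rfl
    have hRa := refl_maps_closure hQ ha hQa haL hinta
    have hRb := refl_maps_closure hQ hb (hQu i3) (huL i3) (fun s hs => hintu s hs i3)
    refine ⟨hQ.refl _ ha * hQ.refl _ hb,
      ⟨?_, hQ.refl_mul_refl_mem' hnd ha hb (by rw [hQa, hQu])⟩, ?_⟩
    · apply mem_stabSet_of_maps
      · intro v hv
        rw [LinearEquiv.mul_apply]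
        exact hRa _ (hRb _ hv)
      · intro v hv
        rw [mul_inv_rev, QuadData.refl_inv, QuadData.refl_inv, LinearEquiv.mul_apply]
        exact hRb _ (hRa _ hv)
    · intro hmem
      obtain ⟨l, hl⟩ := exists_mem_of_mem_stabDec hmem.1 (h.e_mem i0)
      have hge : (hQ.refl _ ha * hQ.refl _ hb) (e i0) = e i0 - (u i0 + u i1 + u i2) := by
        rw [LinearEquiv.mul_apply, hQ.refl_apply_of_orth _ hb
          (h.orth i0 i3 h03 _ (h.e_mem i0) _ (hu_mem i3)), hQ.refl_apply, hQa]
        have : B (e i0) (u i0 + u i1 + u i2) = 1 := by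
          rw [map_add, map_add, hBeu, h.orth i0 i1 h01 _ (h.e_mem i0) _ (hu_mem i1),
            h.orth i0 i2 h02 _ (h.e_mem i0) _ (hu_mem i2), add_zero, add_zero]
        rw [this, inv_one, one_mul, one_smul]
      rw [hge] at hl
      apply h.false_of_two h12 hl (h.e_mem i1) (h.e_mem i2)
      · simp only [map_sub, map_add, LinearMap.sub_apply, LinearMap.add_apply, hBue,
          h.orth i0 i1 h01 _ (h.e_mem i0) _ (h.e_mem i1),
          h.orth i0 i1 h01 _ (hu_mem i0) _ (h.e_mem i1),
          h.orth i2 i1 h12.symm _ (hu_mem i2) _ (h.e_mem i1)]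
        norm_num
      · simp only [map_sub, map_add, LinearMap.sub_apply, LinearMap.add_apply, hBue,
          h.orth i0 i2 h02 _ (h.e_mem i0) _ (h.e_mem i2),
          h.orth i0 i2 h02 _ (hu_mem i0) _ (h.e_mem i2),
          h.orth i1 i2 h12 _ (hu_mem i1) _ (h.e_mem i2)]
        norm_num
  · rw [SetLike.lt_iff_le_and_exists]
    refine ⟨inf_le_right, ?_⟩
    have hω3 : ω ^ 3 = 1 := by
      have : (ω - 1) * (ω ^ 2 + ω + 1) = ω ^ 3 - 1 := by ring
      rw [hω, mul_zero] at this
      exact (sub_eq_zero.1 this.symm)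
    have hQa : Q (u i0 + ω • u i1) = 1 + ω ^ 2 := by
      rw [hQ.polar, hQ.smul, hQu, hQu, map_smul, hBuu, smul_zero]
      ring
    have hQb : Q ((1 + ω) • u i3) = 1 + ω ^ 2 := by
      rw [hQ.smul, hQu]
      linear_combination ω * h2
    have hne : (1 : K) + ω ^ 2 ≠ 0 := by
      intro h0
      apply hω0
      linear_combination hω - h0
    have ha : Q (u i0 + ω • u i1) ≠ 0 := by rw [hQa]; exact hne
    have hb : Q ((1 + ω) • u i3) ≠ 0 := by rw [hQb]; exact hne
    refine ⟨hQ.refl _ ha * hQ.refl _ hb, hQ.refl_mul_refl_mem' hnd ha hb (by rw [hQa, hQb]), ?_⟩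
    intro hmem
    -- the test vector
    obtain ⟨s, hs⟩ : ∃ s : V, s = ω • e i0 + ω ^ 2 • f i0 := ⟨_, rfl⟩
    have hsD : s ∈ D i0 := by rw [hs]; exact h.comb_mem i0 _ _
    have hQs : Q s = 1 := by
      rw [hs, h.Q_comb hQ]
      linear_combination hω3
    have hsS : s ∈ S := by rw [hS]; exact ⟨hQs, i0, hsD⟩
    have hsL : s ∈ AddSubgroup.closure S := AddSubgroup.subset_closure hsS
    have hBsu : B s (u i0) = -1 := by
      rw [hs, hu]
      simp only
      rw [h.B_comb_add hQ]
      linear_combination hω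
    have hBsa : B s (u i0 + ω • u i1) = -1 := by
      rw [map_add, map_smul, hBsu, h.orth i0 i1 h01 _ hsD _ (hu_mem i1), smul_zero, add_zero]
    have hBsb : B s ((1 + ω) • u i3) = 0 := by
      rw [map_smul, h.orth i0 i3 h03 _ hsD _ (hu_mem i3), smul_zero]
    have hgs : (hQ.refl _ ha * hQ.refl _ hb) s
        = s - ((1 + ω ^ 2)⁻¹ * (-1)) • (u i0 + ω • u i1) := by
      rw [LinearEquiv.mul_apply, hQ.refl_apply_of_orth _ hb hBsb, hQ.refl_apply, hQa, hBsa]
    -- the invariant
    have hinv : ∀ x ∈ AddSubgroup.closure S, ∃ n : ℤ, B x s = n := by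
      intro x hx
      induction hx using AddSubgroup.closure_induction with
      | mem s' hs' =>
        rw [hS] at hs'
        obtain ⟨hs1, l, hsl⟩ := hs'
        by_cases hl : l = i0
        · subst hl
          obtain ⟨ρ, γ, rfl⟩ := h.exists_eq hsl
          rw [h.Q_comb hQ] at hs1
          rw [hs, h.B_comb hQ]
          apply exists_int_of_mul_eq_one hK
          have : ρ * ω ^ 2 * (γ * ω) = (ρ * γ) * ω ^ 3 := by ring
          rw [this, hs1, hω3, mul_one]
        · exact ⟨0, by rw [h.orth l i0 hl _ hsl _ hsD, Int.cast_zero]⟩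
      | zero => exact ⟨0, by rw [map_zero, LinearMap.zero_apply, Int.cast_zero]⟩
      | add x y _ _ hx hy =>
        obtain ⟨n, hn⟩ := hx
        obtain ⟨m, hm⟩ := hy
        exact ⟨n + m, by rw [map_add, LinearMap.add_apply, hn, hm, Int.cast_add]⟩
      | neg x _ hx =>
        obtain ⟨n, hn⟩ := hx
        exact ⟨-n, by rw [map_neg, LinearMap.neg_apply, hn, Int.cast_neg]⟩
    have h1 := (hmem.1 s).1 hsL
    obtain ⟨n, hn⟩ := hinv _ h1
    rw [hgs] at hn
    have hBas : B (u i0 + ω • u i1) s = -1 := by rw [hQ.symm, hBsa]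
    have hBss : B s s = 0 := by rw [hQ.self, hQs, h2, zero_mul]
    simp only [map_sub, map_smul, LinearMap.sub_apply, LinearMap.smul_apply, hBas, hBss,
      smul_eq_mul] at hn
    have hn' : (n : K) = -(1 + ω ^ 2)⁻¹ := by rw [← hn]; ring
    rcases intCast_eq_of_two_eq_zero h2 n with h0 | h0
    · rw [h0] at hn'
      have : (1 + ω ^ 2)⁻¹ = 0 := by linear_combination hn'
      exact hne (inv_eq_zero.1 this)
    · rw [h0] at hn'
      have h5 : (1 + ω ^ 2)⁻¹ * (1 + ω ^ 2) = 1 := inv_mul_cancel₀ hne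
      have h6 : (1 + ω ^ 2)⁻¹ = -1 := by linear_combination hn'
      rw [h6] at h5
      apply hω0
      have : ω ^ 2 = 0 := by linear_combination -h5 - h2
      exact pow_eq_zero_iff (by norm_num) |>.1 this

end HypDec

end Cfsg.Agent.Lib.Helper94
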