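/-
Helper94: over the field with two elements, an orthogonal decomposition into four-dimensional
spaces of plus type refines to a decomposition into anisotropic planes, so its stabiliser (in
the commutator subgroup of the isometry group) is not maximal: it lies in the stabiliser of the
set of the non-singular vectors of the members.
-/
import Mathlib
import Cfsg.Agent.Lib.Helper94.HypDec2
import Cfsg.Agent.Lib.Helper94.OrthSiegel

set_option autoImplicit false
set_option linter.unusedSimpArgs false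
set_option linter.unusedSectionVars false
set_option linter.unusedVariables false

namespace Cfsg.Agent.Lib.Helper94

open LinearMap (BilinForm)
open scoped commutatorElement

variable {K V : Type*} [Field K] [AddCommGroup V] [Module K V]

/-- A family of pairwise orthogonal four-dimensional spaces, each the orthogonal sum of two planes
with bases `a, b` and `a', b'` of vectors of norm one with `B a b = 1 = B a' b'`. -/
structure MinusDec (B : BilinForm K V) (Q : V → K) {t : ℕ} (D : Fin t → Submodule K V)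
    (a b a' b' : Fin t → V) : Prop where
  Qa : ∀ i, Q (a i) = 1
  Qb : ∀ i, Q (b i) = 1
  Qa' : ∀ i, Q (a' i) = 1
  Qb' : ∀ i, Q (b' i) = 1
  Bab : ∀ i, B (a i) (b i) = 1
  Ba'b' : ∀ i, B (a' i) (b' i) = 1
  Baa' : ∀ i, B (a i) (a' i) = 0
  Bab' : ∀ i, B (a i) (b' i) = 0
  Bba' : ∀ i, B (b i) (a' i) = 0
  Bbb' : ∀ i, B (b i) (b' i) = 0
  span : ∀ i, D i = Submodule.span K {a i, b i} ⊔ Submodule.span K {a' i, b' i}
  orth : ∀ i j, i ≠ j → ∀ u ∈ D i, ∀ v ∈ D j, B u v = 0

/-- a vector lying in a member of an orthogonal family and pairing non-trivially with vectors of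
two different members does not exist -/
lemma false_of_two_orth {B : BilinForm K V} {t : ℕ} {D : Fin t → Submodule K V}
    (horth : ∀ i j, i ≠ j → ∀ u ∈ D i, ∀ v ∈ D j, B u v = 0)
    {y s2 s3 : V} {l i2 i3 : Fin t} (h23 : i2 ≠ i3)
    (hy : y ∈ D l) (hs2 : s2 ∈ D i2) (hs3 : s3 ∈ D i3) (h2 : B y s2 ≠ 0) (h3 : B y s3 ≠ 0) :
    False := by
  by_cases hl : l = i2
  · subst hl
    exact h3 (horth l i3 h23 y hy s3 hs3)
  · exact h2 (horth l i2 hl y hy s2 hs2)

/-- the values of the anisotropic norm form over the field with two elements -/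
lemma minus_norm [Fintype K] (hK : Fintype.card K = 2) (l m : K) :
    (l = 0 ∧ m = 0) ∨ l ^ 2 + m ^ 2 + l * m = 1 := by
  have h2 : (2 : K) = 0 := QuadData.two_eq_zero hK
  rcases QuadData.eq_of_card_two hK l with hl | hl <;>
    rcases QuadData.eq_of_card_two hK m with hm | hm
  · left; exact ⟨hl, hm⟩
  · right; rw [hl, hm]; ring
  · right; rw [hl, hm]; ring
  · right; rw [hl, hm]; linear_combination h2

namespace MinusDec

variable {B : BilinForm K V} {Q : V → K} {t : ℕ} {D : Fin t → Submodule K V}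
  {a b a' b' : Fin t → V}

lemma a_mem (h : MinusDec B Q D a b a' b') (i : Fin t) : a i ∈ D i := by
  rw [h.span]
  exact Submodule.mem_sup_left (Submodule.subset_span (Set.mem_insert _ _))

lemma b_mem (h : MinusDec B Q D a b a' b') (i : Fin t) : b i ∈ D i := by
  rw [h.span]
  exact Submodule.mem_sup_left (Submodule.subset_span (Set.mem_insert_of_mem _ rfl))

lemma a'_mem (h : MinusDec B Q D a b a' b') (i : Fin t) : a' i ∈ D i := by
  rw [h.span]
  exact Submodule.mem_sup_right (Submodule.subset_span (Set.mem_insert _ _))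

lemma b'_mem (h : MinusDec B Q D a b a' b') (i : Fin t) : b' i ∈ D i := by
  rw [h.span]
  exact Submodule.mem_sup_right (Submodule.subset_span (Set.mem_insert_of_mem _ rfl))

lemma comb_mem (h : MinusDec B Q D a b a' b') (i : Fin t) (l m : K) :
    l • a i + m • b i ∈ D i :=
  (D i).add_mem ((D i).smul_mem _ (h.a_mem i)) ((D i).smul_mem _ (h.b_mem i))

lemma comb'_mem (h : MinusDec B Q D a b a' b') (i : Fin t) (l m : K) :
    l • a' i + m • b' i ∈ D i :=
  (D i).add_mem ((D i).smul_mem _ (h.a'_mem i)) ((D i).smul_mem _ (h.b'_mem i))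

lemma exists_eq (h : MinusDec B Q D a b a' b') {i : Fin t} {x : V} (hx : x ∈ D i) :
    ∃ l m l' m' : K, x = (l • a i + m • b i) + (l' • a' i + m' • b' i) := by
  rw [h.span, Submodule.mem_sup] at hx
  obtain ⟨p, hp, p', hp', rfl⟩ := hx
  rw [Submodule.mem_span_pair] at hp hp'
  obtain ⟨l, m, rfl⟩ := hp
  obtain ⟨l', m', rfl⟩ := hp'
  exact ⟨l, m, l', m', rfl⟩

lemma Q_comb (h : MinusDec B Q D a b a' b') (hQ : QuadData B Q) (i : Fin t) (l m : K) :
    Q (l • a i + m • b i) = l ^ 2 + m ^ 2 + l * m := by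
  rw [hQ.polar, hQ.smul, hQ.smul, h.Qa, h.Qb]
  simp only [map_smul, LinearMap.smul_apply, h.Bab, smul_eq_mul]
  ring

lemma Q_comb' (h : MinusDec B Q D a b a' b') (hQ : QuadData B Q) (i : Fin t) (l m : K) :
    Q (l • a' i + m • b' i) = l ^ 2 + m ^ 2 + l * m := by
  rw [hQ.polar, hQ.smul, hQ.smul, h.Qa', h.Qb']
  simp only [map_smul, LinearMap.smul_apply, h.Ba'b', smul_eq_mul]
  ring

lemma B_comb_comb' (h : MinusDec B Q D a b a' b') (i : Fin t) (l m l' m' : K) :
    B (l • a i + m • b i) (l' • a' i + m' • b' i) = 0 := by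
  simp only [map_add, map_smul, LinearMap.add_apply, LinearMap.smul_apply, h.Baa', h.Bab',
    h.Bba', h.Bbb', smul_eq_mul, mul_zero, add_zero]

/-- over the field with two elements a vector of norm one of a member lies in one of its two
planes -/
lemma frame_cases [Fintype K] (h : MinusDec B Q D a b a' b') (hQ : QuadData B Q)
    (hK : Fintype.card K = 2) {i : Fin t} {x : V} (hx : x ∈ D i) (hQx : Q x = 1) :
    (∃ l m : K, x = l • a i + m • b i) ∨ (∃ l m : K, x = l • a' i + m • b' i) := by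
  have h2 : (2 : K) = 0 := QuadData.two_eq_zero hK
  obtain ⟨l, m, l', m', rfl⟩ := h.exists_eq hx
  rw [hQ.polar, h.Q_comb hQ, h.Q_comb' hQ, h.B_comb_comb', add_zero] at hQx
  rcases minus_norm hK l m with ⟨hl, hm⟩ | h1
  · right
    exact ⟨l', m', by rw [hl, hm, zero_smul, zero_smul, zero_add, zero_add]⟩
  rcases minus_norm hK l' m' with ⟨hl, hm⟩ | h1'
  · left
    exact ⟨l, m, by rw [hl, hm, zero_smul, zero_smul, zero_add, add_zero]⟩
  exfalso
  rw [h1, h1'] at hQx
  have : (1 : K) = 0 := by linear_combination h2 - hQx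
  exact one_ne_zero this

/-- the pairings of a vector of the second plane of a member with the basis vectors of the first
planes -/
lemma B_comb'_a (h : MinusDec B Q D a b a' b') (hQ : QuadData B Q) (j i : Fin t) (l m : K) :
    B (l • a' j + m • b' j) (a i) = 0 ∧ B (l • a' j + m • b' j) (b i) = 0 := by
  by_cases hji : j = i
  · subst hji
    have h1 : B (a' j) (a j) = 0 := by rw [hQ.symm, h.Baa']
    have h2 : B (b' j) (a j) = 0 := by rw [hQ.symm, h.Bab']
    have h3 : B (a' j) (b j) = 0 := by rw [hQ.symm, h.Bba']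
    have h4 : B (b' j) (b j) = 0 := by rw [hQ.symm, h.Bbb']
    constructor
    · simp only [map_add, map_smul, LinearMap.add_apply, LinearMap.smul_apply, h1, h2,
        smul_eq_mul, mul_zero, add_zero]
    · simp only [map_add, map_smul, LinearMap.add_apply, LinearMap.smul_apply, h3, h4,
        smul_eq_mul, mul_zero, add_zero]
  · exact ⟨h.orth j i hji _ (h.comb'_mem j l m) _ (h.a_mem i),
      h.orth j i hji _ (h.comb'_mem j l m) _ (h.b_mem i)⟩

/-- **Non-maximality** of the stabiliser of a decomposition into four-dimensional spaces of plus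
type over the field with two elements. -/
theorem exists_between [Fintype K] [FiniteDimensional K V] (h : MinusDec B Q D a b a' b')
    (hQ : QuadData B Q) (hnd : ∀ x, (∀ y, B x y = 0) → x = 0) (hK : Fintype.card K = 2)
    (ht : 4 ≤ t) :
    ∃ K' : Subgroup (V ≃ₗ[K] V),
      SympData.stabDec D ⊓ ⁅OG Q, OG Q⁆ < K' ∧ K' < ⁅OG Q, OG Q⁆ := by
  have h2 : (2 : K) = 0 := QuadData.two_eq_zero hK
  have hvv : ∀ v : V, v + v = 0 := fun v => by rw [← two_smul K v, h2, zero_smul]
  obtain ⟨i0, hi0⟩ : ∃ i0 : Fin t, i0 = ⟨0, by omega⟩ := ⟨_, rfl⟩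
  obtain ⟨i1, hi1⟩ : ∃ i1 : Fin t, i1 = ⟨1, by omega⟩ := ⟨_, rfl⟩
  obtain ⟨i2, hi2⟩ : ∃ i2 : Fin t, i2 = ⟨2, by omega⟩ := ⟨_, rfl⟩
  obtain ⟨i3, hi3⟩ : ∃ i3 : Fin t, i3 = ⟨3, by omega⟩ := ⟨_, rfl⟩
  have h01 : i0 ≠ i1 := by rw [hi0, hi1]; intro h; simp [Fin.ext_iff] at h
  have h02 : i0 ≠ i2 := by rw [hi0, hi2]; intro h; simp [Fin.ext_iff] at h
  have h03 : i0 ≠ i3 := by rw [hi0, hi3]; intro h; simp [Fin.ext_iff] at h
  have h12 : i1 ≠ i2 := by rw [hi1, hi2]; intro h; simp [Fin.ext_iff] at h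
  have h13 : i1 ≠ i3 := by rw [hi1, hi3]; intro h; simp [Fin.ext_iff] at h
  have h23 : i2 ≠ i3 := by rw [hi2, hi3]; intro h; simp [Fin.ext_iff] at h
  have hBaa : ∀ i, B (a i) (a i) = 0 := fun i => by rw [hQ.self, h.Qa, h2, zero_mul]
  have hBbb : ∀ i, B (b i) (b i) = 0 := fun i => by rw [hQ.self, h.Qb, h2, zero_mul]
  have hBa'a' : ∀ i, B (a' i) (a' i) = 0 := fun i => by rw [hQ.self, h.Qa', h2, zero_mul]
  have hBba : ∀ i, B (b i) (a i) = 1 := fun i => by rw [hQ.symm, h.Bab]
  have hone : (1 : K) ≠ 0 := one_ne_zero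
  -- pairings between different members
  have oaa : ∀ i j, i ≠ j → B (a i) (a j) = 0 := fun i j hij =>
    h.orth i j hij _ (h.a_mem i) _ (h.a_mem j)
  have oab : ∀ i j, i ≠ j → B (a i) (b j) = 0 := fun i j hij =>
    h.orth i j hij _ (h.a_mem i) _ (h.b_mem j)
  have oba : ∀ i j, i ≠ j → B (b i) (a j) = 0 := fun i j hij =>
    h.orth i j hij _ (h.b_mem i) _ (h.a_mem j)
  have obb : ∀ i j, i ≠ j → B (b i) (b j) = 0 := fun i j hij =>
    h.orth i j hij _ (h.b_mem i) _ (h.b_mem j)
  refine ⟨stabSet (QuadData.frameSet Q D 1) ⊓ ⁅OG Q, OG Q⁆, ?_, ?_⟩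
  · rw [SetLike.lt_iff_le_and_exists]
    refine ⟨hQ.stabDec_le_stabSet D 1, ?_⟩
    obtain ⟨z1, hz1⟩ : ∃ z1 : V, z1 = a i0 + a i1 := ⟨_, rfl⟩
    obtain ⟨z2, hz2⟩ : ∃ z2 : V, z2 = b i0 + b i1 := ⟨_, rfl⟩
    have hQz1 : Q z1 = 0 := by
      rw [hz1, hQ.polar, h.Qa, h.Qa, oaa i0 i1 h01]
      linear_combination h2
    have hQz2 : Q z2 = 0 := by
      rw [hz2, hQ.polar, h.Qb, h.Qb, obb i0 i1 h01]
      linear_combination h2
    have hz12 : B z1 z2 = 0 := by
      rw [hz1, hz2]
      simp only [map_add, LinearMap.add_apply, h.Bab, oab i0 i1 h01, oab i1 i0 h01.symm]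
      linear_combination h2
    have hz21 : B z2 z1 = 0 := by rw [hQ.symm, hz12]
    -- the Siegel transformation
    obtain ⟨g, hg⟩ : ∃ g : V ≃ₗ[K] V, g = QuadData.siegel B Q z1 z2 := ⟨_, rfl⟩
    have hgO : g ∈ OG Q := by rw [hg]; exact hQ.siegel_mem_OG hQz1 hQz2 hz12
    have hgx : ∀ x, g x = x + B x z1 • z2 - B x z2 • z1 := fun x => by
      rw [hg]; exact hQ.siegel_apply hQz1 hQz2 hz12 x
    have hginv : g⁻¹ = g := by
      rw [hg, hQ.siegel_inv hQz1 hQz2 hz12]
      apply LinearEquiv.ext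
      intro x
      rw [hQ.siegel_apply hQz2 hQz1 hz21, hQ.siegel_apply hQz1 hQz2 hz12]
      have e1 : x + B x z2 • z1 - B x z1 • z2 - (x + B x z1 • z2 - B x z2 • z1)
          = (B x z2 • z1 + B x z2 • z1) - (B x z1 • z2 + B x z1 • z2) := by abel
      rw [← sub_eq_zero, e1, hvv, hvv, sub_zero]
    have hfix : ∀ x, B x z1 = 0 → B x z2 = 0 → g x = x := by
      intro x h1 h2'
      rw [hgx, h1, h2', zero_smul, zero_smul, add_zero, sub_zero]
    have hga0 : g (a i0) = -a i1 := by
      rw [hgx, hz1, hz2]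
      simp only [map_add, hBaa, h.Bab, oaa i0 i1 h01, oab i0 i1 h01, add_zero, zero_smul,
        one_smul]
      abel
    have hgb0 : g (b i0) = b i1 := by
      rw [hgx, hz1, hz2]
      simp only [map_add, hBbb, hBba, oba i0 i1 h01, obb i0 i1 h01, add_zero, zero_smul,
        one_smul, sub_zero]
      rw [← add_assoc, hvv, zero_add]
    have hga1 : g (a i1) = -a i0 := by
      rw [hgx, hz1, hz2]
      simp only [map_add, hBaa, h.Bab, oaa i1 i0 h01.symm, oab i1 i0 h01.symm, add_zero,
        zero_add, zero_smul, one_smul]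
      abel
    have hgb1 : g (b i1) = b i0 := by
      rw [hgx, hz1, hz2]
      simp only [map_add, hBbb, hBba, oba i1 i0 h01.symm, obb i1 i0 h01.symm, add_zero,
        zero_add, zero_smul, one_smul, sub_zero]
      rw [add_comm (b i0) (b i1), ← add_assoc, hvv, zero_add]
    have hmaps : ∀ x ∈ QuadData.frameSet Q D 1, g x ∈ QuadData.frameSet Q D 1 := by
      intro x hx
      obtain ⟨hx1, l, hxl⟩ := hx
      refine ⟨by rw [hgO x, hx1], ?_⟩
      rcases h.frame_cases hQ hK hxl hx1 with ⟨p, q, rfl⟩ | ⟨p, q, rfl⟩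
      · by_cases hl0 : l = i0
        · subst hl0
          refine ⟨i1, ?_⟩
          rw [map_add, map_smul, map_smul, hga0, hgb0]
          exact (D i1).add_mem ((D i1).smul_mem _ ((D i1).neg_mem (h.a_mem i1)))
            ((D i1).smul_mem _ (h.b_mem i1))
        by_cases hl1 : l = i1
        · subst hl1
          refine ⟨i0, ?_⟩
          rw [map_add, map_smul, map_smul, hga1, hgb1]
          exact (D i0).add_mem ((D i0).smul_mem _ ((D i0).neg_mem (h.a_mem i0)))
            ((D i0).smul_mem _ (h.b_mem i0))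
        · refine ⟨l, ?_⟩
          rw [hfix]
          · exact hxl
          · rw [hz1, map_add, h.orth l i0 hl0 _ hxl _ (h.a_mem i0),
              h.orth l i1 hl1 _ hxl _ (h.a_mem i1), add_zero]
          · rw [hz2, map_add, h.orth l i0 hl0 _ hxl _ (h.b_mem i0),
              h.orth l i1 hl1 _ hxl _ (h.b_mem i1), add_zero]
      · refine ⟨l, ?_⟩
        rw [hfix]
        · exact hxl
        · rw [hz1, map_add, (h.B_comb'_a hQ l i0 p q).1, (h.B_comb'_a hQ l i1 p q).1, add_zero]
        · rw [hz2, map_add, (h.B_comb'_a hQ l i0 p q).2, (h.B_comb'_a hQ l i1 p q).2, add_zero]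
    have hgΩ : g ∈ ⁅OG Q, OG Q⁆ := by
      rw [hg]
      have hc : Q (a i2 + a' i2) = 0 := by
        rw [hQ.polar, h.Qa, h.Qa', h.Baa']
        linear_combination h2
      have hc' : Q (b i2 + a' i2) = 0 := by
        rw [hQ.polar, h.Qb, h.Qa', h.Bba']
        linear_combination h2
      have hcc' : B (a i2 + a' i2) (b i2 + a' i2) = 1 := by
        have h5 : B (a' i2) (b i2) = 0 := by rw [hQ.symm, h.Bba']
        simp only [map_add, LinearMap.add_apply, h.Bab, h.Baa', h5, hBa'a']
        ring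
      have hcm : a i2 + a' i2 ∈ D i2 := (D i2).add_mem (h.a_mem i2) (h.a'_mem i2)
      have hcm' : b i2 + a' i2 ∈ D i2 := (D i2).add_mem (h.b_mem i2) (h.a'_mem i2)
      have hz1m : ∀ y ∈ D i2, B y z1 = 0 := by
        intro y hy
        rw [hz1, map_add, h.orth i2 i0 h02.symm _ hy _ (h.a_mem i0),
          h.orth i2 i1 h12.symm _ hy _ (h.a_mem i1), add_zero]
      have hz2m : ∀ y ∈ D i2, B y z2 = 0 := by
        intro y hy
        rw [hz2, map_add, h.orth i2 i0 h02.symm _ hy _ (h.b_mem i0),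
          h.orth i2 i1 h12.symm _ hy _ (h.b_mem i1), add_zero]
      exact hQ.siegel_mem_commutator hQz1 hQz2 hz12 hc hc' hcc' (hz1m _ hcm) (hz2m _ hcm)
        (hz1m _ hcm') (hz2m _ hcm')
    refine ⟨g, ⟨?_, hgΩ⟩, ?_⟩
    · apply mem_stabSet_of_maps hmaps
      rw [hginv]
      exact hmaps
    · intro hmem
      obtain ⟨σ, hσ⟩ := hmem.1
      have h1 : -a i1 ∈ D (σ i0) := by
        rw [← hσ i0, ← hga0]
        exact Submodule.mem_map_of_mem (f := (g : V →ₗ[K] V)) (h.a_mem i0)
      have hga' : g (a' i0) = a' i0 := by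
        apply hfix
        · have := (h.B_comb'_a hQ i0 i0 1 0).1
          rw [one_smul, zero_smul, add_zero] at this
          have h5 := (h.B_comb'_a hQ i0 i1 1 0).1
          rw [one_smul, zero_smul, add_zero] at h5
          rw [hz1, map_add, this, h5, add_zero]
        · have := (h.B_comb'_a hQ i0 i0 1 0).2
          rw [one_smul, zero_smul, add_zero] at this
          have h5 := (h.B_comb'_a hQ i0 i1 1 0).2
          rw [one_smul, zero_smul, add_zero] at h5
          rw [hz2, map_add, this, h5, add_zero]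
      have h2' : a' i0 ∈ D (σ i0) := by
        rw [← hσ i0, ← hga']
        exact Submodule.mem_map_of_mem (f := (g : V →ₗ[K] V)) (h.a'_mem i0)
      by_cases hs : σ i0 = i0
      · rw [hs] at h1
        have := h.orth i0 i1 h01 _ h1 _ (h.b_mem i1)
        rw [map_neg, LinearMap.neg_apply, h.Bab, neg_eq_zero] at this
        exact hone this
      · have := h.orth (σ i0) i0 hs _ h2' _ (h.b'_mem i0)
        rw [h.Ba'b'] at this
        exact hone this
  · rw [SetLike.lt_iff_le_and_exists]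
    refine ⟨inf_le_right, ?_⟩
    have hQa : Q (a i0 + a i1 + a i2) = 1 := by
      rw [HypDec.Q_add3 hQ (oaa i0 i1 h01) (oaa i0 i2 h02) (oaa i1 i2 h12), h.Qa, h.Qa, h.Qa]
      linear_combination h2
    have ha : Q (a i0 + a i1 + a i2) ≠ 0 := by rw [hQa]; exact hone
    have hb : Q (a i3) ≠ 0 := by rw [h.Qa]; exact hone
    refine ⟨hQ.refl _ ha * hQ.refl _ hb, hQ.refl_mul_refl_mem' hnd ha hb (by rw [hQa, h.Qa]), ?_⟩
    intro hmem
    have hxS : b i0 ∈ QuadData.frameSet Q D 1 := ⟨h.Qb i0, i0, h.b_mem i0⟩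
    have h1 := (hmem.1 (b i0)).1 hxS
    have hgu : (hQ.refl _ ha * hQ.refl _ hb) (b i0) = b i0 - (a i0 + a i1 + a i2) := by
      rw [LinearEquiv.mul_apply, hQ.refl_apply_of_orth _ hb (oba i0 i3 h03), hQ.refl_apply, hQa]
      have : B (b i0) (a i0 + a i1 + a i2) = 1 := by
        rw [map_add, map_add, hBba, oba i0 i1 h01, oba i0 i2 h02, add_zero, add_zero]
      rw [this, inv_one, one_mul, one_smul]
    rw [hgu] at h1
    obtain ⟨_, l, hl⟩ := h1
    apply false_of_two_orth h.orth h12 hl (h.b_mem i1) (h.b_mem i2)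
    · simp only [map_sub, map_add, LinearMap.sub_apply, LinearMap.add_apply, h.Bab,
        obb i0 i1 h01, oab i0 i1 h01, oab i2 i1 h12.symm]
      norm_num
    · simp only [map_sub, map_add, LinearMap.sub_apply, LinearMap.add_apply, h.Bab,
        obb i0 i2 h02, oab i0 i2 h02, oab i1 i2 h12]
      norm_num

end MinusDec

end Cfsg.Agent.Lib.Helper94
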