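/-
Helper94: in characteristic two, an orthogonal sum of two hyperbolic planes is an orthogonal sum
of two planes spanned by vectors of norm one (`MinusDec` from hyperbolic bases).
-/
import Mathlib
import Cfsg.Agent.Lib.Helper94.MinusDec

set_option autoImplicit false
set_option linter.unusedSimpArgs false
set_option linter.unusedSectionVars false
set_option linter.unusedVariables false

namespace Cfsg.Agent.Lib.Helper94

open LinearMap (BilinForm)
open scoped commutatorElement

variable {K V : Type*} [Field K] [AddCommGroup V] [Module K V]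

/-- A family of pairwise orthogonal four-dimensional spaces, each the orthogonal sum of two
hyperbolic planes with hyperbolic bases `e, f` and `e', f'`. -/
structure HypDec4 (B : BilinForm K V) (Q : V → K) {t : ℕ} (D : Fin t → Submodule K V)
    (e f e' f' : Fin t → V) : Prop where
  Qe : ∀ i, Q (e i) = 0
  Qf : ∀ i, Q (f i) = 0
  Qe' : ∀ i, Q (e' i) = 0
  Qf' : ∀ i, Q (f' i) = 0
  Bef : ∀ i, B (e i) (f i) = 1
  Be'f' : ∀ i, B (e' i) (f' i) = 1
  Bee' : ∀ i, B (e i) (e' i) = 0
  Bef' : ∀ i, B (e i) (f' i) = 0
  Bfe' : ∀ i, B (f i) (e' i) = 0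
  Bff' : ∀ i, B (f i) (f' i) = 0
  span : ∀ i, D i = Submodule.span K {e i, f i} ⊔ Submodule.span K {e' i, f' i}
  orth : ∀ i j, i ≠ j → ∀ u ∈ D i, ∀ v ∈ D j, B u v = 0

namespace HypDec4

variable {B : BilinForm K V} {Q : V → K} {t : ℕ} {D : Fin t → Submodule K V}
  {e f e' f' : Fin t → V}

lemma span_eq (e f e' f' : V) :
    Submodule.span K {e + f, e' + f' + e} ⊔ Submodule.span K {e' + f', e + f + e'}
      = Submodule.span K {e, f} ⊔ Submodule.span K {e', f'} := by
  have he : e ∈ Submodule.span K {e, f} ⊔ Submodule.span K {e', f'} :=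
    Submodule.mem_sup_left (Submodule.subset_span (Set.mem_insert _ _))
  have hf : f ∈ Submodule.span K {e, f} ⊔ Submodule.span K {e', f'} :=
    Submodule.mem_sup_left (Submodule.subset_span (Set.mem_insert_of_mem _ rfl))
  have he' : e' ∈ Submodule.span K {e, f} ⊔ Submodule.span K {e', f'} :=
    Submodule.mem_sup_right (Submodule.subset_span (Set.mem_insert _ _))
  have hf' : f' ∈ Submodule.span K {e, f} ⊔ Submodule.span K {e', f'} :=
    Submodule.mem_sup_right (Submodule.subset_span (Set.mem_insert_of_mem _ rfl))
  have ha : e + f ∈ Submodule.span K {e + f, e' + f' + e} ⊔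
      Submodule.span K {e' + f', e + f + e'} :=
    Submodule.mem_sup_left (Submodule.subset_span (Set.mem_insert _ _))
  have hb : e' + f' + e ∈ Submodule.span K {e + f, e' + f' + e} ⊔
      Submodule.span K {e' + f', e + f + e'} :=
    Submodule.mem_sup_left (Submodule.subset_span (Set.mem_insert_of_mem _ rfl))
  have ha' : e' + f' ∈ Submodule.span K {e + f, e' + f' + e} ⊔
      Submodule.span K {e' + f', e + f + e'} :=
    Submodule.mem_sup_right (Submodule.subset_span (Set.mem_insert _ _))
  have hb' : e + f + e' ∈ Submodule.span K {e + f, e' + f' + e} ⊔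
      Submodule.span K {e' + f', e + f + e'} :=
    Submodule.mem_sup_right (Submodule.subset_span (Set.mem_insert_of_mem _ rfl))
  apply le_antisymm
  · apply sup_le
    · rw [Submodule.span_le]
      intro v hv
      rcases hv with rfl | rfl
      · exact add_mem he hf
      · exact add_mem (add_mem he' hf') he
    · rw [Submodule.span_le]
      intro v hv
      rcases hv with rfl | rfl
      · exact add_mem he' hf'
      · exact add_mem (add_mem he hf) he'
  · have h1 : e ∈ Submodule.span K {e + f, e' + f' + e} ⊔
        Submodule.span K {e' + f', e + f + e'} := by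
      have h5 := sub_mem hb ha'
      have h6 : e' + f' + e - (e' + f') = e := by abel
      rwa [h6] at h5
    have h2 : e' ∈ Submodule.span K {e + f, e' + f' + e} ⊔
        Submodule.span K {e' + f', e + f + e'} := by
      have h5 := sub_mem hb' ha
      have h6 : e + f + e' - (e + f) = e' := by abel
      rwa [h6] at h5
    have h3 : f ∈ Submodule.span K {e + f, e' + f' + e} ⊔
        Submodule.span K {e' + f', e + f + e'} := by
      have h5 := sub_mem ha h1
      have h6 : e + f - e = f := by abel
      rwa [h6] at h5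
    have h4 : f' ∈ Submodule.span K {e + f, e' + f' + e} ⊔
        Submodule.span K {e' + f', e + f + e'} := by
      have h5 := sub_mem ha' h2
      have h6 : e' + f' - e' = f' := by abel
      rwa [h6] at h5
    apply sup_le
    · rw [Submodule.span_le]
      intro v hv
      rcases hv with rfl | rfl
      · exact h1
      · exact h3
    · rw [Submodule.span_le]
      intro v hv
      rcases hv with rfl | rfl
      · exact h2
      · exact h4

/-- in characteristic two, a decomposition into orthogonal sums of two hyperbolic planes is a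
decomposition into orthogonal sums of two planes spanned by vectors of norm one -/
theorem minusDec (h : HypDec4 B Q D e f e' f') (hQ : QuadData B Q) (h2 : (2 : K) = 0) :
    MinusDec B Q D (fun i => e i + f i) (fun i => e' i + f' i + e i) (fun i => e' i + f' i)
      (fun i => e i + f i + e' i) := by
  have hBee : ∀ i, B (e i) (e i) = 0 := fun i => by rw [hQ.self, h.Qe, mul_zero]
  have hBff : ∀ i, B (f i) (f i) = 0 := fun i => by rw [hQ.self, h.Qf, mul_zero]
  have hBe'e' : ∀ i, B (e' i) (e' i) = 0 := fun i => by rw [hQ.self, h.Qe', mul_zero]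
  have hBf'f' : ∀ i, B (f' i) (f' i) = 0 := fun i => by rw [hQ.self, h.Qf', mul_zero]
  have hBfe : ∀ i, B (f i) (e i) = 1 := fun i => by rw [hQ.symm, h.Bef]
  have hBf'e' : ∀ i, B (f' i) (e' i) = 1 := fun i => by rw [hQ.symm, h.Be'f']
  have hBe'e : ∀ i, B (e' i) (e i) = 0 := fun i => by rw [hQ.symm, h.Bee']
  have hBf'e : ∀ i, B (f' i) (e i) = 0 := fun i => by rw [hQ.symm, h.Bef']
  have hBe'f : ∀ i, B (e' i) (f i) = 0 := fun i => by rw [hQ.symm, h.Bfe']
  have hBf'f : ∀ i, B (f' i) (f i) = 0 := fun i => by rw [hQ.symm, h.Bff']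
  have hQa : ∀ i, Q (e i + f i) = 1 := fun i => by
    rw [hQ.polar, h.Qe, h.Qf, h.Bef]; ring
  have hQa' : ∀ i, Q (e' i + f' i) = 1 := fun i => by
    rw [hQ.polar, h.Qe', h.Qf', h.Be'f']; ring
  refine ⟨hQa, ?_, hQa', ?_, ?_, ?_, ?_, ?_, ?_, ?_, ?_, h.orth⟩
  · intro i
    rw [hQ.polar, hQa', h.Qe]
    simp only [map_add, LinearMap.add_apply, hBe'e, hBf'e]
    ring
  · intro i
    rw [hQ.polar, hQa, h.Qe']
    simp only [map_add, LinearMap.add_apply, h.Bee', h.Bfe']
    ring
  · intro i
    simp only [map_add, LinearMap.add_apply, h.Bee', h.Bef', hBee, h.Bfe', h.Bff', hBfe]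
    ring
  · intro i
    simp only [map_add, LinearMap.add_apply, hBe'e, hBe'f, hBe'e', hBf'e, hBf'f, hBf'e']
    ring
  · intro i
    simp only [map_add, LinearMap.add_apply, h.Bee', h.Bef', h.Bfe', h.Bff']
    ring
  · intro i
    simp only [map_add, LinearMap.add_apply, hBee, h.Bef, h.Bee', hBfe, hBff, h.Bfe']
    linear_combination h2
  · intro i
    simp only [map_add, LinearMap.add_apply, hBe'e', h.Be'f', hBf'e', hBf'f', h.Bee', h.Bef']
    linear_combination h2
  · intro i
    simp only [map_add, LinearMap.add_apply, hBe'e, hBe'f, hBe'e', hBf'e, hBf'f, hBf'e', hBee,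
      h.Bef, h.Bee']
    linear_combination h2
  · intro i
    rw [span_eq, h.span]

end HypDec4

end Cfsg.Agent.Lib.Helper94
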