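/-
Helper94: canonical orthogonal frames in small quadratic spaces over the field with three
elements (anisotropic planes, and non-degenerate three-dimensional spaces).
-/
import Mathlib
import Cfsg.Agent.Lib.Helper94.OrthFrame

set_option autoImplicit false
set_option linter.unusedSimpArgs false
set_option linter.unusedSectionVars false
set_option linter.unusedVariables false

namespace Cfsg.Agent.Lib.Helper94

open LinearMap (BilinForm)

variable {K V : Type*} [Field K] [AddCommGroup V] [Module K V]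

namespace QuadData

variable {B : BilinForm K V} {Q : V → K}

/-- an orthogonal basis of non-singular vectors of a non-degenerate subspace -/
lemma exists_orth_basis (hQ : QuadData B Q) (h2 : (2 : K) ≠ 0) (U : Submodule K V) {k : ℕ}
    (hk : 0 < k) (hfr : Module.finrank K U = k)
    (hnd : ∀ x ∈ U, (∀ y ∈ U, B x y = 0) → x = 0) :
    ∃ a : Fin k → V, (∀ i, a i ∈ U) ∧ (∀ i j, i ≠ j → B (a i) (a j) = 0) ∧ (∀ i, Q (a i) ≠ 0) ∧
      ∀ w ∈ U, ∃ α : Fin k → K, w = ∑ i, α i • a i := by
  have : FiniteDimensional K U := Module.finite_of_finrank_pos (by rw [hfr]; exact hk)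
  have : Invertible (2 : K) := invertibleOfNonzero h2
  have hsymm : LinearMap.IsSymm (B.restrict U) := ⟨fun x y => by
    simp only [LinearMap.BilinForm.restrict_apply, LinearMap.domRestrict_apply, RingHom.id_apply]
    exact hQ.symm _ _⟩
  obtain ⟨v, hv⟩ := LinearMap.BilinForm.exists_orthogonal_basis (B := B.restrict U) hsymm
  obtain ⟨b, hb⟩ : ∃ b : Module.Basis (Fin k) K U, b = v.reindex (finCongr hfr) := ⟨_, rfl⟩
  have horth : ∀ i j, i ≠ j → B (b i : V) (b j : V) = 0 := by
    intro i j hij
    rw [hb, Module.Basis.reindex_apply, Module.Basis.reindex_apply]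
    have hne : (finCongr hfr).symm i ≠ (finCongr hfr).symm j := fun h => hij ((finCongr hfr).symm.injective h)
    have := hv hne
    simpa [Function.onFun, LinearMap.BilinForm.restrict_apply] using this
  have hspan : ∀ w ∈ U, ∃ α : Fin k → K, w = ∑ i, α i • (b i : V) := by
    intro w hw
    refine ⟨fun i => b.repr ⟨w, hw⟩ i, ?_⟩
    have := congrArg Subtype.val (b.sum_repr ⟨w, hw⟩)
    rw [Submodule.coe_sum] at this
    simp only [Submodule.coe_smul] at this
    exact this.symm
  refine ⟨fun i => (b i : V), fun i => (b i).2, horth, ?_, hspan⟩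
  intro i hi
  have hbi : (b i : V) = 0 := by
    apply hnd _ (b i).2
    intro y hy
    obtain ⟨α, rfl⟩ := hspan y hy
    rw [map_sum]
    apply Finset.sum_eq_zero
    intro j _
    rw [map_smul, smul_eq_mul]
    by_cases hij : i = j
    · subst hij
      rw [hQ.self, hi, mul_zero, mul_zero]
    · rw [horth i j hij, mul_zero]
  exact b.ne_zero i (Subtype.ext hbi)


/-- The data of a "nice" vector of a subspace `U`: two orthogonal vectors of norm `c` such that every
vector of norm `c` in `U` is `± x` or orthogonal to `x`. -/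
structure NiceIn (B : BilinForm K V) (Q : V → K) (U : Submodule K V) (c : K) (x x' : V) : Prop where
  mem : x ∈ U
  mem' : x' ∈ U
  norm : Q x = c
  norm' : Q x' = c
  orth : B x x' = 0
  prop : ∀ v ∈ U, Q v = c → v = x ∨ v = -x ∨ B v x = 0

section Three

variable [Fintype K]

/-- squares in the field with three elements -/
lemma sq_cases (hK : Fintype.card K = 3) (a : K) : a ^ 2 = 0 ∨ a ^ 2 = 1 := by
  rcases eq_of_card_three hK a with h | h | h
  · left; rw [h]; ring
  · right; rw [h]; ring
  · right; rw [h]; ring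

/-- three-dimensional non-degenerate spaces over the field with three elements -/
lemma exists_nice3 (hQ : QuadData B Q) (hK : Fintype.card K = 3) (U : Submodule K V)
    (hfr : Module.finrank K U = 3) (hnd : ∀ x ∈ U, (∀ y ∈ U, B x y = 0) → x = 0) :
    ∃ c : K, c ≠ 0 ∧ ∃ x x' : V, NiceIn B Q U c x x' := by
  have h3 := three_eq_zero hK
  have h2 : (2 : K) ≠ 0 := by
    intro h2
    have : (1 : K) = 0 := by linear_combination h3 - h2
    exact one_ne_zero this
  obtain ⟨a, haU, haorth, haQ, haspan⟩ := hQ.exists_orth_basis h2 U (by norm_num) hfr hnd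
  -- a triple with all norms equal
  have key : ∀ p0 p1 p2 : V, p0 ∈ U → p1 ∈ U → p2 ∈ U → B p0 p1 = 0 → B p0 p2 = 0 → B p1 p2 = 0 →
      ∀ c : K, c ≠ 0 → Q p0 = c → Q p1 = c → Q p2 = c →
      (∀ w ∈ U, ∃ α β γ : K, w = α • p0 + β • p1 + γ • p2) →
      ∃ c : K, c ≠ 0 ∧ ∃ x x' : V, NiceIn B Q U c x x' := by
    intro p0 p1 p2 m0 m1 m2 o01 o02 o12 c hc q0 q1 q2 hspan
    refine ⟨c, hc, p0, p1, m0, m1, q0, q1, o01, ?_⟩
    intro v hv hQv
    obtain ⟨α, β, γ, rfl⟩ := hspan v hv
    have o10 : B p1 p0 = 0 := by rw [hQ.symm, o01]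
    have o20 : B p2 p0 = 0 := by rw [hQ.symm, o02]
    have o21 : B p2 p1 = 0 := by rw [hQ.symm, o12]
    have e1 : Q (α • p0 + β • p1 + γ • p2) = c * (α ^ 2 + β ^ 2 + γ ^ 2) := by
      simp only [hQ.polar, hQ.smul, map_add, map_smul, LinearMap.add_apply, LinearMap.smul_apply,
        q0, q1, q2, o01, o02, o12, o10, o20, o21, smul_eq_mul, mul_zero, add_zero]
      ring
    have e2 : B (α • p0 + β • p1 + γ • p2) p0 = 2 * c * α := by
      simp only [map_add, map_smul, LinearMap.add_apply, LinearMap.smul_apply, hQ.self, q0, o10,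
        o20, smul_eq_mul, mul_zero, add_zero]
      ring
    rw [e1] at hQv
    have e3 : α ^ 2 + β ^ 2 + γ ^ 2 = 1 := by
      have : c * (α ^ 2 + β ^ 2 + γ ^ 2 - 1) = 0 := by linear_combination hQv
      rcases mul_eq_zero.1 this with h | h
      · exact absurd h hc
      · linear_combination h
    rcases eq_of_card_three hK α with hα | hα | hα
    · right; right; rw [e2, hα, mul_zero]
    · left
      have e4 : β ^ 2 + γ ^ 2 = 0 := by rw [hα] at e3; linear_combination e3
      rcases sq_cases hK β with hβ | hβ <;> rcases sq_cases hK γ with hγ | hγ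
      · have hβ0 : β = 0 := pow_eq_zero_iff (two_ne_zero) |>.1 hβ
        have hγ0 : γ = 0 := pow_eq_zero_iff (two_ne_zero) |>.1 hγ
        rw [hα, hβ0, hγ0]; simp
      · rw [hβ, hγ] at e4; exact absurd (by linear_combination e4) one_ne_zero
      · rw [hβ, hγ] at e4; exact absurd (by linear_combination e4) one_ne_zero
      · rw [hβ, hγ] at e4; exact absurd (by linear_combination e4) h2
    · right; left
      have e4 : β ^ 2 + γ ^ 2 = 0 := by rw [hα] at e3; linear_combination e3
      rcases sq_cases hK β with hβ | hβ <;> rcases sq_cases hK γ with hγ | hγ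
      · have hβ0 : β = 0 := pow_eq_zero_iff (two_ne_zero) |>.1 hβ
        have hγ0 : γ = 0 := pow_eq_zero_iff (two_ne_zero) |>.1 hγ
        rw [hα, hβ0, hγ0]; simp
      · rw [hβ, hγ] at e4; exact absurd (by linear_combination e4) one_ne_zero
      · rw [hβ, hγ] at e4; exact absurd (by linear_combination e4) one_ne_zero
      · rw [hβ, hγ] at e4; exact absurd (by linear_combination e4) h2
  -- a triple with the first two norms equal
  have key2 : ∀ p0 p1 p2 : V, p0 ∈ U → p1 ∈ U → p2 ∈ U → B p0 p1 = 0 → B p0 p2 = 0 → B p1 p2 = 0 →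
      Q p0 ≠ 0 → Q p2 ≠ 0 → Q p0 = Q p1 →
      (∀ w ∈ U, ∃ α β γ : K, w = α • p0 + β • p1 + γ • p2) →
      ∃ c : K, c ≠ 0 ∧ ∃ x x' : V, NiceIn B Q U c x x' := by
    intro p0 p1 p2 m0 m1 m2 o01 o02 o12 q0 q2 q01 hspan
    have o10 : B p1 p0 = 0 := by rw [hQ.symm, o01]
    by_cases h : Q p2 = Q p0
    · exact key p0 p1 p2 m0 m1 m2 o01 o02 o12 (Q p0) q0 rfl q01.symm h hspan
    · have hneg : Q p2 = -Q p0 := by
        rcases eq_of_card_three hK (Q p0) with h0 | h0 | h0
        · exact absurd h0 q0
        · rcases eq_of_card_three hK (Q p2) with h2' | h2' | h2'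
          · exact absurd h2' q2
          · exact absurd (h2'.trans h0.symm) h
          · rw [h2', h0]
        · rcases eq_of_card_three hK (Q p2) with h2' | h2' | h2'
          · exact absurd h2' q2
          · rw [h2', h0, neg_neg]
          · exact absurd (h2'.trans h0.symm) h
      refine key (p0 + p1) (p0 - p1) p2 (U.add_mem m0 m1) (U.sub_mem m0 m1) m2 ?_ ?_ ?_ (-Q p0)
        (neg_ne_zero.2 q0) ?_ ?_ hneg ?_
      · simp only [map_add, map_sub, LinearMap.add_apply, LinearMap.sub_apply, hQ.self, o01, o10,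
          ← q01]
        ring
      · simp only [map_add, LinearMap.add_apply, o02, o12, add_zero]
      · simp only [map_sub, LinearMap.sub_apply, o02, o12, sub_zero]
      · rw [hQ.polar, ← q01, o01]; linear_combination (Q p0) * h3
      · rw [hQ.sub, ← q01, o01]; linear_combination (Q p0) * h3
      · intro w hw
        obtain ⟨α, β, γ, rfl⟩ := hspan w hw
        refine ⟨-(α + β), β - α, γ, ?_⟩
        have e5 : (3 : K) • p0 = 0 := by rw [h3, zero_smul]
        have e6 : (3 : K) • p1 = 0 := by rw [h3, zero_smul]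
        have : α • p0 + β • p1 + γ • p2 - (-(α + β) • (p0 + p1) + (β - α) • (p0 - p1) + γ • p2) =
            α • ((3 : K) • p0) + β • ((3 : K) • p1) := by
          module
        rw [e5, e6, smul_zero, smul_zero, add_zero] at this
        exact sub_eq_zero.1 this
  -- permute the basis so that the first two norms are equal
  have hspan3 : ∀ w ∈ U, ∃ α β γ : K, w = α • a 0 + β • a 1 + γ • a 2 := by
    intro w hw
    obtain ⟨α, hα⟩ := haspan w hw
    rw [Fin.sum_univ_three] at hα
    exact ⟨α 0, α 1, α 2, hα⟩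
  have o01 := haorth 0 1 (by decide)
  have o02 := haorth 0 2 (by decide)
  have o12 := haorth 1 2 (by decide)
  have o10 := haorth 1 0 (by decide)
  have o20 := haorth 2 0 (by decide)
  have o21 := haorth 2 1 (by decide)
  by_cases h01 : Q (a 0) = Q (a 1)
  · exact key2 (a 0) (a 1) (a 2) (haU 0) (haU 1) (haU 2) o01 o02 o12 (haQ 0) (haQ 2) h01 hspan3
  by_cases h02 : Q (a 0) = Q (a 2)
  · refine key2 (a 0) (a 2) (a 1) (haU 0) (haU 2) (haU 1) o02 o01 o21 (haQ 0) (haQ 1) h02 ?_
    intro w hw
    obtain ⟨α, β, γ, rfl⟩ := hspan3 w hw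
    exact ⟨α, γ, β, by abel⟩
  · have h12 : Q (a 1) = Q (a 2) := by
      rcases eq_of_card_three hK (Q (a 0)) with h0 | h0 | h0
      · exact absurd h0 (haQ 0)
      · rcases eq_of_card_three hK (Q (a 1)) with h1 | h1 | h1
        · exact absurd h1 (haQ 1)
        · exact absurd (h0.trans h1.symm) h01
        · rcases eq_of_card_three hK (Q (a 2)) with h2' | h2' | h2'
          · exact absurd h2' (haQ 2)
          · exact absurd (h0.trans h2'.symm) h02
          · rw [h1, h2']
      · rcases eq_of_card_three hK (Q (a 1)) with h1 | h1 | h1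
        · exact absurd h1 (haQ 1)
        · rcases eq_of_card_three hK (Q (a 2)) with h2' | h2' | h2'
          · exact absurd h2' (haQ 2)
          · rw [h1, h2']
          · exact absurd (h0.trans h2'.symm) h02
        · exact absurd (h0.trans h1.symm) h01
    refine key2 (a 1) (a 2) (a 0) (haU 1) (haU 2) (haU 0) o12 o10 o20 (haQ 1) (haQ 0) h12 ?_
    intro w hw
    obtain ⟨α, β, γ, rfl⟩ := hspan3 w hw
    exact ⟨β, γ, α, by abel⟩

/-- anisotropic planes over the field with three elements -/
lemma exists_nice2 (hQ : QuadData B Q) (hK : Fintype.card K = 3) (U : Submodule K V)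
    (hfr : Module.finrank K U = 2) (hnd : ∀ x ∈ U, (∀ y ∈ U, B x y = 0) → x = 0)
    (haniso : ∀ v ∈ U, Q v = 0 → v = 0) :
    ∃ c : K, c ≠ 0 ∧ ∃ x x' : V, NiceIn B Q U c x x' := by
  have h3 := three_eq_zero hK
  have h2 : (2 : K) ≠ 0 := by
    intro h2
    have : (1 : K) = 0 := by linear_combination h3 - h2
    exact one_ne_zero this
  obtain ⟨a, haU, haorth, haQ, haspan⟩ := hQ.exists_orth_basis h2 U (by norm_num) hfr hnd
  have o01 := haorth 0 1 (by decide)
  have o10 := haorth 1 0 (by decide)
  have hspan2 : ∀ w ∈ U, ∃ α β : K, w = α • a 0 + β • a 1 := by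
    intro w hw
    obtain ⟨α, hα⟩ := haspan w hw
    rw [Fin.sum_univ_two] at hα
    exact ⟨α 0, α 1, hα⟩
  have h01 : Q (a 0) = Q (a 1) := by
    by_contra hne
    have hneg : Q (a 1) = -Q (a 0) := by
      rcases eq_of_card_three hK (Q (a 0)) with h0 | h0 | h0
      · exact absurd h0 (haQ 0)
      · rcases eq_of_card_three hK (Q (a 1)) with h1 | h1 | h1
        · exact absurd h1 (haQ 1)
        · exact absurd (h0.trans h1.symm) hne
        · rw [h1, h0]
      · rcases eq_of_card_three hK (Q (a 1)) with h1 | h1 | h1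
        · exact absurd h1 (haQ 1)
        · rw [h1, h0, neg_neg]
        · exact absurd (h0.trans h1.symm) hne
    have hs : a 0 + a 1 = 0 := by
      apply haniso _ (U.add_mem (haU 0) (haU 1))
      rw [hQ.polar, hneg, o01]; ring
    have : B (a 0 + a 1) (a 0) = 2 * Q (a 0) := by
      rw [map_add, LinearMap.add_apply, hQ.self, o10, add_zero]
    rw [hs, map_zero, LinearMap.zero_apply] at this
    rcases mul_eq_zero.1 this.symm with h | h
    · exact h2 h
    · exact haQ 0 h
  refine ⟨Q (a 0), haQ 0, a 0, a 1, haU 0, haU 1, rfl, h01.symm, o01, ?_⟩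
  intro v hv hQv
  obtain ⟨α, β, rfl⟩ := hspan2 v hv
  have e1 : Q (α • a 0 + β • a 1) = Q (a 0) * (α ^ 2 + β ^ 2) := by
    simp only [hQ.polar, hQ.smul, map_add, map_smul, LinearMap.add_apply, LinearMap.smul_apply,
      ← h01, o01, o10, smul_eq_mul, mul_zero, add_zero]
    ring
  have e2 : B (α • a 0 + β • a 1) (a 0) = 2 * Q (a 0) * α := by
    simp only [map_add, map_smul, LinearMap.add_apply, LinearMap.smul_apply, hQ.self, o10,
      smul_eq_mul, mul_zero, add_zero]
    ring
  rw [e1] at hQv
  have e3 : α ^ 2 + β ^ 2 = 1 := by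
    have : Q (a 0) * (α ^ 2 + β ^ 2 - 1) = 0 := by linear_combination hQv
    rcases mul_eq_zero.1 this with h | h
    · exact absurd h (haQ 0)
    · linear_combination h
  rcases eq_of_card_three hK α with hα | hα | hα
  · right; right; rw [e2, hα, mul_zero]
  · left
    have e4 : β ^ 2 = 0 := by rw [hα] at e3; linear_combination e3
    have hβ0 : β = 0 := pow_eq_zero_iff (two_ne_zero) |>.1 e4
    rw [hα, hβ0]; simp
  · right; left
    have e4 : β ^ 2 = 0 := by rw [hα] at e3; linear_combination e3
    have hβ0 : β = 0 := pow_eq_zero_iff (two_ne_zero) |>.1 e4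
    rw [hα, hβ0]; simp

end Three

/-- transport of nice data along an isometry of subspaces -/
lemma NiceIn.transport (hQ : QuadData B Q) {U U' : Submodule K V} {c : K} {x x' : V}
    (h : NiceIn B Q U c x x') (e : U ≃ₗ[K] U') (he : ∀ w : U, Q ((e w : U') : V) = Q (w : V)) :
    NiceIn B Q U' c (e ⟨x, h.mem⟩ : V) (e ⟨x', h.mem'⟩ : V) := by
  have hB : ∀ u w : U, B ((e u : U') : V) ((e w : U') : V) = B (u : V) (w : V) := by
    intro u w
    have h1 := hQ.polar ((e u : U') : V) ((e w : U') : V)
    have h2 : ((e u : U') : V) + ((e w : U') : V) = ((e (u + w) : U') : V) := by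
      rw [map_add]; rfl
    rw [h2, he, he, he] at h1
    have h3 := hQ.polar (u : V) (w : V)
    have h4 : ((u + w : U) : V) = (u : V) + (w : V) := rfl
    rw [h4] at h1
    linear_combination h3 - h1
  refine ⟨(e _).2, (e _).2, by rw [he]; exact h.norm, by rw [he]; exact h.norm', ?_, ?_⟩
  · rw [hB]; exact h.orth
  · intro v hv hQv
    obtain ⟨w, hw⟩ : ∃ w : U, e w = ⟨v, hv⟩ := ⟨e.symm ⟨v, hv⟩, e.apply_symm_apply _⟩
    have hvw : v = ((e w : U') : V) := by rw [hw]
    have hQw : Q (w : V) = c := by rw [← he, ← hvw]; exact hQv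
    rcases h.prop (w : V) w.2 hQw with h1 | h1 | h1
    · left
      rw [hvw]
      congr 2
      exact Subtype.ext h1
    · right; left
      rw [hvw]
      have : w = -⟨x, h.mem⟩ := Subtype.ext h1
      rw [this, map_neg]; rfl
    · right; right
      rw [hvw, hB]; exact h1

/-- **Non-maximality** from nice data on one member and isometries to two other members. -/
theorem exists_between_of_nice [Fintype K] (hQ : QuadData B Q) (hK : Fintype.card K = 3) {t : ℕ}
    (D : Fin t → Submodule K V)
    (horth : ∀ i j, i ≠ j → ∀ u ∈ D i, ∀ v ∈ D j, B u v = 0) {c : K} (hc : c ≠ 0)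
    {i0 i1 i2 : Fin t} (h01 : i0 ≠ i1) (h02 : i0 ≠ i2) (h12 : i1 ≠ i2)
    {x x' : V} (h : NiceIn B Q (D i0) c x x')
    (e1 : D i0 ≃ₗ[K] D i1) (he1 : ∀ w : D i0, Q ((e1 w : D i1) : V) = Q (w : V))
    (e2 : D i0 ≃ₗ[K] D i2) (he2 : ∀ w : D i0, Q ((e2 w : D i2) : V) = Q (w : V)) :
    ∃ K' : Subgroup (V ≃ₗ[K] V),
      SympData.stabDec D ⊓ ⁅OG Q, OG Q⁆ < K' ∧ K' < ⁅OG Q, OG Q⁆ := by
  have n1 := h.transport hQ e1 he1
  have n2 := h.transport hQ e2 he2
  exact hQ.exists_between_frame hK D horth hc h01 h02 h12 h.mem h.mem' n1.mem n1.mem' n2.mem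
    h.norm h.norm' n1.norm n1.norm' n2.norm h.orth n1.orth h.prop n1.prop n2.prop

end QuadData

end Cfsg.Agent.Lib.Helper94
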