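/-
Helper94: bridge for decomposition stabilisers.
-/
import Mathlib
import Cfsg.Prelude.Def_GeometricClasses
import Cfsg.Agent.Lib.Helper94.SympBridge
import Cfsg.Agent.Lib.Helper94.SympDecomp

set_option autoImplicit false

namespace Cfsg.Agent.Lib.Helper94

open scoped MatrixGroups Matrix
open LinearMap (BilinForm)

variable {ι : Type} [Fintype ι] [DecidableEq ι] {F : Type*} [Field F]

lemma glEquiv_coe_linearMap (g : GL ι F) :
    ((glEquiv ι F g : (ι → F) ≃ₗ[F] (ι → F)) : (ι → F) →ₗ[F] (ι → F)) =
      Matrix.toLin' (g : Matrix ι ι F) := by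
  apply LinearMap.ext
  intro x
  change glEquiv ι F g x = _
  rw [glEquiv_apply, Matrix.toLin'_apply]

/-- the image of the decomposition stabiliser -/
lemma map_decompositionStabilizer {t : ℕ} (D : Fin t → Submodule F (ι → F)) :
    (Cfsg.Geo.decompositionStabilizer D).map (glEquiv ι F).toMonoidHom = SympData.stabDec D := by
  ext e
  rw [Subgroup.mem_map_equiv, SympData.mem_stabDec]
  have key : Matrix.toLin' (((glEquiv ι F).symm e : GL ι F) : Matrix ι ι F) =
      (e : (ι → F) →ₗ[F] (ι → F)) := by
    rw [← glEquiv_coe_linearMap, MulEquiv.apply_symm_apply]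
  change (∃ σ : Equiv.Perm (Fin t), ∀ i, (D i).map
    (Matrix.toLin' (((glEquiv ι F).symm e : GL ι F) : Matrix ι ι F)) = D (σ i)) ↔ _
  rw [key]

/-- from the Prelude's non-degenerate decomposition to ours -/
lemma orthoDecomp_of_prelude (m : ℕ) {t k : ℕ} {D : Fin t → Submodule F (Fin m ⊕ Fin m → F)}
    (hD : Cfsg.Geo.IsNondegenerateMDecomposition (Cfsg.sympForm m F) k D) :
    SympData.OrthoDecomp (sympBilin m F) k D where
  two_le := hD.decomp.two_le
  pos := hD.decomp.pos
  finrank_eq := hD.decomp.finrank_eq
  iSup_eq_top := hD.decomp.iSup_eq_top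
  nondeg := by
    intro i x hx hxy
    by_contra hx0
    obtain ⟨_, y, hy, hne⟩ := hD.nondegenerate i x hx hx0
    apply hne
    rw [← sympBilin_apply]
    exact hxy y hy
  ortho := by
    intro i j hij u hu v hv
    rw [sympBilin_apply]
    exact hD.orthogonal i j hij u hu v hv

/-- a finite field with more than two elements has an element different from `0` and `-1` -/
lemma exists_ne_zero_ne_neg_one [Fintype F] (hF : Fintype.card F ≠ 2) :
    ∃ c : F, c ≠ 0 ∧ c ≠ -1 := by
  classical
  by_contra hcon
  push Not at hcon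
  have hsub : (Finset.univ : Finset F) ⊆ {0, -1} := by
    intro c _
    by_cases hc : c = 0
    · simp [hc]
    · simp [hcon c hc]
  have h1 := Finset.card_le_card hsub
  have h2 : ({0, -1} : Finset F).card ≤ 2 := Finset.card_insert_le _ _
  have h3 : 1 < Fintype.card F := Fintype.one_lt_card
  rw [Finset.card_univ] at h1
  omega

end Cfsg.Agent.Lib.Helper94
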