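/-
Helper94: transport of "not maximal" statements along `glEquiv`, and small-field facts.
-/
import Mathlib
import Cfsg.Prelude.Def_GeometricClasses
import Cfsg.Agent.Lib.Helper94.SympBridge

set_option autoImplicit false

namespace Cfsg.Agent.Lib.Helper94

open scoped MatrixGroups Matrix

/-- Transport of an intermediate subgroup along a group isomorphism. -/
lemma exists_between_of_map {G G' : Type*} [Group G] [Group G'] (Φ : G ≃* G') {H L : Subgroup G}
    (hex : ∃ K' : Subgroup G', H.map Φ.toMonoidHom < K' ∧ K' < L.map Φ.toMonoidHom) :
    ∃ K : Subgroup G, H < K ∧ K < L := by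
  obtain ⟨K', h1, h2⟩ := hex
  refine ⟨K'.comap Φ.toMonoidHom, ?_, ?_⟩
  · have := (Subgroup.comap_lt_comap_of_surjective (f := Φ.toMonoidHom) Φ.surjective).2 h1
    rwa [Subgroup.comap_map_eq_self_of_injective Φ.injective] at this
  · have := (Subgroup.comap_lt_comap_of_surjective (f := Φ.toMonoidHom) Φ.surjective).2 h2
    rwa [Subgroup.comap_map_eq_self_of_injective Φ.injective] at this

/-- in a field with two elements every element is `0` or `1` -/
lemma eq_zero_or_one_of_card_two {F : Type*} [Field F] [Fintype F] (hF : Fintype.card F = 2)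
    (c : F) : c = 0 ∨ c = 1 := by
  classical
  by_contra hcon
  push Not at hcon
  have h1 : ({0, 1, c} : Finset F).card ≤ Fintype.card F := Finset.card_le_univ _
  have h2 : ({0, 1, c} : Finset F).card = 3 := by
    rw [Finset.card_insert_of_notMem, Finset.card_insert_of_notMem, Finset.card_singleton]
    · simp only [Finset.mem_singleton]
      exact fun h => hcon.2 h.symm
    · simp only [Finset.mem_insert, Finset.mem_singleton, not_or]
      exact ⟨zero_ne_one, fun h => hcon.1 h.symm⟩
  omega

end Cfsg.Agent.Lib.Helper94
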