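/-
Helper94: over the field with three elements, the stabiliser in `Ω` of an orthogonal decomposition
into anisotropic planes or into non-degenerate three-dimensional subspaces is not maximal
(Prelude vocabulary).
-/
import Mathlib
import Cfsg.Prelude.Def_GeometricClasses
import Cfsg.Agent.Lib.Helper94.SympBridge2
import Cfsg.Agent.Lib.Helper94.SympBridge3
import Cfsg.Agent.Lib.Helper94.OrthBridge
import Cfsg.Agent.Lib.Helper94.OrthFrame2

set_option autoImplicit false
set_option linter.unusedSimpArgs false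
set_option linter.unusedSectionVars false
set_option linter.unusedVariables false

namespace Cfsg.Agent.Lib.Helper94

open scoped MatrixGroups Matrix
open LinearMap (BilinForm)
open scoped commutatorElement

variable {ι : Type} [Fintype ι] [DecidableEq ι] {F : Type*} [Field F]

/-- a decomposition of a space of dimension more than `2k` into `k`-spaces has at least three
members -/
lemma three_le_of_decomp {t k : ℕ} {D : Fin t → Submodule F (ι → F)}
    (hD : Cfsg.Geo.IsMDecomposition k D) (hdim : 2 * k < Module.finrank F (ι → F)) : 3 ≤ t := by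
  by_contra hlt
  have h2 := hD.two_le
  have ht2 : t = 2 := by omega
  subst ht2
  have hle : (⊤ : Submodule F (ι → F)) ≤ D 0 ⊔ D 1 := by
    rw [← hD.iSup_eq_top]
    apply iSup_le
    intro i
    fin_cases i
    · exact le_sup_left
    · exact le_sup_right
  have h3 := Submodule.finrank_mono hle
  have h4 := Submodule.finrank_add_le_finrank_add_finrank (D 0) (D 1)
  rw [hD.finrank_eq, hD.finrank_eq] at h4
  rw [finrank_top] at h3
  omega

/-- **Non-maximality** of the stabiliser of an orthogonal decomposition into anisotropic planes or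
non-degenerate three-dimensional subspaces over the field with three elements. -/
theorem exists_between_orthDecomp [Fintype F] {Q : (ι → F) → F}
    (hQ : Cfsg.Geo.IsNondegenerateQuadraticForm Q) (hq : Fintype.card F = 3) {t k : ℕ}
    (D : Fin t → Submodule F (ι → F)) (hD : Cfsg.Geo.IsOrthogonalMDecomposition Q k D)
    (hdim : 2 * k < Module.finrank F (ι → F))
    (hk : k = 3 ∨ (k = 2 ∧ ∀ i, ¬ Cfsg.Geo.IsPlusTypeOn Q (D i))) :
    ∃ K : Subgroup (GL ι F),
      Cfsg.Geo.decompositionStabilizer D ⊓ Cfsg.Geo.omegaGL Q < K ∧ K < Cfsg.Geo.omegaGL Q := by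
  classical
  have hDat := quadData_polarBilin hQ
  have ht := three_le_of_decomp hD.decomp.decomp hdim
  have horth : ∀ i j, i ≠ j → ∀ u ∈ D i, ∀ v ∈ D j, polarBilin hQ u v = 0 := by
    intro i j hij u hu v hv
    rw [polarBilin_apply]
    exact hD.decomp.orthogonal i j hij u hu v hv
  have hnd : ∀ i, ∀ x ∈ D i, (∀ y ∈ D i, polarBilin hQ x y = 0) → x = 0 := by
    intro i x hx hxy
    by_contra hx0
    obtain ⟨_, y, hy, hne⟩ := hD.decomp.nondegenerate i x hx hx0
    apply hne
    rw [← polarBilin_apply hQ]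
    exact hxy y hy
  obtain ⟨i0, hi0⟩ : ∃ i0 : Fin t, i0 = ⟨0, by omega⟩ := ⟨_, rfl⟩
  obtain ⟨i1, hi1⟩ : ∃ i1 : Fin t, i1 = ⟨1, by omega⟩ := ⟨_, rfl⟩
  obtain ⟨i2, hi2⟩ : ∃ i2 : Fin t, i2 = ⟨2, by omega⟩ := ⟨_, rfl⟩
  have h01 : i0 ≠ i1 := by rw [hi0, hi1]; intro h; simp [Fin.ext_iff] at h
  have h02 : i0 ≠ i2 := by rw [hi0, hi2]; intro h; simp [Fin.ext_iff] at h
  have h12 : i1 ≠ i2 := by rw [hi1, hi2]; intro h; simp [Fin.ext_iff] at h
  have hnice : ∃ c : F, c ≠ 0 ∧ ∃ x x' : ι → F, QuadData.NiceIn (polarBilin hQ) Q (D i0) c x x' := by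
    rcases hk with rfl | ⟨rfl, hminus⟩
    · exact hDat.exists_nice3 hq (D i0) (hD.decomp.decomp.finrank_eq i0) (hnd i0)
    · refine hDat.exists_nice2 hq (D i0) (hD.decomp.decomp.finrank_eq i0) (hnd i0) ?_
      intro v hv hQv
      by_contra hv0
      apply hminus i0
      refine ⟨Submodule.span F {v}, ?_, ?_, ?_⟩
      · rw [Submodule.span_singleton_le_iff_mem]; exact hv
      · intro w hw
        obtain ⟨a, rfl⟩ := Submodule.mem_span_singleton.1 hw
        rw [hQ.smul, hQv, mul_zero]
      · rw [finrank_span_singleton hv0, hD.decomp.decomp.finrank_eq i0]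
  obtain ⟨c, hc, x, x', hN⟩ := hnice
  obtain ⟨e1, he1⟩ := hD.isometric i0 i1
  obtain ⟨e2, he2⟩ := hD.isometric i0 i2
  apply exists_between_of_map (glEquiv ι F)
  rw [map_inf_equiv, map_decompositionStabilizer, map_omegaGL]
  exact hDat.exists_between_of_nice hq D horth hc h01 h02 h12 hN e1 he1 e2 he2

end Cfsg.Agent.Lib.Helper94
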