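/-
Helper94: the stabiliser in `Ω` of an orthogonal decomposition into hyperbolic planes over the
fields with two, three, four or five elements, or into four-dimensional spaces of plus type over
the field with two elements, is not maximal (Prelude vocabulary).
-/
import Mathlib
import Cfsg.Prelude.Def_GeometricClasses
import Cfsg.Agent.Lib.Helper94.OrthFrameBridge
import Cfsg.Agent.Lib.Helper94.HypDec4
import Cfsg.Agent.Lib.Helper94.MinusDec2
import Cfsg.Agent.Lib.Helper94.HypBasis4
import Cfsg.Agent.Lib.Helper94.LinDecomp3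

set_option autoImplicit false
set_option linter.unusedSimpArgs false
set_option linter.unusedSectionVars false
set_option linter.unusedVariables false

namespace Cfsg.Agent.Lib.Helper94

open scoped MatrixGroups Matrix
open LinearMap (BilinForm)
open scoped commutatorElement
open Module

variable {ι : Type} [Fintype ι] [DecidableEq ι] {F : Type*} [Field F]

/-- plus type is transported by isometries -/
lemma isPlusTypeOn_of_isometric {Q : (ι → F) → F} {W W' : Submodule F (ι → F)}
    (hiso : Cfsg.Geo.AreIsometricFor Q W W') (hplus : Cfsg.Geo.IsPlusTypeOn Q W) :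
    Cfsg.Geo.IsPlusTypeOn Q W' := by
  obtain ⟨φ, hφ⟩ := hiso
  obtain ⟨U, hUW, hUs, hUd⟩ := hplus
  refine ⟨(U.comap W.subtype).map (W'.subtype ∘ₗ φ.toLinearMap), ?_, ?_, ?_⟩
  · rintro _ ⟨w, hw, rfl⟩
    exact (φ w).2
  · rintro _ ⟨w, hw, rfl⟩
    show Q ((φ w : W') : ι → F) = 0
    rw [hφ w]
    exact hUs _ hw
  · have hinj : Function.Injective (W'.subtype ∘ₗ φ.toLinearMap) :=
      W'.injective_subtype.comp φ.injective
    have h1 : finrank F ((U.comap W.subtype).map (W'.subtype ∘ₗ φ.toLinearMap))
        = finrank F (U.comap W.subtype) :=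
      (Submodule.equivMapOfInjective _ hinj _).finrank_eq.symm
    have h2 : finrank F (U.comap W.subtype) = finrank F U :=
      (Submodule.comapSubtypeEquivOfLe hUW).finrank_eq
    rw [h1, h2, hUd, φ.finrank_eq]

/-- the dimension of the space is at most the number of members times their dimension -/
lemma finrank_le_of_decomp {t k : ℕ} {D : Fin t → Submodule F (ι → F)}
    (hD : Cfsg.Geo.IsMDecomposition k D) : finrank F (ι → F) ≤ t * k :=
  LDecomp.finrank_le ⟨hD.finrank_eq, hD.indep, hD.iSup_eq_top⟩

/-- **Non-maximality** of the stabiliser of an orthogonal decomposition into hyperbolic planes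
over a field with at most five elements. -/
theorem exists_between_hypPlanes [Fintype F] {Q : (ι → F) → F}
    (hQ : Cfsg.Geo.IsNondegenerateQuadraticForm Q)
    (hq : Fintype.card F = 2 ∨ Fintype.card F = 3 ∨ Fintype.card F = 4 ∨ Fintype.card F = 5)
    {t : ℕ} (D : Fin t → Submodule F (ι → F)) (hD : Cfsg.Geo.IsOrthogonalMDecomposition Q 2 D)
    (hplus : ∀ i, Cfsg.Geo.IsPlusTypeOn Q (D i)) (ht : 5 ≤ t) :
    ∃ K : Subgroup (GL ι F),
      Cfsg.Geo.decompositionStabilizer D ⊓ Cfsg.Geo.omegaGL Q < K ∧ K < Cfsg.Geo.omegaGL Q := by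
  classical
  have hDat := quadData_polarBilin hQ
  have horth : ∀ i j, i ≠ j → ∀ u ∈ D i, ∀ v ∈ D j, polarBilin hQ u v = 0 := by
    intro i j hij u hu v hv
    rw [polarBilin_apply]
    exact hD.decomp.orthogonal i j hij u hu v hv
  have hbasis : ∀ i, ∃ e f : ι → F, D i = Submodule.span F {e, f} ∧ Q e = 0 ∧ Q f = 0 ∧
      polarBilin hQ e f = 1 := fun i =>
    exists_hyp_basis hQ (D i) (hD.decomp.decomp.finrank_eq i) (hD.decomp.nondegenerate i)
      (hplus i)
  choose e f hspan hQe hQf hBef using hbasis
  have hH : HypDec (polarBilin hQ) Q D e f := ⟨hQe, hQf, hBef, hspan, horth⟩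
  apply exists_between_of_map (glEquiv ι F)
  rw [map_inf_equiv, map_decompositionStabilizer, map_omegaGL]
  rcases hq with hq | hq | hq | hq
  · exact hH.exists_between_two hDat (nondeg_polarBilin hQ) hq (by omega)
  · have h3 := QuadData.three_eq_zero hq
    have h2 : (2 : F) ≠ 0 := by
      intro h2
      have : (1 : F) = 0 := by linear_combination h3 - h2
      exact one_ne_zero this
    refine hH.exists_between_odd hDat h2 ?_ ht
    intro α hα
    left
    rcases QuadData.eq_of_card_three hq α with h | h | h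
    · exact absurd h hα
    · rw [h]; ring
    · rw [h]; ring
  · exact hH.exists_between_four hDat (nondeg_polarBilin hQ) hq (by omega)
  · have h5 : (5 : F) = 0 := by
      have := Nat.cast_card_eq_zero F
      rw [hq] at this
      exact_mod_cast this
    have h2 : (2 : F) ≠ 0 := by
      intro h2
      have : (1 : F) = 0 := by linear_combination h5 - 2 * h2
      exact one_ne_zero this
    refine hH.exists_between_odd hDat h2 ?_ ht
    intro α hα
    have h4 := FiniteField.pow_card_sub_one_eq_one α hα
    rw [hq] at h4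
    have h4' : α ^ 4 = 1 := h4
    have h6 : (α ^ 2 - 1) * (α ^ 2 + 1) = 0 := by linear_combination h4'
    rcases mul_eq_zero.1 h6 with h | h
    · left; linear_combination h
    · right; linear_combination h

/-- **Non-maximality** of the stabiliser of an orthogonal decomposition into four-dimensional
spaces of plus type over the field with two elements. -/
theorem exists_between_plus4 [Fintype F] {Q : (ι → F) → F}
    (hQ : Cfsg.Geo.IsNondegenerateQuadraticForm Q) (hq : Fintype.card F = 2)
    {t : ℕ} (D : Fin t → Submodule F (ι → F)) (hD : Cfsg.Geo.IsOrthogonalMDecomposition Q 4 D)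
    (hplus : ∀ i, Cfsg.Geo.IsPlusTypeOn Q (D i)) (ht : 4 ≤ t) :
    ∃ K : Subgroup (GL ι F),
      Cfsg.Geo.decompositionStabilizer D ⊓ Cfsg.Geo.omegaGL Q < K ∧ K < Cfsg.Geo.omegaGL Q := by
  classical
  have hDat := quadData_polarBilin hQ
  have horth : ∀ i j, i ≠ j → ∀ u ∈ D i, ∀ v ∈ D j, polarBilin hQ u v = 0 := by
    intro i j hij u hu v hv
    rw [polarBilin_apply]
    exact hD.decomp.orthogonal i j hij u hu v hv
  have hbasis : ∀ i, ∃ e f e' f' : ι → F,
      D i = Submodule.span F {e, f} ⊔ Submodule.span F {e', f'} ∧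
      Q e = 0 ∧ Q f = 0 ∧ Q e' = 0 ∧ Q f' = 0 ∧ polarBilin hQ e f = 1 ∧
      polarBilin hQ e' f' = 1 ∧ polarBilin hQ e e' = 0 ∧ polarBilin hQ e f' = 0 ∧
      polarBilin hQ f e' = 0 ∧ polarBilin hQ f f' = 0 := by
    intro i
    obtain ⟨U, hUW, hUs, hUd⟩ := hplus i
    have hdim := hD.decomp.decomp.finrank_eq i
    refine hDat.exists_hyp_basis4 (D i) U hdim ?_ hUW hUs (by omega)
    intro w hw hw0
    obtain ⟨x, hx, hne⟩ := (hD.decomp.nondegenerate i w hw hw0).2
    exact ⟨x, hx, by rw [polarBilin_apply]; exact hne⟩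
  choose e f e' f' hspan hQe hQf hQe' hQf' hBef hBe'f' hBee' hBef' hBfe' hBff' using hbasis
  have hH4 : HypDec4 (polarBilin hQ) Q D e f e' f' :=
    ⟨hQe, hQf, hQe', hQf', hBef, hBe'f', hBee', hBef', hBfe', hBff', hspan, horth⟩
  have hM := hH4.minusDec hDat (QuadData.two_eq_zero hq)
  apply exists_between_of_map (glEquiv ι F)
  rw [map_inf_equiv, map_decompositionStabilizer, map_omegaGL]
  exact hM.exists_between hDat (nondeg_polarBilin hQ) hq ht

end Cfsg.Agent.Lib.Helper94
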