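/-
Helper94: an overgroup of the similarity group of a symplectic form (inside the automorphisms of
determinant one) that is not made of similarities contains every transvection.
-/
import Mathlib
import Cfsg.Agent.Lib.Helper94.SympBasic
import Cfsg.Agent.Lib.Helper94.SympMax

set_option autoImplicit false

namespace Cfsg.Agent.Lib.Helper94

open LinearMap (BilinForm)

variable {K V : Type*} [Field K] [AddCommGroup V] [Module K V]

namespace SympData

variable {B : BilinForm K V}

/-- The similarity group of `B`. -/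
def Sim (B : BilinForm K V) : Subgroup (V ≃ₗ[K] V) where
  carrier := {g | ∃ c : Kˣ, ∀ x y, B (g x) (g y) = (c : K) * B x y}
  mul_mem' {a b} ha hb := by
    obtain ⟨c, hc⟩ := ha
    obtain ⟨d, hd⟩ := hb
    refine ⟨c * d, fun x y => ?_⟩
    rw [LinearEquiv.mul_apply, LinearEquiv.mul_apply, hc, hd, Units.val_mul, mul_assoc]
  one_mem' := ⟨1, fun x y => by simp⟩
  inv_mem' {a} ha := by
    obtain ⟨c, hc⟩ := ha
    refine ⟨c⁻¹, fun x y => ?_⟩
    have h1 := hc (a⁻¹ x) (a⁻¹ y)
    rw [← LinearEquiv.mul_apply, ← LinearEquiv.mul_apply, mul_inv_cancel] at h1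
    change B x y = _ at h1
    rw [h1, ← mul_assoc, Units.val_inv_eq_inv_val, inv_mul_cancel₀ c.ne_zero, one_mul]

lemma mem_Sim {g : V ≃ₗ[K] V} :
    g ∈ Sim B ↔ ∃ c : Kˣ, ∀ x y, B (g x) (g y) = (c : K) * B x y := Iff.rfl

lemma Sp_le_Sim : Sp B ≤ Sim B := fun g hg => ⟨1, fun x y => by simp [hg x y]⟩

/-- The automorphisms of determinant one. -/
noncomputable def SLe (K V : Type*) [Field K] [AddCommGroup V] [Module K V] : Subgroup (V ≃ₗ[K] V) :=
  (LinearEquiv.det : (V ≃ₗ[K] V) →* Kˣ).ker

lemma mem_SLe {g : V ≃ₗ[K] V} : g ∈ SLe K V ↔ LinearEquiv.det g = 1 := MonoidHom.mem_ker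

/-- The general transvection `x ↦ x + B x w • u`, for `B u w = 0`. -/
def gtv (B : BilinForm K V) (u w : V) (huw : B u w = 0) : V ≃ₗ[K] V :=
  LinearEquiv.transvection (f := B.flip w) (v := u) (by simpa using huw)

@[simp] lemma gtv_apply (u w : V) (huw : B u w = 0) (x : V) :
    gtv B u w huw x = x + B x w • u := by
  simp [gtv, LinearMap.transvection.apply]

lemma gtv_mem_SLe (u w : V) (huw : B u w = 0) : gtv B u w huw ∈ SLe K V := by
  rw [mem_SLe, gtv]
  exact LinearEquiv.transvection.det_eq_one _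

lemma tv_mem_SLe (h : SympData B) (v : V) (c : K) : h.tv v c ∈ SLe K V := by
  rw [mem_SLe, tv]
  exact LinearEquiv.transvection.det_eq_one _

lemma TN_le_SLe (h : SympData B) (U : Submodule K V) : h.TN U ≤ SLe K V := by
  rw [TN, Subgroup.closure_le]
  rintro g ⟨v, _, c, rfl⟩
  exact h.tv_mem_SLe v c

lemma tv_eq_gtv (h : SympData B) (u : V) (c : K) :
    h.tv u c = gtv B u (c • u) (by simp [h.alt]) := by
  ext x
  simp

lemma gtv_add (u w w' : V) (hw : B u w = 0) (hw' : B u w' = 0) :
    gtv B u (w + w') (by simp [hw, hw']) = gtv B u w hw * gtv B u w' hw' := by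
  ext x
  simp only [gtv_apply, LinearEquiv.mul_apply, map_add, LinearMap.add_apply, map_smul,
    LinearMap.smul_apply, smul_eq_mul, hw, mul_zero, add_zero]
  module

lemma gtv_neg (u w : V) (hw : B u w = 0) :
    gtv B u (-w) (by simp [hw]) = (gtv B u w hw)⁻¹ := by
  symm
  apply inv_eq_of_mul_eq_one_right
  ext x
  simp only [gtv_apply, LinearEquiv.mul_apply, map_add, map_neg, LinearMap.add_apply,
    LinearMap.neg_apply, map_smul, LinearMap.smul_apply, smul_eq_mul, hw, mul_zero, add_zero,
    LinearEquiv.coe_one, id_eq]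
  module

lemma gtv_zero (u : V) : gtv B u 0 (by simp) = 1 := by
  ext x; simp

/-- conjugating a general transvection by an isometry -/
lemma conj_gtv {s : V ≃ₗ[K] V} (hs : s ∈ Sp B) (u w : V) (huw : B u w = 0) :
    s * gtv B u w huw * s⁻¹ = gtv B (s u) (s w) (by rw [hs u w]; exact huw) := by
  ext x
  simp only [LinearEquiv.mul_apply, gtv_apply, map_add, map_smul]
  have h1 : s (s⁻¹ x) = x := by rw [← LinearEquiv.mul_apply, mul_inv_cancel]; rfl
  have h2 : B (s⁻¹ x) w = B x (s w) := by rw [← hs (s⁻¹ x) w, h1]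
  rw [h1, h2]

section FD

variable [FiniteDimensional K V]

/-- every functional is `x ↦ B x w` for some `w` -/
lemma exists_repr (h : SympData B) (φ : Module.Dual K V) : ∃ w, ∀ x, φ x = B x w := by
  refine ⟨-((B.toDual h.nondegenerate).symm φ), fun x => ?_⟩
  rw [map_neg, h.skew, neg_neg]
  have := LinearMap.BilinForm.apply_toDual_symm_apply (B := B) (hB := h.nondegenerate) φ x
  exact this.symm

/-- every transvection is a `gtv` -/
lemma transvection_eq_gtv (h : SympData B) {f : Module.Dual K V} {v : V} (hfv : f v = 0) :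
    ∃ w, ∃ hw : B v w = 0, LinearEquiv.transvection hfv = gtv B v w hw := by
  obtain ⟨w, hw⟩ := h.exists_repr f
  refine ⟨w, by rw [← hw]; exact hfv, ?_⟩
  ext x
  simp [LinearMap.transvection.apply, hw]

omit [FiniteDimensional K V] in
/-- If `g` rescales the form in every direction separately, it is a similarity. -/
lemma mem_Sim_of_forall (h : SympData B) {g : V ≃ₗ[K] V}
    (hg : ∀ v : V, v ≠ 0 → ∃ c : K, ∀ y, B y v = c * B (g y) (g v)) : g ∈ Sim B := by
  by_cases hV : ∀ v : V, v = 0
  · refine ⟨1, fun x y => ?_⟩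
    rw [hV x]; simp
  push Not at hV
  obtain ⟨v₀, hv₀⟩ := hV
  obtain ⟨c₀, hc₀⟩ := hg v₀ hv₀
  have hgnd : ∀ w : V, (∀ y, B (g y) (g w) = 0) → w = 0 := by
    intro w hw
    have : g w = 0 := by
      apply h.nondeg
      intro z
      have := hw (g⁻¹ z)
      have h1 : g (g⁻¹ z) = z := by rw [← LinearEquiv.mul_apply, mul_inv_cancel]; rfl
      rw [h1] at this
      exact h.eq_zero_comm.1 this
    exact g.map_eq_zero_iff.1 this
  have hall : ∀ v y : V, B y v = c₀ * B (g y) (g v) := by
    intro v y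
    by_cases hv : v ∈ Submodule.span K {v₀}
    · obtain ⟨a, rfl⟩ := Submodule.mem_span_singleton.1 hv
      rw [map_smul, map_smul, map_smul, hc₀ y]
      simp only [smul_eq_mul]
      ring
    · have hv0 : v ≠ 0 := by
        rintro rfl; exact hv (Submodule.zero_mem _)
      have hs0 : v + v₀ ≠ 0 := by
        intro h0
        apply hv
        have : v = -v₀ := eq_neg_of_add_eq_zero_left h0
        rw [this]
        exact Submodule.neg_mem _ (Submodule.mem_span_singleton_self _)
      obtain ⟨cv, hcv⟩ := hg v hv0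
      obtain ⟨cs, hcs⟩ := hg (v + v₀) hs0
      have hw : (cs - cv) • v + (cs - c₀) • v₀ = 0 := by
        apply hgnd
        intro y
        have e1 := hcs y
        have e2 := hcv y
        have e3 := hc₀ y
        simp only [map_add, map_smul, smul_eq_mul] at e1 ⊢
        rw [e2, e3] at e1
        linear_combination -e1
      have h1 : cs - cv = 0 := by
        by_contra hne
        apply hv
        have : v = (-(cs - cv)⁻¹ * (cs - c₀)) • v₀ := by
          have h2 : (cs - cv) • v = -((cs - c₀) • v₀) := eq_neg_of_add_eq_zero_left hw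
          calc v = (cs - cv)⁻¹ • ((cs - cv) • v) := by
                rw [smul_smul, inv_mul_cancel₀ hne, one_smul]
            _ = (-(cs - cv)⁻¹ * (cs - c₀)) • v₀ := by
                rw [h2, smul_neg, smul_smul, neg_mul, neg_smul]
        rw [this]
        exact Submodule.smul_mem _ _ (Submodule.mem_span_singleton_self _)
      rw [h1, zero_smul, zero_add] at hw
      have h2 : cs - c₀ = 0 := by
        rcases smul_eq_zero.1 hw with h2 | h2
        · exact h2
        · exact absurd h2 hv₀
      have : cv = c₀ := by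
        rw [← sub_eq_zero]
        linear_combination h2 - h1
      rw [← this]; exact hcv y
  have hc₀0 : c₀ ≠ 0 := by
    rintro rfl
    apply hv₀
    apply h.nondeg
    intro y
    have := hall v₀ y
    rw [zero_mul] at this
    exact h.eq_zero_comm.1 this
  refine ⟨(Units.mk0 c₀ hc₀0)⁻¹, fun x y => ?_⟩
  rw [hall y x]
  simp only [Units.val_inv_eq_inv_val, Units.val_mk0]
  rw [← mul_assoc, inv_mul_cancel₀ hc₀0, one_mul]

lemma gtv_congr {u u' w w' : V} (hu : u = u') (hw : w = w') (h1 : B u w = 0) :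
    gtv B u w h1 = gtv B u' w' (by rw [← hu, ← hw]; exact h1) := by
  subst hu; subst hw; rfl

/-- **Key step**: a subgroup containing the determinant-one similarities and some non-similarity
contains every general transvection. -/
theorem gtv_mem_of_not_Sim (h : SympData B) {M : Subgroup (V ≃ₗ[K] V)}
    (hNM : Sim B ⊓ SLe K V ≤ M) {g : V ≃ₗ[K] V} (hgM : g ∈ M) (hg : g ∉ Sim B) :
    ∀ (u w : V) (huw : B u w = 0), gtv B u w huw ∈ M := by
  have hT : h.TN ⊤ ≤ M := fun s hs =>
    hNM ⟨Sp_le_Sim (h.TN_le_Sp ⊤ hs), h.TN_le_SLe ⊤ hs⟩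
  -- a direction in which `g` does not rescale the form
  have hv : ∃ v : V, v ≠ 0 ∧ ¬ ∃ c : K, ∀ y, B y v = c * B (g y) (g v) := by
    by_contra hcon
    push Not at hcon
    exact hg (h.mem_Sim_of_forall hcon)
  obtain ⟨v, hv0, hv⟩ := hv
  set u₀ : V := g v with hu₀
  have hu₀0 : u₀ ≠ 0 := fun h0 => hv0 (g.map_eq_zero_iff.1 h0)
  obtain ⟨w₀, hw₀⟩ := h.exists_repr ((B.flip v).comp ((g⁻¹ : V ≃ₗ[K] V) : V →ₗ[K] V))
  have hw₀' : ∀ x, B (g⁻¹ x) v = B x w₀ := by
    intro x
    have := hw₀ x
    simpa using this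
  have hginv : ∀ x, g⁻¹ (g x) = x := by
    intro x
    rw [← LinearEquiv.mul_apply, inv_mul_cancel]; rfl
  have hu₀w₀ : B u₀ w₀ = 0 := by
    rw [← hw₀', hu₀, hginv, h.alt]
  -- the conjugates of the symplectic transvections along `v`
  have hconj : ∀ c : K, gtv B u₀ (c • w₀) (by simp [hu₀w₀]) ∈ M := by
    intro c
    have : g * h.tv v c * g⁻¹ = gtv B u₀ (c • w₀) (by simp [hu₀w₀]) := by
      ext x
      simp only [LinearEquiv.mul_apply, tv_apply, gtv_apply, map_add, map_smul, smul_eq_mul]
      have h1 : g (g⁻¹ x) = x := by rw [← LinearEquiv.mul_apply, mul_inv_cancel]; rfl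
      rw [h1, hw₀']
    rw [← this]
    exact mul_mem (mul_mem hgM (hT (h.tv_mem_TN (U := ⊤) (v := v) trivial c))) (inv_mem hgM)
  have hw₀span : w₀ ∉ Submodule.span K {u₀} := by
    intro hmem
    obtain ⟨a, ha⟩ := Submodule.mem_span_singleton.1 hmem
    apply hv
    refine ⟨a, fun y => ?_⟩
    have := hw₀' (g y)
    rw [hginv, ← ha, map_smul, smul_eq_mul] at this
    exact this
  -- the subspace `U = u₀^⊥`
  set U : Submodule K V := B.orthogonal (Submodule.span K {u₀}) with hU
  have hmemU : ∀ w, w ∈ U ↔ B u₀ w = 0 := by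
    intro w
    rw [hU, h.mem_orthogonal]
    constructor
    · intro hw
      exact h.eq_zero_comm.1 (hw u₀ (Submodule.mem_span_singleton_self _))
    · intro hw x hx
      obtain ⟨a, rfl⟩ := Submodule.mem_span_singleton.1 hx
      rw [map_smul, smul_eq_mul, h.eq_zero_comm.1 hw, mul_zero]
  have hUperp : ∀ w ∈ U, w ∉ Submodule.span K {u₀} → ∃ x ∈ U, B w x ≠ 0 := by
    intro w _ hwn
    by_contra hcon
    push Not at hcon
    apply hwn
    have : w ∈ B.orthogonal U := h.mem_orthogonal.2 hcon
    rwa [hU, h.orth_orth] at this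
  have hfixu₀ : ∀ s ∈ h.TN U, s u₀ = u₀ := by
    intro s hs
    apply h.TN_fix hs
    intro x hx
    exact (hmemU x).1 hx
  -- all of `U` gives transvections in `M`
  have hS : ∀ w, ∀ hw : B u₀ w = 0, gtv B u₀ w hw ∈ M := by
    intro w hw
    by_cases hws : w ∈ Submodule.span K {u₀}
    · obtain ⟨a, rfl⟩ := Submodule.mem_span_singleton.1 hws
      have := hT (h.tv_mem_TN (U := ⊤) (v := u₀) trivial a)
      rwa [h.tv_eq_gtv] at this
    · obtain ⟨s, hs, hsw⟩ := h.TN_trans ((hmemU w₀).2 hu₀w₀) ((hmemU w).2 hw)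
        (hUperp w₀ ((hmemU w₀).2 hu₀w₀) hw₀span) (hUperp w ((hmemU w).2 hw) hws)
      have hsM : s ∈ M := hT (h.TN_mono le_top hs)
      have hsSp : s ∈ Sp B := h.TN_le_Sp U hs
      have h1 := hconj 1
      have h2 : s * gtv B u₀ ((1 : K) • w₀) (by simp [hu₀w₀]) * s⁻¹ ∈ M :=
        mul_mem (mul_mem hsM h1) (inv_mem hsM)
      rw [conj_gtv hsSp] at h2
      have e := gtv_congr (B := B) (hfixu₀ s hs) (show s ((1 : K) • w₀) = w by
        rw [one_smul]; exact hsw) (by rw [hsSp]; simp [hu₀w₀])
      rwa [e] at h2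
  -- transport to every direction
  intro u w huw
  by_cases hu0 : u = 0
  · subst hu0
    have : gtv B 0 w huw = 1 := by ext x; simp
    rw [this]; exact one_mem _
  · have hne : ∀ a : V, a ≠ 0 → ∃ x ∈ (⊤ : Submodule K V), B a x ≠ 0 := by
      intro a ha0
      by_contra hcon
      push Not at hcon
      exact ha0 (h.nondeg a fun y => hcon y trivial)
    obtain ⟨s, hs, hsu⟩ := h.TN_trans (U := ⊤) (w := u₀) (w' := u) trivial trivial
      (hne u₀ hu₀0) (hne u hu0)
    have hsM : s ∈ M := hT hs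
    have hsSp : s ∈ Sp B := h.TN_le_Sp ⊤ hs
    have hss : s (s⁻¹ w) = w := by rw [← LinearEquiv.mul_apply, mul_inv_cancel]; rfl
    have h0 : B u₀ (s⁻¹ w) = 0 := by
      rw [← hsSp u₀ (s⁻¹ w), hsu, hss]; exact huw
    have h2 : s * gtv B u₀ (s⁻¹ w) h0 * s⁻¹ ∈ M :=
      mul_mem (mul_mem hsM (hS _ h0)) (inv_mem hsM)
    rw [conj_gtv hsSp] at h2
    have e := gtv_congr (B := B) hsu hss (by rw [hsSp]; exact h0)
    rwa [e] at h2

/-- A general transvection that is a similarity has its two vectors proportional. -/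
lemma mem_span_of_gtv_mem_Sim (h : SympData B) {u w : V} (hu : u ≠ 0) (huw : B u w = 0)
    (hmem : gtv B u w huw ∈ Sim B) : w ∈ Submodule.span K {u} := by
  obtain ⟨c, hc⟩ := hmem
  have hex : ∃ y₀, B y₀ u = 1 := by
    have : ∃ y, B u y ≠ 0 := by
      by_contra hcon
      push Not at hcon
      exact hu (h.nondeg u hcon)
    obtain ⟨y, hy⟩ := this
    have hy' : B y u ≠ 0 := fun h0 => hy (h.eq_zero_comm.1 h0)
    exact ⟨(B y u)⁻¹ • y, by rw [map_smul, LinearMap.smul_apply, smul_eq_mul, inv_mul_cancel₀ hy']⟩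
  obtain ⟨y₀, hy₀⟩ := hex
  have huy₀ : B u y₀ = -1 := by rw [h.skew, hy₀]
  -- the multiplier is one
  have hc1 : (c : K) = 1 := by
    have := hc u y₀
    simp only [gtv_apply, map_add, map_smul, LinearMap.add_apply, LinearMap.smul_apply,
      smul_eq_mul, h.alt, huw, huy₀] at this
    linear_combination this
  have key : ∀ x, B x w = B y₀ w * B x u := by
    intro x
    have := hc x y₀
    simp only [gtv_apply, map_add, map_smul, LinearMap.add_apply, LinearMap.smul_apply,
      smul_eq_mul, h.alt, huy₀, hc1] at this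
    linear_combination -this
  have : w - (B y₀ w) • u = 0 := by
    apply h.nondeg
    intro x
    rw [h.skew, map_sub, map_smul, smul_eq_mul, key x]
    ring
  rw [sub_eq_zero] at this
  rw [this]
  exact Submodule.smul_mem _ _ (Submodule.mem_span_singleton_self _)

end FD

end SympData

end Cfsg.Agent.Lib.Helper94
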