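/-
Helper94: the special linear group is generated by transvections (matrix form), and the bridge
for similarity groups of abstract symplectic forms given as functions.
-/
import Mathlib
import Cfsg.Prelude.Def_GeometricClasses
import Cfsg.Agent.Lib.Helper94.SympBridge
import Cfsg.Agent.Lib.Helper94.SympSL

set_option autoImplicit false
set_option linter.unusedSimpArgs false
set_option linter.unusedSectionVars false

namespace Cfsg.Agent.Lib.Helper94

open scoped MatrixGroups Matrix
open LinearMap (BilinForm)

variable {ι : Type} [Fintype ι] [DecidableEq ι] {F : Type*} [Field F]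

lemma glEquiv_coe_linearMap' (g : GL ι F) :
    ((glEquiv ι F g : (ι → F) ≃ₗ[F] (ι → F)) : (ι → F) →ₗ[F] (ι → F)) =
      Matrix.toLin' (g : Matrix ι ι F) := by
  apply LinearMap.ext
  intro x
  change glEquiv ι F g x = _
  rw [glEquiv_apply, Matrix.toLin'_apply]

lemma tvec_mulVec_apply {i j : ι} (c : F) (x : ι → F) (k : ι) :
    (((1 : Matrix ι ι F) + Matrix.single i j c) *ᵥ x) k = x k + if k = i then c * x j else 0 := by
  rw [Matrix.add_mulVec, Matrix.one_mulVec, Matrix.single_mulVec, Pi.add_apply,
    Function.update_apply]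
  simp

/-- Whitehead: `diag(a, a⁻¹)` in positions `i, j` is a product of six elementary transvections. -/
lemma diag2n_eq_prod {i j : ι} (hij : i ≠ j) (a : F) (ha : a ≠ 0) :
    Matrix.SpecialLinearGroup.diag2n hij a ha =
      Matrix.SpecialLinearGroup.transvection hij a *
      Matrix.SpecialLinearGroup.transvection hij.symm (- a⁻¹) *
      Matrix.SpecialLinearGroup.transvection hij a *
      Matrix.SpecialLinearGroup.transvection hij (-1) *
      Matrix.SpecialLinearGroup.transvection hij.symm 1 *
      Matrix.SpecialLinearGroup.transvection hij (-1) := by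
  apply Subtype.ext
  simp only [Matrix.SpecialLinearGroup.coe_mul, Matrix.SpecialLinearGroup.transvection_coe,
    Matrix.SpecialLinearGroup.diag2n_coe]
  apply Matrix.mulVec_injective
  funext x k
  simp only [← Matrix.mulVec_mulVec, tvec_mulVec_apply, Matrix.mulVec_diagonal]
  have hji : j ≠ i := hij.symm
  by_cases hki : k = i
  · subst hki
    simp [hij, hji]
    field_simp
    ring
  · by_cases hkj : k = j
    · subst hkj
      simp [hij, hji]
      field_simp
      ring
    · simp [hki, hkj]

/-- an elementary transvection, seen as a linear automorphism, is a transvection -/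
lemma glEquiv_toGL_transvection {i j : ι} (hij : i ≠ j) (c : F) :
    glEquiv ι F (Matrix.SpecialLinearGroup.toGL (Matrix.SpecialLinearGroup.transvection hij c)) =
      LinearEquiv.transvection (f := c • (LinearMap.proj j : (ι → F) →ₗ[F] F))
        (v := Pi.single i 1) (by simp [hij]) := by
  ext x k
  rw [glEquiv_apply]
  change ((Matrix.SpecialLinearGroup.transvection hij c : Matrix ι ι F) *ᵥ x) k = _
  rw [Matrix.SpecialLinearGroup.transvection_coe, tvec_mulVec_apply]
  simp [LinearMap.transvection.apply, Pi.single_apply]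

/-- A subgroup of `GL ι F` containing every transvection contains the special linear group. -/
lemma specialLinear_le_of_transvections [Nontrivial ι] (M : Subgroup (GL ι F))
    (hM : ∀ (f : Module.Dual F (ι → F)) (v : ι → F) (hfv : f v = 0),
      (glEquiv ι F).symm (LinearEquiv.transvection hfv) ∈ M) :
    Cfsg.Geo.specialLinear ι F ≤ M := by
  intro g hg
  have hdet : (g : Matrix ι ι F).det = 1 := by
    have : Matrix.GeneralLinearGroup.det g = 1 := hg
    have h2 := congrArg Units.val this
    simpa using h2
  set A : Matrix.SpecialLinearGroup ι F := ⟨(g : Matrix ι ι F), hdet⟩ with hA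
  have hgA : g = Matrix.SpecialLinearGroup.toGL A := by
    apply Units.ext
    rfl
  rw [hgA]
  have htr : ∀ (i j : ι) (hij : i ≠ j) (a : F),
      Matrix.SpecialLinearGroup.toGL (Matrix.SpecialLinearGroup.transvection hij a) ∈ M := by
    intro i j hij a
    have := hM (a • (LinearMap.proj j : (ι → F) →ₗ[F] F)) (Pi.single i 1) (by simp [hij])
    rw [← glEquiv_toGL_transvection hij a, MulEquiv.symm_apply_apply] at this
    exact this
  refine Matrix.SpecialLinearGroup.diagonal_transvection_induction'
    (fun A => Matrix.SpecialLinearGroup.toGL A ∈ M) A ?_ htr ?_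
  · intro i j hij c hc
    rw [diag2n_eq_prod hij c hc]
    simp only [map_mul]
    exact mul_mem (mul_mem (mul_mem (mul_mem (mul_mem (htr _ _ _ _) (htr _ _ _ _)) (htr _ _ _ _))
      (htr _ _ _ _)) (htr _ _ _ _)) (htr _ _ _ _)
  · intro A B hA hB
    rw [map_mul]
    exact mul_mem hA hB

/-- the image of the special linear group -/
lemma map_specialLinear :
    (Cfsg.Geo.specialLinear ι F).map (glEquiv ι F).toMonoidHom = SympData.SLe F (ι → F) := by
  ext e
  rw [Subgroup.mem_map_equiv, SympData.mem_SLe]
  have key : ∀ g : GL ι F, g ∈ Cfsg.Geo.specialLinear ι F ↔ LinearEquiv.det (glEquiv ι F g) = 1 := by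
    intro g
    have h1 : g ∈ Cfsg.Geo.specialLinear ι F ↔ Matrix.GeneralLinearGroup.det g = 1 :=
      MonoidHom.mem_ker
    rw [h1, ← Units.val_inj, ← Units.val_inj (a := LinearEquiv.det _), LinearEquiv.coe_det,
      glEquiv_coe_linearMap', LinearMap.det_toLin']
    simp
  rw [key, MulEquiv.apply_symm_apply]

/-- The bilinear form attached to a symplectic form given as a function. -/
noncomputable def bilinOfSymp {n : ℕ} {f : (Fin n → F) → (Fin n → F) → F}
    (hf : Cfsg.Geo.IsSymplecticForm f) : BilinForm F (Fin n → F) :=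
  LinearMap.mk₂ F f hf.bilinear.add_left hf.bilinear.smul_left hf.bilinear.add_right
    hf.bilinear.smul_right

lemma bilinOfSymp_apply {n : ℕ} {f : (Fin n → F) → (Fin n → F) → F}
    (hf : Cfsg.Geo.IsSymplecticForm f) (u v : Fin n → F) : bilinOfSymp hf u v = f u v := rfl

lemma sympData_bilinOfSymp {n : ℕ} {f : (Fin n → F) → (Fin n → F) → F}
    (hf : Cfsg.Geo.IsSymplecticForm f) : SympData (bilinOfSymp hf) where
  alt := hf.alternating
  nondeg := by
    intro x hx
    by_contra hx0
    obtain ⟨_, y, hy⟩ := hf.nondegenerate x hx0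
    exact hy (hx y)

/-- the image of the similarity group -/
lemma map_similarityGroup {n : ℕ} {f : (Fin n → F) → (Fin n → F) → F}
    (hf : Cfsg.Geo.IsSymplecticForm f) :
    (Cfsg.Geo.similarityGroup f).map (glEquiv (Fin n) F).toMonoidHom =
      SympData.Sim (bilinOfSymp hf) := by
  ext e
  rw [Subgroup.mem_map_equiv, SympData.mem_Sim]
  change (∃ c : Fˣ, ∀ u v, f ((((glEquiv (Fin n) F).symm e : GL (Fin n) F) :
    Matrix (Fin n) (Fin n) F) *ᵥ u) ((((glEquiv (Fin n) F).symm e : GL (Fin n) F) :
    Matrix (Fin n) (Fin n) F) *ᵥ v) = (c : F) * f u v) ↔ _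
  simp only [glEquiv_symm_mulVec, bilinOfSymp_apply]

/-- Some automorphism of determinant one is not a similarity (dimension at least three). -/
lemma exists_mem_SLe_not_mem_Sim {K V : Type*} [Field K] [AddCommGroup V] [Module K V]
    [FiniteDimensional K V] {B : BilinForm K V} (h : SympData B)
    (hdim : 3 ≤ Module.finrank K V) : ∃ g ∈ SympData.SLe K V, g ∉ SympData.Sim B := by
  have hpos : 0 < Module.finrank K V := by omega
  obtain ⟨u, hu⟩ := Module.finrank_pos_iff_exists_ne_zero.1 hpos
  have hfr := LinearMap.BilinForm.finrank_orthogonal h.nondegenerate (Submodule.span K {u})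
  rw [finrank_span_singleton hu] at hfr
  have : ∃ w ∈ B.orthogonal (Submodule.span K {u}), w ∉ Submodule.span K {u} := by
    by_contra hcon
    push Not at hcon
    have hle : B.orthogonal (Submodule.span K {u}) ≤ Submodule.span K {u} := hcon
    have := Submodule.finrank_mono hle
    rw [finrank_span_singleton hu] at this
    omega
  obtain ⟨w, hw, hwn⟩ := this
  have huw : B u w = 0 :=
    h.eq_zero_comm.1 ((h.mem_orthogonal.1 hw) u (Submodule.mem_span_singleton_self _))
  exact ⟨SympData.gtv B u w huw, SympData.gtv_mem_SLe u w huw,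
    fun hmem => hwn (h.mem_span_of_gtv_mem_Sim hu huw hmem)⟩

/-- **Maximality of the similarity group of a symplectic form in the special linear group**
(automorphism form, for `V = Fin n → F`). -/
theorem sim_isMaximalIn_SLe {n : ℕ} (hn : 3 ≤ n) {B : BilinForm F (Fin n → F)} (h : SympData B) :
    Cfsg.Geo.IsMaximalIn (SympData.SLe F (Fin n → F))
      (SympData.Sim B ⊓ SympData.SLe F (Fin n → F)) := by
  have hfr : Module.finrank F (Fin n → F) = n := by
    rw [Module.finrank_fintype_fun_eq_card]; simp
  constructor
  · rw [SetLike.lt_iff_le_and_exists]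
    refine ⟨inf_le_right, ?_⟩
    obtain ⟨g, hg1, hg2⟩ := exists_mem_SLe_not_mem_Sim h (by rw [hfr]; exact hn)
    exact ⟨g, hg1, fun hmem => hg2 hmem.1⟩
  · intro M hNM hMS
    by_cases hM : M ≤ SympData.Sim B
    · left
      exact le_antisymm (le_inf hM hMS) hNM
    right
    apply le_antisymm hMS
    obtain ⟨g, hgM, hg⟩ := SetLike.not_le_iff_exists.1 hM
    have hall := h.gtv_mem_of_not_Sim hNM hgM hg
    have hnt : Nontrivial (Fin n) := Fin.nontrivial_iff_two_le.2 (by omega)
    have hle := specialLinear_le_of_transvections (ι := Fin n) (F := F)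
      (M.comap (glEquiv (Fin n) F).toMonoidHom) (by
        intro f v hfv
        rw [Subgroup.mem_comap]
        change (glEquiv (Fin n) F) ((glEquiv (Fin n) F).symm (LinearEquiv.transvection hfv)) ∈ M
        rw [MulEquiv.apply_symm_apply]
        obtain ⟨w, hw, he⟩ := h.transvection_eq_gtv hfv
        rw [he]
        exact hall v w hw)
    rw [← map_specialLinear]
    intro e he
    obtain ⟨g', hg', rfl⟩ := he
    exact hle hg'

end Cfsg.Agent.Lib.Helper94
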