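/-
Helper94: abstract hermitian spaces: the unitary group and unitary transvections.
-/
import Mathlib
import Cfsg.Agent.Lib.Helper94.SympSL
import Cfsg.Agent.Lib.Helper94.SympDecomp
import Cfsg.Agent.Lib.Helper94.OrthFrame

set_option autoImplicit false
set_option linter.unusedSimpArgs false
set_option linter.unusedSectionVars false
set_option linter.unusedVariables false

namespace Cfsg.Agent.Lib.Helper94

variable {K V : Type*} [Field K] [AddCommGroup V] [Module K V]

/-- A hermitian (conjugate-symmetric sesquilinear) form `h` with respect to `σ`. -/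
structure HermData (σ : K → K) (h : V → V → K) : Prop where
  add_left : ∀ x y z, h (x + y) z = h x z + h y z
  smul_left : ∀ (c : K) x y, h (c • x) y = c * h x y
  add_right : ∀ x y z, h x (y + z) = h x y + h x z
  smul_right : ∀ (c : K) x y, h x (c • y) = σ c * h x y
  conj : ∀ x y, h y x = σ (h x y)
  σ_mul : ∀ a b, σ (a * b) = σ a * σ b

/-- The unitary group of `h`. -/
def UG (h : V → V → K) : Subgroup (V ≃ₗ[K] V) where
  carrier := {g | ∀ x y, h (g x) (g y) = h x y}
  mul_mem' {a b} ha hb := by
    intro x y
    rw [LinearEquiv.mul_apply, LinearEquiv.mul_apply, ha, hb]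
  one_mem' := fun x y => rfl
  inv_mem' {a} ha := by
    intro x y
    have := ha (a⁻¹ x) (a⁻¹ y)
    rw [← LinearEquiv.mul_apply, ← LinearEquiv.mul_apply, mul_inv_cancel] at this
    exact this.symm

lemma mem_UG {h : V → V → K} {g : V ≃ₗ[K] V} : g ∈ UG h ↔ ∀ x y, h (g x) (g y) = h x y := Iff.rfl

namespace HermData

variable {σ : K → K} {h : V → V → K}

lemma zero_left (hH : HermData σ h) (y : V) : h 0 y = 0 := by
  have := hH.smul_left 0 0 y
  simpa using this

lemma zero_right (hH : HermData σ h) (x : V) : h x 0 = 0 := by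
  have := hH.add_right x 0 0
  simpa using this

/-- `x ↦ h x a` as a linear functional -/
def hfun (hH : HermData σ h) (a : V) : V →ₗ[K] K where
  toFun := fun x => h x a
  map_add' := fun x y => hH.add_left x y a
  map_smul' := fun c x => by simp [hH.smul_left]

@[simp] lemma hfun_apply (hH : HermData σ h) (a x : V) : hH.hfun a x = h x a := rfl

/-- The unitary transvection `x ↦ x + (c * h x a) • a` along an isotropic vector `a`. -/
def utv (hH : HermData σ h) (a : V) (c : K) (ha : h a a = 0) : V ≃ₗ[K] V :=
  LinearEquiv.transvection (f := c • hH.hfun a) (v := a) (by simp [ha])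

lemma utv_apply (hH : HermData σ h) (a : V) (c : K) (ha : h a a = 0) (x : V) :
    hH.utv a c ha x = x + (c * h x a) • a := by
  simp [utv, LinearMap.transvection.apply]

lemma utv_mem_SLe (hH : HermData σ h) (a : V) (c : K) (ha : h a a = 0) :
    hH.utv a c ha ∈ SympData.SLe K V := by
  rw [SympData.mem_SLe, utv]
  exact LinearEquiv.transvection.det_eq_one _

lemma utv_mem_UG (hH : HermData σ h) (a : V) (c : K) (ha : h a a = 0) (hc : c + σ c = 0) :
    hH.utv a c ha ∈ UG h := by
  intro x y
  rw [utv_apply, utv_apply, hH.add_left, hH.add_right, hH.add_right, hH.smul_left, hH.smul_right,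
    hH.smul_right, hH.smul_left, ha, hH.σ_mul, ← hH.conj y a]
  linear_combination (h x a * h a y) * hc

lemma utv_mul_neg (hH : HermData σ h) (a : V) (c : K) (ha : h a a = 0) :
    hH.utv a c ha * hH.utv a (-c) ha = 1 := by
  ext x
  rw [LinearEquiv.mul_apply, utv_apply, utv_apply, hH.add_left, hH.smul_left, ha]
  simp only [mul_zero, add_zero, LinearEquiv.coe_one, id_eq]
  module

lemma utv_inv (hH : HermData σ h) (a : V) (c : K) (ha : h a a = 0) :
    (hH.utv a c ha)⁻¹ = hH.utv a (-c) ha :=
  inv_eq_of_mul_eq_one_right (hH.utv_mul_neg a c ha)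

end HermData

end Cfsg.Agent.Lib.Helper94
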