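/-
Helper94: in characteristic two, the stabiliser (in the special unitary group) of an orthogonal
decomposition whose members carry a canonical orthonormal frame is not maximal.
-/
import Mathlib
import Cfsg.Agent.Lib.Helper94.UnitBasic

set_option autoImplicit false
set_option linter.unusedSimpArgs false
set_option linter.unusedSectionVars false
set_option linter.unusedVariables false

namespace Cfsg.Agent.Lib.Helper94

variable {K V : Type*} [Field K] [AddCommGroup V] [Module K V]

namespace HermData

variable {σ : K → K} {h : V → V → K}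

/-- The set of vectors of norm one lying in a member of the decomposition. -/
def uframeSet (h : V → V → K) {t : ℕ} (D : Fin t → Submodule K V) : Set V :=
  {v | h v v = 1 ∧ ∃ i, v ∈ D i}

lemma stabDec_le_stabSet_u (hH : HermData σ h) {t : ℕ} (D : Fin t → Submodule K V) :
    SympData.stabDec D ⊓ (UG h ⊓ SympData.SLe K V) ≤
      stabSet (uframeSet h D) ⊓ (UG h ⊓ SympData.SLe K V) := by
  have key : ∀ g ∈ SympData.stabDec D ⊓ (UG h ⊓ SympData.SLe K V), ∀ v ∈ uframeSet h D,
      g v ∈ uframeSet h D := by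
    intro g hg v hv
    obtain ⟨τ, hτ⟩ := hg.1
    have hgU : g ∈ UG h := hg.2.1
    obtain ⟨hv1, i, hvi⟩ := hv
    refine ⟨by rw [hgU v v, hv1], τ i, ?_⟩
    rw [← hτ i]
    exact Submodule.mem_map_of_mem hvi
  intro g hg
  exact ⟨mem_stabSet_of_maps (key g hg) (key g⁻¹ (inv_mem hg)), hg.2⟩

/-- **Non-maximality** of the stabiliser of a decomposition with canonical orthonormal frames,
characteristic two. -/
theorem exists_between_uframe (hH : HermData σ h) (h2 : (2 : K) = 0) (hσ1 : σ 1 = 1) {t : ℕ}
    (D : Fin t → Submodule K V)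
    (horth : ∀ i j, i ≠ j → ∀ u ∈ D i, ∀ v ∈ D j, h u v = 0)
    {i0 i1 : Fin t} (h01 : i0 ≠ i1) {x x' y y' : V}
    (hx : x ∈ D i0) (hx' : x' ∈ D i0) (hy : y ∈ D i1) (hy' : y' ∈ D i1)
    (nx : h x x = 1) (nx' : h x' x' = 1) (ny : h y y = 1) (ny' : h y' y' = 1)
    (oxx' : h x x' = 0) (oyy' : h y y' = 0)
    (hPx : ∀ v ∈ D i0, h v v = 1 → (∃ α : K, v = α • x) ∨ h v x = 0)
    (hPy : ∀ v ∈ D i1, h v v = 1 → (∃ α : K, v = α • y) ∨ h v y = 0) :
    ∃ K' : Subgroup (V ≃ₗ[K] V),
      SympData.stabDec D ⊓ (UG h ⊓ SympData.SLe K V) < K' ∧ K' < UG h ⊓ SympData.SLe K V := by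
  have hσ0 : σ 0 = 0 := by
    have := hH.smul_right 0 x x
    rw [zero_smul, hH.zero_right, nx, mul_one] at this
    exact this.symm
  have hc1 : (1 : K) + σ 1 = 0 := by rw [hσ1]; linear_combination h2
  have hneg1 : (-1 : K) = 1 := by linear_combination (-1 : K) * h2
  have ox'x : h x' x = 0 := by rw [hH.conj x x', oxx', hσ0]
  have oy'y : h y' y = 0 := by rw [hH.conj y y', oyy', hσ0]
  have oxy : h x y = 0 := horth i0 i1 h01 x hx y hy
  have oxy' : h x y' = 0 := horth i0 i1 h01 x hx y' hy'
  have ox'y : h x' y = 0 := horth i0 i1 h01 x' hx' y hy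
  have ox'y' : h x' y' = 0 := horth i0 i1 h01 x' hx' y' hy'
  have oyx : h y x = 0 := horth i1 i0 h01.symm y hy x hx
  have oyx' : h y x' = 0 := horth i1 i0 h01.symm y hy x' hx'
  have oy'x : h y' x = 0 := horth i1 i0 h01.symm y' hy' x hx
  have oy'x' : h y' x' = 0 := horth i1 i0 h01.symm y' hy' x' hx'
  refine ⟨stabSet (uframeSet h D) ⊓ (UG h ⊓ SympData.SLe K V), ?_, ?_⟩
  · rw [SetLike.lt_iff_le_and_exists]
    refine ⟨hH.stabDec_le_stabSet_u D, ?_⟩
    have ha : h (x + y) (x + y) = 0 := by
      rw [hH.add_left, hH.add_right, hH.add_right, nx, oxy, oyx, ny]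
      linear_combination h2
    have hgU := hH.utv_mem_UG (x + y) 1 ha hc1
    have hgS := hH.utv_mem_SLe (x + y) 1 ha
    have hgx : hH.utv (x + y) 1 ha x = y := by
      rw [utv_apply, hH.add_right, nx, oxy, add_zero, one_mul, one_smul]
      have : x + (x + y) = (2 : K) • x + y := by module
      rw [this, h2, zero_smul, zero_add]
    have hgx' : hH.utv (x + y) 1 ha x' = x' := by
      rw [utv_apply, hH.add_right, ox'x, ox'y, add_zero, mul_zero, zero_smul, add_zero]
    have hmaps : ∀ v ∈ uframeSet h D, hH.utv (x + y) 1 ha v ∈ uframeSet h D := by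
      intro v hv
      obtain ⟨hv1, l, hvl⟩ := hv
      refine ⟨by rw [hgU v v, hv1], ?_⟩
      by_cases hl0 : l = i0
      · subst hl0
        rcases hPx v hvl hv1 with ⟨α, rfl⟩ | hvx
        · refine ⟨i1, ?_⟩
          rw [map_smul, hgx]
          exact (D i1).smul_mem _ hy
        · refine ⟨l, ?_⟩
          rw [utv_apply, hH.add_right, hvx, horth l i1 h01 v hvl y hy, add_zero, mul_zero,
            zero_smul, add_zero]
          exact hvl
      by_cases hl1 : l = i1
      · subst hl1
        rcases hPy v hvl hv1 with ⟨α, rfl⟩ | hvy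
        · refine ⟨i0, ?_⟩
          have hgy : hH.utv (x + y) 1 ha y = x := by
            rw [utv_apply, hH.add_right, ny, oyx, zero_add, one_mul, one_smul]
            have : y + (x + y) = (2 : K) • y + x := by module
            rw [this, h2, zero_smul, zero_add]
          rw [map_smul, hgy]
          exact (D i0).smul_mem _ hx
        · refine ⟨l, ?_⟩
          rw [utv_apply, hH.add_right, hvy, horth l i0 hl0 v hvl x hx, add_zero, mul_zero,
            zero_smul, add_zero]
          exact hvl
      · refine ⟨l, ?_⟩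
        rw [utv_apply, hH.add_right, horth l i0 hl0 v hvl x hx, horth l i1 hl1 v hvl y hy,
          add_zero, mul_zero, zero_smul, add_zero]
        exact hvl
    have hinv : (hH.utv (x + y) 1 ha)⁻¹ = hH.utv (x + y) 1 ha := by
      rw [utv_inv]
      congr 1
    refine ⟨hH.utv (x + y) 1 ha, ⟨?_, hgU, hgS⟩, ?_⟩
    · apply mem_stabSet_of_maps hmaps
      rw [hinv]; exact hmaps
    · intro hmem
      obtain ⟨τ, hτ⟩ := hmem.1
      have h1 : y ∈ D (τ i0) := by
        rw [← hτ i0]
        have := Submodule.mem_map_of_mem (f := ((hH.utv (x + y) 1 ha : V ≃ₗ[K] V) :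
          V →ₗ[K] V)) hx
        rwa [LinearEquiv.coe_coe, hgx] at this
      have h2' : x' ∈ D (τ i0) := by
        rw [← hτ i0]
        have := Submodule.mem_map_of_mem (f := ((hH.utv (x + y) 1 ha : V ≃ₗ[K] V) :
          V →ₗ[K] V)) hx'
        rwa [LinearEquiv.coe_coe, hgx'] at this
      by_cases hs : τ i0 = i0
      · rw [hs] at h1
        have := horth i0 i1 h01 y h1 y hy
        rw [ny] at this
        exact one_ne_zero this
      · have := horth (τ i0) i0 hs x' h2' x' hx'
        rw [nx'] at this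
        exact one_ne_zero this
  · rw [SetLike.lt_iff_le_and_exists]
    refine ⟨inf_le_right, ?_⟩
    have ha : h ((x + x') + (y + y')) ((x + x') + (y + y')) = 0 := by
      simp only [hH.add_left, hH.add_right, nx, nx', ny, ny', oxx', ox'x, oyy', oy'y, oxy, oxy',
        ox'y, ox'y', oyx, oyx', oy'x, oy'x']
      linear_combination (2 : K) * h2
    have hgU := hH.utv_mem_UG _ 1 ha hc1
    have hgS := hH.utv_mem_SLe _ 1 ha
    have hgx : hH.utv _ 1 ha x = x + ((x + x') + (y + y')) := by
      rw [utv_apply]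
      simp only [hH.add_right, nx, oxx', oxy, oxy', add_zero, one_mul, one_smul]
    refine ⟨hH.utv _ 1 ha, ⟨hgU, hgS⟩, ?_⟩
    intro hmem
    have hxS : x ∈ uframeSet h D := ⟨nx, i0, hx⟩
    have h1 := (hmem.1 x).1 hxS
    rw [hgx] at h1
    obtain ⟨_, l, hl⟩ := h1
    by_cases hli : l = i0
    · subst hli
      have := horth l i1 h01 _ hl y hy
      simp only [hH.add_left, oxy, ox'y, ny, oy'y, add_zero, zero_add] at this
      exact one_ne_zero this
    · have := horth l i0 hli _ hl x' hx'
      simp only [hH.add_left, oxx', nx', oyx', oy'x', add_zero, zero_add] at this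
      exact one_ne_zero this

end HermData

end Cfsg.Agent.Lib.Helper94
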