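/-
Helper94: orthonormal frames of non-degenerate unitary planes over the field with four elements.
-/
import Mathlib
import Cfsg.Agent.Lib.Helper94.UnitFrame

set_option autoImplicit false
set_option linter.unusedSimpArgs false
set_option linter.unusedSectionVars false
set_option linter.unusedVariables false

namespace Cfsg.Agent.Lib.Helper94

variable {K V : Type*} [Field K] [AddCommGroup V] [Module K V]

namespace HermData

variable {σ : K → K} {h : V → V → K}

section Four

variable [Fintype K]

lemma two_eq_zero_of_card_four (hK : Fintype.card K = 4) : (2 : K) = 0 := by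
  have h4 := Nat.cast_card_eq_zero K
  rw [hK] at h4
  have : (2 : K) * 2 = 0 := by
    have : ((4 : ℕ) : K) = 4 := by norm_num
    rw [this] at h4
    linear_combination h4
  rcases mul_eq_zero.1 this with h | h <;> exact h

lemma cube_eq_one_of_card_four (hK : Fintype.card K = 4) {a : K} (ha : a ≠ 0) : a ^ 3 = 1 := by
  have h1 := FiniteField.pow_card_sub_one_eq_one a ha
  rwa [hK] at h1

lemma exists_ne_zero_ne_one_of_card_four (hK : Fintype.card K = 4) : ∃ ω : K, ω ≠ 0 ∧ ω ≠ 1 := by
  classical
  by_contra hcon
  push Not at hcon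
  have hsub : (Finset.univ : Finset K) ⊆ {0, 1} := by
    intro c _
    by_cases hc : c = 0
    · simp [hc]
    · simp [hcon c hc]
  have h1 := Finset.card_le_card hsub
  rw [Finset.card_univ, hK] at h1
  have h2 : ({0, 1} : Finset K).card ≤ 2 := Finset.card_le_two
  omega

/-- the norm of a vector is `0` or `1` -/
lemma norm_cases (hH : HermData σ h) (hσ : ∀ a, σ a = a ^ 2) (v : V) : h v v = 0 ∨ h v v = 1 := by
  have h1 := hH.conj v v
  rw [hσ] at h1
  have : h v v * (h v v - 1) = 0 := by linear_combination -h1
  rcases mul_eq_zero.1 this with h | h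
  · left; exact h
  · right; exact sub_eq_zero.1 h

/-- non-degenerate unitary planes over the field with four elements have a canonical orthonormal
frame -/
lemma exists_unice2 (hH : HermData σ h) (hK : Fintype.card K = 4) (hσ : ∀ a, σ a = a ^ 2)
    (U : Submodule K V) (hfr : Module.finrank K U = 2)
    (hnd : ∀ x ∈ U, (∀ y ∈ U, h x y = 0) → x = 0) :
    ∃ x x' : V, x ∈ U ∧ x' ∈ U ∧ h x x = 1 ∧ h x' x' = 1 ∧ h x x' = 0 ∧
      ∀ v ∈ U, h v v = 1 → (∃ α : K, v = α • x) ∨ h v x = 0 := by
  have h2 := two_eq_zero_of_card_four hK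
  have hfd : FiniteDimensional K U := Module.finite_of_finrank_pos (by rw [hfr]; norm_num)
  have hσ0 : σ 0 = 0 := by rw [hσ]; ring
  -- a non-isotropic vector
  have hex : ∃ x ∈ U, h x x ≠ 0 := by
    by_contra hcon
    push Not at hcon
    obtain ⟨ω, hω0, hω1⟩ := exists_ne_zero_ne_one_of_card_four hK
    have hzero : ∀ u ∈ U, ∀ v ∈ U, h u v = 0 := by
      have h01 : ∀ u ∈ U, ∀ v ∈ U, h u v = 0 ∨ h u v = 1 := by
        intro u hu v hv
        have e1 := hcon (u + v) (U.add_mem hu hv)
        rw [hH.add_left, hH.add_right, hH.add_right, hcon u hu, hcon v hv, hH.conj u v, hσ] at e1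
        have : h u v * (h u v - 1) = 0 := by linear_combination e1 - (h u v) * h2
        rcases mul_eq_zero.1 this with h | h
        · left; exact h
        · right; exact sub_eq_zero.1 h
      intro u hu v hv
      rcases h01 u hu v hv with h | h
      · exact h
      · exfalso
        have := h01 (ω • u) (U.smul_mem _ hu) v hv
        rw [hH.smul_left, h, mul_one] at this
        rcases this with h' | h'
        · exact hω0 h'
        · exact hω1 h'
    have hbot : U = ⊥ := by
      rw [eq_bot_iff]
      intro u hu
      rw [Submodule.mem_bot]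
      exact hnd u hu (fun y hy => hzero u hu y hy)
    rw [hbot, finrank_bot] at hfr
    omega
  obtain ⟨x, hxU, hx0⟩ := hex
  have nx : h x x = 1 := by
    rcases hH.norm_cases hσ x with h | h
    · exact absurd h hx0
    · exact h
  -- a non-zero vector of `U` orthogonal to `x`
  obtain ⟨x', hx'U, hx'0, hx'x⟩ : ∃ x' ∈ U, x' ≠ 0 ∧ h x' x = 0 := by
    have hker : LinearMap.ker ((hH.hfun x).comp U.subtype) ≠ ⊥ := by
      apply LinearMap.ker_ne_bot_of_finrank_lt
      rw [Module.finrank_self, hfr]; norm_num
    obtain ⟨u, hu, hu0⟩ := Submodule.exists_mem_ne_zero_of_ne_bot hker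
    refine ⟨u, u.2, fun h => hu0 (Subtype.ext h), ?_⟩
    have := LinearMap.mem_ker.1 hu
    simpa using this
  have hxx' : h x x' = 0 := by rw [hH.conj x' x, hx'x, hσ0]
  -- they span `U`
  have hle : Submodule.span K {x, x'} ≤ U := by
    rw [Submodule.span_le]
    intro v hv
    rcases hv with rfl | rfl
    · exact hxU
    · exact hx'U
  have hli : LinearIndependent K ![x, x'] := by
    rw [LinearIndependent.pair_iff]
    intro s t hst
    have h1 : h (s • x + t • x') x = s := by
      rw [hH.add_left, hH.smul_left, hH.smul_left, nx, hx'x, mul_one, mul_zero, add_zero]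
    rw [hst, hH.zero_left] at h1
    have hs : s = 0 := h1.symm
    rw [hs, zero_smul, zero_add] at hst
    rcases smul_eq_zero.1 hst with h | h
    · exact ⟨hs, h⟩
    · exact absurd h hx'0
  have hspanU : Submodule.span K {x, x'} = U := by
    apply Submodule.eq_of_le_of_finrank_eq hle
    have h1 := finrank_span_eq_card hli
    have h2' : Set.range ![x, x'] = {x, x'} := by
      simp [Matrix.range_cons, Matrix.range_empty, Set.pair_comm]
    rw [h2', Fintype.card_fin] at h1
    rw [h1, hfr]
  have hspan : ∀ w ∈ U, ∃ α β : K, w = α • x + β • x' := by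
    intro w hw
    rw [← hspanU] at hw
    obtain ⟨α, β, h⟩ := Submodule.mem_span_pair.1 hw
    exact ⟨α, β, h.symm⟩
  have nx' : h x' x' = 1 := by
    rcases hH.norm_cases hσ x' with h0 | h1
    · exfalso
      apply hx'0
      apply hnd x' hx'U
      intro w hw
      obtain ⟨α, β, rfl⟩ := hspan w hw
      rw [hH.add_right, hH.smul_right, hH.smul_right, hx'x, h0, mul_zero, mul_zero, add_zero]
    · exact h1
  refine ⟨x, x', hxU, hx'U, nx, nx', hxx', ?_⟩
  intro v hv hv1
  obtain ⟨α, β, rfl⟩ := hspan v hv
  have e1 : h (α • x + β • x') (α • x + β • x') = α ^ 3 + β ^ 3 := by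
    simp only [hH.add_left, hH.add_right, hH.smul_left, hH.smul_right, nx, nx', hxx', hx'x, hσ,
      mul_zero, mul_one, add_zero, zero_add]
    ring
  have e2 : h (α • x + β • x') x = α := by
    rw [hH.add_left, hH.smul_left, hH.smul_left, nx, hx'x, mul_one, mul_zero, add_zero]
  rw [e1] at hv1
  by_cases hα : α = 0
  · right; rw [e2, hα]
  · left
    have hα3 := cube_eq_one_of_card_four hK hα
    have hβ : β = 0 := by
      by_contra hβ0
      have hβ3 := cube_eq_one_of_card_four hK hβ0
      rw [hα3, hβ3] at hv1
      have : (1 : K) = 0 := by linear_combination hv1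
      exact one_ne_zero this
    exact ⟨α, by rw [hβ, zero_smul, add_zero]⟩

end Four

end HermData

end Cfsg.Agent.Lib.Helper94
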