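/-
Helper94: bridge between the Prelude's unitary vocabulary (`hermForm`, `GU`) over the field with
four elements and the abstract hermitian spaces of `UnitBasic`.
-/
import Mathlib
import Cfsg.Prelude.Def_GeometricClasses
import Cfsg.Agent.Lib.Helper94.SympBridge2
import Cfsg.Agent.Lib.Helper94.SympBridge3
import Cfsg.Agent.Lib.Helper94.SympSLBridge
import Cfsg.Agent.Lib.Helper94.UnitFrame2

set_option autoImplicit false
set_option linter.unusedSimpArgs false
set_option linter.unusedSectionVars false
set_option linter.unusedVariables false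

namespace Cfsg.Agent.Lib.Helper94

open scoped MatrixGroups Matrix

variable {F : Type*} [Field F]

/-- the image of the unitary group -/
lemma map_GU (n q : ℕ) :
    (Cfsg.GU n F q).map (glEquiv (Fin n) F).toMonoidHom = UG (Cfsg.hermForm n F q) := by
  ext e
  rw [Subgroup.mem_map_equiv]
  simp only [Cfsg.GU, Cfsg.preserving, Subgroup.mem_mk, Submonoid.mem_mk,
    Subsemigroup.mem_mk, Set.mem_ofPred_eq, mem_UG]
  constructor
  · intro h u v
    have := h u v
    rwa [show (Units.coeHom (Matrix (Fin n) (Fin n) F)) ((glEquiv (Fin n) F).symm e) =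
      (((glEquiv (Fin n) F).symm e : GL (Fin n) F) : Matrix (Fin n) (Fin n) F) from rfl,
      glEquiv_symm_mulVec, glEquiv_symm_mulVec] at this
  · intro h u v
    rw [show (Units.coeHom (Matrix (Fin n) (Fin n) F)) ((glEquiv (Fin n) F).symm e) =
      (((glEquiv (Fin n) F).symm e : GL (Fin n) F) : Matrix (Fin n) (Fin n) F) from rfl,
      glEquiv_symm_mulVec, glEquiv_symm_mulVec]
    exact h u v

/-- the standard unitary form over the field with four elements is hermitian -/
lemma hermData_hermForm_four [Fintype F] (hF : Fintype.card F = 4) (n : ℕ) :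
    HermData (fun a : F => a ^ 2) (Cfsg.hermForm n F 2) := by
  have h2 : (2 : F) = 0 := HermData.two_eq_zero_of_card_four hF
  have hadd : ∀ a b : F, (a + b) ^ 2 = a ^ 2 + b ^ 2 := by
    intro a b
    linear_combination (a * b) * h2
  have h4 : ∀ a : F, a ^ 4 = a := by
    intro a
    have := FiniteField.pow_card a
    rwa [hF] at this
  have hsum : ∀ (s : Finset (Fin n)) (f : Fin n → F), (∑ i ∈ s, f i) ^ 2 = ∑ i ∈ s, (f i) ^ 2 := by
    intro s f
    classical
    induction s using Finset.induction_on with
    | empty => simp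
    | insert a s ha ih => rw [Finset.sum_insert ha, Finset.sum_insert ha, hadd, ih]
  refine ⟨?_, ?_, ?_, ?_, ?_, ?_⟩
  · intro x y z
    simp only [Cfsg.hermForm, Pi.add_apply, add_mul, Finset.sum_add_distrib]
  · intro c x y
    simp only [Cfsg.hermForm, Pi.smul_apply, smul_eq_mul, Finset.mul_sum, mul_assoc]
  · intro x y z
    simp only [Cfsg.hermForm, Pi.add_apply, hadd, mul_add, Finset.sum_add_distrib]
  · intro c x y
    simp only [Cfsg.hermForm, Pi.smul_apply, smul_eq_mul, Finset.mul_sum]
    apply Finset.sum_congr rfl
    intro i _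
    ring
  · intro x y
    simp only [Cfsg.hermForm]
    rw [hsum]
    apply Finset.sum_congr rfl
    intro i _
    rw [mul_pow, ← pow_mul, h4]
    ring
  · intro a b
    ring

end Cfsg.Agent.Lib.Helper94
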