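/-
Helper94: existence of vectors with prescribed norm and prescribed products with two given vectors,
in a non-degenerate quadratic space of dimension at least seven over a finite field of odd order,
and the same inside a non-degenerate subspace.
-/
import Mathlib
import Cfsg.Agent.Lib.Helper94.OmegaRefl

set_option autoImplicit false
set_option linter.unusedSimpArgs false
set_option linter.unusedSectionVars false
set_option linter.unusedVariables false

namespace Cfsg.Agent.Lib.Helper94

open LinearMap (BilinForm)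
open Module

variable {K V : Type*} [Field K] [AddCommGroup V] [Module K V]

namespace QuadData

variable {B : BilinForm K V} {Q : V → K}

/-- a non-singular vector in the kernel of a linear map of small rank -/
lemma exists_nonsingular_ker [FiniteDimensional K V] (hQ : QuadData B Q)
    (hnd : ∀ x, (∀ y, B x y = 0) → x = 0) {m : ℕ} (f : V →ₗ[K] (Fin m → K))
    (hdim : 2 * m < finrank K V) : ∃ b : V, Q b ≠ 0 ∧ f b = 0 := by
  by_contra hcon
  push Not at hcon
  have hZ : ∀ z ∈ LinearMap.ker f, Q z = 0 := by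
    intro z hz
    by_contra hne
    exact hcon z hne (LinearMap.mem_ker.1 hz)
  have hle : LinearMap.ker f ≤ B.orthogonal (LinearMap.ker f) := by
    intro x hx
    rw [LinearMap.BilinForm.mem_orthogonal_iff]
    intro y hy
    exact hQ.B_eq_zero_of_singular _ hZ hy hx
  have h1 := Submodule.finrank_mono hle
  rw [LinearMap.BilinForm.finrank_orthogonal (hQ.nondegenerate_of hnd)] at h1
  have h2 := LinearMap.finrank_range_add_finrank_ker f
  have h3 : finrank K (LinearMap.range f) ≤ m := by
    have := Submodule.finrank_le (LinearMap.range f)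
    rwa [Module.finrank_fin_fun] at this
  omega

/-- over a finite field of odd order, `a x² + p x + b y² + r y = δ` is solvable -/
lemma exists_quadratic_sum [Finite K] (h2 : (2 : K) ≠ 0) {a b : K} (ha : a ≠ 0) (hb : b ≠ 0)
    (p r δ : K) : ∃ x y : K, a * x ^ 2 + p * x + (b * y ^ 2 + r * y) = δ := by
  classical
  have : Fintype K := Fintype.ofFinite K
  have hchar : ringChar K ≠ 2 := by
    intro h
    apply h2
    have : ((2 : ℕ) : K) = 0 := by
      rw [← h]; exact ringChar.Nat.cast_ringChar
    exact_mod_cast this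
  have hodd : Fintype.card K % 2 = 1 := FiniteField.odd_card_of_char_ne_two hchar
  open Polynomial in
  obtain ⟨x, y, hxy⟩ := FiniteField.exists_root_sum_quadratic
    (f := (C a * X ^ 2 + C p * X + C (-δ) : K[X])) (g := (C b * X ^ 2 + C r * X + C 0 : K[X]))
    (Polynomial.degree_quadratic ha) (Polynomial.degree_quadratic hb) hodd
  refine ⟨x, y, ?_⟩
  simp only [Polynomial.eval_mul, Polynomial.eval_C, Polynomial.eval_pow, Polynomial.eval_X,
    Polynomial.eval_add] at hxy
  linear_combination hxy

/-- **Prescribed norm and two prescribed linear conditions** (absolute form). -/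
lemma exists_norm_of_functionals [Finite K] [FiniteDimensional K V] (hQ : QuadData B Q)
    (hnd : ∀ x, (∀ y, B x y = 0) → x = 0) (h2 : (2 : K) ≠ 0) (hdim : 7 ≤ finrank K V)
    (φ₁ φ₂ : V →ₗ[K] K) (e₀ : V) (γ : K) :
    ∃ e : V, φ₁ e = φ₁ e₀ ∧ φ₂ e = φ₂ e₀ ∧ Q e = γ := by
  obtain ⟨z₁, hz₁, hfz₁⟩ := hQ.exists_nonsingular_ker hnd (LinearMap.pi ![φ₁, φ₂]) (by omega)
  have h11 : φ₁ z₁ = 0 := by
    have := congrFun hfz₁ 0
    simpa using this
  have h12 : φ₂ z₁ = 0 := by
    have := congrFun hfz₁ 1
    simpa using this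
  obtain ⟨z₂, hz₂, hfz₂⟩ := hQ.exists_nonsingular_ker hnd (LinearMap.pi ![φ₁, φ₂, B.flip z₁])
    (by omega)
  have h21 : φ₁ z₂ = 0 := by
    have := congrFun hfz₂ 0
    simpa using this
  have h22 : φ₂ z₂ = 0 := by
    have := congrFun hfz₂ 1
    simpa using this
  have h23 : B z₂ z₁ = 0 := by
    have := congrFun hfz₂ 2
    simpa using this
  have h23' : B z₁ z₂ = 0 := by rw [hQ.symm]; exact h23
  obtain ⟨x, y, hxy⟩ := exists_quadratic_sum h2 hz₁ hz₂ (B e₀ z₁) (B e₀ z₂) (γ - Q e₀)
  refine ⟨e₀ + x • z₁ + y • z₂, ?_, ?_, ?_⟩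
  · rw [map_add, map_add, map_smul, map_smul, h11, h21]; simp
  · rw [map_add, map_add, map_smul, map_smul, h12, h22]; simp
  · rw [hQ.polar, hQ.polar, hQ.smul, hQ.smul]
    simp only [map_add, map_smul, LinearMap.add_apply, LinearMap.smul_apply, smul_eq_mul, h23']
    linear_combination hxy

/-- the restriction of a quadratic form to a subspace -/
lemma restrict (hQ : QuadData B Q) (P : Submodule K V) :
    QuadData (B.restrict P) (fun p : P => Q (p : V)) where
  smul := fun c v => by
    show Q ((c • v : P) : V) = c ^ 2 * Q (v : V)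
    rw [Submodule.coe_smul, hQ.smul]
  polar := fun u v => by
    show Q ((u + v : P) : V) = Q (u : V) + Q (v : V) + B (u : V) (v : V)
    rw [Submodule.coe_add, hQ.polar]

/-- **Prescribed norm and two prescribed products**, inside a non-degenerate subspace. -/
lemma exists_norm_in [Finite K] [FiniteDimensional K V] (hQ : QuadData B Q) (h2 : (2 : K) ≠ 0)
    (P : Submodule K V) (hP : ∀ p ∈ P, (∀ p' ∈ P, B p p' = 0) → p = 0)
    (hdim : 7 ≤ finrank K P) (y₁ y₂ : V) {e₀ : V} (he₀ : e₀ ∈ P) (γ : K) :
    ∃ e ∈ P, B e y₁ = B e₀ y₁ ∧ B e y₂ = B e₀ y₂ ∧ Q e = γ := by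
  have hndP : ∀ x : P, (∀ y : P, B.restrict P x y = 0) → x = 0 := by
    intro x hx
    have := hP x x.2 (fun p' hp' => hx ⟨p', hp'⟩)
    exact Subtype.ext this
  obtain ⟨e, h1, h2', h3⟩ := (hQ.restrict P).exists_norm_of_functionals hndP h2 hdim
    ((B.flip y₁).comp P.subtype) ((B.flip y₂).comp P.subtype) ⟨e₀, he₀⟩ γ
  exact ⟨e, e.2, h1, h2', h3⟩

end QuadData

end Cfsg.Agent.Lib.Helper94
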