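/-
Helper94: classes of non-singular vectors closed under reflecting their members in each other.
For an orthogonal decomposition `V = W ⊥ U` into non-degenerate subspaces of dimension at least
seven (odd characteristic, finite field), such a class containing the non-singular vectors of `W`
and of `U` and one vector outside `W ∪ U` contains every non-singular vector.
-/
import Mathlib
import Cfsg.Agent.Lib.Helper94.QuadExist
import Cfsg.Agent.Lib.Helper94.OrthPlane2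

set_option autoImplicit false
set_option linter.unusedSimpArgs false
set_option linter.unusedSectionVars false
set_option linter.unusedVariables false

namespace Cfsg.Agent.Lib.Helper94

open LinearMap (BilinForm)
open Module

variable {K V : Type*} [Field K] [AddCommGroup V] [Module K V]

namespace QuadData

variable {B : BilinForm K V} {Q : V → K}

lemma exists_prod_ne_zero_in (hQ : QuadData B Q) (P : Submodule K V)
    (hP : ∀ p ∈ P, (∀ p' ∈ P, B p p' = 0) → p = 0) {x : V} (hx : x ∈ P) (hx0 : x ≠ 0) :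
    ∃ e ∈ P, B e x ≠ 0 := by
  by_contra hcon
  push Not at hcon
  exact hx0 (hP x hx (fun p' hp' => by rw [hQ.symm]; exact hcon p' hp'))

lemma exists_two_prod_ne_zero_in (hQ : QuadData B Q) (P : Submodule K V)
    (hP : ∀ p ∈ P, (∀ p' ∈ P, B p p' = 0) → p = 0) {x x' : V} (hx : x ∈ P) (hx0 : x ≠ 0)
    (hx' : x' ∈ P) (hx'0 : x' ≠ 0) : ∃ e ∈ P, B e x ≠ 0 ∧ B e x' ≠ 0 := by
  obtain ⟨e₁, he₁, h1⟩ := hQ.exists_prod_ne_zero_in P hP hx hx0
  obtain ⟨e₂, he₂, h2⟩ := hQ.exists_prod_ne_zero_in P hP hx' hx'0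
  by_cases h3 : B e₁ x' = 0
  · by_cases h4 : B e₂ x = 0
    · refine ⟨e₁ + e₂, P.add_mem he₁ he₂, ?_, ?_⟩
      · rw [map_add, LinearMap.add_apply, h4, add_zero]; exact h1
      · rw [map_add, LinearMap.add_apply, h3, zero_add]; exact h2
    · exact ⟨e₂, he₂, h4, h2⟩
  · exact ⟨e₁, he₁, h1, h3⟩

lemma exists_prod_eq_in (hQ : QuadData B Q) (P : Submodule K V)
    (hP : ∀ p ∈ P, (∀ p' ∈ P, B p p' = 0) → p = 0) {x : V} (hx : x ∈ P) (hx0 : x ≠ 0) (α : K) :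
    ∃ e ∈ P, B e x = α := by
  obtain ⟨e₁, he₁, h1⟩ := hQ.exists_prod_ne_zero_in P hP hx hx0
  refine ⟨(α / B e₁ x) • e₁, P.smul_mem _ he₁, ?_⟩
  rw [map_smul, LinearMap.smul_apply, smul_eq_mul]
  field_simp

/-- a non-zero vector of prescribed norm in a non-degenerate subspace -/
lemma exists_ne_zero_norm_in [Finite K] [FiniteDimensional K V] (hQ : QuadData B Q)
    (h2 : (2 : K) ≠ 0) (P : Submodule K V) (hP : ∀ p ∈ P, (∀ p' ∈ P, B p p' = 0) → p = 0)
    (hdim : 7 ≤ finrank K P) (γ : K) : ∃ e ∈ P, e ≠ 0 ∧ Q e = γ := by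
  obtain ⟨z, hz, hz0⟩ : ∃ z ∈ P, z ≠ 0 := by
    by_contra hcon
    push Not at hcon
    have : P = ⊥ := by
      rw [eq_bot_iff]
      intro x hx
      rw [Submodule.mem_bot]
      exact hcon x hx
    rw [this, finrank_bot] at hdim
    omega
  obtain ⟨e₀, he₀, h1⟩ := hQ.exists_prod_eq_in P hP hz hz0 1
  obtain ⟨e, he, h3, -, h4⟩ := hQ.exists_norm_in h2 P hP hdim z z he₀ γ
  refine ⟨e, he, ?_, h4⟩
  rintro rfl
  rw [h1, map_zero, LinearMap.zero_apply] at h3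
  exact zero_ne_one h3

/-- a vector with prescribed product with `u`, different from `u` -/
lemma exists_ne_with_prod_in [Finite K] [FiniteDimensional K V] (hQ : QuadData B Q)
    (h2 : (2 : K) ≠ 0) (P : Submodule K V) (hP : ∀ p ∈ P, (∀ p' ∈ P, B p p' = 0) → p = 0)
    (hdim : 7 ≤ finrank K P) {u : V} (hu : u ∈ P) (hu0 : u ≠ 0) (α : K) :
    ∃ e ∈ P, B e u = α ∧ e ≠ u := by
  obtain ⟨e₁, he₁, h1⟩ := hQ.exists_prod_eq_in P hP hu hu0 α
  by_cases h : e₁ = u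
  · obtain ⟨z, hz, hzu, -, hQz⟩ := hQ.exists_norm_in h2 P hP hdim u u P.zero_mem 1
    rw [map_zero, LinearMap.zero_apply] at hzu
    refine ⟨e₁ + z, P.add_mem he₁ hz, ?_, ?_⟩
    · rw [map_add, LinearMap.add_apply, h1, hzu, add_zero]
    · intro h3
      rw [h] at h3
      have : z = 0 := by
        have := congrArg (fun t => t - u) h3
        simpa using this
      rw [this, hQ.zero] at hQz
      exact zero_ne_one hQz
  · exact ⟨e₁, he₁, h1, h⟩

/-- A class of non-singular vectors closed under scalars and under reflecting members in each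
other. -/
structure ReflClass (hQ : QuadData B Q) (C : Set V) : Prop where
  nonsing : ∀ a ∈ C, Q a ≠ 0
  smul_mem : ∀ a ∈ C, ∀ l : K, l ≠ 0 → l • a ∈ C
  refl_mem : ∀ a ∈ C, ∀ b ∈ C, ∀ ha : Q a ≠ 0, hQ.refl a ha b ∈ C

namespace ReflClass

variable {hQ : QuadData B Q} {C : Set V}

/-- reflecting the `U`-part of a member -/
lemma refl_in (hC : ReflClass hQ C) (U : Submodule K V)
    (hUC : ∀ a ∈ U, Q a ≠ 0 → a ∈ C) {w : V} (hw : ∀ u ∈ U, B w u = 0) {e : V} (he : e ∈ U)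
    (hQe : Q e ≠ 0) {x : V} (hx : w + x ∈ C) : w + hQ.refl e hQe x ∈ C := by
  have h1 := hC.refl_mem e (hUC e he hQe) (w + x) hx hQe
  rw [map_add, hQ.refl_apply_of_orth e hQe (hw e he)] at h1
  exact h1

/-- moving the `U`-part of a member to another vector of the same norm -/
lemma trans_in [Finite K] [FiniteDimensional K V] (hC : ReflClass hQ C) (h2 : (2 : K) ≠ 0)
    (U : Submodule K V) (hU : ∀ p ∈ U, (∀ p' ∈ U, B p p' = 0) → p = 0)
    (hdim : 7 ≤ finrank K U) (hUC : ∀ a ∈ U, Q a ≠ 0 → a ∈ C) {w : V}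
    (hw : ∀ u ∈ U, B w u = 0) {x x' : V} (hx : x ∈ U) (hx0 : x ≠ 0) (hx' : x' ∈ U)
    (hx'0 : x' ≠ 0) (hxx' : Q x = Q x') (hwx : w + x ∈ C) : w + x' ∈ C := by
  -- one reflection when the difference is non-singular
  have hone : ∀ y y' : V, y ∈ U → y' ∈ U → Q y = Q y' → Q (y - y') ≠ 0 → w + y ∈ C →
      w + y' ∈ C := by
    intro y y' hy hy' hyy' hd hwy
    have := hC.refl_in U hUC hw (U.sub_mem hy hy') hd hwy
    rwa [hQ.refl_swap hyy' hd] at this
  by_cases hd : Q (x - x') ≠ 0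
  · exact hone x x' hx hx' hxx' hd hwx
  -- an intermediate vector
  obtain ⟨e₀, he₀, h01, h02⟩ : ∃ e₀ ∈ U, B e₀ x ≠ 2 * Q x ∧ B e₀ x' ≠ 2 * Q x := by
    by_cases hc : 2 * Q x = 0
    · obtain ⟨e, he, h1, h2'⟩ := hQ.exists_two_prod_ne_zero_in U hU hx hx0 hx' hx'0
      exact ⟨e, he, by rw [hc]; exact h1, by rw [hc]; exact h2'⟩
    · refine ⟨0, U.zero_mem, ?_, ?_⟩
      · rw [map_zero, LinearMap.zero_apply]; exact fun h => hc h.symm
      · rw [map_zero, LinearMap.zero_apply]; exact fun h => hc h.symm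
  obtain ⟨m, hm, hm1, hm2, hQm⟩ := hQ.exists_norm_in h2 U hU hdim x x' he₀ (Q x)
  have hd1 : Q (x - m) ≠ 0 := by
    rw [hQ.sub, hQm, hQ.symm, hm1]
    intro h
    apply h01
    linear_combination -h
  have hd2 : Q (m - x') ≠ 0 := by
    rw [hQ.sub, hQm, ← hxx', hm2]
    intro h
    apply h02
    linear_combination -h
  have h3 := hone x m hx hm hQm.symm hd1 hwx
  exact hone m x' hm hx' (hQm.trans hxx') hd2 h3

/-- **Changing the `U`-part of a member**: if `w + u` is a member, with `w` orthogonal to `U` and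
`u ≠ 0` in `U`, then so is every non-singular `w + u₂` with `u₂ ≠ 0` in `U`. -/
lemma move_in [Finite K] [FiniteDimensional K V] (hC : ReflClass hQ C) (h2 : (2 : K) ≠ 0)
    (U : Submodule K V) (hU : ∀ p ∈ U, (∀ p' ∈ U, B p p' = 0) → p = 0)
    (hdim : 7 ≤ finrank K U) (hUC : ∀ a ∈ U, Q a ≠ 0 → a ∈ C) {w : V}
    (hw : ∀ u ∈ U, B w u = 0) {u : V} (hu : u ∈ U) (hu0 : u ≠ 0) (hwu : w + u ∈ C) {u₂ : V}
    (hu₂ : u₂ ∈ U) (hu₂0 : u₂ ≠ 0) (hn : Q (w + u₂) ≠ 0) : w + u₂ ∈ C := by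
  have hα := hC.nonsing _ hwu
  have hsplit : ∀ x ∈ U, Q (w + x) = Q w + Q x := by
    intro x hx
    rw [hQ.polar, hw x hx, add_zero]
  obtain ⟨e₀, he₀, h01, h02⟩ := hQ.exists_ne_with_prod_in h2 U hU hdim hu hu0 (Q (w + u))
  obtain ⟨z', hz', hz'1⟩ : ∃ z' ∈ U, B (e₀ - u) z' ≠ 0 := by
    have hne : e₀ - u ≠ 0 := sub_ne_zero.2 h02
    obtain ⟨z', hz', h⟩ := hQ.exists_prod_ne_zero_in U hU (U.sub_mem he₀ hu) hne
    exact ⟨z', hz', by rw [hQ.symm]; exact h⟩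
  obtain ⟨e, he, he1, he2, hQe⟩ := hQ.exists_norm_in h2 U hU hdim u z' he₀ (Q (w + u₂))
  have heu : e ≠ u := by
    rintro rfl
    apply hz'1
    rw [map_sub, LinearMap.sub_apply, he2, sub_self]
  have hQe0 : Q e ≠ 0 := by rw [hQe]; exact hn
  have heC : e ∈ C := hUC e he hQe0
  have h3 := hC.refl_mem (w + u) hwu e heC hα
  have h4 : hQ.refl (w + u) hα e = e - (w + u) := by
    rw [refl_apply, map_add, hQ.symm e w, hw e he, zero_add, he1, h01, inv_mul_cancel₀ hα,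
      one_smul]
  rw [h4] at h3
  have h5 := hC.smul_mem _ h3 (-1) (by simp)
  have h6 : (-1 : K) • (e - (w + u)) = w + (u - e) := by
    rw [neg_one_smul]; abel
  rw [h6] at h5
  have hue : u - e ∈ U := U.sub_mem hu he
  have hue0 : u - e ≠ 0 := sub_ne_zero.2 (Ne.symm heu)
  have h7 : Q (w + (u - e)) = Q (w + u₂) := by
    rw [← h6, hQ.smul, ← h4, hQ.refl_mem_OG (w + u) hα e, hQe]
    ring
  have h8 : Q (u - e) = Q u₂ := by
    rw [hsplit _ hue, hsplit _ hu₂] at h7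
    linear_combination h7
  exact hC.trans_in h2 U hU hdim hUC hw hue hue0 hu₂ hu₂0 h8 h5

/-- in a field with `2 ≠ 0` one can avoid two given elements -/
lemma exists_ne_two (h2 : (2 : K) ≠ 0) (a b : K) : ∃ x : K, x ≠ a ∧ x ≠ b := by
  have h1 : (1 : K) ≠ -1 := by
    intro h
    apply h2
    linear_combination h
  by_cases ha0 : a = 0
  · by_cases hb1 : b = 1
    · exact ⟨-1, by rw [ha0]; simp, by rw [hb1]; exact fun h => h1 h.symm⟩
    · exact ⟨1, by rw [ha0]; simp, fun h => hb1 h.symm⟩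
  · by_cases hb0 : b = 0
    · by_cases ha1 : a = 1
      · exact ⟨-1, by rw [ha1]; exact fun h => h1 h.symm, by rw [hb0]; simp⟩
      · exact ⟨1, fun h => ha1 h.symm, by rw [hb0]; simp⟩
    · exact ⟨0, fun h => ha0 h.symm, fun h => hb0 h.symm⟩

/-- **A reflection-closed class containing the non-singular vectors of `W` and of `U` and one
vector outside `W ∪ U` contains every non-singular vector.** -/
theorem mem_of_mixed [Finite K] [FiniteDimensional K V] (hC : ReflClass hQ C) (h2 : (2 : K) ≠ 0)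
    (W U : Submodule K V) (horth : ∀ w ∈ W, ∀ u ∈ U, B w u = 0)
    (hW : ∀ p ∈ W, (∀ p' ∈ W, B p p' = 0) → p = 0)
    (hU : ∀ p ∈ U, (∀ p' ∈ U, B p p' = 0) → p = 0)
    (hdW : 7 ≤ finrank K W) (hdU : 7 ≤ finrank K U)
    (hWC : ∀ a ∈ W, Q a ≠ 0 → a ∈ C) (hUC : ∀ a ∈ U, Q a ≠ 0 → a ∈ C)
    {w u : V} (hw : w ∈ W) (hu : u ∈ U) (hw0 : w ≠ 0) (hu0 : u ≠ 0) (hwu : w + u ∈ C)
    {w₂ u₂ : V} (hw₂ : w₂ ∈ W) (hu₂ : u₂ ∈ U) (hn : Q (w₂ + u₂) ≠ 0) : w₂ + u₂ ∈ C := by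
  have horth' : ∀ u ∈ U, ∀ w ∈ W, B u w = 0 := fun u hu w hw => by
    rw [hQ.symm]; exact horth w hw u hu
  have hsplit : ∀ x ∈ W, ∀ y ∈ U, Q (x + y) = Q x + Q y := by
    intro x hx y hy
    rw [hQ.polar, horth x hx y hy, add_zero]
  by_cases hw₂0 : w₂ = 0
  · rw [hw₂0, zero_add] at hn ⊢
    exact hUC u₂ hu₂ hn
  by_cases hu₂0 : u₂ = 0
  · rw [hu₂0, add_zero] at hn ⊢
    exact hWC w₂ hw₂ hn
  obtain ⟨u₃, hu₃, hu₃0, hQu₃⟩ := hQ.exists_ne_zero_norm_in h2 U hU hdU (-Q w + 1)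
  obtain ⟨γ, hγ1, hγ2⟩ := exists_ne_two h2 (-(-Q w + 1)) (-Q u₂)
  obtain ⟨w₃, hw₃, hw₃0, hQw₃⟩ := hQ.exists_ne_zero_norm_in h2 W hW hdW γ
  -- step 1
  have s1 : w + u₃ ∈ C := by
    apply hC.move_in h2 U hU hdU hUC (horth w hw) hu hu0 hwu hu₃ hu₃0
    rw [hsplit w hw u₃ hu₃, hQu₃]
    simp
  -- step 2
  have s2 : u₃ + w₃ ∈ C := by
    rw [add_comm] at s1
    apply hC.move_in h2 W hW hdW hWC (horth' u₃ hu₃) hw hw0 s1 hw₃ hw₃0
    rw [add_comm, hsplit w₃ hw₃ u₃ hu₃, hQu₃, hQw₃]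
    intro h
    apply hγ1
    linear_combination h
  -- step 3
  have s3 : w₃ + u₂ ∈ C := by
    rw [add_comm] at s2
    apply hC.move_in h2 U hU hdU hUC (horth w₃ hw₃) hu₃ hu₃0 s2 hu₂ hu₂0
    rw [hsplit w₃ hw₃ u₂ hu₂, hQw₃]
    intro h
    apply hγ2
    linear_combination h
  -- step 4
  rw [add_comm] at s3 ⊢
  apply hC.move_in h2 W hW hdW hWC (horth' u₂ hu₂) hw₃ hw₃0 s3 hw₂ hw₂0
  rw [add_comm]
  exact hn

end ReflClass

end QuadData

end Cfsg.Agent.Lib.Helper94
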