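/-
Helper94: the commutator subgroup `Ω` of the isometry group of a quadratic form is contained in
every subgroup containing all products `r_a r_b` of two reflections along vectors of the same norm
(any characteristic; uses the Cartan-Dieudonné theorem of helper13).
-/
import Mathlib
import Cfsg.Agent.Lib.Helper94.OmegaRefl

set_option autoImplicit false
set_option linter.unusedSimpArgs false
set_option linter.unusedSectionVars false
set_option linter.unusedVariables false

namespace Cfsg.Agent.Lib.Helper94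

open LinearMap (BilinForm)
open scoped commutatorElement
open Module

variable {K V : Type*} [Field K] [AddCommGroup V] [Module K V]

namespace QuadData

variable {B : BilinForm K V} {Q : V → K}

/-- the products of two reflections along vectors of the same norm -/
def reflPairs (hQ : QuadData B Q) : Set (V ≃ₗ[K] V) :=
  {x | ∃ (a b : V) (ha : Q a ≠ 0) (hb : Q b ≠ 0), Q a = Q b ∧ x = hQ.refl a ha * hQ.refl b hb}

lemma conj_mem_reflPairs (hQ : QuadData B Q) {g : V ≃ₗ[K] V} (hg : g ∈ OG Q)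
    {x : V ≃ₗ[K] V} (hx : x ∈ hQ.reflPairs) : g * x * g⁻¹ ∈ hQ.reflPairs := by
  obtain ⟨a, b, ha, hb, hab, rfl⟩ := hx
  refine ⟨g a, g b, by rw [hg a]; exact ha, by rw [hg b]; exact hb, by rw [hg a, hg b, hab], ?_⟩
  rw [← hQ.conj_refl hg a ha, ← hQ.conj_refl hg b hb]
  group

lemma conj_mem_closure_reflPairs (hQ : QuadData B Q) {g : V ≃ₗ[K] V} (hg : g ∈ OG Q)
    {x : V ≃ₗ[K] V} (hx : x ∈ Subgroup.closure hQ.reflPairs) :
    g * x * g⁻¹ ∈ Subgroup.closure hQ.reflPairs := by
  induction hx using Subgroup.closure_induction with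
  | mem y hy => exact Subgroup.subset_closure (hQ.conj_mem_reflPairs hg hy)
  | one => simp
  | mul y z _ _ ihy ihz =>
    have : g * (y * z) * g⁻¹ = (g * y * g⁻¹) * (g * z * g⁻¹) := by group
    rw [this]
    exact mul_mem ihy ihz
  | inv y _ ihy =>
    have : g * y⁻¹ * g⁻¹ = (g * y * g⁻¹)⁻¹ := by group
    rw [this]
    exact inv_mem ihy

/-- **`Ω` is generated by products of two reflections of equal norm.** -/
theorem commutator_le_closure_reflPairs [FiniteDimensional K V] (hQ : QuadData B Q)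
    (hnd : ∀ x, (∀ y, B x y = 0) → x = 0)
    (hF : (∀ a b : K, ∃ x : K, x ≠ a ∧ x ≠ b) ∨ Module.finrank K V ≠ 4) :
    ⁅OG Q, OG Q⁆ ≤ Subgroup.closure hQ.reflPairs := by
  have hndQ := hQ.nondeg_toQF hnd
  -- commutators with a reflection
  have h2 : ∀ (a : V) (ha : Q a ≠ 0), ∀ x ∈ OG Q,
      ⁅hQ.refl a ha, x⁆ ∈ Subgroup.closure hQ.reflPairs := by
    intro a ha x hx
    apply Subgroup.subset_closure
    refine ⟨a, x a, ha, by rw [hx a]; exact ha, (hx a).symm, ?_⟩
    rw [commutatorElement_def, refl_inv, ← hQ.conj_refl hx a ha]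
    group
  -- commutators with a product of reflections
  have h3 : ∀ y ∈ Cfsg.Agent.Lib.Helper13.reflGroup hQ.toQF, y ∈ OG Q ∧ ∀ x ∈ OG Q,
      ⁅y, x⁆ ∈ Subgroup.closure hQ.reflPairs := by
    intro y hy
    unfold Cfsg.Agent.Lib.Helper13.reflGroup at hy
    induction hy using Subgroup.closure_induction with
    | mem T hT =>
      obtain ⟨v, hv, hTv⟩ := hT
      rw [toQF_apply] at hv
      have hTr : T = hQ.refl v hv := by
        apply LinearEquiv.ext
        intro z
        rw [hTv, hQ.refl_eq_reflLin v hv]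
      rw [hTr]
      exact ⟨hQ.refl_mem_OG v hv, h2 v hv⟩
    | one =>
      refine ⟨one_mem _, fun x _ => ?_⟩
      rw [commutatorElement_one_left]
      exact one_mem _
    | mul y z _ _ ihy ihz =>
      refine ⟨mul_mem ihy.1 ihz.1, fun x hx => ?_⟩
      have : ⁅y * z, x⁆ = (y * ⁅z, x⁆ * y⁻¹) * ⁅y, x⁆ := by
        simp only [commutatorElement_def]
        group
      rw [this]
      exact mul_mem (hQ.conj_mem_closure_reflPairs ihy.1 (ihz.2 x hx)) (ihy.2 x hx)
    | inv y _ ihy =>
      refine ⟨inv_mem ihy.1, fun x hx => ?_⟩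
      have : ⁅y⁻¹, x⁆ = y⁻¹ * (⁅y, x⁆)⁻¹ * y⁻¹⁻¹ := by
        simp only [commutatorElement_def]
        group
      rw [this]
      exact hQ.conj_mem_closure_reflPairs (inv_mem ihy.1) (inv_mem (ihy.2 x hx))
  rw [Subgroup.commutator_le]
  intro g₁ hg₁ g₂ hg₂
  have hg₁' : g₁ ∈ Cfsg.Agent.Lib.Helper13.isoGroup hQ.toQF := by
    rw [← OG_eq_isoGroup]; exact hg₁
  exact (h3 g₁ (Cfsg.Agent.Lib.Helper13.isoGroup_le_reflGroup hQ.toQF hndQ hF hg₁')).2 g₂ hg₂

/-- a subgroup containing all products of two reflections of equal norm contains `Ω` -/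
theorem commutator_le_of_reflPairs [FiniteDimensional K V] (hQ : QuadData B Q)
    (hnd : ∀ x, (∀ y, B x y = 0) → x = 0)
    (hF : (∀ a b : K, ∃ x : K, x ≠ a ∧ x ≠ b) ∨ Module.finrank K V ≠ 4)
    (M : Subgroup (V ≃ₗ[K] V))
    (hM : ∀ (a b : V) (ha : Q a ≠ 0) (hb : Q b ≠ 0), Q a = Q b →
      hQ.refl a ha * hQ.refl b hb ∈ M) : ⁅OG Q, OG Q⁆ ≤ M := by
  refine (hQ.commutator_le_closure_reflPairs hnd hF).trans ?_
  rw [Subgroup.closure_le]
  rintro x ⟨a, b, ha, hb, hab, rfl⟩
  exact hM a b ha hb hab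

end QuadData

end Cfsg.Agent.Lib.Helper94
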