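/-
Helper94: for an orthogonal decomposition `V = W ⊥ U` into non-degenerate subspaces of dimension at
least seven which no isometry maps onto each other (finite field of odd order), the stabiliser of
`W` in `Ω` is a maximal subgroup of `Ω`.
-/
import Mathlib
import Cfsg.Prelude.Def_GeometricClasses
import Cfsg.Agent.Lib.Helper94.OmegaClass
import Cfsg.Agent.Lib.Helper94.OmegaGen
import Cfsg.Agent.Lib.Helper94.OrthSingular
import Cfsg.Agent.Lib.Helper94.SympDecomp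
import Cfsg.Agent.Lib.Helper36.AltEven

set_option autoImplicit false
set_option linter.unusedSimpArgs false
set_option linter.unusedSectionVars false
set_option linter.unusedVariables false

namespace Cfsg.Agent.Lib.Helper94

open LinearMap (BilinForm)
open scoped commutatorElement
open Module

variable {K V : Type*} [Field K] [AddCommGroup V] [Module K V]

namespace QuadData

variable {B : BilinForm K V} {Q : V → K}

/-- a vector of a subspace with non-zero products with two given vectors -/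
lemma exists_two_prod_ne_zero_of (P : Submodule K V) {y y' : V} {e₁ e₂ : V} (he₁ : e₁ ∈ P)
    (he₂ : e₂ ∈ P) (h1 : B e₁ y ≠ 0) (h2 : B e₂ y' ≠ 0) : ∃ e ∈ P, B e y ≠ 0 ∧ B e y' ≠ 0 := by
  by_cases h3 : B e₁ y' = 0
  · by_cases h4 : B e₂ y = 0
    · refine ⟨e₁ + e₂, P.add_mem he₁ he₂, ?_, ?_⟩
      · rw [map_add, LinearMap.add_apply, h4, add_zero]; exact h1
      · rw [map_add, LinearMap.add_apply, h3, zero_add]; exact h2
    · exact ⟨e₂, he₂, h4, h2⟩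
  · exact ⟨e₁, he₁, h1, h3⟩

/-- a vector of prescribed norm and prescribed product with `u`, different from `u` -/
lemma exists_norm_prod_ne_in [Finite K] [FiniteDimensional K V] (hQ : QuadData B Q)
    (h2 : (2 : K) ≠ 0) (P : Submodule K V) (hP : ∀ p ∈ P, (∀ p' ∈ P, B p p' = 0) → p = 0)
    (hdim : 7 ≤ finrank K P) {u : V} (hu : u ∈ P) (hu0 : u ≠ 0) (α γ : K) :
    ∃ e ∈ P, B e u = α ∧ Q e = γ ∧ e ≠ u := by
  obtain ⟨e₀, he₀, h01, h02⟩ := hQ.exists_ne_with_prod_in h2 P hP hdim hu hu0 α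
  obtain ⟨z', hz', hz'1⟩ : ∃ z' ∈ P, B (e₀ - u) z' ≠ 0 := by
    have hne : e₀ - u ≠ 0 := sub_ne_zero.2 h02
    obtain ⟨z', hz', h⟩ := hQ.exists_prod_ne_zero_in P hP (P.sub_mem he₀ hu) hne
    exact ⟨z', hz', by rw [hQ.symm]; exact h⟩
  obtain ⟨e, he, he1, he2, hQe⟩ := hQ.exists_norm_in h2 P hP hdim u z' he₀ γ
  refine ⟨e, he, by rw [he1, h01], hQe, ?_⟩
  rintro rfl
  apply hz'1
  rw [map_sub, LinearMap.sub_apply, he2, sub_self]

/-- an isometry stabilising `W` stabilises its orthogonal complement `U` -/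
lemma map_mem_of_stabSub (hQ : QuadData B Q) (W U : Submodule K V)
    (horth : ∀ w ∈ W, ∀ u ∈ U, B w u = 0) (hsup : W ⊔ U = ⊤)
    (hW : ∀ p ∈ W, (∀ p' ∈ W, B p p' = 0) → p = 0) {g : V ≃ₗ[K] V} (hg : g ∈ OG Q)
    (hgs : g ∈ stabSub W) {x : V} (hx : x ∈ U) : g x ∈ U := by
  obtain ⟨w, hw, u, hu, hwu⟩ : ∃ w ∈ W, ∃ u ∈ U, w + u = g x := by
    have : g x ∈ W ⊔ U := by rw [hsup]; exact Submodule.mem_top
    exact Submodule.mem_sup.1 this
  have hw0 : w = 0 := by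
    apply hW w hw
    intro p' hp'
    have hgi : g⁻¹ ∈ stabSub W := inv_mem hgs
    have h1 : g⁻¹ p' ∈ W := (mem_stabSub.1 hgi p').1 hp'
    have h2 : g (g⁻¹ p') = p' := by
      rw [← LinearEquiv.mul_apply, mul_inv_cancel]; rfl
    have h3 : B (g x) p' = 0 := by
      rw [← h2, hQ.B_map hg, hQ.symm]
      exact horth _ h1 x hx
    rw [← hwu, map_add, LinearMap.add_apply, hQ.symm u p', horth p' hp' u hu, add_zero] at h3
    exact h3
  rw [← hwu, hw0, zero_add]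
  exact hu

/-- a non-degenerate subspace of odd dimension forces odd characteristic -/
lemma two_ne_zero_of_odd [FiniteDimensional K V] (hQ : QuadData B Q) (P : Submodule K V)
    (hP : ∀ p ∈ P, (∀ p' ∈ P, B p p' = 0) → p = 0) (hodd : Odd (finrank K P)) :
    (2 : K) ≠ 0 := by
  intro h2
  have hndP : ∀ x : P, (∀ y : P, B.restrict P x y = 0) → x = 0 := by
    intro x hx
    have := hP x x.2 (fun p' hp' => hx ⟨p', hp'⟩)
    exact Subtype.ext this
  have hA : (B.restrict P).IsAlt := fun x => by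
    show B (x : V) (x : V) = 0
    rw [hQ.self, h2, zero_mul]
  have := Cfsg.Agent.Lib.Helper36.even_finrank_of_isAlt_nondegenerate (B.restrict P) hA
    ((hQ.restrict P).nondegenerate_of hndP)
  exact (Nat.not_even_iff_odd.2 hodd) this

/-- the stabiliser in `Ω` of a decomposition into two non-isometric orthogonal complements is the
stabiliser of the first member -/
lemma stabDec_inf_eq [FiniteDimensional K V] (hQ : QuadData B Q) (D : Fin 2 → Submodule K V)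
    (horth : ∀ w ∈ D 0, ∀ u ∈ D 1, B w u = 0) (hsup : D 0 ⊔ D 1 = ⊤)
    (hW : ∀ p ∈ D 0, (∀ p' ∈ D 0, B p p' = 0) → p = 0)
    (hni : ∀ g ∈ OG Q, ¬ (∀ w ∈ D 0, g w ∈ D 1)) :
    SympData.stabDec D ⊓ ⁅OG Q, OG Q⁆ = stabSub (D 0) ⊓ ⁅OG Q, OG Q⁆ := by
  ext g
  constructor
  · rintro ⟨hgD, hgΩ⟩
    refine ⟨?_, hgΩ⟩
    obtain ⟨σ, hσ⟩ := SympData.mem_stabDec.1 hgD
    have h0 := hσ 0
    generalize hs : σ 0 = s at h0
    fin_cases s
    · exact mem_stabSub_of_map_eq h0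
    · exfalso
      apply hni g (commutator_le_OG hgΩ)
      intro w hw
      have : g w ∈ (D 0).map (g : V →ₗ[K] V) := ⟨w, hw, rfl⟩
      rw [h0] at this
      exact this
  · rintro ⟨hgs, hgΩ⟩
    refine ⟨?_, hgΩ⟩
    apply SympData.mem_stabDec.2
    refine ⟨1, fun i => ?_⟩
    fin_cases i
    · exact map_eq_of_map_le (fun x hx => (mem_stabSub.1 hgs x).1 hx) rfl
    · exact map_eq_of_map_le
        (fun x hx => hQ.map_mem_of_stabSub (D 0) (D 1) horth hsup hW (commutator_le_OG hgΩ) hgs hx)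
        rfl

/-- **Maximality** of the stabiliser in `Ω` of a pair of non-isometric orthogonal complements. -/
theorem stab_pair_isMaximalIn [Finite K] [FiniteDimensional K V] (hQ : QuadData B Q)
    (hnd : ∀ x, (∀ y, B x y = 0) → x = 0) (h2 : (2 : K) ≠ 0) (W U : Submodule K V)
    (horth : ∀ w ∈ W, ∀ u ∈ U, B w u = 0) (hsup : W ⊔ U = ⊤)
    (hW : ∀ p ∈ W, (∀ p' ∈ W, B p p' = 0) → p = 0)
    (hU : ∀ p ∈ U, (∀ p' ∈ U, B p p' = 0) → p = 0)
    (hdW : 7 ≤ finrank K W) (hdU : 7 ≤ finrank K U)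
    (hni : ∀ g ∈ OG Q, ¬ (∀ w ∈ W, g w ∈ U)) :
    Cfsg.Geo.IsMaximalIn ⁅OG Q, OG Q⁆ (stabSub W ⊓ ⁅OG Q, OG Q⁆) := by
  have hdV : 7 ≤ finrank K V := le_trans hdW (Submodule.finrank_le W)
  have hF : (∀ a b : K, ∃ x : K, x ≠ a ∧ x ≠ b) ∨ Module.finrank K V ≠ 4 := Or.inr (by omega)
  have horth' : ∀ u ∈ U, ∀ w ∈ W, B u w = 0 := fun u hu w hw => by
    rw [hQ.symm]; exact horth w hw u hu
  have hdec : ∀ x : V, ∃ w ∈ W, ∃ u ∈ U, w + u = x := by
    intro x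
    have : x ∈ W ⊔ U := by rw [hsup]; exact Submodule.mem_top
    exact Submodule.mem_sup.1 this
  have hWU0 : ∀ x, x ∈ W → x ∈ U → x = 0 := by
    intro x hxW hxU
    exact hW x hxW (fun p' hp' => horth' x hxU p' hp')
  -- membership in the stabiliser
  have hstab : ∀ g : V ≃ₗ[K] V, (∀ x ∈ W, g x ∈ W) → g ∈ stabSub W := by
    intro g hg
    exact mem_stabSub_of_map_eq (map_eq_of_map_le hg rfl)
  have hreflW : ∀ (a : V) (ha : Q a ≠ 0), a ∈ W → hQ.refl a ha ∈ stabSub W := by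
    intro a ha haW
    apply hstab
    intro x hx
    rw [refl_apply]
    exact W.sub_mem hx (W.smul_mem _ haW)
  have hreflU : ∀ (a : V) (ha : Q a ≠ 0), a ∈ U → hQ.refl a ha ∈ stabSub W := by
    intro a ha haU
    apply hstab
    intro x hx
    rw [hQ.refl_apply_of_orth a ha (horth x hx a haU)]
    exact hx
  have hreflWU : ∀ (a : V) (ha : Q a ≠ 0), (a ∈ W ∨ a ∈ U) → hQ.refl a ha ∈ stabSub W := by
    intro a ha h
    rcases h with h | h
    · exact hreflW a ha h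
    · exact hreflU a ha h
  refine ⟨?_, ?_⟩
  · -- strictness
    rw [SetLike.lt_iff_le_and_exists]
    refine ⟨inf_le_right, ?_⟩
    obtain ⟨w, hw, -, hQw⟩ := hQ.exists_ne_zero_norm_in h2 W hW hdW 1
    obtain ⟨u, hu, hu0, hQu⟩ := hQ.exists_ne_zero_norm_in h2 U hU hdU 1
    obtain ⟨b, hb, -, hQb⟩ := hQ.exists_ne_zero_norm_in h2 U hU hdU 2
    have hQa : Q (w + u) = 2 := by
      rw [hQ.polar, horth w hw u hu, hQw, hQu]; norm_num
    have ha : Q (w + u) ≠ 0 := by rw [hQa]; exact h2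
    have hb0 : Q b ≠ 0 := by rw [hQb]; exact h2
    refine ⟨hQ.refl (w + u) ha * hQ.refl b hb0,
      hQ.refl_mul_refl_mem' hnd ha hb0 (by rw [hQa, hQb]), ?_⟩
    rintro ⟨hs, -⟩
    have h1 := (mem_stabSub.1 hs w).1 hw
    rw [LinearEquiv.mul_apply, hQ.refl_apply_of_orth b hb0 (horth w hw b hb), refl_apply,
      map_add, hQ.self, hQw, horth w hw u hu, hQa] at h1
    have h3 : w - ((2 : K)⁻¹ * (2 * 1 + 0)) • (w + u) = -u := by
      have : (2 : K)⁻¹ * (2 * 1 + 0) = 1 := by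
        rw [mul_one, add_zero]; exact inv_mul_cancel₀ h2
      rw [this, one_smul]; abel
    rw [h3] at h1
    have h4 : u ∈ W := by
      have := W.neg_mem h1
      rwa [neg_neg] at this
    exact hu0 (hWU0 u h4 hu)
  · intro M hHM hMΩ
    by_cases hMH : M = stabSub W ⊓ ⁅OG Q, OG Q⁆
    · left; exact hMH
    right
    apply le_antisymm hMΩ
    obtain ⟨g₀, hg₀M, hg₀H⟩ : ∃ g ∈ M, g ∉ stabSub W ⊓ ⁅OG Q, OG Q⁆ := by
      by_contra hcon
      push Not at hcon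
      exact hMH (le_antisymm (fun g hg => hcon g hg) hHM)
    have hMO : ∀ k ∈ M, k ∈ OG Q := fun k hk => commutator_le_OG (hMΩ hk)
    have hg₀Ω := hMΩ hg₀M
    have hg₀O : g₀ ∈ OG Q := hMO g₀ hg₀M
    have hg₀s : g₀ ∉ stabSub W := fun h => hg₀H ⟨h, hg₀Ω⟩
    -- products of reflections along vectors of `W ∪ U`
    have hH₀ : ∀ (a b : V) (ha : Q a ≠ 0) (hb : Q b ≠ 0), (a ∈ W ∨ a ∈ U) → (b ∈ W ∨ b ∈ U) →
        Q a = Q b → hQ.refl a ha * hQ.refl b hb ∈ M := by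
      intro a b ha hb haWU hbWU hab
      exact hHM ⟨mul_mem (hreflWU a ha haWU) (hreflWU b hb hbWU),
        hQ.refl_mul_refl_mem' hnd ha hb hab⟩
    -- the relation `r_a r_b ∈ M`
    have hsw : ∀ (a b : V) (ha : Q a ≠ 0) (hb : Q b ≠ 0), hQ.refl a ha * hQ.refl b hb ∈ M →
        hQ.refl b hb * hQ.refl a ha ∈ M := by
      intro a b ha hb h
      have := inv_mem h
      rwa [mul_inv_rev, refl_inv, refl_inv] at this
    have htr : ∀ (a b c : V) (ha : Q a ≠ 0) (hb : Q b ≠ 0) (hc : Q c ≠ 0),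
        hQ.refl a ha * hQ.refl b hb ∈ M → hQ.refl b hb * hQ.refl c hc ∈ M →
        hQ.refl a ha * hQ.refl c hc ∈ M := by
      intro a b c ha hb hc h1 h2'
      have := mul_mem h1 h2'
      rwa [mul_assoc, ← mul_assoc (hQ.refl b hb), hQ.refl_mul_self, one_mul] at this
    have hcj : ∀ k ∈ M, ∀ (a b : V) (ha : Q a ≠ 0) (hb : Q b ≠ 0),
        hQ.refl a ha * hQ.refl b hb ∈ M → ∀ (a₂ b₂ : V) (ha₂ : Q a₂ ≠ 0) (hb₂ : Q b₂ ≠ 0),
        a₂ = k a → b₂ = k b → hQ.refl a₂ ha₂ * hQ.refl b₂ hb₂ ∈ M := by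
      intro k hk a b ha hb h a₂ b₂ ha₂ hb₂ e1 e2
      subst e1 e2
      have hkO := hMO k hk
      have h1 := hQ.conj_refl hkO a ha
      have h2' := hQ.conj_refl hkO b hb
      have h3 : hQ.refl (k a) ha₂ * hQ.refl (k b) hb₂ =
          k * (hQ.refl a ha * hQ.refl b hb) * k⁻¹ := by
        rw [← h1, ← h2']
        group
      rw [h3]
      exact mul_mem (mul_mem hk h) (inv_mem hk)
    -- the class
    obtain ⟨C, hCdef⟩ : ∃ C : Set V, C = {a | Q a ≠ 0 ∧ ∀ d ∈ U, ∀ (ha : Q a ≠ 0) (hd : Q d ≠ 0),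
        Q d = Q a → hQ.refl a ha * hQ.refl d hd ∈ M} := ⟨_, rfl⟩
    have hCmem : ∀ a, a ∈ C ↔ (Q a ≠ 0 ∧ ∀ d ∈ U, ∀ (ha : Q a ≠ 0) (hd : Q d ≠ 0),
        Q d = Q a → hQ.refl a ha * hQ.refl d hd ∈ M) := by
      intro a; rw [hCdef]; rfl
    have hC1 : ∀ a, (a ∈ W ∨ a ∈ U) → Q a ≠ 0 → a ∈ C := by
      intro a haWU ha
      rw [hCmem]
      refine ⟨ha, fun d hd ha' hd' hda => hH₀ a d ha' hd' haWU (Or.inr hd) hda.symm⟩
    have hC2a : ∀ a ∈ C, ∀ a' ∈ C, ∀ (ha : Q a ≠ 0) (ha' : Q a' ≠ 0), Q a' = Q a →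
        hQ.refl a ha * hQ.refl a' ha' ∈ M := by
      intro a haC a' ha'C ha ha' hQaa'
      obtain ⟨d, hd, -, hQd⟩ := hQ.exists_ne_zero_norm_in h2 U hU hdU (Q a)
      have hd0 : Q d ≠ 0 := by rw [hQd]; exact ha
      have h1 := ((hCmem a).1 haC).2 d hd ha hd0 hQd
      have h3 := ((hCmem a').1 ha'C).2 d hd ha' hd0 (by rw [hQd, hQaa'])
      exact htr _ _ _ ha hd0 ha' h1 (hsw _ _ ha' hd0 h3)
    have hC2b : ∀ a ∈ C, ∀ a' : V, ∀ (ha : Q a ≠ 0) (ha' : Q a' ≠ 0), Q a' = Q a →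
        hQ.refl a ha * hQ.refl a' ha' ∈ M → a' ∈ C := by
      intro a haC a' ha ha' hQaa' h
      rw [hCmem]
      refine ⟨ha', fun d hd ha'' hd0 hQd => ?_⟩
      have h1 := ((hCmem a).1 haC).2 d hd ha hd0 (by rw [hQd, hQaa'])
      exact htr _ _ _ ha' ha hd0 (hsw _ _ ha ha' h) h1
    have hCinv : ∀ x ∈ M, ∀ a₁ ∈ C, ∀ d₀ : V, (d₀ ∈ W ∨ d₀ ∈ U) → Q d₀ = Q a₁ →
        (x d₀ ∈ W ∨ x d₀ ∈ U) → x a₁ ∈ C := by
      intro x hx a₁ ha₁ d₀ hd₀ hQd₀ hxd₀
      have hxO := hMO x hx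
      have ha₁0 : Q a₁ ≠ 0 := ((hCmem a₁).1 ha₁).1
      have hd₀0 : Q d₀ ≠ 0 := by rw [hQd₀]; exact ha₁0
      have hxa0 : Q (x a₁) ≠ 0 := by rw [hxO a₁]; exact ha₁0
      have hxd0 : Q (x d₀) ≠ 0 := by rw [hxO d₀]; exact hd₀0
      have h1 := hC2a a₁ ha₁ d₀ (hC1 d₀ hd₀ hd₀0) ha₁0 hd₀0 hQd₀
      have h3 := hcj x hx a₁ d₀ ha₁0 hd₀0 h1 (x a₁) (x d₀) hxa0 hxd0 rfl rfl
      exact hC2b (x d₀) (hC1 _ hxd₀ hxd0) (x a₁) hxd0 hxa0 (by rw [hxO, hxO, hQd₀])
        (hsw _ _ hxa0 hxd0 h3)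
    have hCrefl : ReflClass hQ C := by
      refine ⟨fun a ha => ((hCmem a).1 ha).1, ?_, ?_⟩
      · intro a haC l hl
        have ha : Q a ≠ 0 := ((hCmem a).1 haC).1
        have hla : Q (l • a) ≠ 0 := by
          rw [hQ.smul]; exact mul_ne_zero (pow_ne_zero 2 hl) ha
        rw [hCmem]
        refine ⟨hla, fun d hd hla' hd0 hQd => ?_⟩
        have hd' : l⁻¹ • d ∈ U := U.smul_mem _ hd
        have hQd' : Q (l⁻¹ • d) = Q a := by
          rw [hQ.smul, hQd, hQ.smul]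
          field_simp
        have hd'0 : Q (l⁻¹ • d) ≠ 0 := by rw [hQd']; exact ha
        have h1 := ((hCmem a).1 haC).2 _ hd' ha hd'0 hQd'
        have e1 : hQ.refl (l • a) hla' = hQ.refl a ha := hQ.refl_smul a ha l hl hla'
        have e2 : hQ.refl d hd0 = hQ.refl (l⁻¹ • d) hd'0 := by
          have hd'' : Q (l • (l⁻¹ • d)) ≠ 0 := by
            rw [smul_smul, mul_inv_cancel₀ hl, one_smul]; exact hd0
          rw [← hQ.refl_smul (l⁻¹ • d) hd'0 l hl hd'']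
          exact hQ.refl_congr (by rw [smul_smul, mul_inv_cancel₀ hl, one_smul]) hd0
        rw [e1, e2]
        exact h1
      · intro a haC b hbC ha
        have hb : Q b ≠ 0 := ((hCmem b).1 hbC).1
        obtain ⟨a', ha'U, ha'b, -, hQa'⟩ := hQ.exists_norm_in h2 U hU hdU b b U.zero_mem (Q a)
        rw [map_zero, LinearMap.zero_apply] at ha'b
        have ha'0 : Q a' ≠ 0 := by rw [hQa']; exact ha
        have hxM := ((hCmem a).1 haC).2 a' ha'U ha ha'0 hQa'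
        obtain ⟨d₀, hd₀U, hd₀a, hd₀a', hQd₀⟩ :=
          hQ.exists_norm_in h2 U hU hdU a a' U.zero_mem (Q b)
        rw [map_zero, LinearMap.zero_apply] at hd₀a hd₀a'
        have hxd : (hQ.refl a ha * hQ.refl a' ha'0) d₀ = d₀ := by
          rw [LinearEquiv.mul_apply, hQ.refl_apply_of_orth a' ha'0 hd₀a',
            hQ.refl_apply_of_orth a ha hd₀a]
        have hxb : (hQ.refl a ha * hQ.refl a' ha'0) b = hQ.refl a ha b := by
          rw [LinearEquiv.mul_apply, hQ.refl_apply_of_orth a' ha'0 (by rw [hQ.symm]; exact ha'b)]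
        rw [← hxb]
        exact hCinv _ hxM b hbC d₀ (Or.inr hd₀U) hQd₀ (by rw [hxd]; exact Or.inr hd₀U)
    -- a member outside `W ∪ U`
    obtain ⟨wm, hwm, um, hum, hwm0, hum0, hmC⟩ :
        ∃ wm ∈ W, ∃ um ∈ U, wm ≠ 0 ∧ um ≠ 0 ∧ wm + um ∈ C := by
      have hg₀i : ∀ x, g₀ (g₀⁻¹ x) = x := fun x => by
        rw [← LinearEquiv.mul_apply, mul_inv_cancel]; rfl
      -- a vector of `W` with image outside `W`
      obtain ⟨w, hw, hgw⟩ : ∃ w ∈ W, g₀ w ∉ W := by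
        by_contra hcon
        push Not at hcon
        exact hg₀s (hstab g₀ hcon)
      obtain ⟨u₁, hu₁, hBu₁⟩ : ∃ u₁ ∈ U, B (g₀ w) u₁ ≠ 0 := by
        obtain ⟨w', hw', u', hu', hwu'⟩ := hdec (g₀ w)
        have hu'0 : u' ≠ 0 := by
          rintro rfl
          rw [add_zero] at hwu'
          rw [← hwu'] at hgw
          exact hgw hw'
        obtain ⟨u₁, hu₁, h⟩ := hQ.exists_prod_ne_zero_in U hU hu' hu'0
        refine ⟨u₁, hu₁, ?_⟩
        rw [← hwu', map_add, LinearMap.add_apply, horth w' hw' u₁ hu₁, zero_add, hQ.symm]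
        exact h
      -- a vector of `W` with image outside `U`
      obtain ⟨w', hw', hgw'⟩ : ∃ w' ∈ W, g₀ w' ∉ U := by
        by_contra hcon
        push Not at hcon
        exact hni g₀ hg₀O hcon
      obtain ⟨w₁, hw₁, hBw₁⟩ : ∃ w₁ ∈ W, B (g₀ w') w₁ ≠ 0 := by
        obtain ⟨w'', hw'', u', hu', hwu'⟩ := hdec (g₀ w')
        have hw''0 : w'' ≠ 0 := by
          rintro rfl
          rw [zero_add] at hwu'
          rw [← hwu'] at hgw'
          exact hgw' hu'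
        obtain ⟨w₁, hw₁, h⟩ := hQ.exists_prod_ne_zero_in W hW hw'' hw''0
        refine ⟨w₁, hw₁, ?_⟩
        rw [← hwu', map_add, LinearMap.add_apply, horth' u' hu' w₁ hw₁, add_zero, hQ.symm]
        exact h
      have hB1 : B w (g₀⁻¹ u₁) ≠ 0 := by
        rw [← hQ.B_map hg₀O, hg₀i]; exact hBu₁
      have hB2 : B w' (g₀⁻¹ w₁) ≠ 0 := by
        rw [← hQ.B_map hg₀O, hg₀i]; exact hBw₁
      obtain ⟨e₀, he₀, he₀1, he₀2⟩ := exists_two_prod_ne_zero_of W hw hw' hB1 hB2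
      obtain ⟨w₂, hw₂, hw₂1, hw₂2, hQw₂⟩ :=
        hQ.exists_norm_in h2 W hW hdW (g₀⁻¹ u₁) (g₀⁻¹ w₁) he₀ 1
      have hw₂0 : Q w₂ ≠ 0 := by rw [hQw₂]; exact one_ne_zero
      have hA1 : B (g₀ w₂) u₁ ≠ 0 := by
        rw [← hg₀i u₁, hQ.B_map hg₀O, hw₂1]; exact he₀1
      have hA2 : B (g₀ w₂) w₁ ≠ 0 := by
        rw [← hg₀i w₁, hQ.B_map hg₀O, hw₂2]; exact he₀2
      obtain ⟨wa, hwa, ua, hua, hwua⟩ := hdec (g₀ w₂)
      have hwa0 : wa ≠ 0 := by
        rintro rfl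
        apply hA2
        rw [← hwua, zero_add]
        exact horth' ua hua w₁ hw₁
      have hua0 : ua ≠ 0 := by
        rintro rfl
        apply hA1
        rw [← hwua, add_zero]
        exact horth wa hwa u₁ hu₁
      have hQa' : Q (g₀ w₂) = 1 := by rw [hg₀O w₂, hQw₂]
      have ha'0 : Q (g₀ w₂) ≠ 0 := by rw [hQa']; exact one_ne_zero
      -- the vector `u`
      obtain ⟨u, hu, hBu, hQu, huua⟩ := hQ.exists_norm_prod_ne_in h2 U hU hdU hua hua0 1 1
      have hu0 : Q u ≠ 0 := by rw [hQu]; exact one_ne_zero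
      -- the second reflection vector
      obtain ⟨b, hb, hbu, -, hQb⟩ :=
        hQ.exists_norm_in h2 W hW hdW (g₀⁻¹ u) (g₀⁻¹ u) W.zero_mem 1
      rw [map_zero, LinearMap.zero_apply] at hbu
      have hb0 : Q b ≠ 0 := by rw [hQb]; exact one_ne_zero
      have hb'0 : Q (g₀ b) ≠ 0 := by rw [hg₀O b]; exact hb0
      have hBb' : B u (g₀ b) = 0 := by
        rw [hQ.symm, ← hg₀i u, hQ.B_map hg₀O]; exact hbu
      have hyM : hQ.refl (g₀ w₂) ha'0 * hQ.refl (g₀ b) hb'0 ∈ M :=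
        hcj g₀ hg₀M w₂ b hw₂0 hb0 (hH₀ w₂ b hw₂0 hb0 (Or.inl hw₂) (Or.inl hb)
          (by rw [hQw₂, hQb])) _ _ ha'0 hb'0 rfl rfl
      have hyu : (hQ.refl (g₀ w₂) ha'0 * hQ.refl (g₀ b) hb'0) u = -wa + (u - ua) := by
        rw [LinearEquiv.mul_apply, hQ.refl_apply_of_orth _ hb'0 hBb', refl_apply, hQa', ← hwua,
          map_add, hQ.symm u wa, horth wa hwa u hu, zero_add, hBu, inv_one, one_mul, one_smul]
        abel
      obtain ⟨d₀, hd₀, hd₀1, hd₀2, hQd₀⟩ :=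
        hQ.exists_norm_in h2 U hU hdU (g₀ w₂) (g₀ b) U.zero_mem (Q u)
      rw [map_zero, LinearMap.zero_apply] at hd₀1 hd₀2
      have hyd : (hQ.refl (g₀ w₂) ha'0 * hQ.refl (g₀ b) hb'0) d₀ = d₀ := by
        rw [LinearEquiv.mul_apply, hQ.refl_apply_of_orth _ hb'0 hd₀2,
          hQ.refl_apply_of_orth _ ha'0 hd₀1]
      have h5 := hCinv _ hyM u (hC1 u (Or.inr hu) hu0) d₀ (Or.inr hd₀) hQd₀
        (by rw [hyd]; exact Or.inr hd₀)
      rw [hyu] at h5
      exact ⟨-wa, W.neg_mem hwa, u - ua, U.sub_mem hu hua, neg_ne_zero.2 hwa0,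
        sub_ne_zero.2 huua, h5⟩
    -- every non-singular vector is a member
    have hall : ∀ x, Q x ≠ 0 → x ∈ C := by
      intro x hx
      obtain ⟨w₂, hw₂, u₂, hu₂, rfl⟩ := hdec x
      exact hCrefl.mem_of_mixed h2 W U horth hW hU hdW hdU (fun a ha h => hC1 a (Or.inl ha) h)
        (fun a ha h => hC1 a (Or.inr ha) h) hwm hum hwm0 hum0 hmC hw₂ hu₂ hx
    apply hQ.commutator_le_of_reflPairs hnd hF M
    intro a b ha hb hab
    exact hC2a a (hall a ha) b (hall b hb) ha hb hab.symm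

end QuadData

end Cfsg.Agent.Lib.Helper94
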