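/-
Helper94: reflection-closed classes of non-singular vectors, second version: the large member `U`
of the decomposition `V = W ⊥ U` only needs an abstract existence property (`GoodSub`), and the
small member `W` only needs to be an irreducible module for its stabiliser.
-/
import Mathlib
import Cfsg.Agent.Lib.Helper94.OmegaClass
import Cfsg.Agent.Lib.Helper94.OmegaDecomp2

set_option autoImplicit false
set_option linter.unusedSimpArgs false
set_option linter.unusedSectionVars false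
set_option linter.unusedVariables false

namespace Cfsg.Agent.Lib.Helper94

open LinearMap (BilinForm)
open scoped commutatorElement
open Module

variable {K V : Type*} [Field K] [AddCommGroup V] [Module K V]

namespace QuadData

variable {B : BilinForm K V} {Q : V → K}

/-- a subspace in which vectors of prescribed norm and two prescribed products exist -/
structure GoodSub (hQ : QuadData B Q) (P : Submodule K V) : Prop where
  nondeg : ∀ p ∈ P, (∀ p' ∈ P, B p p' = 0) → p = 0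
  m1 : ∀ (y₁ y₂ e₀ : V), e₀ ∈ P → ∀ γ : K,
    ∃ e ∈ P, B e y₁ = B e₀ y₁ ∧ B e y₂ = B e₀ y₂ ∧ Q e = γ
  indep : ∀ u ∈ P, u ≠ 0 → ∃ y₂ ∈ P, ∃ e₂ ∈ P, B y₂ u = 0 ∧ B e₂ u = 0 ∧ B e₂ y₂ = 1

/-- non-degenerate subspaces of dimension at least seven in odd characteristic are good -/
lemma goodSub_of_odd [Finite K] [FiniteDimensional K V] (hQ : QuadData B Q) (h2 : (2 : K) ≠ 0)
    (P : Submodule K V) (hP : ∀ p ∈ P, (∀ p' ∈ P, B p p' = 0) → p = 0)
    (hdim : 7 ≤ finrank K P) : GoodSub hQ P := by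
  refine ⟨hP, fun y₁ y₂ e₀ he₀ γ => hQ.exists_norm_in h2 P hP hdim y₁ y₂ he₀ γ, ?_⟩
  intro u hu hu0
  obtain ⟨y, hy, hyu, -, hQy⟩ := hQ.exists_norm_in h2 P hP hdim u u P.zero_mem 1
  rw [map_zero, LinearMap.zero_apply] at hyu
  refine ⟨y, hy, (2 : K)⁻¹ • y, P.smul_mem _ hy, hyu, ?_, ?_⟩
  · rw [map_smul, LinearMap.smul_apply, hyu, smul_zero]
  · rw [map_smul, LinearMap.smul_apply, hQ.self, hQy, smul_eq_mul, mul_one]
    exact inv_mul_cancel₀ h2

namespace GoodSub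

variable {hQ : QuadData B Q} {P : Submodule K V}

lemma exists_norm (hP : GoodSub hQ P) (γ : K) : ∃ e ∈ P, Q e = γ := by
  obtain ⟨e, he, -, -, h⟩ := hP.m1 0 0 0 P.zero_mem γ
  exact ⟨e, he, h⟩

/-- `P` is not zero -/
lemma exists_ne_zero (hP : GoodSub hQ P) : ∃ z ∈ P, z ≠ 0 := by
  obtain ⟨e, he, h⟩ := hP.exists_norm 1
  refine ⟨e, he, ?_⟩
  rintro rfl
  rw [hQ.zero] at h
  exact zero_ne_one h

/-- a non-zero vector of prescribed norm -/
lemma exists_ne_zero_norm (hP : GoodSub hQ P) (γ : K) : ∃ e ∈ P, e ≠ 0 ∧ Q e = γ := by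
  obtain ⟨z, hz, hz0⟩ := hP.exists_ne_zero
  obtain ⟨e₀, he₀, h1⟩ := hQ.exists_prod_eq_in P hP.nondeg hz hz0 1
  obtain ⟨e, he, h3, -, h4⟩ := hP.m1 z z e₀ he₀ γ
  refine ⟨e, he, ?_, h4⟩
  rintro rfl
  rw [h1, map_zero, LinearMap.zero_apply] at h3
  exact zero_ne_one h3

/-- a vector of prescribed norm and prescribed product with `u`, different from `0` and `-u` -/
lemma exists_norm_prod_avoid (hP : GoodSub hQ P) {u : V} (hu : u ∈ P) (hu0 : u ≠ 0) (β γ : K) :
    ∃ e ∈ P, B e u = β ∧ Q e = γ ∧ e ≠ 0 ∧ e + u ≠ 0 := by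
  obtain ⟨y₂, hy₂, e₂, he₂, h1, h2', h3⟩ := hP.indep u hu hu0
  obtain ⟨e₁, he₁, h4⟩ := hQ.exists_prod_eq_in P hP.nondeg hu hu0 β
  obtain ⟨e, he, h5, h6, h7⟩ := hP.m1 u y₂ (e₁ + (1 - B e₁ y₂) • e₂)
    (P.add_mem he₁ (P.smul_mem _ he₂)) γ
  have h8 : B e u = β := by
    rw [h5, map_add, LinearMap.add_apply, map_smul, LinearMap.smul_apply, h4, h2', smul_zero,
      add_zero]
  have h9 : B e y₂ = 1 := by
    rw [h6, map_add, LinearMap.add_apply, map_smul, LinearMap.smul_apply, h3, smul_eq_mul,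
      mul_one]
    ring
  refine ⟨e, he, h8, h7, ?_, ?_⟩
  · rintro rfl
    rw [map_zero, LinearMap.zero_apply] at h9
    exact zero_ne_one h9
  · intro h
    have h10 : B (e + u) y₂ = 1 := by
      rw [map_add, LinearMap.add_apply, h9, hQ.symm u y₂, h1, add_zero]
    rw [h, map_zero, LinearMap.zero_apply] at h10
    exact zero_ne_one h10

/-- a vector of prescribed norm and prescribed product with `u`, different from `u` -/
lemma exists_norm_prod_ne (hP : GoodSub hQ P) {u : V} (hu : u ∈ P) (hu0 : u ≠ 0) (α γ : K) :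
    ∃ e ∈ P, B e u = α ∧ Q e = γ ∧ e ≠ u := by
  have hnu : -u ∈ P := P.neg_mem hu
  have hnu0 : -u ≠ 0 := neg_ne_zero.2 hu0
  obtain ⟨e, he, h1, h2', -, h4⟩ := hP.exists_norm_prod_avoid hnu hnu0 (-α) γ
  refine ⟨e, he, ?_, h2', ?_⟩
  · rw [map_neg] at h1
    linear_combination -h1
  · rintro rfl
    apply h4
    abel

end GoodSub

namespace ReflClass

variable {hQ : QuadData B Q} {C : Set V}

/-- moving the `U`-part of a member to another vector of the same norm -/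
lemma trans_in' (hC : ReflClass hQ C) (U : Submodule K V) (hU : GoodSub hQ U)
    (hUC : ∀ a ∈ U, Q a ≠ 0 → a ∈ C) {w : V}
    (hw : ∀ u ∈ U, B w u = 0) {x x' : V} (hx : x ∈ U) (hx0 : x ≠ 0) (hx' : x' ∈ U)
    (hx'0 : x' ≠ 0) (hxx' : Q x = Q x') (hwx : w + x ∈ C) : w + x' ∈ C := by
  have hone : ∀ y y' : V, y ∈ U → y' ∈ U → Q y = Q y' → Q (y - y') ≠ 0 → w + y ∈ C →
      w + y' ∈ C := by
    intro y y' hy hy' hyy' hd hwy
    have := hC.refl_in U hUC hw (U.sub_mem hy hy') hd hwy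
    rwa [hQ.refl_swap hyy' hd] at this
  by_cases hd : Q (x - x') ≠ 0
  · exact hone x x' hx hx' hxx' hd hwx
  obtain ⟨e₀, he₀, h01, h02⟩ : ∃ e₀ ∈ U, B e₀ x ≠ 2 * Q x ∧ B e₀ x' ≠ 2 * Q x := by
    by_cases hc : 2 * Q x = 0
    · obtain ⟨e, he, h1, h2'⟩ := hQ.exists_two_prod_ne_zero_in U hU.nondeg hx hx0 hx' hx'0
      exact ⟨e, he, by rw [hc]; exact h1, by rw [hc]; exact h2'⟩
    · refine ⟨0, U.zero_mem, ?_, ?_⟩
      · rw [map_zero, LinearMap.zero_apply]; exact fun h => hc h.symm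
      · rw [map_zero, LinearMap.zero_apply]; exact fun h => hc h.symm
  obtain ⟨m, hm, hm1, hm2, hQm⟩ := hU.m1 x x' e₀ he₀ (Q x)
  have hd1 : Q (x - m) ≠ 0 := by
    rw [hQ.sub, hQm, hQ.symm, hm1]
    intro h
    apply h01
    linear_combination -h
  have hd2 : Q (m - x') ≠ 0 := by
    rw [hQ.sub, hQm, ← hxx', hm2]
    intro h
    apply h02
    linear_combination -h
  have h3 := hone x m hx hm hQm.symm hd1 hwx
  exact hone m x' hm hx' (hQm.trans hxx') hd2 h3

/-- **Changing the `U`-part of a member.** -/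
lemma move_in' (hC : ReflClass hQ C) (U : Submodule K V) (hU : GoodSub hQ U)
    (hUC : ∀ a ∈ U, Q a ≠ 0 → a ∈ C) {w : V}
    (hw : ∀ u ∈ U, B w u = 0) {u : V} (hu : u ∈ U) (hu0 : u ≠ 0) (hwu : w + u ∈ C) {u₂ : V}
    (hu₂ : u₂ ∈ U) (hu₂0 : u₂ ≠ 0) (hn : Q (w + u₂) ≠ 0) : w + u₂ ∈ C := by
  have hα := hC.nonsing _ hwu
  have hsplit : ∀ x ∈ U, Q (w + x) = Q w + Q x := by
    intro x hx
    rw [hQ.polar, hw x hx, add_zero]
  obtain ⟨e, he, he1, hQe, heu⟩ := hU.exists_norm_prod_ne hu hu0 (Q (w + u)) (Q (w + u₂))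
  have hQe0 : Q e ≠ 0 := by rw [hQe]; exact hn
  have heC : e ∈ C := hUC e he hQe0
  have h3 := hC.refl_mem (w + u) hwu e heC hα
  have h4 : hQ.refl (w + u) hα e = e - (w + u) := by
    rw [refl_apply, map_add, hQ.symm e w, hw e he, zero_add, he1, inv_mul_cancel₀ hα,
      one_smul]
  rw [h4] at h3
  have h5 := hC.smul_mem _ h3 (-1) (by simp)
  have h6 : (-1 : K) • (e - (w + u)) = w + (u - e) := by
    rw [neg_one_smul]; abel
  rw [h6] at h5
  have hue : u - e ∈ U := U.sub_mem hu he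
  have hue0 : u - e ≠ 0 := sub_ne_zero.2 (Ne.symm heu)
  have h7 : Q (w + (u - e)) = Q (w + u₂) := by
    rw [← h6, hQ.smul, ← h4, hQ.refl_mem_OG (w + u) hα e, hQe]
    ring
  have h8 : Q (u - e) = Q u₂ := by
    rw [hsplit _ hue, hsplit _ hu₂] at h7
    linear_combination h7
  exact hC.trans_in' U hU hUC hw hue hue0 hu₂ hu₂0 h8 h5

/-- **A reflection-closed class, invariant under the stabiliser of `W` in `Ω`, containing the
non-singular vectors of `W` and of `U` and one vector outside `W ∪ U`, contains every non-singular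
vector**, provided `W` is an irreducible module for the stabiliser. -/
theorem mem_of_mixed' (hC : ReflClass hQ C) (W U : Submodule K V)
    (horth : ∀ w ∈ W, ∀ u ∈ U, B w u = 0) (hsup : W ⊔ U = ⊤)
    (hW : ∀ p ∈ W, (∀ p' ∈ W, B p p' = 0) → p = 0) (hU : GoodSub hQ U)
    (hWC : ∀ a ∈ W, Q a ≠ 0 → a ∈ C) (hUC : ∀ a ∈ U, Q a ≠ 0 → a ∈ C)
    (hCH : ∀ h ∈ stabSub W ⊓ ⁅OG Q, OG Q⁆, ∀ a ∈ C, h a ∈ C)
    (hirr : ∀ T : Submodule K V, T ≤ W → T ≠ ⊥ →
      (∀ h ∈ stabSub W ⊓ ⁅OG Q, OG Q⁆, ∀ t ∈ T, h t ∈ T) → T = W)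
    {w u : V} (hw : w ∈ W) (hu : u ∈ U) (hw0 : w ≠ 0) (hu0 : u ≠ 0) (hwu : w + u ∈ C)
    {w₂ u₂ : V} (hw₂ : w₂ ∈ W) (hu₂ : u₂ ∈ U) (hn : Q (w₂ + u₂) ≠ 0) : w₂ + u₂ ∈ C := by
  have hsplit : ∀ x ∈ W, ∀ y ∈ U, Q (x + y) = Q x + Q y := by
    intro x hx y hy
    rw [hQ.polar, horth x hx y hy, add_zero]
  -- the subspace `T`
  have hTall : ∀ x ∈ W, (∃ y ∈ U, y ≠ 0 ∧ x + y ∈ C) → ∀ y ∈ U, y ≠ 0 → Q (x + y) ≠ 0 →
      x + y ∈ C := by
    rintro x hx ⟨y₀, hy₀, hy₀0, hxy₀⟩ y hy hy0 hxy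
    exact hC.move_in' U hU hUC (horth x hx) hy₀ hy₀0 hxy₀ hy hy0 hxy
  let T : Submodule K V :=
    { carrier := {x | x ∈ W ∧ ∃ y ∈ U, y ≠ 0 ∧ x + y ∈ C}
      zero_mem' := by
        obtain ⟨e, he, he0, hQe⟩ := hU.exists_ne_zero_norm 1
        refine ⟨W.zero_mem, e, he, he0, ?_⟩
        rw [zero_add]
        exact hUC e he (by rw [hQe]; exact one_ne_zero)
      add_mem' := by
        rintro x x' ⟨hx, hxT⟩ ⟨hx', hx'T⟩
        refine ⟨W.add_mem hx hx', ?_⟩
        obtain ⟨y, hy, hy0, hQy⟩ := hU.exists_ne_zero_norm (-Q x + 1)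
        have hQa : Q (x + y) = 1 := by rw [hsplit x hx y hy, hQy]; ring
        have ha0 : Q (x + y) ≠ 0 := by rw [hQa]; exact one_ne_zero
        have haC : x + y ∈ C := hTall x hx hxT y hy hy0 ha0
        obtain ⟨y', hy', hy'1, hQy', hy'0, hy'y⟩ :=
          hU.exists_norm_prod_avoid hy hy0 (-1 - B x x') (-Q x' + 1)
        have hQb : Q (x' + y') = 1 := by rw [hsplit x' hx' y' hy', hQy']; ring
        have hb0 : Q (x' + y') ≠ 0 := by rw [hQb]; exact one_ne_zero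
        have hbC : x' + y' ∈ C := hTall x' hx' hx'T y' hy' hy'0 hb0
        have h1 := hC.refl_mem (x + y) haC (x' + y') hbC ha0
        have h3 : hQ.refl (x + y) ha0 (x' + y') = (x + x') + (y' + y) := by
          rw [refl_apply, hQa, inv_one, one_mul]
          have : B (x' + y') (x + y) = -1 := by
            simp only [map_add, LinearMap.add_apply]
            rw [horth x' hx' y hy, hQ.symm y' x, horth x hx y' hy', hy'1, hQ.symm x' x]
            ring
          rw [this, neg_one_smul]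
          abel
        rw [h3] at h1
        exact ⟨y' + y, U.add_mem hy' hy, hy'y, h1⟩
      smul_mem' := by
        rintro l x ⟨hx, y, hy, hy0, hxy⟩
        by_cases hl : l = 0
        · rw [hl, zero_smul]
          obtain ⟨e, he, he0, hQe⟩ := hU.exists_ne_zero_norm 1
          refine ⟨W.zero_mem, e, he, he0, ?_⟩
          rw [zero_add]
          exact hUC e he (by rw [hQe]; exact one_ne_zero)
        · refine ⟨W.smul_mem _ hx, l • y, U.smul_mem _ hy, smul_ne_zero hl hy0, ?_⟩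
          rw [← smul_add]
          exact hC.smul_mem _ hxy l hl }
  have hTmem : ∀ x, x ∈ T ↔ (x ∈ W ∧ ∃ y ∈ U, y ≠ 0 ∧ x + y ∈ C) := fun x => Iff.rfl
  have hTW : T = W := by
    apply hirr T (fun x hx => ((hTmem x).1 hx).1)
    · intro h
      have : w ∈ T := (hTmem w).2 ⟨hw, u, hu, hu0, hwu⟩
      rw [h, Submodule.mem_bot] at this
      exact hw0 this
    · rintro h hh t ht
      obtain ⟨htW, y, hy, hy0, hty⟩ := (hTmem t).1 ht
      rw [hTmem]
      have hhO : h ∈ OG Q := commutator_le_OG hh.2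
      refine ⟨(mem_stabSub.1 hh.1 t).1 htW, h y,
        hQ.map_mem_of_stabSub W U horth hsup hW hhO hh.1 hy, ?_, ?_⟩
      · intro h0
        apply hy0
        have : h y = h 0 := by rw [h0, map_zero]
        exact h.injective this
      · rw [← map_add]
        exact hCH h hh _ hty
  by_cases hu₂0 : u₂ = 0
  · rw [hu₂0, add_zero] at hn ⊢
    exact hWC w₂ hw₂ hn
  have hw₂T : w₂ ∈ T := by rw [hTW]; exact hw₂
  exact hTall w₂ hw₂ ((hTmem w₂).1 hw₂T).2 u₂ hu₂ hu₂0 hn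

end ReflClass

end QuadData

end Cfsg.Agent.Lib.Helper94
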