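/-
Helper94: for an orthogonal decomposition `V = W ⊥ U` with `U` a "good" subspace (non-degenerate,
large) and `W` a non-degenerate subspace which is an irreducible module for its stabiliser and
onto which no isometry maps `U`, the stabiliser of `W` in `Ω` is a maximal subgroup of `Ω`.
-/
import Mathlib
import Cfsg.Prelude.Def_GeometricClasses
import Cfsg.Agent.Lib.Helper94.OmegaClass2

set_option autoImplicit false
set_option linter.unusedSimpArgs false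
set_option linter.unusedSectionVars false
set_option linter.unusedVariables false

namespace Cfsg.Agent.Lib.Helper94

open LinearMap (BilinForm)
open scoped commutatorElement
open Module

variable {K V : Type*} [Field K] [AddCommGroup V] [Module K V]

namespace QuadData

variable {B : BilinForm K V} {Q : V → K}

/-- **Maximality** of the stabiliser in `Ω` of a non-degenerate subspace. -/
theorem stabSub_isMaximalIn' [FiniteDimensional K V] (hQ : QuadData B Q)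
    (hnd : ∀ x, (∀ y, B x y = 0) → x = 0)
    (hF : (∀ a b : K, ∃ x : K, x ≠ a ∧ x ≠ b) ∨ Module.finrank K V ≠ 4)
    (W U : Submodule K V)
    (horth : ∀ w ∈ W, ∀ u ∈ U, B w u = 0) (hsup : W ⊔ U = ⊤)
    (hW : ∀ p ∈ W, (∀ p' ∈ W, B p p' = 0) → p = 0) (hXW : ∃ w ∈ W, Q w ≠ 0)
    (hU : GoodSub hQ U)
    (hns : ∀ g ∈ OG Q, ¬ (∀ u ∈ U, g u ∈ W))
    (hirr : ∀ T : Submodule K V, T ≤ W → T ≠ ⊥ →
      (∀ h ∈ stabSub W ⊓ ⁅OG Q, OG Q⁆, ∀ t ∈ T, h t ∈ T) → T = W) :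
    Cfsg.Geo.IsMaximalIn ⁅OG Q, OG Q⁆ (stabSub W ⊓ ⁅OG Q, OG Q⁆) := by
  have horth' : ∀ u ∈ U, ∀ w ∈ W, B u w = 0 := fun u hu w hw => by
    rw [hQ.symm]; exact horth w hw u hu
  have hsup' : U ⊔ W = ⊤ := by rw [sup_comm]; exact hsup
  have hdec : ∀ x : V, ∃ w ∈ W, ∃ u ∈ U, w + u = x := by
    intro x
    have : x ∈ W ⊔ U := by rw [hsup]; exact Submodule.mem_top
    exact Submodule.mem_sup.1 this
  have hWU0 : ∀ x, x ∈ W → x ∈ U → x = 0 := by
    intro x hxW hxU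
    exact hW x hxW (fun p' hp' => horth' x hxU p' hp')
  -- membership in the stabiliser
  have hstab : ∀ g : V ≃ₗ[K] V, (∀ x ∈ W, g x ∈ W) → g ∈ stabSub W := by
    intro g hg
    exact mem_stabSub_of_map_eq (map_eq_of_map_le hg rfl)
  have hstabU : ∀ g : V ≃ₗ[K] V, (∀ x ∈ U, g x ∈ U) → g ∈ stabSub U := by
    intro g hg
    exact mem_stabSub_of_map_eq (map_eq_of_map_le hg rfl)
  have hreflW : ∀ (a : V) (ha : Q a ≠ 0), a ∈ W → hQ.refl a ha ∈ stabSub W := by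
    intro a ha haW
    apply hstab
    intro x hx
    rw [refl_apply]
    exact W.sub_mem hx (W.smul_mem _ haW)
  have hreflU : ∀ (a : V) (ha : Q a ≠ 0), a ∈ U → hQ.refl a ha ∈ stabSub W := by
    intro a ha haU
    apply hstab
    intro x hx
    rw [hQ.refl_apply_of_orth a ha (horth x hx a haU)]
    exact hx
  have hreflWU : ∀ (a : V) (ha : Q a ≠ 0), (a ∈ W ∨ a ∈ U) → hQ.refl a ha ∈ stabSub W := by
    intro a ha h
    rcases h with h | h
    · exact hreflW a ha h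
    · exact hreflU a ha h
  refine ⟨?_, ?_⟩
  · -- strictness
    rw [SetLike.lt_iff_le_and_exists]
    refine ⟨inf_le_right, ?_⟩
    obtain ⟨w, hw, hQw⟩ := hXW
    have hw0 : w ≠ 0 := by
      rintro rfl
      exact hQw hQ.zero
    obtain ⟨w', hw', hw'w⟩ := hQ.exists_prod_ne_zero_in W hW hw hw0
    obtain ⟨u, hu, hu0, hQu⟩ := hU.exists_ne_zero_norm (-Q w + 1)
    obtain ⟨b, hb, hQb⟩ := hU.exists_norm 1
    have hQa : Q (w + u) = 1 := by
      rw [hQ.polar, horth w hw u hu, hQu]; ring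
    have ha : Q (w + u) ≠ 0 := by rw [hQa]; exact one_ne_zero
    have hb0 : Q b ≠ 0 := by rw [hQb]; exact one_ne_zero
    refine ⟨hQ.refl (w + u) ha * hQ.refl b hb0,
      hQ.refl_mul_refl_mem' hnd ha hb0 (by rw [hQa, hQb]), ?_⟩
    rintro ⟨hs, -⟩
    have h1 := (mem_stabSub.1 hs w').1 hw'
    rw [LinearEquiv.mul_apply, hQ.refl_apply_of_orth b hb0 (horth w' hw' b hb), refl_apply,
      map_add, horth w' hw' u hu, hQa, inv_one, one_mul, add_zero] at h1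
    have h3 : B w' w • u ∈ W := by
      have h4 : w' - B w' w • (w + u) = (w' - B w' w • w) - B w' w • u := by
        rw [smul_add]; abel
      rw [h4] at h1
      have h5 := W.sub_mem (W.sub_mem hw' (W.smul_mem (B w' w) hw)) h1
      rwa [sub_sub_cancel] at h5
    have h6 : u ∈ W := by
      have := W.smul_mem (B w' w)⁻¹ h3
      rwa [smul_smul, inv_mul_cancel₀ hw'w, one_smul] at this
    exact hu0 (hWU0 u h6 hu)
  · intro M hHM hMΩ
    by_cases hMH : M = stabSub W ⊓ ⁅OG Q, OG Q⁆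
    · left; exact hMH
    right
    apply le_antisymm hMΩ
    obtain ⟨g₀, hg₀M, hg₀H⟩ : ∃ g ∈ M, g ∉ stabSub W ⊓ ⁅OG Q, OG Q⁆ := by
      by_contra hcon
      push Not at hcon
      exact hMH (le_antisymm (fun g hg => hcon g hg) hHM)
    have hMO : ∀ k ∈ M, k ∈ OG Q := fun k hk => commutator_le_OG (hMΩ hk)
    have hg₀Ω := hMΩ hg₀M
    have hg₀O : g₀ ∈ OG Q := hMO g₀ hg₀M
    have hg₀s : g₀ ∉ stabSub W := fun h => hg₀H ⟨h, hg₀Ω⟩
    -- products of reflections along vectors of `W ∪ U`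
    have hH₀ : ∀ (a b : V) (ha : Q a ≠ 0) (hb : Q b ≠ 0), (a ∈ W ∨ a ∈ U) → (b ∈ W ∨ b ∈ U) →
        Q a = Q b → hQ.refl a ha * hQ.refl b hb ∈ M := by
      intro a b ha hb haWU hbWU hab
      exact hHM ⟨mul_mem (hreflWU a ha haWU) (hreflWU b hb hbWU),
        hQ.refl_mul_refl_mem' hnd ha hb hab⟩
    -- the relation `r_a r_b ∈ M`
    have hsw : ∀ (a b : V) (ha : Q a ≠ 0) (hb : Q b ≠ 0), hQ.refl a ha * hQ.refl b hb ∈ M →
        hQ.refl b hb * hQ.refl a ha ∈ M := by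
      intro a b ha hb h
      have := inv_mem h
      rwa [mul_inv_rev, refl_inv, refl_inv] at this
    have htr : ∀ (a b c : V) (ha : Q a ≠ 0) (hb : Q b ≠ 0) (hc : Q c ≠ 0),
        hQ.refl a ha * hQ.refl b hb ∈ M → hQ.refl b hb * hQ.refl c hc ∈ M →
        hQ.refl a ha * hQ.refl c hc ∈ M := by
      intro a b c ha hb hc h1 h2'
      have := mul_mem h1 h2'
      rwa [mul_assoc, ← mul_assoc (hQ.refl b hb), hQ.refl_mul_self, one_mul] at this
    have hcj : ∀ k ∈ M, ∀ (a b : V) (ha : Q a ≠ 0) (hb : Q b ≠ 0),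
        hQ.refl a ha * hQ.refl b hb ∈ M → ∀ (a₂ b₂ : V) (ha₂ : Q a₂ ≠ 0) (hb₂ : Q b₂ ≠ 0),
        a₂ = k a → b₂ = k b → hQ.refl a₂ ha₂ * hQ.refl b₂ hb₂ ∈ M := by
      intro k hk a b ha hb h a₂ b₂ ha₂ hb₂ e1 e2
      subst e1 e2
      have hkO := hMO k hk
      have h1 := hQ.conj_refl hkO a ha
      have h2' := hQ.conj_refl hkO b hb
      have h3 : hQ.refl (k a) ha₂ * hQ.refl (k b) hb₂ =
          k * (hQ.refl a ha * hQ.refl b hb) * k⁻¹ := by
        rw [← h1, ← h2']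
        group
      rw [h3]
      exact mul_mem (mul_mem hk h) (inv_mem hk)
    -- the class
    obtain ⟨C, hCdef⟩ : ∃ C : Set V, C = {a | Q a ≠ 0 ∧ ∀ d ∈ U, ∀ (ha : Q a ≠ 0) (hd : Q d ≠ 0),
        Q d = Q a → hQ.refl a ha * hQ.refl d hd ∈ M} := ⟨_, rfl⟩
    have hCmem : ∀ a, a ∈ C ↔ (Q a ≠ 0 ∧ ∀ d ∈ U, ∀ (ha : Q a ≠ 0) (hd : Q d ≠ 0),
        Q d = Q a → hQ.refl a ha * hQ.refl d hd ∈ M) := by
      intro a; rw [hCdef]; rfl
    have hC1 : ∀ a, (a ∈ W ∨ a ∈ U) → Q a ≠ 0 → a ∈ C := by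
      intro a haWU ha
      rw [hCmem]
      refine ⟨ha, fun d hd ha' hd' hda => hH₀ a d ha' hd' haWU (Or.inr hd) hda.symm⟩
    have hC2a : ∀ a ∈ C, ∀ a' ∈ C, ∀ (ha : Q a ≠ 0) (ha' : Q a' ≠ 0), Q a' = Q a →
        hQ.refl a ha * hQ.refl a' ha' ∈ M := by
      intro a haC a' ha'C ha ha' hQaa'
      obtain ⟨d, hd, hQd⟩ := hU.exists_norm (Q a)
      have hd0 : Q d ≠ 0 := by rw [hQd]; exact ha
      have h1 := ((hCmem a).1 haC).2 d hd ha hd0 hQd
      have h3 := ((hCmem a').1 ha'C).2 d hd ha' hd0 (by rw [hQd, hQaa'])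
      exact htr _ _ _ ha hd0 ha' h1 (hsw _ _ ha' hd0 h3)
    have hC2b : ∀ a ∈ C, ∀ a' : V, ∀ (ha : Q a ≠ 0) (ha' : Q a' ≠ 0), Q a' = Q a →
        hQ.refl a ha * hQ.refl a' ha' ∈ M → a' ∈ C := by
      intro a haC a' ha ha' hQaa' h
      rw [hCmem]
      refine ⟨ha', fun d hd ha'' hd0 hQd => ?_⟩
      have h1 := ((hCmem a).1 haC).2 d hd ha hd0 (by rw [hQd, hQaa'])
      exact htr _ _ _ ha' ha hd0 (hsw _ _ ha ha' h) h1
    have hCinv : ∀ x ∈ M, ∀ a₁ ∈ C, ∀ d₀ : V, (d₀ ∈ W ∨ d₀ ∈ U) → Q d₀ = Q a₁ →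
        (x d₀ ∈ W ∨ x d₀ ∈ U) → x a₁ ∈ C := by
      intro x hx a₁ ha₁ d₀ hd₀ hQd₀ hxd₀
      have hxO := hMO x hx
      have ha₁0 : Q a₁ ≠ 0 := ((hCmem a₁).1 ha₁).1
      have hd₀0 : Q d₀ ≠ 0 := by rw [hQd₀]; exact ha₁0
      have hxa0 : Q (x a₁) ≠ 0 := by rw [hxO a₁]; exact ha₁0
      have hxd0 : Q (x d₀) ≠ 0 := by rw [hxO d₀]; exact hd₀0
      have h1 := hC2a a₁ ha₁ d₀ (hC1 d₀ hd₀ hd₀0) ha₁0 hd₀0 hQd₀
      have h3 := hcj x hx a₁ d₀ ha₁0 hd₀0 h1 (x a₁) (x d₀) hxa0 hxd0 rfl rfl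
      exact hC2b (x d₀) (hC1 _ hxd₀ hxd0) (x a₁) hxd0 hxa0 (by rw [hxO, hxO, hQd₀])
        (hsw _ _ hxa0 hxd0 h3)
    have hCrefl : ReflClass hQ C := by
      refine ⟨fun a ha => ((hCmem a).1 ha).1, ?_, ?_⟩
      · intro a haC l hl
        have ha : Q a ≠ 0 := ((hCmem a).1 haC).1
        have hla : Q (l • a) ≠ 0 := by
          rw [hQ.smul]; exact mul_ne_zero (pow_ne_zero 2 hl) ha
        rw [hCmem]
        refine ⟨hla, fun d hd hla' hd0 hQd => ?_⟩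
        have hd' : l⁻¹ • d ∈ U := U.smul_mem _ hd
        have hQd' : Q (l⁻¹ • d) = Q a := by
          rw [hQ.smul, hQd, hQ.smul]
          field_simp
        have hd'0 : Q (l⁻¹ • d) ≠ 0 := by rw [hQd']; exact ha
        have h1 := ((hCmem a).1 haC).2 _ hd' ha hd'0 hQd'
        have e1 : hQ.refl (l • a) hla' = hQ.refl a ha := hQ.refl_smul a ha l hl hla'
        have e2 : hQ.refl d hd0 = hQ.refl (l⁻¹ • d) hd'0 := by
          have hd'' : Q (l • (l⁻¹ • d)) ≠ 0 := by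
            rw [smul_smul, mul_inv_cancel₀ hl, one_smul]; exact hd0
          rw [← hQ.refl_smul (l⁻¹ • d) hd'0 l hl hd'']
          exact hQ.refl_congr (by rw [smul_smul, mul_inv_cancel₀ hl, one_smul]) hd0
        rw [e1, e2]
        exact h1
      · intro a haC b hbC ha
        have hb : Q b ≠ 0 := ((hCmem b).1 hbC).1
        obtain ⟨a', ha'U, ha'b, -, hQa'⟩ := hU.m1 b b 0 U.zero_mem (Q a)
        rw [map_zero, LinearMap.zero_apply] at ha'b
        have ha'0 : Q a' ≠ 0 := by rw [hQa']; exact ha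
        have hxM := ((hCmem a).1 haC).2 a' ha'U ha ha'0 hQa'
        obtain ⟨d₀, hd₀U, hd₀a, hd₀a', hQd₀⟩ := hU.m1 a a' 0 U.zero_mem (Q b)
        rw [map_zero, LinearMap.zero_apply] at hd₀a hd₀a'
        have hxd : (hQ.refl a ha * hQ.refl a' ha'0) d₀ = d₀ := by
          rw [LinearEquiv.mul_apply, hQ.refl_apply_of_orth a' ha'0 hd₀a',
            hQ.refl_apply_of_orth a ha hd₀a]
        have hxb : (hQ.refl a ha * hQ.refl a' ha'0) b = hQ.refl a ha b := by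
          rw [LinearEquiv.mul_apply, hQ.refl_apply_of_orth a' ha'0 (by rw [hQ.symm]; exact ha'b)]
        rw [← hxb]
        exact hCinv _ hxM b hbC d₀ (Or.inr hd₀U) hQd₀ (by rw [hxd]; exact Or.inr hd₀U)
    -- invariance under the stabiliser
    have hCH : ∀ h ∈ stabSub W ⊓ ⁅OG Q, OG Q⁆, ∀ a ∈ C, h a ∈ C := by
      intro h hh a haC
      have ha : Q a ≠ 0 := ((hCmem a).1 haC).1
      obtain ⟨d, hd, hQd⟩ := hU.exists_norm (Q a)
      exact hCinv h (hHM hh) a haC d (Or.inr hd) hQd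
        (Or.inr (hQ.map_mem_of_stabSub W U horth hsup hW (commutator_le_OG hh.2) hh.1 hd))
    -- a member outside `W ∪ U`
    obtain ⟨wm, hwm, um, hum, hwm0, hum0, hmC⟩ :
        ∃ wm ∈ W, ∃ um ∈ U, wm ≠ 0 ∧ um ≠ 0 ∧ wm + um ∈ C := by
      have hg₀i : ∀ x, g₀ (g₀⁻¹ x) = x := fun x => by
        rw [← LinearEquiv.mul_apply, mul_inv_cancel]; rfl
      -- a vector of `U` with image outside `U`
      obtain ⟨u', hu', hgu'⟩ : ∃ u' ∈ U, g₀ u' ∉ U := by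
        by_contra hcon
        push Not at hcon
        apply hg₀s
        apply hstab
        intro x hx
        exact hQ.map_mem_of_stabSub U W horth' hsup' hU.nondeg hg₀O (hstabU g₀ hcon) hx
      obtain ⟨w₁, hw₁, hBw₁⟩ : ∃ w₁ ∈ W, B (g₀ u') w₁ ≠ 0 := by
        obtain ⟨w'', hw'', u'', hu'', hwu'⟩ := hdec (g₀ u')
        have hw''0 : w'' ≠ 0 := by
          rintro rfl
          rw [zero_add] at hwu'
          rw [← hwu'] at hgu'
          exact hgu' hu''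
        obtain ⟨w₁, hw₁, h⟩ := hQ.exists_prod_ne_zero_in W hW hw'' hw''0
        refine ⟨w₁, hw₁, ?_⟩
        rw [← hwu', map_add, LinearMap.add_apply, horth' u'' hu'' w₁ hw₁, add_zero, hQ.symm]
        exact h
      -- a vector of `U` with image outside `W`
      obtain ⟨u'', hu'', hgu''⟩ : ∃ u'' ∈ U, g₀ u'' ∉ W := by
        by_contra hcon
        push Not at hcon
        exact hns g₀ hg₀O hcon
      obtain ⟨u₁, hu₁, hBu₁⟩ : ∃ u₁ ∈ U, B (g₀ u'') u₁ ≠ 0 := by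
        obtain ⟨w', hw', u₃, hu₃, hwu'⟩ := hdec (g₀ u'')
        have hu₃0 : u₃ ≠ 0 := by
          rintro rfl
          rw [add_zero] at hwu'
          rw [← hwu'] at hgu''
          exact hgu'' hw'
        obtain ⟨u₁, hu₁, h⟩ := hQ.exists_prod_ne_zero_in U hU.nondeg hu₃ hu₃0
        refine ⟨u₁, hu₁, ?_⟩
        rw [← hwu', map_add, LinearMap.add_apply, horth w' hw' u₁ hu₁, zero_add, hQ.symm]
        exact h
      have hB1 : B u' (g₀⁻¹ w₁) ≠ 0 := by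
        rw [← hQ.B_map hg₀O, hg₀i]; exact hBw₁
      have hB2 : B u'' (g₀⁻¹ u₁) ≠ 0 := by
        rw [← hQ.B_map hg₀O, hg₀i]; exact hBu₁
      obtain ⟨e₀, he₀, he₀1, he₀2⟩ := exists_two_prod_ne_zero_of U hu' hu'' hB1 hB2
      obtain ⟨u₂, hu₂, hu₂1, hu₂2, hQu₂⟩ := hU.m1 (g₀⁻¹ w₁) (g₀⁻¹ u₁) e₀ he₀ 1
      have hu₂0 : Q u₂ ≠ 0 := by rw [hQu₂]; exact one_ne_zero
      have hA1 : B (g₀ u₂) w₁ ≠ 0 := by
        rw [← hg₀i w₁, hQ.B_map hg₀O, hu₂1]; exact he₀1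
      have hA2 : B (g₀ u₂) u₁ ≠ 0 := by
        rw [← hg₀i u₁, hQ.B_map hg₀O, hu₂2]; exact he₀2
      obtain ⟨wa, hwa, ua, hua, hwua⟩ := hdec (g₀ u₂)
      have hwa0 : wa ≠ 0 := by
        rintro rfl
        apply hA1
        rw [← hwua, zero_add]
        exact horth' ua hua w₁ hw₁
      have hua0 : ua ≠ 0 := by
        rintro rfl
        apply hA2
        rw [← hwua, add_zero]
        exact horth wa hwa u₁ hu₁
      have hQa' : Q (g₀ u₂) = 1 := by rw [hg₀O u₂, hQu₂]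
      have ha'0 : Q (g₀ u₂) ≠ 0 := by rw [hQa']; exact one_ne_zero
      -- the vector `u`
      obtain ⟨u, hu, hBu, hQu, huua⟩ := hU.exists_norm_prod_ne hua hua0 1 1
      have hu0 : Q u ≠ 0 := by rw [hQu]; exact one_ne_zero
      -- the second reflection vector
      obtain ⟨b, hb, hbu, -, hQb⟩ := hU.m1 (g₀⁻¹ u) (g₀⁻¹ u) 0 U.zero_mem 1
      rw [map_zero, LinearMap.zero_apply] at hbu
      have hb0 : Q b ≠ 0 := by rw [hQb]; exact one_ne_zero
      have hb'0 : Q (g₀ b) ≠ 0 := by rw [hg₀O b]; exact hb0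
      have hBb' : B u (g₀ b) = 0 := by
        rw [hQ.symm, ← hg₀i u, hQ.B_map hg₀O]; exact hbu
      have hyM : hQ.refl (g₀ u₂) ha'0 * hQ.refl (g₀ b) hb'0 ∈ M :=
        hcj g₀ hg₀M u₂ b hu₂0 hb0 (hH₀ u₂ b hu₂0 hb0 (Or.inr hu₂) (Or.inr hb)
          (by rw [hQu₂, hQb])) _ _ ha'0 hb'0 rfl rfl
      have hyu : (hQ.refl (g₀ u₂) ha'0 * hQ.refl (g₀ b) hb'0) u = -wa + (u - ua) := by
        rw [LinearEquiv.mul_apply, hQ.refl_apply_of_orth _ hb'0 hBb', refl_apply, hQa', ← hwua,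
          map_add, hQ.symm u wa, horth wa hwa u hu, zero_add, hBu, inv_one, one_mul, one_smul]
        abel
      obtain ⟨d₀, hd₀, hd₀1, hd₀2, hQd₀⟩ := hU.m1 (g₀ u₂) (g₀ b) 0 U.zero_mem (Q u)
      rw [map_zero, LinearMap.zero_apply] at hd₀1 hd₀2
      have hyd : (hQ.refl (g₀ u₂) ha'0 * hQ.refl (g₀ b) hb'0) d₀ = d₀ := by
        rw [LinearEquiv.mul_apply, hQ.refl_apply_of_orth _ hb'0 hd₀2,
          hQ.refl_apply_of_orth _ ha'0 hd₀1]
      have h5 := hCinv _ hyM u (hC1 u (Or.inr hu) hu0) d₀ (Or.inr hd₀) hQd₀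
        (by rw [hyd]; exact Or.inr hd₀)
      rw [hyu] at h5
      exact ⟨-wa, W.neg_mem hwa, u - ua, U.sub_mem hu hua, neg_ne_zero.2 hwa0,
        sub_ne_zero.2 huua, h5⟩
    -- every non-singular vector is a member
    have hall : ∀ x, Q x ≠ 0 → x ∈ C := by
      intro x hx
      obtain ⟨w₂, hw₂, u₂, hu₂, rfl⟩ := hdec x
      exact hCrefl.mem_of_mixed' W U horth hsup hW hU (fun a ha h => hC1 a (Or.inl ha) h)
        (fun a ha h => hC1 a (Or.inr ha) h) hCH hirr hwm hum hwm0 hum0 hmC hw₂ hu₂ hx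
    apply hQ.commutator_le_of_reflPairs hnd hF M
    intro a b ha hb hab
    exact hC2a a (hall a ha) b (hall b hb) ha hb hab.symm

end QuadData

end Cfsg.Agent.Lib.Helper94
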