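/-
Helper94: odd characteristic: irreducibility of a non-degenerate subspace under the reflections
along its non-singular vectors, and maximality in `Ω` of the stabiliser of a non-degenerate
subspace `W` whose orthogonal complement `U` has dimension at least seven and at least `dim W`.
-/
import Mathlib
import Cfsg.Prelude.Def_GeometricClasses
import Cfsg.Agent.Lib.Helper94.OmegaSub

set_option autoImplicit false
set_option linter.unusedSimpArgs false
set_option linter.unusedSectionVars false
set_option linter.unusedVariables false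

namespace Cfsg.Agent.Lib.Helper94

open LinearMap (BilinForm)
open scoped commutatorElement
open Module

variable {K V : Type*} [Field K] [AddCommGroup V] [Module K V]

namespace QuadData

variable {B : BilinForm K V} {Q : V → K}

/-- a non-zero singular vector of a non-degenerate subspace has a non-singular partner -/
lemma exists_nonsingular_prod_ne_zero_in (hQ : QuadData B Q) (W : Submodule K V)
    (hW : ∀ p ∈ W, (∀ p' ∈ W, B p p' = 0) → p = 0) {x : V} (hx : x ∈ W) (hx0 : x ≠ 0)
    (hQx : Q x = 0) : ∃ b ∈ W, Q b ≠ 0 ∧ B x b ≠ 0 := by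
  obtain ⟨y, hy, hyx⟩ := hQ.exists_prod_ne_zero_in W hW hx hx0
  have hxy : B x y ≠ 0 := by rw [hQ.symm]; exact hyx
  by_cases hQy : Q y = 0
  · refine ⟨x + y, W.add_mem hx hy, ?_, ?_⟩
    · rw [hQ.polar, hQx, hQy, zero_add, zero_add]; exact hxy
    · rw [map_add, hQ.self, hQx, mul_zero, zero_add]; exact hxy
  · exact ⟨y, hy, hQy, hxy⟩

/-- **Irreducibility** of a non-degenerate subspace under the reflections along its non-singular
vectors (odd characteristic). -/
theorem eq_of_refl_invariant (hQ : QuadData B Q) (h2 : (2 : K) ≠ 0) (W : Submodule K V)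
    (hW : ∀ p ∈ W, (∀ p' ∈ W, B p p' = 0) → p = 0)
    (hq : (∃ l : K, l ≠ 0 ∧ l ^ 2 ≠ 1) ∨ (∀ t ∈ W, ∀ b ∈ W, Q t ≠ 0 → Q b = -Q t → B t b = 0 →
      ∃ z ∈ W, Q z ≠ 0 ∧ B z t = 0 ∧ B z b = 0))
    (T : Submodule K V) (hTW : T ≤ W) (hT0 : T ≠ ⊥)
    (hT : ∀ b ∈ W, ∀ hb : Q b ≠ 0, ∀ t ∈ T, hQ.refl b hb t ∈ T) : T = W := by
  -- step i
  have step1 : ∀ b ∈ W, Q b ≠ 0 → b ∈ T ∨ ∀ t ∈ T, B t b = 0 := by
    intro b hb hQb
    by_cases h : ∃ t ∈ T, B t b ≠ 0
    · left
      obtain ⟨t, ht, htb⟩ := h
      have h1 := hT b hb hQb t ht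
      rw [refl_apply] at h1
      have h3 : ((Q b)⁻¹ * B t b) • b ∈ T := by
        have := T.sub_mem ht h1
        rwa [sub_sub_cancel] at this
      have h4 : (Q b)⁻¹ * B t b ≠ 0 := mul_ne_zero (inv_ne_zero hQb) htb
      have := T.smul_mem ((Q b)⁻¹ * B t b)⁻¹ h3
      rwa [smul_smul, inv_mul_cancel₀ h4, one_smul] at this
    · right
      push Not at h
      exact h
  -- step ii
  obtain ⟨t₁, ht₁, hQt₁⟩ : ∃ t₁ ∈ T, Q t₁ ≠ 0 := by
    obtain ⟨t, ht, ht0⟩ := (Submodule.ne_bot_iff T).1 hT0
    by_cases hQt : Q t = 0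
    · obtain ⟨b, hb, hQb, htb⟩ := hQ.exists_nonsingular_prod_ne_zero_in W hW (hTW ht) ht0 hQt
      rcases step1 b hb hQb with h | h
      · exact ⟨b, h, hQb⟩
      · exact absurd (h t ht) htb
    · exact ⟨t, ht, hQt⟩
  have ht₁W : t₁ ∈ W := hTW ht₁
  -- step iii
  have step3 : ∀ b ∈ W, Q b ≠ 0 → b ∈ T := by
    intro b hb hQb
    by_contra hbT
    have hperp : ∀ t ∈ T, B t b = 0 := by
      rcases step1 b hb hQb with h | h
      · exact absurd h hbT
      · exact h
    -- all the vectors `t + l b` are singular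
    have hsing : ∀ t ∈ T, Q t ≠ 0 → ∀ l : K, l ≠ 0 → Q (t + l • b) = 0 := by
      intro t ht hQt l hl
      by_contra hne
      have hmem : t + l • b ∈ W := W.add_mem (hTW ht) (W.smul_mem l hb)
      rcases step1 (t + l • b) hmem hne with h | h
      · apply hbT
        have h1 : l • b ∈ T := by
          have := T.sub_mem h ht
          rwa [add_sub_cancel_left] at this
        have := T.smul_mem l⁻¹ h1
        rwa [smul_smul, inv_mul_cancel₀ hl, one_smul] at this
      · have h1 := h t ht
        rw [map_add, map_smul, hQ.self, hperp t ht, smul_zero, add_zero] at h1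
        rcases mul_eq_zero.1 h1 with h3 | h3
        · exact h2 h3
        · exact hQt h3
    have hnorm : ∀ t ∈ T, Q t ≠ 0 → ∀ l : K, l ≠ 0 → Q t + l ^ 2 * Q b = 0 := by
      intro t ht hQt l hl
      have := hsing t ht hQt l hl
      rw [hQ.polar, hQ.smul, map_smul, hperp t ht, smul_zero, add_zero] at this
      exact this
    have hQb1 : ∀ t ∈ T, Q t ≠ 0 → Q b = -Q t := by
      intro t ht hQt
      have := hnorm t ht hQt 1 one_ne_zero
      linear_combination this
    rcases hq with ⟨l, hl0, hl1⟩ | hq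
    · have h1 := hnorm t₁ ht₁ hQt₁ l hl0
      have h3 := hQb1 t₁ ht₁ hQt₁
      rw [h3] at h1
      have h4 : Q t₁ * (1 - l ^ 2) = 0 := by linear_combination h1
      rcases mul_eq_zero.1 h4 with h5 | h5
      · exact hQt₁ h5
      · apply hl1
        linear_combination -h5
    · obtain ⟨z, hz, hQz, hzt, hzb⟩ := hq t₁ ht₁W b hb hQt₁ (hQb1 t₁ ht₁ hQt₁) (hperp t₁ ht₁)
      by_cases hzT : z ∈ T
      · have h1 : Q (t₁ + z) = Q t₁ + Q z := by
          rw [hQ.polar, hQ.symm, hzt, add_zero]
        have h3 := hQb1 z hzT hQz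
        have h4 := hQb1 t₁ ht₁ hQt₁
        have h5 : Q (t₁ + z) ≠ 0 := by
          rw [h1]
          intro h
          have : (2 : K) * Q t₁ = 0 := by linear_combination h + h4 - h3
          rcases mul_eq_zero.1 this with h6 | h6
          · exact h2 h6
          · exact hQt₁ h6
        have h6 := hQb1 (t₁ + z) (T.add_mem ht₁ hzT) h5
        rw [h1] at h6
        apply hQt₁
        linear_combination h6 - h3
      · -- `z` lies outside `T`, hence is orthogonal to `T` with norm `-Q t₁`
        have hzperp : ∀ t ∈ T, B t z = 0 := by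
          rcases step1 z hz hQz with h | h
          · exact absurd h hzT
          · exact h
        have hsingz : ∀ l : K, l ≠ 0 → Q (t₁ + l • z) = 0 := by
          intro l hl
          by_contra hne
          have hmem : t₁ + l • z ∈ W := W.add_mem ht₁W (W.smul_mem l hz)
          rcases step1 (t₁ + l • z) hmem hne with h | h
          · apply hzT
            have h1 : l • z ∈ T := by
              have := T.sub_mem h ht₁
              rwa [add_sub_cancel_left] at this
            have := T.smul_mem l⁻¹ h1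
            rwa [smul_smul, inv_mul_cancel₀ hl, one_smul] at this
          · have h1 := h t₁ ht₁
            rw [map_add, map_smul, hQ.self, hzperp t₁ ht₁, smul_zero, add_zero] at h1
            rcases mul_eq_zero.1 h1 with h3 | h3
            · exact h2 h3
            · exact hQt₁ h3
        have hQz1 : Q z = -Q t₁ := by
          have := hsingz 1 one_ne_zero
          rw [one_smul, hQ.polar, hzperp t₁ ht₁, add_zero] at this
          linear_combination this
        -- the vector `b + z`
        have h1 : Q (b + z) = Q b + Q z := by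
          rw [hQ.polar, hQ.symm, hzb, add_zero]
        have h4 := hQb1 t₁ ht₁ hQt₁
        have h5 : Q (b + z) ≠ 0 := by
          rw [h1, h4, hQz1]
          intro h
          have : (2 : K) * Q t₁ = 0 := by linear_combination -h
          rcases mul_eq_zero.1 this with h6 | h6
          · exact h2 h6
          · exact hQt₁ h6
        have hbzT : b + z ∉ T := by
          intro h
          have h6 := hperp (b + z) h
          rw [map_add, LinearMap.add_apply, hQ.self, hzb, add_zero] at h6
          rcases mul_eq_zero.1 h6 with h7 | h7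
          · exact h2 h7
          · exact hQb h7
        have hbzperp : ∀ t ∈ T, B t (b + z) = 0 := by
          intro t ht
          rw [map_add, hperp t ht, hzperp t ht, add_zero]
        have hsingbz : Q (t₁ + (b + z)) = 0 := by
          by_contra hne
          have hmem : t₁ + (b + z) ∈ W := W.add_mem ht₁W (W.add_mem hb hz)
          rcases step1 (t₁ + (b + z)) hmem hne with h | h
          · apply hbzT
            have := T.sub_mem h ht₁
            rwa [add_sub_cancel_left] at this
          · have h1' := h t₁ ht₁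
            rw [map_add, hQ.self, hbzperp t₁ ht₁, add_zero] at h1'
            rcases mul_eq_zero.1 h1' with h3 | h3
            · exact h2 h3
            · exact hQt₁ h3
        rw [hQ.polar, hbzperp t₁ ht₁, add_zero, h1, h4, hQz1] at hsingbz
        apply hQt₁
        linear_combination -hsingbz
  -- the non-singular vectors span `W`
  apply le_antisymm hTW
  intro x hx
  by_cases hQx : Q x = 0
  · by_cases hx0 : x = 0
    · rw [hx0]; exact T.zero_mem
    obtain ⟨b, hb, hQb, hxb⟩ := hQ.exists_nonsingular_prod_ne_zero_in W hW hx hx0 hQx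
    have hbT := step3 b hb hQb
    by_cases h1 : Q (x + b) = 0
    · have h3 : Q (x - b) ≠ 0 := by
        rw [hQ.sub, hQx, zero_add]
        rw [hQ.polar, hQx, zero_add] at h1
        intro h
        have : (2 : K) * B x b = 0 := by linear_combination h1 - h
        rcases mul_eq_zero.1 this with h6 | h6
        · exact h2 h6
        · exact hxb h6
      have := T.add_mem (step3 (x - b) (W.sub_mem hx hb) h3) hbT
      rwa [sub_add_cancel] at this
    · have := T.sub_mem (step3 (x + b) (W.add_mem hx hb) h1) hbT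
      rwa [add_sub_cancel_right] at this
  · exact step3 x hx hQx

/-- **Maximality** of the stabiliser in `Ω` of a non-degenerate subspace, odd characteristic. -/
theorem stabSub_isMaximalIn_odd [Finite K] [FiniteDimensional K V] (hQ : QuadData B Q)
    (hnd : ∀ x, (∀ y, B x y = 0) → x = 0) (h2 : (2 : K) ≠ 0) (W U : Submodule K V)
    (horth : ∀ w ∈ W, ∀ u ∈ U, B w u = 0) (hsup : W ⊔ U = ⊤)
    (hW : ∀ p ∈ W, (∀ p' ∈ W, B p p' = 0) → p = 0) (hW0 : W ≠ ⊥)
    (hU : ∀ p ∈ U, (∀ p' ∈ U, B p p' = 0) → p = 0) (hdU : 7 ≤ finrank K U)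
    (hns : ∀ g ∈ OG Q, ¬ (∀ u ∈ U, g u ∈ W))
    (hq : (∃ l : K, l ≠ 0 ∧ l ^ 2 ≠ 1) ∨ (∀ t ∈ W, ∀ b ∈ W, Q t ≠ 0 → Q b = -Q t → B t b = 0 →
      ∃ z ∈ W, Q z ≠ 0 ∧ B z t = 0 ∧ B z b = 0)) :
    Cfsg.Geo.IsMaximalIn ⁅OG Q, OG Q⁆ (stabSub W ⊓ ⁅OG Q, OG Q⁆) := by
  have hdV : 7 ≤ finrank K V := le_trans hdU (Submodule.finrank_le U)
  have hF : (∀ a b : K, ∃ x : K, x ≠ a ∧ x ≠ b) ∨ Module.finrank K V ≠ 4 := Or.inr (by omega)
  have hUg : GoodSub hQ U := hQ.goodSub_of_odd h2 U hU hdU
  have hXW : ∃ w ∈ W, Q w ≠ 0 := by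
    obtain ⟨t, ht, ht0⟩ := (Submodule.ne_bot_iff W).1 hW0
    by_cases hQt : Q t = 0
    · obtain ⟨b, hb, hQb, -⟩ := hQ.exists_nonsingular_prod_ne_zero_in W hW ht ht0 hQt
      exact ⟨b, hb, hQb⟩
    · exact ⟨t, ht, hQt⟩
  apply hQ.stabSub_isMaximalIn' hnd hF W U horth hsup hW hXW hUg hns
  intro T hTW hT0 hTH
  apply hQ.eq_of_refl_invariant h2 W hW hq T hTW hT0
  intro b hb hQb t ht
  obtain ⟨b', hb', hQb'⟩ := hUg.exists_norm (Q b)
  have hb'0 : Q b' ≠ 0 := by rw [hQb']; exact hQb
  have hstab : ∀ g : V ≃ₗ[K] V, (∀ x ∈ W, g x ∈ W) → g ∈ stabSub W := by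
    intro g hg
    exact mem_stabSub_of_map_eq (map_eq_of_map_le hg rfl)
  have h1 : hQ.refl b hQb * hQ.refl b' hb'0 ∈ stabSub W ⊓ ⁅OG Q, OG Q⁆ := by
    refine ⟨?_, hQ.refl_mul_refl_mem' hnd hQb hb'0 hQb'.symm⟩
    apply mul_mem
    · apply hstab
      intro x hx
      rw [refl_apply]
      exact W.sub_mem hx (W.smul_mem _ hb)
    · apply hstab
      intro x hx
      rw [hQ.refl_apply_of_orth b' hb'0 (horth x hx b' hb')]
      exact hx
  have h3 := hTH _ h1 t ht
  rwa [LinearEquiv.mul_apply, hQ.refl_apply_of_orth b' hb'0 (horth t (hTW ht) b' hb')] at h3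

end QuadData

end Cfsg.Agent.Lib.Helper94
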