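/-
Helper94: odd characteristic: maximality in `Ω` of the stabiliser of a non-degenerate subspace `W`
of a quadratic space of dimension at least thirteen, choosing automatically which of `W` and its
orthogonal complement plays the role of the large member.
-/
import Mathlib
import Cfsg.Prelude.Def_GeometricClasses
import Cfsg.Agent.Lib.Helper94.OmegaSubOdd

set_option autoImplicit false
set_option linter.unusedSimpArgs false
set_option linter.unusedSectionVars false
set_option linter.unusedVariables false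

namespace Cfsg.Agent.Lib.Helper94

open LinearMap (BilinForm)
open scoped commutatorElement
open Module

variable {K V : Type*} [Field K] [AddCommGroup V] [Module K V]

namespace QuadData

variable {B : BilinForm K V} {Q : V → K}

lemma mem_orth_iff (W : Submodule K V) (x : V) :
    x ∈ B.orthogonal W ↔ ∀ w ∈ W, B w x = 0 := by
  rw [LinearMap.BilinForm.mem_orthogonal_iff]

/-- a non-degenerate subspace and its orthogonal complement are complementary -/
lemma orth_isCompl [FiniteDimensional K V] (hQ : QuadData B Q) (W : Submodule K V)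
    (hW : ∀ p ∈ W, (∀ p' ∈ W, B p p' = 0) → p = 0) : IsCompl W (B.orthogonal W) := by
  have hndP : ∀ x : W, (∀ y : W, B.restrict W x y = 0) → x = 0 := by
    intro x hx
    have := hW x x.2 (fun p' hp' => hx ⟨p', hp'⟩)
    exact Subtype.ext this
  exact LinearMap.BilinForm.isCompl_orthogonal_of_restrict_nondegenerate hQ.isRefl_of
    ((hQ.restrict W).nondegenerate_of hndP)

/-- the orthogonal complement of a non-degenerate subspace is non-degenerate -/
lemma orth_nondeg [FiniteDimensional K V] (hQ : QuadData B Q)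
    (hnd : ∀ x, (∀ y, B x y = 0) → x = 0) (W : Submodule K V)
    (hW : ∀ p ∈ W, (∀ p' ∈ W, B p p' = 0) → p = 0) :
    ∀ p ∈ B.orthogonal W, (∀ p' ∈ B.orthogonal W, B p p' = 0) → p = 0 := by
  intro p hp h
  apply hnd
  intro y
  have hy : y ∈ W ⊔ B.orthogonal W := by
    rw [(hQ.orth_isCompl W hW).sup_eq_top]; exact Submodule.mem_top
  obtain ⟨w, hw, u, hu, rfl⟩ := Submodule.mem_sup.1 hy
  rw [map_add, h u hu, add_zero, hQ.symm]
  exact (mem_orth_iff W p).1 hp w hw

/-- the stabilisers in `Ω` of a non-degenerate subspace and of its orthogonal complement agree -/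
lemma stabSub_orth_eq [FiniteDimensional K V] (hQ : QuadData B Q)
    (hnd : ∀ x, (∀ y, B x y = 0) → x = 0) (W : Submodule K V)
    (hW : ∀ p ∈ W, (∀ p' ∈ W, B p p' = 0) → p = 0) :
    stabSub (B.orthogonal W) ⊓ ⁅OG Q, OG Q⁆ = stabSub W ⊓ ⁅OG Q, OG Q⁆ := by
  have hc := hQ.orth_isCompl W hW
  have horth : ∀ w ∈ W, ∀ u ∈ B.orthogonal W, B w u = 0 :=
    fun w hw u hu => (mem_orth_iff W u).1 hu w hw
  have horth' : ∀ u ∈ B.orthogonal W, ∀ w ∈ W, B u w = 0 := fun u hu w hw => by
    rw [hQ.symm]; exact horth w hw u hu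
  have hU := hQ.orth_nondeg hnd W hW
  ext g
  constructor
  · rintro ⟨hgs, hgΩ⟩
    refine ⟨?_, hgΩ⟩
    apply mem_stabSub_of_map_eq (map_eq_of_map_le _ rfl)
    intro x hx
    exact hQ.map_mem_of_stabSub (B.orthogonal W) W horth' (by rw [sup_comm]; exact hc.sup_eq_top)
      hU (commutator_le_OG hgΩ) hgs hx
  · rintro ⟨hgs, hgΩ⟩
    refine ⟨?_, hgΩ⟩
    apply mem_stabSub_of_map_eq (map_eq_of_map_le _ rfl)
    intro x hx
    exact hQ.map_mem_of_stabSub W (B.orthogonal W) horth hc.sup_eq_top hW (commutator_le_OG hgΩ)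
      hgs hx

/-- a non-singular vector orthogonal to two orthogonal non-singular vectors, in a non-degenerate
subspace of dimension at least three (odd characteristic) -/
lemma exists_nonsingular_orth_pair_in (hQ : QuadData B Q) (h2 : (2 : K) ≠ 0) (P : Submodule K V)
    (hP : ∀ p ∈ P, (∀ p' ∈ P, B p p' = 0) → p = 0) {t b : V} (ht : t ∈ P) (hb : b ∈ P)
    (hQt : Q t ≠ 0) (hQb : Q b ≠ 0) (htb : B t b = 0) {x : V} (hx : x ∈ P)
    (hxs : x ∉ Submodule.span K {t, b}) : ∃ z ∈ P, Q z ≠ 0 ∧ B z t = 0 ∧ B z b = 0 := by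
  have hbt : B b t = 0 := by rw [hQ.symm]; exact htb
  have h2t : 2 * Q t ≠ 0 := mul_ne_zero h2 hQt
  have h2b : 2 * Q b ≠ 0 := mul_ne_zero h2 hQb
  -- the projection
  obtain ⟨pr, hpr⟩ : ∃ pr : V → V, ∀ v, pr v = v - (B v t / (2 * Q t)) • t
      - (B v b / (2 * Q b)) • b := ⟨_, fun v => rfl⟩
  have hprP : ∀ v ∈ P, pr v ∈ P := by
    intro v hv
    rw [hpr]
    exact P.sub_mem (P.sub_mem hv (P.smul_mem _ ht)) (P.smul_mem _ hb)
  have hprt : ∀ v, B (pr v) t = 0 := by
    intro v
    rw [hpr]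
    simp only [map_sub, map_smul, LinearMap.sub_apply, LinearMap.smul_apply, smul_eq_mul, hbt,
      hQ.self]
    field_simp
    ring
  have hprb : ∀ v, B (pr v) b = 0 := by
    intro v
    rw [hpr]
    simp only [map_sub, map_smul, LinearMap.sub_apply, LinearMap.smul_apply, smul_eq_mul, htb,
      hQ.self]
    field_simp
    ring
  have hz₀0 : pr x ≠ 0 := by
    intro h
    apply hxs
    rw [hpr] at h
    have hx' : x = (B x t / (2 * Q t)) • t + (B x b / (2 * Q b)) • b := by
      have h' := sub_eq_zero.1 h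
      have h'' := sub_eq_iff_eq_add.1 h'
      rw [add_comm] at h''
      exact h''
    rw [hx']
    exact Submodule.add_mem _ (Submodule.smul_mem _ _ (Submodule.subset_span (by simp)))
      (Submodule.smul_mem _ _ (Submodule.subset_span (by simp)))
  by_cases hQz₀ : Q (pr x) ≠ 0
  · exact ⟨pr x, hprP x hx, hQz₀, hprt x, hprb x⟩
  push Not at hQz₀
  obtain ⟨y, hy, hyz⟩ := hQ.exists_prod_ne_zero_in P hP (hprP x hx) hz₀0
  have hzy : B (pr x) (pr y) ≠ 0 := by
    have : B (pr x) (pr y) = B (pr x) y := by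
      conv_lhs => rw [hpr y]
      simp only [map_sub, map_smul, hprt x, hprb x, smul_zero, sub_zero]
    rw [this, hQ.symm]
    exact hyz
  by_cases h1 : Q (pr x + pr y) = 0
  · refine ⟨pr x - pr y, P.sub_mem (hprP x hx) (hprP y hy), ?_, ?_, ?_⟩
    · rw [hQ.sub, hQz₀, zero_add]
      rw [hQ.polar, hQz₀, zero_add] at h1
      intro h
      have : (2 : K) * B (pr x) (pr y) = 0 := by linear_combination h1 - h
      rcases mul_eq_zero.1 this with h6 | h6
      · exact h2 h6
      · exact hzy h6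
    · rw [map_sub, LinearMap.sub_apply, hprt, hprt, sub_zero]
    · rw [map_sub, LinearMap.sub_apply, hprb, hprb, sub_zero]
  · refine ⟨pr x + pr y, P.add_mem (hprP x hx) (hprP y hy), h1, ?_, ?_⟩
    · rw [map_add, LinearMap.add_apply, hprt, hprt, add_zero]
    · rw [map_add, LinearMap.add_apply, hprb, hprb, add_zero]

/-- dimension of the image of a subspace under an injective map into another subspace -/
lemma finrank_le_of_maps [FiniteDimensional K V] {N N' : Submodule K V} {g : V ≃ₗ[K] V}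
    (h : ∀ x ∈ N, g x ∈ N') : finrank K N ≤ finrank K N' := by
  have h1 : N.map (g : V →ₗ[K] V) ≤ N' := by
    rintro _ ⟨x, hx, rfl⟩
    exact h x hx
  have h3 := Submodule.finrank_mono h1
  rwa [LinearEquiv.finrank_map_eq g N] at h3

/-- **Maximality** of the stabiliser in `Ω` of a non-degenerate subspace (odd characteristic,
dimension at least thirteen). -/
theorem stabSub_isMaximalIn_odd_auto [Finite K] [FiniteDimensional K V] (hQ : QuadData B Q)
    (hnd : ∀ x, (∀ y, B x y = 0) → x = 0) (h2 : (2 : K) ≠ 0) (hdim : 13 ≤ finrank K V)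
    (W : Submodule K V) (hW : ∀ p ∈ W, (∀ p' ∈ W, B p p' = 0) → p = 0) (hW0 : W ≠ ⊥)
    (hW1 : W ≠ ⊤)
    (hswap : finrank K W = finrank K (B.orthogonal W) →
      ∀ g ∈ OG Q, ¬ (∀ w ∈ W, g w ∈ B.orthogonal W))
    (hq : (∃ l : K, l ≠ 0 ∧ l ^ 2 ≠ 1) ∨ (∀ P : Submodule K V, (P = W ∨ P = B.orthogonal W) →
      ∀ t ∈ P, ∀ b ∈ P, Q t ≠ 0 → Q b = -Q t → B t b = 0 →
      ∃ z ∈ P, Q z ≠ 0 ∧ B z t = 0 ∧ B z b = 0)) :
    Cfsg.Geo.IsMaximalIn ⁅OG Q, OG Q⁆ (stabSub W ⊓ ⁅OG Q, OG Q⁆) := by
  have hc := hQ.orth_isCompl W hW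
  have hfr := Submodule.finrank_add_eq_of_isCompl hc
  have horth : ∀ w ∈ W, ∀ u ∈ B.orthogonal W, B w u = 0 :=
    fun w hw u hu => (mem_orth_iff W u).1 hu w hw
  have horth' : ∀ u ∈ B.orthogonal W, ∀ w ∈ W, B u w = 0 := fun u hu w hw => by
    rw [hQ.symm]; exact horth w hw u hu
  have hU := hQ.orth_nondeg hnd W hW
  by_cases hle : finrank K W ≤ finrank K (B.orthogonal W)
  · apply hQ.stabSub_isMaximalIn_odd hnd h2 W (B.orthogonal W) horth hc.sup_eq_top hW hW0 hU
      (by omega)
    · intro g hg hmap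
      have h1 := finrank_le_of_maps hmap
      have heq : finrank K W = finrank K (B.orthogonal W) := le_antisymm hle h1
      have hmapeq := map_eq_of_map_le hmap heq.symm
      apply hswap heq g⁻¹ (inv_mem hg)
      intro w hw
      rw [← hmapeq] at hw
      obtain ⟨u, hu, rfl⟩ := hw
      have : g⁻¹ (g u) = u := by
        rw [← LinearEquiv.mul_apply, inv_mul_cancel]; rfl
      rw [show ((g : V →ₗ[K] V) u) = g u from rfl, this]
      exact hu
    · rcases hq with hq | hq
      · exact Or.inl hq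
      · exact Or.inr (hq W (Or.inl rfl))
  · push Not at hle
    have hU0 : B.orthogonal W ≠ ⊥ := by
      intro h
      apply hW1
      have := hc.sup_eq_top
      rwa [h, sup_bot_eq] at this
    rw [← hQ.stabSub_orth_eq hnd W hW]
    apply hQ.stabSub_isMaximalIn_odd hnd h2 (B.orthogonal W) W horth'
      (by rw [sup_comm]; exact hc.sup_eq_top) hU hU0 hW (by omega)
    · intro g hg hmap
      have h1 := finrank_le_of_maps hmap
      omega
    · rcases hq with hq | hq
      · exact Or.inl hq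
      · exact Or.inr (hq (B.orthogonal W) (Or.inr rfl))

end QuadData

end Cfsg.Agent.Lib.Helper94
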