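/-
Helper94: the standard odd-dimensional quadratic form is non-degenerate in odd characteristic.
-/
import Mathlib
import Cfsg.Prelude.Def_GeometricClasses

set_option autoImplicit false
set_option linter.unusedSimpArgs false
set_option linter.unusedSectionVars false
set_option linter.unusedVariables false

namespace Cfsg.Agent.Lib.Helper94

variable {F : Type*} [Field F]

lemma polar_quadFormOdd (m : ℕ) (u v : Unit ⊕ (Fin m ⊕ Fin m) → F) :
    QuadraticMap.polar (Cfsg.quadFormOdd m F) u v =
      2 * u (.inl ()) * v (.inl ()) +
        ∑ i : Fin m, (u (.inr (.inl i)) * v (.inr (.inr i)) + v (.inr (.inl i)) * u (.inr (.inr i))) := by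
  simp only [QuadraticMap.polar, Cfsg.quadFormOdd, Pi.add_apply]
  rw [Finset.sum_add_distrib]
  have : ∀ a b c d e f g : F, a = d + e + f + g →
      (u (.inl ()) + v (.inl ())) ^ 2 + a - (u (.inl ()) ^ 2 + d) - (v (.inl ()) ^ 2 + g) =
        2 * u (.inl ()) * v (.inl ()) + (e + f) := by
    intro a b c d e f g h; rw [h]; ring
  apply this _ 0 0
  simp only [add_mul, mul_add, Finset.sum_add_distrib]
  ring

lemma isNondegenerateQuadraticForm_quadFormOdd (m : ℕ) (h2 : (2 : F) ≠ 0) :
    Cfsg.Geo.IsNondegenerateQuadraticForm (Cfsg.quadFormOdd m F) where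
  smul := by
    intro c v
    simp only [Cfsg.quadFormOdd, Pi.smul_apply, smul_eq_mul, Finset.mul_sum]
    rw [mul_add, Finset.mul_sum]
    congr 1
    · ring
    · apply Finset.sum_congr rfl
      intro i _
      ring
  polar_bilinear := by
    refine ⟨?_, ?_, ?_, ?_⟩
    · intro x y v
      simp only [polar_quadFormOdd, Pi.add_apply]
      have : ∀ a b c : F, a = b + c → 2 * (x (.inl ()) + y (.inl ())) * v (.inl ()) + a =
          2 * x (.inl ()) * v (.inl ()) + b + (2 * y (.inl ()) * v (.inl ()) + c) := by
        intro a b c h; rw [h]; ring
      apply this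
      rw [← Finset.sum_add_distrib]
      apply Finset.sum_congr rfl
      intro i _
      ring
    · intro c x v
      simp only [polar_quadFormOdd, Pi.smul_apply, smul_eq_mul]
      rw [mul_add, Finset.mul_sum]
      congr 1
      · ring
      · apply Finset.sum_congr rfl
        intro i _
        ring
    · intro v x y
      simp only [polar_quadFormOdd, Pi.add_apply]
      have : ∀ a b c : F, a = b + c → 2 * v (.inl ()) * (x (.inl ()) + y (.inl ())) + a =
          2 * v (.inl ()) * x (.inl ()) + b + (2 * v (.inl ()) * y (.inl ()) + c) := by
        intro a b c h; rw [h]; ring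
      apply this
      rw [← Finset.sum_add_distrib]
      apply Finset.sum_congr rfl
      intro i _
      ring
    · intro c v x
      simp only [polar_quadFormOdd, Pi.smul_apply, smul_eq_mul]
      rw [mul_add, Finset.mul_sum]
      congr 1
      · ring
      · apply Finset.sum_congr rfl
        intro i _
        ring
  nondegenerate := by
    classical
    have key : ∀ v : Unit ⊕ (Fin m ⊕ Fin m) → F,
        (∀ x, QuadraticMap.polar (Cfsg.quadFormOdd m F) v x = 0) → v = 0 := by
      intro v hv
      funext k
      rcases k with ⟨⟩ | i | i
      · have := hv (Pi.single (.inl ()) 1)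
        rw [polar_quadFormOdd] at this
        simp only [Pi.single_apply, reduceCtorEq, if_false, if_true, mul_zero, zero_mul, add_zero,
          Finset.sum_const_zero, mul_one] at this
        rcases mul_eq_zero.1 this with h | h
        · exact absurd h h2
        · exact h
      · have := hv (Pi.single (.inr (.inr i)) 1)
        rw [polar_quadFormOdd] at this
        simp only [Pi.single_apply, reduceCtorEq, if_false, mul_zero, zero_mul, add_zero, zero_add,
          Sum.inr.injEq, mul_ite, mul_one, Finset.sum_ite_eq', Finset.mem_univ, if_true] at this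
        simpa using this
      · have := hv (Pi.single (.inr (.inl i)) 1)
        rw [polar_quadFormOdd] at this
        simp only [Pi.single_apply, reduceCtorEq, if_false, mul_zero, zero_mul, add_zero, zero_add,
          Sum.inr.injEq, Sum.inl.injEq, ite_mul, one_mul, Finset.sum_ite_eq', Finset.mem_univ,
          if_true] at this
        simpa using this
    intro v hv
    have h1 : ∃ x, QuadraticMap.polar (Cfsg.quadFormOdd m F) v x ≠ 0 := by
      by_contra hcon
      push Not at hcon
      exact hv (key v hcon)
    obtain ⟨x, hx⟩ := h1
    refine ⟨⟨x, ?_⟩, ⟨x, hx⟩⟩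
    rw [QuadraticMap.polar_comm]
    exact hx

end Cfsg.Agent.Lib.Helper94
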