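/-
Helper94: tensor decompositions in the sense of the Prelude: pure tensors, the coordinate
isomorphism `x ↦ P (x ∘ e)`, the action of the tensor product subgroup on pure tensors, and the
value of a tensor product form on pure tensors.
-/
import Mathlib
import Cfsg.Prelude.Def_GeometricClasses
import Cfsg.Agent.Lib.Helper94.SympBridge

set_option autoImplicit false
set_option linter.unusedSimpArgs false
set_option linter.unusedSectionVars false
set_option linter.unusedVariables false

namespace Cfsg.Agent.Lib.Helper94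

open scoped MatrixGroups Matrix Kronecker

variable {ι : Type} [Fintype ι] [DecidableEq ι] {F : Type*} [Field F] {n₁ n₂ : ℕ}

/-- pure tensors in coordinates -/
def pureT (u : Fin n₁ → F) (w : Fin n₂ → F) : Fin n₁ × Fin n₂ → F := fun a => u a.1 * w a.2

lemma pureT_apply (u : Fin n₁ → F) (w : Fin n₂ → F) (a : Fin n₁ × Fin n₂) :
    pureT u w a = u a.1 * w a.2 := rfl

lemma pureT_add_left (u u' : Fin n₁ → F) (w : Fin n₂ → F) :
    pureT (u + u') w = pureT u w + pureT u' w := by
  ext a; simp only [pureT_apply, Pi.add_apply]; ring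

lemma pureT_add_right (u : Fin n₁ → F) (w w' : Fin n₂ → F) :
    pureT u (w + w') = pureT u w + pureT u w' := by
  ext a; simp only [pureT_apply, Pi.add_apply]; ring

lemma pureT_sub_left (u u' : Fin n₁ → F) (w : Fin n₂ → F) :
    pureT (u - u') w = pureT u w - pureT u' w := by
  ext a; simp only [pureT_apply, Pi.sub_apply]; ring

lemma pureT_sub_right (u : Fin n₁ → F) (w w' : Fin n₂ → F) :
    pureT u (w - w') = pureT u w - pureT u w' := by
  ext a; simp only [pureT_apply, Pi.sub_apply]; ring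

lemma pureT_smul_left (c : F) (u : Fin n₁ → F) (w : Fin n₂ → F) :
    pureT (c • u) w = c • pureT u w := by
  ext a; simp only [pureT_apply, Pi.smul_apply, smul_eq_mul]; ring

lemma pureT_smul_right (c : F) (u : Fin n₁ → F) (w : Fin n₂ → F) :
    pureT u (c • w) = c • pureT u w := by
  ext a; simp only [pureT_apply, Pi.smul_apply, smul_eq_mul]; ring

lemma pureT_neg_left (u : Fin n₁ → F) (w : Fin n₂ → F) : pureT (-u) w = -pureT u w := by
  ext a; simp only [pureT_apply, Pi.neg_apply]; ring

lemma pureT_neg_right (u : Fin n₁ → F) (w : Fin n₂ → F) : pureT u (-w) = -pureT u w := by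
  ext a; simp only [pureT_apply, Pi.neg_apply]; ring

lemma pureT_zero_left (w : Fin n₂ → F) : pureT (0 : Fin n₁ → F) w = 0 := by
  ext a; simp only [pureT_apply, Pi.zero_apply]; ring

lemma pureT_zero_right (u : Fin n₁ → F) : pureT u (0 : Fin n₂ → F) = 0 := by
  ext a; simp only [pureT_apply, Pi.zero_apply]; ring

/-- cancellation in an equality of pure tensors -/
lemma pureT_cancel_left {u u' : Fin n₁ → F} {w w' : Fin n₂ → F} (h : pureT u w = pureT u' w')
    {i : Fin n₁} (hi : u i ≠ 0) : w = (u' i / u i) • w' := by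
  ext j
  have := congrFun h (i, j)
  simp only [pureT_apply] at this
  simp only [Pi.smul_apply, smul_eq_mul]
  field_simp
  linear_combination this

/-- cancellation in an equality of pure tensors -/
lemma pureT_cancel_right {u u' : Fin n₁ → F} {w w' : Fin n₂ → F} (h : pureT u w = pureT u' w')
    {j : Fin n₂} (hj : w j ≠ 0) : u = (w' j / w j) • u' := by
  ext i
  have := congrFun h (i, j)
  simp only [pureT_apply] at this
  simp only [Pi.smul_apply, smul_eq_mul]
  field_simp
  linear_combination this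

lemma exists_ne_zero_of_ne_zero {n : ℕ} {u : Fin n → F} (hu : u ≠ 0) : ∃ i, u i ≠ 0 := by
  by_contra h
  push Not at h
  exact hu (funext h)

/-- the map `w ↦ u ⊗ w` -/
def pureLeft (u : Fin n₁ → F) : (Fin n₂ → F) →ₗ[F] (Fin n₁ × Fin n₂ → F) where
  toFun w := pureT u w
  map_add' w w' := pureT_add_right u w w'
  map_smul' c w := pureT_smul_right c u w

lemma pureLeft_apply (u : Fin n₁ → F) (w : Fin n₂ → F) : pureLeft u w = pureT u w := rfl

/-- the map `u ↦ u ⊗ w` -/
def pureRight (w : Fin n₂ → F) : (Fin n₁ → F) →ₗ[F] (Fin n₁ × Fin n₂ → F) where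
  toFun u := pureT u w
  map_add' u u' := pureT_add_left u u' w
  map_smul' c u := pureT_smul_left c u w

lemma pureRight_apply (u : Fin n₁ → F) (w : Fin n₂ → F) : pureRight w u = pureT u w := rfl

/-- the coordinate isomorphism `x ↦ P (x ∘ e)` of a tensor structure -/
noncomputable def tensPhi (e : ι ≃ Fin n₁ × Fin n₂) (P : GL ι F) :
    (Fin n₁ × Fin n₂ → F) ≃ₗ[F] (ι → F) :=
  (LinearEquiv.funCongrLeft F F e).trans (glEquiv ι F P)

lemma tensPhi_apply (e : ι ≃ Fin n₁ × Fin n₂) (P : GL ι F) (x : Fin n₁ × Fin n₂ → F) :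
    tensPhi e P x = (P : Matrix ι ι F) *ᵥ (x ∘ e) := by
  rw [tensPhi, LinearEquiv.trans_apply, glEquiv_apply]
  rfl

/-- Kronecker products act factorwise on pure tensors -/
lemma kronecker_mulVec_pureT (A : Matrix (Fin n₁) (Fin n₁) F) (B : Matrix (Fin n₂) (Fin n₂) F)
    (u : Fin n₁ → F) (w : Fin n₂ → F) :
    (A ⊗ₖ B) *ᵥ pureT u w = pureT (A *ᵥ u) (B *ᵥ w) := by
  ext ⟨i, j⟩
  simp only [Matrix.mulVec, dotProduct, pureT_apply, Matrix.kroneckerMap_apply,
    Fintype.sum_prod_type, Finset.sum_mul_sum]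
  apply Finset.sum_congr rfl
  intro a _
  apply Finset.sum_congr rfl
  intro b _
  ring

/-- the elements of the tensor product subgroup act through a Kronecker product -/
lemma exists_of_mem_tensorProductSubgroup {e : ι ≃ Fin n₁ × Fin n₂} {P : GL ι F} {g : GL ι F}
    (hg : g ∈ Cfsg.Geo.tensorProductSubgroup n₁ n₂ e P) :
    ∃ (A : GL (Fin n₁) F) (B : GL (Fin n₂) F), ∀ x : Fin n₁ × Fin n₂ → F,
      (g : Matrix ι ι F) *ᵥ tensPhi e P x =
        tensPhi e P (((A : Matrix (Fin n₁) (Fin n₁) F) ⊗ₖ (B : Matrix (Fin n₂) (Fin n₂) F)) *ᵥ x) := by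
  unfold Cfsg.Geo.tensorProductSubgroup at hg
  rw [Subgroup.mem_map] at hg
  obtain ⟨h, hh, rfl⟩ := hg
  rw [Subgroup.mem_map] at hh
  obtain ⟨k, hk, rfl⟩ := hh
  obtain ⟨A, B, hAB⟩ := hk
  refine ⟨A, B, fun x => ?_⟩
  rw [tensPhi_apply, tensPhi_apply, ← hAB]
  have h1 : ((MulAut.conj P).toMonoidHom ((Cfsg.Geo.glReindex e.symm).toMonoidHom k) : GL ι F) =
      P * (Cfsg.Geo.glReindex e.symm k) * P⁻¹ := rfl
  rw [h1, Units.val_mul, Units.val_mul, ← Matrix.mulVec_mulVec, ← Matrix.mulVec_mulVec,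
    Matrix.mulVec_mulVec (x ∘ e), ← Units.val_mul, inv_mul_cancel, Units.val_one,
    Matrix.one_mulVec]
  congr 1
  have h2 : ((Cfsg.Geo.glReindex e.symm k : GL ι F) : Matrix ι ι F) =
      (k : Matrix (Fin n₁ × Fin n₂) (Fin n₁ × Fin n₂) F).submatrix e e := rfl
  rw [h2, Matrix.submatrix_mulVec_equiv]
  congr 2
  ext a
  simp

/-- the tensor product of two Gram matrices on pure tensors -/
lemma formOfGram_kronecker_pureT (σ : F → F) (hσ : ∀ a b, σ (a * b) = σ a * σ b)
    (G₁ : Matrix (Fin n₁) (Fin n₁) F) (G₂ : Matrix (Fin n₂) (Fin n₂) F)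
    (u u' : Fin n₁ → F) (w w' : Fin n₂ → F) :
    Cfsg.Geo.formOfGram σ (G₁ ⊗ₖ G₂) (pureT u w) (pureT u' w') =
      Cfsg.Geo.formOfGram σ G₁ u u' * Cfsg.Geo.formOfGram σ G₂ w w' := by
  simp only [Cfsg.Geo.formOfGram, pureT_apply, Matrix.kroneckerMap_apply, Fintype.sum_prod_type,
    hσ, Finset.sum_mul_sum]
  apply Finset.sum_congr rfl
  intro a _
  apply Finset.sum_congr rfl
  intro b _
  apply Finset.sum_congr rfl
  intro a' _
  apply Finset.sum_congr rfl
  intro b' _
  ring

/-- a bilinear form is the form of its Gram matrix -/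
lemma formOfGram_gramMatrix {n : ℕ} {f : (Fin n → F) → (Fin n → F) → F}
    (hf : Cfsg.Geo.IsBilinearForm f) (x y : Fin n → F) :
    Cfsg.Geo.formOfGram id (Cfsg.Geo.gramMatrix f) x y = f x y := by
  have hsumL : ∀ (s : Finset (Fin n)) (g : Fin n → Fin n → F) (v : Fin n → F),
      f (∑ a ∈ s, g a) v = ∑ a ∈ s, f (g a) v := by
    intro s g v
    induction s using Finset.induction_on with
    | empty =>
      simp only [Finset.sum_empty]
      have := hf.smul_left 0 0 v
      simpa using this
    | insert a s ha ih => rw [Finset.sum_insert ha, Finset.sum_insert ha, hf.add_left, ih]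
  have hsumR : ∀ (s : Finset (Fin n)) (g : Fin n → Fin n → F) (v : Fin n → F),
      f v (∑ a ∈ s, g a) = ∑ a ∈ s, f v (g a) := by
    intro s g v
    induction s using Finset.induction_on with
    | empty =>
      simp only [Finset.sum_empty]
      have := hf.smul_right 0 v 0
      simpa using this
    | insert a s ha ih => rw [Finset.sum_insert ha, Finset.sum_insert ha, hf.add_right, ih]
  have hx : x = ∑ a, x a • (Pi.single a 1 : Fin n → F) := by
    ext i
    simp [Finset.sum_apply, Pi.single_apply]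
  have hy : y = ∑ a, y a • (Pi.single a 1 : Fin n → F) := by
    ext i
    simp [Finset.sum_apply, Pi.single_apply]
  conv_rhs => rw [hx, hsumL]
  unfold Cfsg.Geo.formOfGram Cfsg.Geo.gramMatrix
  apply Finset.sum_congr rfl
  intro a _
  rw [hf.smul_left]
  conv_rhs => rw [hy, hsumR]
  rw [Finset.mul_sum]
  apply Finset.sum_congr rfl
  intro b _
  rw [hf.smul_right]
  simp only [id]
  ring

end Cfsg.Agent.Lib.Helper94
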