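/-
Helper94: bridge to the Prelude vocabulary: maximality in `Ω` of the stabiliser of a non-degenerate
subspace, odd characteristic.
-/
import Mathlib
import Cfsg.Prelude.Def_GeometricClasses
import Cfsg.Agent.Lib.Helper94.OmegaSubOdd2
import Cfsg.Agent.Lib.Helper94.OrthBridge

set_option autoImplicit false
set_option linter.unusedSimpArgs false
set_option linter.unusedSectionVars false
set_option linter.unusedVariables false

namespace Cfsg.Agent.Lib.Helper94

open scoped MatrixGroups Matrix
open LinearMap (BilinForm)
open scoped commutatorElement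
open Module

/-- a finite field of odd order has `2 ≠ 0` -/
lemma two_ne_zero_of_odd_card {F : Type*} [Field F] [Fintype F] (hodd : Odd (Fintype.card F)) :
    (2 : F) ≠ 0 := by
  intro h2
  have h1 : ringChar F ∣ 2 := ringChar.dvd (by exact_mod_cast h2)
  have h3 : ringChar F = 2 := by
    rcases (Nat.dvd_prime Nat.prime_two).1 h1 with h | h
    · exact absurd h CharP.ringChar_ne_one
    · exact h
  have := FiniteField.even_card_of_char_two h3
  rcases hodd with ⟨k, hk⟩
  omega

/-- a field of odd characteristic with more than three elements has a non-zero element whose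
square is not one -/
lemma exists_sq_ne_one {F : Type*} [Field F] [Fintype F] (h2 : (2 : F) ≠ 0)
    (h3 : Fintype.card F ≠ 3) : ∃ l : F, l ≠ 0 ∧ l ^ 2 ≠ 1 := by
  classical
  by_contra hcon
  push Not at hcon
  have hall : ∀ l : F, l ∈ ({0, 1, -1} : Finset F) := by
    intro l
    by_cases hl : l = 0
    · simp [hl]
    · have h1 := hcon l hl
      have h4 : (l - 1) * (l + 1) = 0 := by linear_combination h1
      rcases mul_eq_zero.1 h4 with h5 | h5
      · have : l = 1 := by linear_combination h5
        simp [this]
      · have : l = -1 := by linear_combination h5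
        simp [this]
  have hle : Fintype.card F ≤ 3 := by
    calc Fintype.card F = (Finset.univ : Finset F).card := rfl
      _ ≤ ({0, 1, -1} : Finset F).card := Finset.card_le_card (fun l _ => hall l)
      _ ≤ 3 := Finset.card_le_three
  have hgt : 1 < Fintype.card F := Fintype.one_lt_card
  have hne2 : Fintype.card F ≠ 2 := by
    intro h
    apply h2
    have := Nat.cast_card_eq_zero F
    rw [h] at this
    exact_mod_cast this
  omega

variable {ι : Type} [Fintype ι] [DecidableEq ι] {F : Type*} [Field F] [Fintype F]

/-- **Maximality in `Ω` of the stabiliser of a non-degenerate subspace**, odd characteristic,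
dimension at least thirteen. -/
theorem subspaceStabilizer_isMaximalIn_odd {Q : (ι → F) → F}
    (hQ : Cfsg.Geo.IsNondegenerateQuadraticForm Q) (h2 : (2 : F) ≠ 0)
    (hn : 13 ≤ Fintype.card ι) (W : Submodule F (ι → F)) (hW0 : W ≠ ⊥) (hW1 : W ≠ ⊤)
    (hW : Cfsg.Geo.IsNondegenerateOn (QuadraticMap.polar Q) W)
    (hswap : finrank F W = finrank F ((polarBilin hQ).orthogonal W) →
      ∀ g ∈ OG Q, ¬ (∀ w ∈ W, g w ∈ (polarBilin hQ).orthogonal W))
    (hex : Fintype.card F = 3 → ∀ P : Submodule F (ι → F),
      (P = W ∨ P = (polarBilin hQ).orthogonal W) → finrank F P = 2 →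
      ¬ Cfsg.Geo.IsPlusTypeOn Q P) :
    Cfsg.Geo.IsMaximalIn (Cfsg.Geo.omegaGL Q)
      (Cfsg.Geo.subspaceStabilizer W ⊓ Cfsg.Geo.omegaGL Q) := by
  classical
  have hD := quadData_polarBilin hQ
  have hnd := nondeg_polarBilin hQ
  have hWnd : ∀ p ∈ W, (∀ p' ∈ W, polarBilin hQ p p' = 0) → p = 0 := by
    intro p hp h
    by_contra h0
    obtain ⟨x, hx, hx0⟩ := (hW p hp h0).2
    exact hx0 (h x hx)
  have hfrV : finrank F (ι → F) = Fintype.card ι := Module.finrank_fintype_fun_eq_card F
  apply isMaximalIn_of_map (glEquiv ι F)
  rw [map_inf_equiv, map_subspaceStabilizer, map_omegaGL]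
  apply hD.stabSub_isMaximalIn_odd_auto hnd h2 (by rw [hfrV]; exact hn) W hWnd hW0 hW1 hswap
  by_cases hq3 : Fintype.card F = 3
  · right
    intro P hP t ht b hb hQt hQb htb
    have hPnd : ∀ p ∈ P, (∀ p' ∈ P, polarBilin hQ p p' = 0) → p = 0 := by
      rcases hP with rfl | rfl
      · exact hWnd
      · exact hD.orth_nondeg hnd W hWnd
    have hQb0 : Q b ≠ 0 := by rw [hQb]; exact neg_ne_zero.2 hQt
    by_cases hx : ∃ x ∈ P, x ∉ Submodule.span F {t, b}
    · obtain ⟨x, hxP, hxs⟩ := hx
      exact hD.exists_nonsingular_orth_pair_in h2 P hPnd ht hb hQt hQb0 htb hxP hxs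
    · exfalso
      push Not at hx
      have hPeq : P = Submodule.span F {t, b} := by
        apply le_antisymm hx
        rw [Submodule.span_le]
        intro v hv
        rcases hv with rfl | hv
        · exact ht
        · rw [Set.mem_singleton_iff] at hv
          rw [hv]; exact hb
      have hli : LinearIndependent F ![t, b] := by
        rw [LinearIndependent.pair_iff]
        intro s r hsr
        have h1 : polarBilin hQ (s • t + r • b) t = 0 := by
          rw [hsr, map_zero, LinearMap.zero_apply]
        have h3 : polarBilin hQ (s • t + r • b) b = 0 := by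
          rw [hsr, map_zero, LinearMap.zero_apply]
        rw [map_add, map_smul, map_smul, LinearMap.add_apply, LinearMap.smul_apply,
          LinearMap.smul_apply, hD.self, hD.symm b t, htb, smul_zero, add_zero, smul_eq_mul] at h1
        rw [map_add, map_smul, map_smul, LinearMap.add_apply, LinearMap.smul_apply,
          LinearMap.smul_apply, hD.self, htb, smul_zero, zero_add, smul_eq_mul] at h3
        constructor
        · rcases mul_eq_zero.1 h1 with h | h
          · exact h
          · exact absurd h (mul_ne_zero h2 hQt)
        · rcases mul_eq_zero.1 h3 with h | h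
          · exact h
          · exact absurd h (mul_ne_zero h2 hQb0)
      have hfrP : finrank F P = 2 := by
        have hfs := finrank_span_eq_card hli
        rw [Fintype.card_fin] at hfs
        have hrange : Set.range ![t, b] = {t, b} := by
          simp
          exact Set.pair_comm b t
        rw [hrange] at hfs
        rw [hPeq]
        exact hfs
      apply hex hq3 P hP hfrP
      have htb0 : t + b ≠ 0 := by
        intro h
        have h1 := hli
        rw [LinearIndependent.pair_iff] at h1
        have := (h1 1 1 (by rw [one_smul, one_smul]; exact h)).1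
        exact one_ne_zero this
      refine ⟨Submodule.span F {t + b}, ?_, ?_, ?_⟩
      · rw [Submodule.span_le]
        intro v hv
        rw [Set.mem_singleton_iff] at hv
        rw [hv]
        exact P.add_mem ht hb
      · intro v hv
        obtain ⟨c, rfl⟩ := Submodule.mem_span_singleton.1 hv
        rw [hD.smul, hD.polar, hQb, htb]
        ring
      · rw [finrank_span_singleton htb0, hfrP]
  · left
    exact exists_sq_ne_one h2 hq3

end Cfsg.Agent.Lib.Helper94
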