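/-
Helper94: characteristic two: good subspaces, irreducibility of a non-degenerate subspace under its
stabiliser in `Ω` (via Witt's lemma), and maximality in `Ω` of the stabiliser of a non-degenerate
subspace.
-/
import Mathlib
import Cfsg.Prelude.Def_GeometricClasses
import Cfsg.Agent.Lib.Helper94.OmegaSubOdd2

set_option autoImplicit false
set_option linter.unusedSimpArgs false
set_option linter.unusedSectionVars false
set_option linter.unusedVariables false

namespace Cfsg.Agent.Lib.Helper94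

open LinearMap (BilinForm)
open scoped commutatorElement
open Module

variable {K V : Type*} [Field K] [AddCommGroup V] [Module K V]

namespace QuadData

variable {B : BilinForm K V} {Q : V → K}

/-- two non-orthogonal vectors in the kernel of a linear map of small rank -/
lemma exists_pair_ker [FiniteDimensional K V] (hQ : QuadData B Q)
    (hnd : ∀ x, (∀ y, B x y = 0) → x = 0) {m : ℕ} (f : V →ₗ[K] (Fin m → K))
    (hdim : 2 * m < finrank K V) : ∃ x y : V, f x = 0 ∧ f y = 0 ∧ B x y ≠ 0 := by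
  by_contra hcon
  push Not at hcon
  have hle : LinearMap.ker f ≤ B.orthogonal (LinearMap.ker f) := by
    intro x hx
    rw [LinearMap.BilinForm.mem_orthogonal_iff]
    intro y hy
    exact hcon y x (LinearMap.mem_ker.1 hy) (LinearMap.mem_ker.1 hx)
  have h1 := Submodule.finrank_mono hle
  rw [LinearMap.BilinForm.finrank_orthogonal (hQ.nondegenerate_of hnd)] at h1
  have h2 := LinearMap.finrank_range_add_finrank_ker f
  have h3 : finrank K (LinearMap.range f) ≤ m := by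
    have := Submodule.finrank_le (LinearMap.range f)
    rwa [Module.finrank_fin_fun] at this
  omega

/-- non-degenerate subspaces of dimension at least seven in characteristic two are good -/
lemma goodSub_of_char2 [CharP K 2] [FiniteDimensional K V] (hQ : QuadData B Q)
    (hsq : ∀ a : K, IsSquare a) (P : Submodule K V)
    (hP : ∀ p ∈ P, (∀ p' ∈ P, B p p' = 0) → p = 0) (hdim : 7 ≤ finrank K P) :
    GoodSub hQ P := by
  have h2 : (2 : K) = 0 := CharTwo.two_eq_zero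
  have hndP : ∀ x : P, (∀ y : P, B.restrict P x y = 0) → x = 0 := by
    intro x hx
    have := hP x x.2 (fun p' hp' => hx ⟨p', hp'⟩)
    exact Subtype.ext this
  refine ⟨hP, ?_, ?_⟩
  · intro y₁ y₂ e₀ he₀ γ
    obtain ⟨z, hz, hfz⟩ := (hQ.restrict P).exists_nonsingular_ker hndP
      (LinearMap.pi ![(B.flip y₁).comp P.subtype, (B.flip y₂).comp P.subtype,
        (B.flip e₀).comp P.subtype]) (by omega)
    have h11 : B (z : V) y₁ = 0 := by
      have := congrFun hfz 0
      simpa using this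
    have h12 : B (z : V) y₂ = 0 := by
      have := congrFun hfz 1
      simpa using this
    have h13 : B (z : V) e₀ = 0 := by
      have := congrFun hfz 2
      simpa using this
    have hz' : Q (z : V) ≠ 0 := hz
    obtain ⟨s, hs⟩ := hsq ((γ - Q e₀) / Q (z : V))
    refine ⟨e₀ + s • (z : V), P.add_mem he₀ (P.smul_mem _ z.2), ?_, ?_, ?_⟩
    · rw [map_add, LinearMap.add_apply, map_smul, LinearMap.smul_apply, h11, smul_zero, add_zero]
    · rw [map_add, LinearMap.add_apply, map_smul, LinearMap.smul_apply, h12, smul_zero, add_zero]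
    · rw [hQ.polar, hQ.smul, map_smul, hQ.symm e₀, h13, smul_zero, add_zero, pow_two, ← hs]
      field_simp
      ring
  · intro u hu hu0
    obtain ⟨x, y, hx, hy, hxy⟩ := (hQ.restrict P).exists_pair_ker hndP
      (LinearMap.pi ![(B.flip u).comp P.subtype]) (by omega)
    have h11 : B (x : V) u = 0 := by
      have := congrFun hx 0
      simpa using this
    have h12 : B (y : V) u = 0 := by
      have := congrFun hy 0
      simpa using this
    have hxy' : B (x : V) (y : V) ≠ 0 := hxy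
    have hyx : B (y : V) (x : V) ≠ 0 := by rw [hQ.symm]; exact hxy'
    refine ⟨(x : V), x.2, (B (y : V) (x : V))⁻¹ • (y : V), P.smul_mem _ y.2, h11, ?_, ?_⟩
    · rw [map_smul, LinearMap.smul_apply, h12, smul_zero]
    · rw [map_smul, LinearMap.smul_apply, smul_eq_mul, inv_mul_cancel₀ hyx]

/-- **Irreducibility** of a non-degenerate subspace under its stabiliser in `Ω`
(characteristic two). -/
theorem eq_of_invariant_char2 [CharP K 2] [FiniteDimensional K V] (hQ : QuadData B Q)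
    (hnd : ∀ x, (∀ y, B x y = 0) → x = 0) (hsq : ∀ a : K, IsSquare a)
    (hF : (∀ a b : K, ∃ x : K, x ≠ a ∧ x ≠ b) ∨ Module.finrank K V ≠ 4)
    (W U : Submodule K V) (horth : ∀ w ∈ W, ∀ u ∈ U, B w u = 0) (hsup : W ⊔ U = ⊤)
    (hW : ∀ p ∈ W, (∀ p' ∈ W, B p p' = 0) → p = 0)
    (hU : ∀ p ∈ U, (∀ p' ∈ U, B p p' = 0) → p = 0) (hXU : ∃ b ∈ U, Q b ≠ 0)
    (hq : (∀ a b : K, ∃ x : K, x ≠ a ∧ x ≠ b) ∨
      (∀ x ∈ W, x ≠ 0 → Q x = 0 → ∃ b ∈ W, Q b ≠ 0 ∧ B x b = 0))
    (T : Submodule K V) (hTW : T ≤ W) (hT0 : T ≠ ⊥)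
    (hTH : ∀ h ∈ stabSub W ⊓ ⁅OG Q, OG Q⁆, ∀ t ∈ T, h t ∈ T) : T = W := by
  have h2 : (2 : K) = 0 := CharTwo.two_eq_zero
  have horth' : ∀ u ∈ U, ∀ w ∈ W, B u w = 0 := fun u hu w hw => by
    rw [hQ.symm]; exact horth w hw u hu
  have hsup' : U ⊔ W = ⊤ := by rw [sup_comm]; exact hsup
  have hWU0 : ∀ x, x ∈ W → x ∈ U → x = 0 := by
    intro x hxW hxU
    exact hW x hxW (fun p' hp' => horth' x hxU p' hp')
  obtain ⟨b₀, hb₀, hQb₀⟩ := hXU
  -- Witt's lemma inside the stabiliser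
  have hwitt : ∀ w ∈ W, ∀ w' ∈ W, w ≠ 0 → w' ≠ 0 → Q w = Q w' →
      ∃ h ∈ stabSub W ⊓ ⁅OG Q, OG Q⁆, h w = w' := by
    intro w hw w' hw' hw0 hw'0 hQww'
    obtain ⟨g, hgO, hgfix, hgw⟩ := hQ.exists_isometry_fixing hnd U
      (fun h => hw0 (hWU0 w hw h)) (fun h => hw'0 (hWU0 w' hw' h)) hQww'
      (fun h hh => horth' h hh _ (W.sub_mem hw' hw))
    have hgsU : g ∈ stabSub U :=
      mem_stabSub_of_map_eq (map_eq_of_map_le (fun x hx => by rw [hgfix x hx]; exact hx) rfl)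
    have hgsW : g ∈ stabSub W := by
      apply mem_stabSub_of_map_eq (map_eq_of_map_le _ rfl)
      intro x hx
      exact hQ.map_mem_of_stabSub U W horth' hsup' hU hgO hgsU hx
    rcases hQ.mem_commutator_or_mul_refl hnd hF hsq hgO b₀ hQb₀ with h | h
    · exact ⟨g, ⟨hgsW, h⟩, hgw⟩
    · refine ⟨g * hQ.refl b₀ hQb₀, ⟨mul_mem hgsW ?_, h⟩, ?_⟩
      · apply mem_stabSub_of_map_eq (map_eq_of_map_le _ rfl)
        intro x hx
        rw [hQ.refl_apply_of_orth b₀ hQb₀ (horth x hx b₀ hb₀)]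
        exact hx
      · rw [LinearEquiv.mul_apply, hQ.refl_apply_of_orth b₀ hQb₀ (horth w hw b₀ hb₀), hgw]
  have hsame : ∀ t ∈ T, t ≠ 0 → ∀ w' ∈ W, w' ≠ 0 → Q w' = Q t → w' ∈ T := by
    intro t ht ht0 w' hw' hw'0 hQ'
    obtain ⟨h, hh, hht⟩ := hwitt t (hTW ht) w' hw' ht0 hw'0 hQ'.symm
    rw [← hht]
    exact hTH h hh t ht
  -- step A
  obtain ⟨t₁, ht₁, hQt₁⟩ : ∃ t₁ ∈ T, Q t₁ ≠ 0 := by
    obtain ⟨t, ht, ht0⟩ := (Submodule.ne_bot_iff T).1 hT0
    by_cases hQt : Q t = 0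
    · obtain ⟨y, hy, hyt⟩ := hQ.exists_prod_ne_zero_in W hW (hTW ht) ht0
      obtain ⟨y', hy'def⟩ : ∃ y' : V, y' = (B y t)⁻¹ • y := ⟨_, rfl⟩
      have hy'W : y' ∈ W := by rw [hy'def]; exact W.smul_mem _ hy
      have hy't : B y' t = 1 := by
        rw [hy'def, map_smul, LinearMap.smul_apply, smul_eq_mul, inv_mul_cancel₀ hyt]
      have hty' : B t y' = 1 := by rw [hQ.symm]; exact hy't
      have htt : B t t = 0 := by rw [hQ.self, hQt, mul_zero]
      obtain ⟨f, hfdef⟩ : ∃ f : V, f = y' + Q y' • t := ⟨_, rfl⟩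
      have hfW : f ∈ W := by rw [hfdef]; exact W.add_mem hy'W (W.smul_mem _ (hTW ht))
      have hQf : Q f = 0 := by
        rw [hfdef, hQ.polar, hQ.smul, hQt, map_smul, hy't, smul_eq_mul]
        linear_combination Q y' * h2
      have htf : B t f = 1 := by
        rw [hfdef, map_add, map_smul, htt, smul_zero, add_zero, hty']
      have hf0 : f ≠ 0 := by
        rintro rfl
        rw [map_zero] at htf
        exact zero_ne_one htf
      have hfT : f ∈ T := hsame t ht ht0 f hfW hf0 (by rw [hQf, hQt])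
      refine ⟨t + f, T.add_mem ht hfT, ?_⟩
      rw [hQ.polar, hQt, hQf, htf]
      simp
    · exact ⟨t, ht, hQt⟩
  have ht₁0 : t₁ ≠ 0 := by
    rintro rfl
    exact hQt₁ hQ.zero
  -- step B
  have stepB : ∀ x ∈ W, Q x ≠ 0 → x ∈ T := by
    intro x hx hQx
    obtain ⟨s, hs⟩ := hsq (Q t₁ / Q x)
    have hs0 : s ≠ 0 := by
      rintro rfl
      rw [mul_zero] at hs
      exact (div_ne_zero hQt₁ hQx) hs
    have h1 : Q (s • x) = Q t₁ := by
      rw [hQ.smul, pow_two, ← hs]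
      field_simp
    have h3 : s • x ∈ T := hsame t₁ ht₁ ht₁0 (s • x) (W.smul_mem _ hx)
      (smul_ne_zero hs0 (by rintro rfl; exact hQx hQ.zero)) h1
    have := T.smul_mem s⁻¹ h3
    rwa [smul_smul, inv_mul_cancel₀ hs0, one_smul] at this
  -- step C
  apply le_antisymm hTW
  intro x hx
  by_cases hQx : Q x = 0
  · by_cases hx0 : x = 0
    · rw [hx0]; exact T.zero_mem
    rcases hq with hq | hq
    · obtain ⟨b, hb, hQb, hxb⟩ := hQ.exists_nonsingular_prod_ne_zero_in W hW hx hx0 hQx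
      obtain ⟨l, hl0, hl1⟩ := hq 0 (-(B x b / Q b))
      have h1 : Q (x + l • b) ≠ 0 := by
        rw [hQ.polar, hQx, hQ.smul, map_smul, smul_eq_mul, zero_add]
        have : l ^ 2 * Q b + l * B x b = l * Q b * (l + B x b / Q b) := by
          field_simp
        rw [this]
        refine mul_ne_zero (mul_ne_zero hl0 hQb) ?_
        intro h
        apply hl1
        linear_combination h
      have h3 := stepB (x + l • b) (W.add_mem hx (W.smul_mem _ hb)) h1
      have h4 := T.smul_mem l (stepB b hb hQb)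
      have := T.sub_mem h3 h4
      rwa [add_sub_cancel_right] at this
    · obtain ⟨b, hb, hQb, hxb⟩ := hq x hx hx0 hQx
      have h1 : Q (x + b) ≠ 0 := by
        rw [hQ.polar, hQx, hxb, zero_add, add_zero]; exact hQb
      have h3 := stepB (x + b) (W.add_mem hx hb) h1
      have := T.sub_mem h3 (stepB b hb hQb)
      rwa [add_sub_cancel_right] at this
  · exact stepB x hx hQx

/-- **Maximality** of the stabiliser in `Ω` of a non-degenerate subspace, characteristic two. -/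
theorem stabSub_isMaximalIn_even [CharP K 2] [FiniteDimensional K V] (hQ : QuadData B Q)
    (hnd : ∀ x, (∀ y, B x y = 0) → x = 0) (hsq : ∀ a : K, IsSquare a) (W U : Submodule K V)
    (horth : ∀ w ∈ W, ∀ u ∈ U, B w u = 0) (hsup : W ⊔ U = ⊤)
    (hW : ∀ p ∈ W, (∀ p' ∈ W, B p p' = 0) → p = 0) (hW0 : W ≠ ⊥)
    (hU : ∀ p ∈ U, (∀ p' ∈ U, B p p' = 0) → p = 0) (hdU : 7 ≤ finrank K U)
    (hns : ∀ g ∈ OG Q, ¬ (∀ u ∈ U, g u ∈ W))
    (hq : (∀ a b : K, ∃ x : K, x ≠ a ∧ x ≠ b) ∨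
      (∀ x ∈ W, x ≠ 0 → Q x = 0 → ∃ b ∈ W, Q b ≠ 0 ∧ B x b = 0)) :
    Cfsg.Geo.IsMaximalIn ⁅OG Q, OG Q⁆ (stabSub W ⊓ ⁅OG Q, OG Q⁆) := by
  have hdV : 7 ≤ finrank K V := le_trans hdU (Submodule.finrank_le U)
  have hF : (∀ a b : K, ∃ x : K, x ≠ a ∧ x ≠ b) ∨ Module.finrank K V ≠ 4 := Or.inr (by omega)
  have hUg : GoodSub hQ U := hQ.goodSub_of_char2 hsq U hU hdU
  have hXW : ∃ w ∈ W, Q w ≠ 0 := by
    obtain ⟨t, ht, ht0⟩ := (Submodule.ne_bot_iff W).1 hW0
    by_cases hQt : Q t = 0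
    · obtain ⟨b, hb, hQb, -⟩ := hQ.exists_nonsingular_prod_ne_zero_in W hW ht ht0 hQt
      exact ⟨b, hb, hQb⟩
    · exact ⟨t, ht, hQt⟩
  have hXU : ∃ b ∈ U, Q b ≠ 0 := by
    obtain ⟨b, hb, hQb⟩ := hUg.exists_norm 1
    exact ⟨b, hb, by rw [hQb]; exact one_ne_zero⟩
  apply hQ.stabSub_isMaximalIn' hnd hF W U horth hsup hW hXW hUg hns
  intro T hTW hT0 hTH
  exact hQ.eq_of_invariant_char2 hnd hsq hF W U horth hsup hW hU hXU hq T hTW hT0 hTH

end QuadData

end Cfsg.Agent.Lib.Helper94
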