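/-
Helper94: characteristic two: maximality in `Ω` of the stabiliser of a non-degenerate subspace,
choosing the roles automatically, and the bridge to the Prelude vocabulary (both characteristics).
-/
import Mathlib
import Cfsg.Prelude.Def_GeometricClasses
import Cfsg.Agent.Lib.Helper94.OmegaSubEven
import Cfsg.Agent.Lib.Helper94.OmegaSubBridge

set_option autoImplicit false
set_option linter.unusedSimpArgs false
set_option linter.unusedSectionVars false
set_option linter.unusedVariables false

namespace Cfsg.Agent.Lib.Helper94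

open scoped MatrixGroups Matrix
open LinearMap (BilinForm)
open scoped commutatorElement
open Module

section abstract

variable {K V : Type*} [Field K] [AddCommGroup V] [Module K V]

namespace QuadData

variable {B : BilinForm K V} {Q : V → K}

/-- a non-singular vector orthogonal to a hyperbolic pair, in a non-degenerate subspace of
dimension at least three (characteristic two) -/
lemma exists_nonsingular_orth_hyp_in [CharP K 2] (hQ : QuadData B Q) (P : Submodule K V)
    (hP : ∀ p ∈ P, (∀ p' ∈ P, B p p' = 0) → p = 0) {x y : V} (hx : x ∈ P) (hy : y ∈ P)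
    (hQx : Q x = 0) (hxy : B x y ≠ 0) {z : V} (hz : z ∈ P)
    (hzs : z ∉ Submodule.span K {x, y}) : ∃ b ∈ P, Q b ≠ 0 ∧ B b x = 0 ∧ B b y = 0 := by
  have h2 : (2 : K) = 0 := CharTwo.two_eq_zero
  have hyx : B y x = B x y := hQ.symm y x
  have hxx : B x x = 0 := by rw [hQ.self, hQx, mul_zero]
  have hyy : B y y = 0 := by rw [hQ.self, h2, zero_mul]
  obtain ⟨pr, hpr⟩ : ∃ pr : V → V, ∀ v, pr v = v - (B v y / B x y) • x
      - (B v x / B x y) • y := ⟨_, fun v => rfl⟩
  have hprP : ∀ v ∈ P, pr v ∈ P := by
    intro v hv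
    rw [hpr]
    exact P.sub_mem (P.sub_mem hv (P.smul_mem _ hx)) (P.smul_mem _ hy)
  have hprx : ∀ v, B (pr v) x = 0 := by
    intro v
    rw [hpr]
    simp only [map_sub, map_smul, LinearMap.sub_apply, LinearMap.smul_apply, smul_eq_mul, hxx,
      hyx]
    field_simp
    ring
  have hpry : ∀ v, B (pr v) y = 0 := by
    intro v
    rw [hpr]
    simp only [map_sub, map_smul, LinearMap.sub_apply, LinearMap.smul_apply, smul_eq_mul, hyy]
    field_simp
    ring
  have hz₀0 : pr z ≠ 0 := by
    intro h
    apply hzs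
    rw [hpr] at h
    have hz' : z = (B z y / B x y) • x + (B z x / B x y) • y := by
      have h' := sub_eq_zero.1 h
      have h'' := sub_eq_iff_eq_add.1 h'
      rw [add_comm] at h''
      exact h''
    rw [hz']
    exact Submodule.add_mem _ (Submodule.smul_mem _ _ (Submodule.subset_span (by simp)))
      (Submodule.smul_mem _ _ (Submodule.subset_span (by simp)))
  by_cases hQz₀ : Q (pr z) ≠ 0
  · exact ⟨pr z, hprP z hz, hQz₀, hprx z, hpry z⟩
  push Not at hQz₀
  obtain ⟨y', hy', hy'z⟩ := hQ.exists_prod_ne_zero_in P hP (hprP z hz) hz₀0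
  have hzy : B (pr z) (pr y') ≠ 0 := by
    have : B (pr z) (pr y') = B (pr z) y' := by
      conv_lhs => rw [hpr y']
      simp only [map_sub, map_smul, hprx z, hpry z, smul_zero, sub_zero]
    rw [this, hQ.symm]
    exact hy'z
  by_cases h1 : Q (pr y') = 0
  · refine ⟨pr z + pr y', P.add_mem (hprP z hz) (hprP y' hy'), ?_, ?_, ?_⟩
    · rw [hQ.polar, hQz₀, h1, zero_add, zero_add]; exact hzy
    · rw [map_add, LinearMap.add_apply, hprx, hprx, add_zero]
    · rw [map_add, LinearMap.add_apply, hpry, hpry, add_zero]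
  · exact ⟨pr y', hprP y' hy', h1, hprx y', hpry y'⟩

/-- **Maximality** of the stabiliser in `Ω` of a non-degenerate subspace (characteristic two,
dimension at least thirteen). -/
theorem stabSub_isMaximalIn_even_auto [CharP K 2] [FiniteDimensional K V] (hQ : QuadData B Q)
    (hnd : ∀ x, (∀ y, B x y = 0) → x = 0) (hsq : ∀ a : K, IsSquare a)
    (hdim : 13 ≤ finrank K V)
    (W : Submodule K V) (hW : ∀ p ∈ W, (∀ p' ∈ W, B p p' = 0) → p = 0) (hW0 : W ≠ ⊥)
    (hW1 : W ≠ ⊤)
    (hswap : finrank K W = finrank K (B.orthogonal W) →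
      ∀ g ∈ OG Q, ¬ (∀ w ∈ W, g w ∈ B.orthogonal W))
    (hq : (∀ a b : K, ∃ x : K, x ≠ a ∧ x ≠ b) ∨
      (∀ P : Submodule K V, (P = W ∨ P = B.orthogonal W) →
        ∀ x ∈ P, x ≠ 0 → Q x = 0 → ∃ b ∈ P, Q b ≠ 0 ∧ B x b = 0)) :
    Cfsg.Geo.IsMaximalIn ⁅OG Q, OG Q⁆ (stabSub W ⊓ ⁅OG Q, OG Q⁆) := by
  have hc := hQ.orth_isCompl W hW
  have hfr := Submodule.finrank_add_eq_of_isCompl hc
  have horth : ∀ w ∈ W, ∀ u ∈ B.orthogonal W, B w u = 0 :=
    fun w hw u hu => (mem_orth_iff W u).1 hu w hw
  have horth' : ∀ u ∈ B.orthogonal W, ∀ w ∈ W, B u w = 0 := fun u hu w hw => by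
    rw [hQ.symm]; exact horth w hw u hu
  have hU := hQ.orth_nondeg hnd W hW
  by_cases hle : finrank K W ≤ finrank K (B.orthogonal W)
  · apply hQ.stabSub_isMaximalIn_even hnd hsq W (B.orthogonal W) horth hc.sup_eq_top hW hW0 hU
      (by omega)
    · intro g hg hmap
      have h1 := finrank_le_of_maps hmap
      have heq : finrank K W = finrank K (B.orthogonal W) := le_antisymm hle h1
      have hmapeq := map_eq_of_map_le hmap heq.symm
      apply hswap heq g⁻¹ (inv_mem hg)
      intro w hw
      rw [← hmapeq] at hw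
      obtain ⟨u, hu, rfl⟩ := hw
      have : g⁻¹ (g u) = u := by
        rw [← LinearEquiv.mul_apply, inv_mul_cancel]; rfl
      rw [show ((g : V →ₗ[K] V) u) = g u from rfl, this]
      exact hu
    · rcases hq with hq | hq
      · exact Or.inl hq
      · exact Or.inr (hq W (Or.inl rfl))
  · push Not at hle
    have hU0 : B.orthogonal W ≠ ⊥ := by
      intro h
      apply hW1
      have := hc.sup_eq_top
      rwa [h, sup_bot_eq] at this
    rw [← hQ.stabSub_orth_eq hnd W hW]
    apply hQ.stabSub_isMaximalIn_even hnd hsq (B.orthogonal W) W horth'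
      (by rw [sup_comm]; exact hc.sup_eq_top) hU hU0 hW (by omega)
    · intro g hg hmap
      have h1 := finrank_le_of_maps hmap
      omega
    · rcases hq with hq | hq
      · exact Or.inl hq
      · exact Or.inr (hq (B.orthogonal W) (Or.inr rfl))

end QuadData

end abstract

variable {ι : Type} [Fintype ι] [DecidableEq ι] {F : Type*} [Field F] [Fintype F]

/-- **Maximality in `Ω` of the stabiliser of a non-degenerate subspace**, characteristic two,
dimension at least thirteen. -/
theorem subspaceStabilizer_isMaximalIn_even {Q : (ι → F) → F}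
    (hQ : Cfsg.Geo.IsNondegenerateQuadraticForm Q) (hchar : ringChar F = 2)
    (hn : 13 ≤ Fintype.card ι) (W : Submodule F (ι → F)) (hW0 : W ≠ ⊥) (hW1 : W ≠ ⊤)
    (hW : Cfsg.Geo.IsNondegenerateOn (QuadraticMap.polar Q) W)
    (hswap : finrank F W = finrank F ((polarBilin hQ).orthogonal W) →
      ∀ g ∈ OG Q, ¬ (∀ w ∈ W, g w ∈ (polarBilin hQ).orthogonal W))
    (hex : Fintype.card F = 2 → ∀ P : Submodule F (ι → F),
      (P = W ∨ P = (polarBilin hQ).orthogonal W) → finrank F P = 2 →
      ¬ Cfsg.Geo.IsPlusTypeOn Q P) :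
    Cfsg.Geo.IsMaximalIn (Cfsg.Geo.omegaGL Q)
      (Cfsg.Geo.subspaceStabilizer W ⊓ Cfsg.Geo.omegaGL Q) := by
  classical
  haveI : CharP F 2 := by rw [← hchar]; exact ringChar.charP F
  have hsq : ∀ a : F, IsSquare a := FiniteField.isSquare_of_char_two hchar
  have hD := quadData_polarBilin hQ
  have hnd := nondeg_polarBilin hQ
  have hWnd : ∀ p ∈ W, (∀ p' ∈ W, polarBilin hQ p p' = 0) → p = 0 := by
    intro p hp h
    by_contra h0
    obtain ⟨x, hx, hx0⟩ := (hW p hp h0).2
    exact hx0 (h x hx)
  have hfrV : finrank F (ι → F) = Fintype.card ι := Module.finrank_fintype_fun_eq_card F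
  apply isMaximalIn_of_map (glEquiv ι F)
  rw [map_inf_equiv, map_subspaceStabilizer, map_omegaGL]
  apply hD.stabSub_isMaximalIn_even_auto hnd hsq (by rw [hfrV]; exact hn) W hWnd hW0 hW1 hswap
  by_cases hq2 : Fintype.card F = 2
  · right
    intro P hP x hx hx0 hQx
    have hPnd : ∀ p ∈ P, (∀ p' ∈ P, polarBilin hQ p p' = 0) → p = 0 := by
      rcases hP with rfl | rfl
      · exact hWnd
      · exact hD.orth_nondeg hnd W hWnd
    obtain ⟨y, hy, hyx⟩ := hD.exists_prod_ne_zero_in P hPnd hx hx0
    have hxy : polarBilin hQ x y ≠ 0 := by rw [hD.symm]; exact hyx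
    by_cases hz : ∃ z ∈ P, z ∉ Submodule.span F {x, y}
    · obtain ⟨z, hzP, hzs⟩ := hz
      obtain ⟨b, hb, hQb, hbx, -⟩ :=
        hD.exists_nonsingular_orth_hyp_in P hPnd hx hy hQx hxy hzP hzs
      exact ⟨b, hb, hQb, by rw [hD.symm]; exact hbx⟩
    · exfalso
      push Not at hz
      have hPeq : P = Submodule.span F {x, y} := by
        apply le_antisymm hz
        rw [Submodule.span_le]
        intro v hv
        rcases hv with rfl | hv
        · exact hx
        · rw [Set.mem_singleton_iff] at hv
          rw [hv]; exact hy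
      have hxx : polarBilin hQ x x = 0 := by rw [hD.self, hQx, mul_zero]
      have hli : LinearIndependent F ![x, y] := by
        rw [LinearIndependent.pair_iff]
        intro s r hsr
        have h1 : polarBilin hQ (s • x + r • y) x = 0 := by
          rw [hsr, map_zero, LinearMap.zero_apply]
        rw [map_add, map_smul, map_smul, LinearMap.add_apply, LinearMap.smul_apply,
          LinearMap.smul_apply, hxx, smul_zero, zero_add, smul_eq_mul] at h1
        have hr : r = 0 := by
          rcases mul_eq_zero.1 h1 with h | h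
          · exact h
          · exact absurd h hyx
        rw [hr, zero_smul, add_zero] at hsr
        rcases smul_eq_zero.1 hsr with h | h
        · exact ⟨h, hr⟩
        · exact absurd h hx0
      have hfrP : finrank F P = 2 := by
        have hfs := finrank_span_eq_card hli
        rw [Fintype.card_fin] at hfs
        have hrange : Set.range ![x, y] = {x, y} := by
          simp
          exact Set.pair_comm y x
        rw [hrange] at hfs
        rw [hPeq]
        exact hfs
      apply hex hq2 P hP hfrP
      refine ⟨Submodule.span F {x}, ?_, ?_, ?_⟩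
      · rw [Submodule.span_le]
        intro v hv
        rw [Set.mem_singleton_iff] at hv
        rw [hv]
        exact hx
      · intro v hv
        obtain ⟨c, rfl⟩ := Submodule.mem_span_singleton.1 hv
        rw [hD.smul, hQx, mul_zero]
      · rw [finrank_span_singleton hx0, hfrP]
  · left
    intro a b
    by_contra hcon
    push Not at hcon
    have hall : ∀ l : F, l ∈ ({a, b} : Finset F) := by
      intro l
      by_cases hl : l = a
      · simp [hl]
      · simp [hcon l hl]
    have hle : Fintype.card F ≤ 2 := by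
      calc Fintype.card F = (Finset.univ : Finset F).card := rfl
        _ ≤ ({a, b} : Finset F).card := Finset.card_le_card (fun l _ => hall l)
        _ ≤ 2 := Finset.card_le_two
    have hgt : 1 < Fintype.card F := Fintype.one_lt_card
    omega

/-- **Maximality in `Ω` of the stabiliser of a non-degenerate subspace**, dimension at least
thirteen, any characteristic, with the excluded cases in the form of the Prelude statements. -/
theorem subspaceStabilizer_isMaximalIn {Q : (ι → F) → F}
    (hQ : Cfsg.Geo.IsNondegenerateQuadraticForm Q)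
    (hn : 13 ≤ Fintype.card ι) (W : Submodule F (ι → F)) (hW0 : W ≠ ⊥) (hW1 : W ≠ ⊤)
    (hW : Cfsg.Geo.IsNondegenerateOn (QuadraticMap.polar Q) W)
    (hswap : finrank F W = finrank F ((polarBilin hQ).orthogonal W) →
      ∀ g ∈ OG Q, ¬ (∀ w ∈ W, g w ∈ (polarBilin hQ).orthogonal W))
    (hex : ¬ (Fintype.card F ≤ 3 ∧ (∃ U : Submodule F (ι → F), finrank F U = 2 ∧
      Cfsg.Geo.IsNondegenerateOn (QuadraticMap.polar Q) U ∧ Cfsg.Geo.IsPlusTypeOn Q U ∧
      (U = W ∨ (Cfsg.Geo.AreOrthogonalFor (QuadraticMap.polar Q) U W ∧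
        finrank F U + finrank F W = Fintype.card ι))))) :
    Cfsg.Geo.IsMaximalIn (Cfsg.Geo.omegaGL Q)
      (Cfsg.Geo.subspaceStabilizer W ⊓ Cfsg.Geo.omegaGL Q) := by
  classical
  have hD := quadData_polarBilin hQ
  have hnd := nondeg_polarBilin hQ
  have hWnd : ∀ p ∈ W, (∀ p' ∈ W, polarBilin hQ p p' = 0) → p = 0 := by
    intro p hp h
    by_contra h0
    obtain ⟨x, hx, hx0⟩ := (hW p hp h0).2
    exact hx0 (h x hx)
  have hfrV : finrank F (ι → F) = Fintype.card ι := Module.finrank_fintype_fun_eq_card F
  have hc := hD.orth_isCompl W hWnd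
  have hfr := Submodule.finrank_add_eq_of_isCompl hc
  rw [hfrV] at hfr
  have hex' : Fintype.card F ≤ 3 → ∀ P : Submodule F (ι → F),
      (P = W ∨ P = (polarBilin hQ).orthogonal W) → finrank F P = 2 →
      ¬ Cfsg.Geo.IsPlusTypeOn Q P := by
    intro hq3 P hP hfrP hplus
    apply hex
    refine ⟨hq3, P, hfrP, ?_, hplus, ?_⟩
    · rcases hP with rfl | rfl
      · exact hW
      · intro w hw hw0
        have hU := hD.orth_nondeg hnd W hWnd
        have : ∃ x ∈ (polarBilin hQ).orthogonal W, polarBilin hQ w x ≠ 0 := by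
          by_contra hcon
          push Not at hcon
          exact hw0 (hU w hw hcon)
        obtain ⟨x, hx, hwx⟩ := this
        exact ⟨⟨x, hx, by rw [← polarBilin_apply hQ, hD.symm]; exact hwx⟩,
          ⟨x, hx, by rw [← polarBilin_apply hQ]; exact hwx⟩⟩
    · rcases hP with rfl | rfl
      · left; rfl
      · right
        refine ⟨?_, by rw [add_comm]; exact hfr⟩
        intro u hu v hv
        rw [← polarBilin_apply hQ, hD.symm]
        exact (QuadData.mem_orth_iff W u).1 hu v hv
  rcases Nat.even_or_odd (Fintype.card F) with he | ho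
  · have hchar : ringChar F = 2 := by
      rw [FiniteField.even_card_iff_char_two]
      exact Nat.even_iff.1 he
    exact subspaceStabilizer_isMaximalIn_even hQ hchar hn W hW0 hW1 hW hswap
      (fun h2 => hex' (by omega))
  · exact subspaceStabilizer_isMaximalIn_odd hQ (two_ne_zero_of_odd_card ho) hn W hW0 hW1 hW hswap
      (fun h3 => hex' (by omega))

end Cfsg.Agent.Lib.Helper94
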