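/-
Helper94: if an isometry maps a non-degenerate subspace `W` of even dimension into its orthogonal
complement, then `W ⊕ gW` contains a totally singular subspace of dimension `dim W`.  In particular
in a space of minus type no isometry interchanges the two members of a decomposition into two
orthogonal non-degenerate subspaces of even dimension `n/2`.
-/
import Mathlib
import Cfsg.Prelude.Def_GeometricClasses
import Cfsg.Agent.Lib.Helper94.OmegaSubEven2

set_option autoImplicit false
set_option linter.unusedSimpArgs false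
set_option linter.unusedSectionVars false
set_option linter.unusedVariables false

namespace Cfsg.Agent.Lib.Helper94

open LinearMap (BilinForm)
open Module

section abstract

variable {K V : Type*} [Field K] [AddCommGroup V] [Module K V]

namespace QuadData

variable {B : BilinForm K V} {Q : V → K}

/-- an even-dimensional non-degenerate quadratic space over a finite field of odd order has a
linear endomorphism multiplying the form by `-1` -/
lemma exists_anti_isometry [Finite K] [FiniteDimensional K V] (hQ : QuadData B Q)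
    (hnd : ∀ x, (∀ y, B x y = 0) → x = 0) (h2 : (2 : K) ≠ 0) (hev : Even (finrank K V)) :
    ∃ A : V →ₗ[K] V, ∀ x, Q (A x) = -Q x := by
  classical
  haveI : Invertible (2 : K) := invertibleOfNonzero h2
  have hsymm : LinearMap.IsSymm B := ⟨fun x y => by
    simp only [RingHom.id_apply]
    exact hQ.symm _ _⟩
  obtain ⟨v, hv⟩ := LinearMap.BilinForm.exists_orthogonal_basis hsymm
  obtain ⟨r, hr⟩ := hev
  obtain ⟨b, hb⟩ : ∃ b : Basis (Fin r ⊕ Fin r) K V,
      b = v.reindex ((finCongr hr).trans finSumFinEquiv.symm) := ⟨_, rfl⟩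
  have horth : ∀ i j, i ≠ j → B (b i) (b j) = 0 := by
    intro i j hij
    rw [hb, Module.Basis.reindex_apply, Module.Basis.reindex_apply]
    have hne : ((finCongr hr).trans finSumFinEquiv.symm).symm i ≠
        ((finCongr hr).trans finSumFinEquiv.symm).symm j :=
      fun h => hij (((finCongr hr).trans finSumFinEquiv.symm).symm.injective h)
    exact hv hne
  have hnorm : ∀ i, Q (b i) ≠ 0 := by
    intro i hi
    have hbi : b i = 0 := by
      apply hnd
      intro y
      rw [← b.sum_repr y, map_sum]
      apply Finset.sum_eq_zero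
      intro j _
      rw [map_smul, smul_eq_mul]
      by_cases hij : i = j
      · subst hij
        rw [hQ.self, hi, mul_zero, mul_zero]
      · rw [horth i j hij, mul_zero]
    exact b.ne_zero i hbi
  have hB : ∀ i i', B (b i) (b i') = if i = i' then 2 * Q (b i) else 0 := by
    intro i i'
    by_cases h : i = i'
    · subst h
      rw [if_pos rfl, hQ.self]
    · rw [if_neg h, horth i i' h]
  have hcoef : ∀ j : Fin r, ∃ x y : K,
      Q (b (Sum.inl j)) * x ^ 2 + Q (b (Sum.inr j)) * y ^ 2 = -Q (b (Sum.inl j)) := by
    intro j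
    obtain ⟨x, y, h⟩ := exists_quadratic_sum h2 (hnorm (Sum.inl j)) (hnorm (Sum.inr j)) 0 0
      (-Q (b (Sum.inl j)))
    exact ⟨x, y, by linear_combination h⟩
  choose x y hxy using hcoef
  obtain ⟨f, hf⟩ : ∃ f : Fin r ⊕ Fin r → V, f = fun i =>
      Sum.elim (fun j => x j • b (Sum.inl j) + y j • b (Sum.inr j))
        (fun j => (-(Q (b (Sum.inr j))) * y j / Q (b (Sum.inl j))) • b (Sum.inl j)
          + x j • b (Sum.inr j)) i := ⟨_, rfl⟩
  obtain ⟨A, hAdef⟩ : ∃ A : V →ₗ[K] V, A = b.constr K f := ⟨_, rfl⟩
  have hA : ∀ i, A (b i) = f i := by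
    intro i
    rw [hAdef]
    exact b.constr_basis K f i
  have key : ∀ i i', B (A (b i)) (A (b i')) = -B (b i) (b i') := by
    intro i i'
    rw [hA, hA, hf]
    rcases i with j | j <;> rcases i' with j' | j'
    · simp only [Sum.elim_inl, map_add, map_smul, LinearMap.add_apply, LinearMap.smul_apply, hB,
        smul_eq_mul, Sum.inl.injEq, Sum.inr.injEq, reduceCtorEq, if_false]
      by_cases hjj : j = j'
      · subst hjj
        simp only [if_true]
        linear_combination 2 * hxy j
      · simp only [if_neg hjj]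
        ring
    · simp only [Sum.elim_inl, Sum.elim_inr, map_add, map_smul, LinearMap.add_apply,
        LinearMap.smul_apply, hB, smul_eq_mul, Sum.inl.injEq, Sum.inr.injEq, reduceCtorEq,
        if_false]
      by_cases hjj : j = j'
      · subst hjj
        simp only [if_true]
        have := hnorm (Sum.inl j)
        field_simp
        ring
      · simp only [if_neg hjj]
        ring
    · simp only [Sum.elim_inl, Sum.elim_inr, map_add, map_smul, LinearMap.add_apply,
        LinearMap.smul_apply, hB, smul_eq_mul, Sum.inl.injEq, Sum.inr.injEq, reduceCtorEq,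
        if_false]
      by_cases hjj : j = j'
      · subst hjj
        simp only [if_true]
        have := hnorm (Sum.inl j)
        field_simp
        ring
      · simp only [if_neg hjj]
        ring
    · simp only [Sum.elim_inr, map_add, map_smul, LinearMap.add_apply, LinearMap.smul_apply, hB,
        smul_eq_mul, Sum.inl.injEq, Sum.inr.injEq, reduceCtorEq, if_false]
      by_cases hjj : j = j'
      · subst hjj
        simp only [if_true]
        have := hnorm (Sum.inl j)
        field_simp
        linear_combination (2 * Q (b (Sum.inr j))) * hxy j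
      · simp only [if_neg hjj]
        ring
  have hform : B.compl₁₂ A A = -B := by
    apply LinearMap.BilinForm.ext_basis b
    intro i j
    rw [LinearMap.compl₁₂_apply, key]
    rfl
  refine ⟨A, fun z => ?_⟩
  have h1 : B (A z) (A z) = -B z z := by
    have := congrArg (fun F : BilinForm K V => F z z) hform
    simpa [LinearMap.compl₁₂_apply] using this
  rw [hQ.self, hQ.self] at h1
  have h3 : (2 : K) * (Q (A z) + Q z) = 0 := by linear_combination h1
  rcases mul_eq_zero.1 h3 with h | h
  · exact absurd h h2
  · linear_combination h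

/-- a totally singular subspace of dimension `dim W` in `W ⊕ gW` -/
lemma exists_ts_of_maps [FiniteDimensional K V] (hQ : QuadData B Q) (W U : Submodule K V)
    (horth : ∀ w ∈ W, ∀ u ∈ U, B w u = 0)
    (hW : ∀ p ∈ W, (∀ p' ∈ W, B p p' = 0) → p = 0) {g : V ≃ₗ[K] V} (hg : g ∈ OG Q)
    (hmap : ∀ w ∈ W, g w ∈ U) (A : W →ₗ[K] W) (hA : ∀ x : W, Q ((A x : W) : V) = -Q (x : V)) :
    ∃ S : Submodule K V, (∀ s ∈ S, Q s = 0) ∧ finrank K S = finrank K W := by
  obtain ⟨Φ, hΦ⟩ : ∃ Φ : W →ₗ[K] V,
      Φ = W.subtype + (g : V →ₗ[K] V).comp (W.subtype.comp A) := ⟨_, rfl⟩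
  have hΦa : ∀ w : W, Φ w = (w : V) + g ((A w : W) : V) := by
    intro w
    rw [hΦ]
    rfl
  refine ⟨LinearMap.range Φ, ?_, ?_⟩
  · rintro s ⟨w, rfl⟩
    rw [hΦa, hQ.polar, hg, hA, horth _ w.2 _ (hmap _ (A w).2)]
    ring
  · apply LinearMap.finrank_range_of_inj
    intro w w' hww'
    have h0 : Φ (w - w') = 0 := by rw [map_sub, hww', sub_self]
    rw [hΦa] at h0
    have h1 : ((w - w' : W) : V) = -g ((A (w - w') : W) : V) :=
      eq_neg_of_add_eq_zero_left h0
    have h3 : ((w - w' : W) : V) ∈ U := by
      rw [h1]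
      exact U.neg_mem (hmap _ (A (w - w')).2)
    have h4 : ((w - w' : W) : V) = 0 := by
      apply hW _ (w - w').2
      intro p' hp'
      rw [hQ.symm]
      exact horth p' hp' _ h3
    have h5 : w - w' = 0 := Subtype.ext h4
    exact sub_eq_zero.1 h5

end QuadData

end abstract

variable {ι : Type} [Fintype ι] [DecidableEq ι] {F : Type*} [Field F] [Fintype F]

/-- **In a space of minus type no isometry maps a non-degenerate subspace of even dimension `n/2`
into its orthogonal complement.** -/
theorem no_swap_of_minus {Q : (ι → F) → F} (hQ : Cfsg.Geo.IsNondegenerateQuadraticForm Q)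
    (hminus : ¬ Cfsg.Geo.IsPlusTypeOn Q ⊤) (W : Submodule F (ι → F))
    (hW : Cfsg.Geo.IsNondegenerateOn (QuadraticMap.polar Q) W) (hev : Even (finrank F W))
    (heq : finrank F W = finrank F ((polarBilin hQ).orthogonal W)) :
    ∀ g ∈ OG Q, ¬ (∀ w ∈ W, g w ∈ (polarBilin hQ).orthogonal W) := by
  classical
  intro g hg hmap
  have hD := quadData_polarBilin hQ
  have hnd := nondeg_polarBilin hQ
  have hWnd : ∀ p ∈ W, (∀ p' ∈ W, polarBilin hQ p p' = 0) → p = 0 := by
    intro p hp h
    by_contra h0
    obtain ⟨x, hx, hx0⟩ := (hW p hp h0).2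
    exact hx0 (h x hx)
  have hndP : ∀ x : W, (∀ y : W, (polarBilin hQ).restrict W x y = 0) → x = 0 := by
    intro x hx
    have := hWnd x x.2 (fun p' hp' => hx ⟨p', hp'⟩)
    exact Subtype.ext this
  have hc := hD.orth_isCompl W hWnd
  have hfr := Submodule.finrank_add_eq_of_isCompl hc
  have horth : ∀ w ∈ W, ∀ u ∈ (polarBilin hQ).orthogonal W, polarBilin hQ w u = 0 :=
    fun w hw u hu => (QuadData.mem_orth_iff W u).1 hu w hw
  obtain ⟨A, hA⟩ : ∃ A : W →ₗ[F] W, ∀ x : W, Q ((A x : W) : ι → F) = -Q (x : ι → F) := by
    by_cases h2 : (2 : F) = 0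
    · refine ⟨LinearMap.id, fun x => ?_⟩
      rw [LinearMap.id_apply]
      linear_combination Q (x : ι → F) * h2
    · exact (hD.restrict W).exists_anti_isometry hndP h2 hev
  obtain ⟨S, hS, hfrS⟩ := hD.exists_ts_of_maps W _ horth hWnd hg hmap A hA
  apply hminus
  refine ⟨S, le_top, hS, ?_⟩
  rw [finrank_top, hfrS]
  omega

end Cfsg.Agent.Lib.Helper94
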