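/-
Helper94: the canonical orthogonal frame of a non-degenerate three-dimensional quadratic space over
the field with three elements: three pairwise orthogonal vectors of the same norm `c`, and every
vector of norm `c` is one of them up to sign.
-/
import Mathlib
import Cfsg.Agent.Lib.Helper94.OrthFrame2

set_option autoImplicit false
set_option linter.unusedSimpArgs false
set_option linter.unusedSectionVars false
set_option linter.unusedVariables false

namespace Cfsg.Agent.Lib.Helper94

open LinearMap (BilinForm)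

variable {K V : Type*} [Field K] [AddCommGroup V] [Module K V]

namespace QuadData

variable {B : BilinForm K V} {Q : V → K}

/-- A canonical frame of a three-dimensional subspace. -/
structure Frame3 (B : BilinForm K V) (Q : V → K) (U : Submodule K V) (c : K) (p0 p1 p2 : V) :
    Prop where
  mem0 : p0 ∈ U
  mem1 : p1 ∈ U
  mem2 : p2 ∈ U
  norm0 : Q p0 = c
  norm1 : Q p1 = c
  norm2 : Q p2 = c
  orth01 : B p0 p1 = 0
  orth02 : B p0 p2 = 0
  orth12 : B p1 p2 = 0
  span : ∀ w ∈ U, ∃ α β γ : K, w = α • p0 + β • p1 + γ • p2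
  prop : ∀ v ∈ U, Q v = c → v = p0 ∨ v = -p0 ∨ v = p1 ∨ v = -p1 ∨ v = p2 ∨ v = -p2

section Three

variable [Fintype K]

lemma sq_eq_one_cases (hK : Fintype.card K = 3) {a : K} (ha : a ^ 2 = 1) : a = 1 ∨ a = -1 := by
  rcases eq_of_card_three hK a with h | h | h
  · rw [h] at ha; simp at ha
  · exact Or.inl h
  · exact Or.inr h

/-- three-dimensional non-degenerate spaces over the field with three elements have a canonical
frame -/
lemma exists_frame3 (hQ : QuadData B Q) (hK : Fintype.card K = 3) (U : Submodule K V)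
    (hfr : Module.finrank K U = 3) (hnd : ∀ x ∈ U, (∀ y ∈ U, B x y = 0) → x = 0) :
    ∃ c : K, c ≠ 0 ∧ ∃ p0 p1 p2 : V, Frame3 B Q U c p0 p1 p2 := by
  have h3 := three_eq_zero hK
  have h2 : (2 : K) ≠ 0 := by
    intro h2
    have : (1 : K) = 0 := by linear_combination h3 - h2
    exact one_ne_zero this
  obtain ⟨a, haU, haorth, haQ, haspan⟩ := hQ.exists_orth_basis h2 U (by norm_num) hfr hnd
  -- a triple with all norms equal
  have key : ∀ p0 p1 p2 : V, p0 ∈ U → p1 ∈ U → p2 ∈ U → B p0 p1 = 0 → B p0 p2 = 0 → B p1 p2 = 0 →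
      ∀ c : K, c ≠ 0 → Q p0 = c → Q p1 = c → Q p2 = c →
      (∀ w ∈ U, ∃ α β γ : K, w = α • p0 + β • p1 + γ • p2) →
      ∃ c : K, c ≠ 0 ∧ ∃ p0 p1 p2 : V, Frame3 B Q U c p0 p1 p2 := by
    intro p0 p1 p2 m0 m1 m2 o01 o02 o12 c hc q0 q1 q2 hspan
    refine ⟨c, hc, p0, p1, p2, m0, m1, m2, q0, q1, q2, o01, o02, o12, hspan, ?_⟩
    intro v hv hQv
    obtain ⟨α, β, γ, rfl⟩ := hspan v hv
    have o10 : B p1 p0 = 0 := by rw [hQ.symm, o01]
    have o20 : B p2 p0 = 0 := by rw [hQ.symm, o02]
    have o21 : B p2 p1 = 0 := by rw [hQ.symm, o12]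
    have e1 : Q (α • p0 + β • p1 + γ • p2) = c * (α ^ 2 + β ^ 2 + γ ^ 2) := by
      simp only [hQ.polar, hQ.smul, map_add, map_smul, LinearMap.add_apply, LinearMap.smul_apply,
        q0, q1, q2, o01, o02, o12, o10, o20, o21, smul_eq_mul, mul_zero, add_zero]
      ring
    rw [e1] at hQv
    have e3 : α ^ 2 + β ^ 2 + γ ^ 2 = 1 := by
      have : c * (α ^ 2 + β ^ 2 + γ ^ 2 - 1) = 0 := by linear_combination hQv
      rcases mul_eq_zero.1 this with h | h
      · exact absurd h hc
      · linear_combination h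
    have z : ∀ x : K, x ^ 2 = 0 → x = 0 := fun x hx => pow_eq_zero_iff (two_ne_zero) |>.1 hx
    rcases sq_cases hK α with hα | hα <;> rcases sq_cases hK β with hβ | hβ <;>
      rcases sq_cases hK γ with hγ | hγ
    · rw [hα, hβ, hγ] at e3; exact absurd (by linear_combination -e3) one_ne_zero
    · rw [z α hα, z β hβ]
      rcases sq_eq_one_cases hK hγ with h | h
      · right; right; right; right; left; rw [h]; simp
      · right; right; right; right; right; rw [h]; simp
    · rw [z α hα, z γ hγ]
      rcases sq_eq_one_cases hK hβ with h | h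
      · right; right; left; rw [h]; simp
      · right; right; right; left; rw [h]; simp
    · rw [hα, hβ, hγ] at e3; exact absurd (by linear_combination e3) one_ne_zero
    · rw [z β hβ, z γ hγ]
      rcases sq_eq_one_cases hK hα with h | h
      · left; rw [h]; simp
      · right; left; rw [h]; simp
    · rw [hα, hβ, hγ] at e3; exact absurd (by linear_combination e3) one_ne_zero
    · rw [hα, hβ, hγ] at e3; exact absurd (by linear_combination e3) one_ne_zero
    · rw [hα, hβ, hγ] at e3; exact absurd (by linear_combination h3 - e3) one_ne_zero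
  -- a triple with the first two norms equal
  have key2 : ∀ p0 p1 p2 : V, p0 ∈ U → p1 ∈ U → p2 ∈ U → B p0 p1 = 0 → B p0 p2 = 0 → B p1 p2 = 0 →
      Q p0 ≠ 0 → Q p2 ≠ 0 → Q p0 = Q p1 →
      (∀ w ∈ U, ∃ α β γ : K, w = α • p0 + β • p1 + γ • p2) →
      ∃ c : K, c ≠ 0 ∧ ∃ p0 p1 p2 : V, Frame3 B Q U c p0 p1 p2 := by
    intro p0 p1 p2 m0 m1 m2 o01 o02 o12 q0 q2 q01 hspan
    have o10 : B p1 p0 = 0 := by rw [hQ.symm, o01]
    by_cases h : Q p2 = Q p0
    · exact key p0 p1 p2 m0 m1 m2 o01 o02 o12 (Q p0) q0 rfl q01.symm h hspan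
    · have hneg : Q p2 = -Q p0 := by
        rcases eq_of_card_three hK (Q p0) with h0 | h0 | h0
        · exact absurd h0 q0
        · rcases eq_of_card_three hK (Q p2) with h2' | h2' | h2'
          · exact absurd h2' q2
          · exact absurd (h2'.trans h0.symm) h
          · rw [h2', h0]
        · rcases eq_of_card_three hK (Q p2) with h2' | h2' | h2'
          · exact absurd h2' q2
          · rw [h2', h0, neg_neg]
          · exact absurd (h2'.trans h0.symm) h
      refine key (p0 + p1) (p0 - p1) p2 (U.add_mem m0 m1) (U.sub_mem m0 m1) m2 ?_ ?_ ?_ (-Q p0)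
        (neg_ne_zero.2 q0) ?_ ?_ hneg ?_
      · simp only [map_add, map_sub, LinearMap.add_apply, LinearMap.sub_apply, hQ.self, o01, o10,
          ← q01]
        ring
      · simp only [map_add, LinearMap.add_apply, o02, o12, add_zero]
      · simp only [map_sub, LinearMap.sub_apply, o02, o12, sub_zero]
      · rw [hQ.polar, ← q01, o01]; linear_combination (Q p0) * h3
      · rw [hQ.sub, ← q01, o01]; linear_combination (Q p0) * h3
      · intro w hw
        obtain ⟨α, β, γ, rfl⟩ := hspan w hw
        refine ⟨-(α + β), β - α, γ, ?_⟩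
        have e5 : (3 : K) • p0 = 0 := by rw [h3, zero_smul]
        have e6 : (3 : K) • p1 = 0 := by rw [h3, zero_smul]
        have : α • p0 + β • p1 + γ • p2 - (-(α + β) • (p0 + p1) + (β - α) • (p0 - p1) + γ • p2) =
            α • ((3 : K) • p0) + β • ((3 : K) • p1) := by
          module
        rw [e5, e6, smul_zero, smul_zero, add_zero] at this
        exact sub_eq_zero.1 this
  -- permute the basis so that the first two norms are equal
  have hspan3 : ∀ w ∈ U, ∃ α β γ : K, w = α • a 0 + β • a 1 + γ • a 2 := by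
    intro w hw
    obtain ⟨α, hα⟩ := haspan w hw
    rw [Fin.sum_univ_three] at hα
    exact ⟨α 0, α 1, α 2, hα⟩
  have o01 := haorth 0 1 (by decide)
  have o02 := haorth 0 2 (by decide)
  have o12 := haorth 1 2 (by decide)
  have o10 := haorth 1 0 (by decide)
  have o20 := haorth 2 0 (by decide)
  have o21 := haorth 2 1 (by decide)
  by_cases h01 : Q (a 0) = Q (a 1)
  · exact key2 (a 0) (a 1) (a 2) (haU 0) (haU 1) (haU 2) o01 o02 o12 (haQ 0) (haQ 2) h01 hspan3
  by_cases h02 : Q (a 0) = Q (a 2)
  · refine key2 (a 0) (a 2) (a 1) (haU 0) (haU 2) (haU 1) o02 o01 o21 (haQ 0) (haQ 1) h02 ?_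
    intro w hw
    obtain ⟨α, β, γ, rfl⟩ := hspan3 w hw
    exact ⟨α, γ, β, by abel⟩
  · have h12 : Q (a 1) = Q (a 2) := by
      rcases eq_of_card_three hK (Q (a 0)) with h0 | h0 | h0
      · exact absurd h0 (haQ 0)
      · rcases eq_of_card_three hK (Q (a 1)) with h1 | h1 | h1
        · exact absurd h1 (haQ 1)
        · exact absurd (h0.trans h1.symm) h01
        · rcases eq_of_card_three hK (Q (a 2)) with h2' | h2' | h2'
          · exact absurd h2' (haQ 2)
          · exact absurd (h0.trans h2'.symm) h02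
          · rw [h1, h2']
      · rcases eq_of_card_three hK (Q (a 1)) with h1 | h1 | h1
        · exact absurd h1 (haQ 1)
        · rcases eq_of_card_three hK (Q (a 2)) with h2' | h2' | h2'
          · exact absurd h2' (haQ 2)
          · rw [h1, h2']
          · exact absurd (h0.trans h2'.symm) h02
        · exact absurd (h0.trans h1.symm) h01
    refine key2 (a 1) (a 2) (a 0) (haU 1) (haU 2) (haU 0) o12 o10 o20 (haQ 1) (haQ 0) h12 ?_
    intro w hw
    obtain ⟨α, β, γ, rfl⟩ := hspan3 w hw
    exact ⟨β, γ, α, by abel⟩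

end Three

end QuadData

end Cfsg.Agent.Lib.Helper94
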