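/-
Helper94: tensor decompositions whose first factor acts monomially on a frame: the induced
decomposition of the space, the tensor product subgroup stabilises it; similarity factors of
Kronecker products preserving a tensor product of bilinear forms.
-/
import Mathlib
import Cfsg.Prelude.Def_GeometricClasses
import Cfsg.Agent.Lib.Helper94.TensorBasic
import Cfsg.Agent.Lib.Helper94.SympDecomp

set_option autoImplicit false
set_option linter.unusedSimpArgs false
set_option linter.unusedSectionVars false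
set_option linter.unusedVariables false

namespace Cfsg.Agent.Lib.Helper94

open scoped MatrixGroups Matrix Kronecker

variable {ι : Type} [Fintype ι] [DecidableEq ι] {F : Type*} [Field F] {n₁ n₂ : ℕ}

/-- the subspace of the images of the pure tensors `u ⊗ w`, `u` fixed -/
noncomputable def tensD (e : ι ≃ Fin n₁ × Fin n₂) (P : GL ι F) (u : Fin n₁ → F) :
    Submodule F (ι → F) :=
  LinearMap.range (((tensPhi e P : (Fin n₁ × Fin n₂ → F) ≃ₗ[F] (ι → F)) :
    (Fin n₁ × Fin n₂ → F) →ₗ[F] (ι → F)) ∘ₗ pureLeft u)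

lemma mem_tensD {e : ι ≃ Fin n₁ × Fin n₂} {P : GL ι F} {u : Fin n₁ → F} {x : ι → F} :
    x ∈ tensD e P u ↔ ∃ w : Fin n₂ → F, tensPhi e P (pureT u w) = x := by
  rw [tensD, LinearMap.mem_range]
  rfl

lemma tens_mem_tensD (e : ι ≃ Fin n₁ × Fin n₂) (P : GL ι F) (u : Fin n₁ → F) (w : Fin n₂ → F) :
    tensPhi e P (pureT u w) ∈ tensD e P u := mem_tensD.2 ⟨w, rfl⟩

/-- a Kronecker product whose first factor is monomial on the frame `b` permutes the members of
the induced decomposition -/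
lemma mem_stabDec_of_monomial {e : ι ≃ Fin n₁ × Fin n₂} {P : GL ι F} {t : ℕ}
    (b : Fin t → (Fin n₁ → F)) {g : (ι → F) ≃ₗ[F] (ι → F)}
    {A : GL (Fin n₁) F} {B : GL (Fin n₂) F}
    (hg : ∀ x, g (tensPhi e P x) = tensPhi e P
      (((A : Matrix (Fin n₁) (Fin n₁) F) ⊗ₖ (B : Matrix (Fin n₂) (Fin n₂) F)) *ᵥ x))
    (π : Fin t → Fin t) (hπ : Function.Injective π)
    (hA : ∀ j, ∃ ε : F, ε ≠ 0 ∧ (A : Matrix (Fin n₁) (Fin n₁) F) *ᵥ b j = ε • b (π j)) :
    g ∈ SympData.stabDec (fun j => tensD e P (b j)) := by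
  rw [SympData.mem_stabDec]
  refine ⟨Equiv.ofBijective π (Finite.injective_iff_bijective.1 hπ), fun j => ?_⟩
  rw [Equiv.ofBijective_apply]
  obtain ⟨ε, hε, hAj⟩ := hA j
  apply le_antisymm
  · rintro x ⟨y, hy, rfl⟩
    obtain ⟨w, rfl⟩ := mem_tensD.1 hy
    change g _ ∈ _
    rw [hg, kronecker_mulVec_pureT, hAj, pureT_smul_left, ← pureT_smul_right]
    exact tens_mem_tensD _ _ _ _
  · intro x hx
    obtain ⟨w, rfl⟩ := mem_tensD.1 hx
    refine ⟨tensPhi e P (pureT (b j) (ε⁻¹ • ((B⁻¹ : GL (Fin n₂) F) : Matrix (Fin n₂) (Fin n₂) F) *ᵥ w)),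
      tens_mem_tensD _ _ _ _, ?_⟩
    change g _ = _
    rw [hg, kronecker_mulVec_pureT, hAj, Matrix.mulVec_smul, Matrix.mulVec_mulVec, ← Units.val_mul,
      mul_inv_cancel, Units.val_one, Matrix.one_mulVec, pureT_smul_left, pureT_smul_right,
      smul_smul, mul_inv_cancel₀ hε, one_smul]

/-- the similarity factor of the first factor of a Kronecker product preserving a tensor product
form -/
lemma exists_similarity_left {f₁ : (Fin n₁ → F) → (Fin n₁ → F) → F}
    {f₂ : (Fin n₂ → F) → (Fin n₂ → F) → F} (hf₂ : Cfsg.Geo.IsNondegenerateForm f₂)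
    (hn₂ : 0 < n₂) (A : Matrix (Fin n₁) (Fin n₁) F) (B : GL (Fin n₂) F)
    (h : ∀ u u' w w', f₁ (A *ᵥ u) (A *ᵥ u') *
      f₂ ((B : Matrix (Fin n₂) (Fin n₂) F) *ᵥ w) ((B : Matrix (Fin n₂) (Fin n₂) F) *ᵥ w') =
      f₁ u u' * f₂ w w') :
    ∃ μ : F, ∀ u u', f₁ (A *ᵥ u) (A *ᵥ u') = μ * f₁ u u' := by
  obtain ⟨w₁, hw₁⟩ : ∃ w₁ : Fin n₂ → F, w₁ ≠ 0 := by
    refine ⟨Pi.single ⟨0, hn₂⟩ 1, ?_⟩
    intro h0
    have := congrFun h0 ⟨0, hn₂⟩
    simp at this
  obtain ⟨w₁', hw₁'⟩ := (hf₂ w₁ hw₁).2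
  refine ⟨f₂ (((B⁻¹ : GL (Fin n₂) F) : Matrix (Fin n₂) (Fin n₂) F) *ᵥ w₁)
    (((B⁻¹ : GL (Fin n₂) F) : Matrix (Fin n₂) (Fin n₂) F) *ᵥ w₁') / f₂ w₁ w₁', fun u u' => ?_⟩
  have := h u u' (((B⁻¹ : GL (Fin n₂) F) : Matrix (Fin n₂) (Fin n₂) F) *ᵥ w₁)
    (((B⁻¹ : GL (Fin n₂) F) : Matrix (Fin n₂) (Fin n₂) F) *ᵥ w₁')
  rw [Matrix.mulVec_mulVec, Matrix.mulVec_mulVec, ← Units.val_mul, mul_inv_cancel, Units.val_one,
    Matrix.one_mulVec, Matrix.one_mulVec] at this
  field_simp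
  linear_combination this

/-- the Gram matrix of a non-degenerate bilinear form is invertible -/
lemma det_gramMatrix_ne_zero {n : ℕ} {f : (Fin n → F) → (Fin n → F) → F}
    (hf : Cfsg.Geo.IsBilinearForm f) (hnd : Cfsg.Geo.IsNondegenerateForm f) :
    (Cfsg.Geo.gramMatrix f).det ≠ 0 := by
  intro hdet
  obtain ⟨v, hv, hGv⟩ := Matrix.exists_mulVec_eq_zero_iff.2 hdet
  obtain ⟨x, hx⟩ := (hnd v hv).1
  apply hx
  rw [← formOfGram_gramMatrix hf]
  unfold Cfsg.Geo.formOfGram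
  apply Finset.sum_eq_zero
  intro a _
  have := congrFun hGv a
  simp only [Matrix.mulVec, dotProduct, Pi.zero_apply] at this
  simp only [id]
  calc ∑ b, x a * Cfsg.Geo.gramMatrix f a b * v b
      = x a * ∑ b, Cfsg.Geo.gramMatrix f a b * v b := by
        rw [Finset.mul_sum]; apply Finset.sum_congr rfl; intro b _; ring
    _ = 0 := by rw [this, mul_zero]

/-- a similarity of a non-degenerate bilinear form: the power of the factor is the square of the
determinant -/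
lemma similarity_pow_eq {n : ℕ} {f : (Fin n → F) → (Fin n → F) → F}
    (hf : Cfsg.Geo.IsBilinearForm f) (hnd : Cfsg.Geo.IsNondegenerateForm f)
    (A : Matrix (Fin n) (Fin n) F) (μ : F) (h : ∀ u u', f (A *ᵥ u) (A *ᵥ u') = μ * f u u') :
    μ ^ n = A.det ^ 2 := by
  have hG : Aᵀ * Cfsg.Geo.gramMatrix f * A = μ • Cfsg.Geo.gramMatrix f := by
    ext i j
    have h1 := h (Pi.single i 1) (Pi.single j 1)
    rw [← formOfGram_gramMatrix hf] at h1
    simp only [Matrix.smul_apply, smul_eq_mul]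
    rw [show Cfsg.Geo.gramMatrix f i j = f (Pi.single i 1) (Pi.single j 1) from rfl, ← h1]
    unfold Cfsg.Geo.formOfGram
    simp only [Matrix.mul_apply, Matrix.transpose_apply, Matrix.mulVec_single_one, Matrix.col_apply,
      id, Finset.sum_mul]
    rw [Finset.sum_comm]
  have hdet := congrArg Matrix.det hG
  rw [Matrix.det_mul, Matrix.det_mul, Matrix.det_transpose, Matrix.det_smul, Fintype.card_fin]
    at hdet
  have h0 := det_gramMatrix_ne_zero hf hnd
  have : (μ ^ n - A.det ^ 2) * (Cfsg.Geo.gramMatrix f).det = 0 := by linear_combination -hdet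
  rcases mul_eq_zero.1 this with h' | h'
  · exact sub_eq_zero.1 h'
  · exact absurd h' h0

end Cfsg.Agent.Lib.Helper94
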