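/-
Helper94: over the field with three elements, the stabiliser in `Ω` of a tensor decomposition
`O_3(3) ⊗ O_{n₂}(3)` is not maximal: `O_3(3)` is monomial on a canonical frame, so the tensor
product subgroup stabilises a decomposition into three non-degenerate subspaces.
-/
import Mathlib
import Cfsg.Prelude.Def_GeometricClasses
import Cfsg.Agent.Lib.Helper94.TensorMono
import Cfsg.Agent.Lib.Helper94.OrthFrame3
import Cfsg.Agent.Lib.Helper94.OrthBridge
import Cfsg.Agent.Lib.Helper94.SympBridge2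
import Cfsg.Agent.Lib.Helper94.SympBridge3

set_option autoImplicit false
set_option linter.unusedSimpArgs false
set_option linter.unusedSectionVars false
set_option linter.unusedVariables false

namespace Cfsg.Agent.Lib.Helper94

open scoped MatrixGroups Matrix Kronecker
open LinearMap (BilinForm)
open scoped commutatorElement

variable {ι : Type} [Fintype ι] [DecidableEq ι] {F : Type*} [Field F] {n₁ n₂ : ℕ}

/-- a bilinear form in the sense of the Prelude, as a bilinear form -/
noncomputable def bilinOf {n : ℕ} {f : (Fin n → F) → (Fin n → F) → F}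
    (hf : Cfsg.Geo.IsBilinearForm f) : BilinForm F (Fin n → F) :=
  LinearMap.mk₂ F f hf.add_left (fun c x v => by rw [hf.smul_left, smul_eq_mul]) hf.add_right
    (fun c x v => by rw [hf.smul_right, smul_eq_mul])

lemma bilinOf_apply {n : ℕ} {f : (Fin n → F) → (Fin n → F) → F}
    (hf : Cfsg.Geo.IsBilinearForm f) (u v : Fin n → F) : bilinOf hf u v = f u v := rfl

/-- the quadratic form of a symmetric bilinear form in odd characteristic -/
lemma symQuadData {n : ℕ} {f : (Fin n → F) → (Fin n → F) → F}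
    (hf : Cfsg.Geo.IsSymmetricForm f) (h2 : (2 : F) ≠ 0) :
    QuadData (bilinOf hf.bilinear) (fun v => 2⁻¹ * f v v) where
  smul := fun c v => by
    show 2⁻¹ * f (c • v) (c • v) = c ^ 2 * (2⁻¹ * f v v)
    rw [hf.bilinear.smul_left, hf.bilinear.smul_right]; ring
  polar := fun u v => by
    show 2⁻¹ * f (u + v) (u + v) = 2⁻¹ * f u u + 2⁻¹ * f v v + f u v
    rw [hf.bilinear.add_left, hf.bilinear.add_right, hf.bilinear.add_right, hf.symm v u]
    field_simp
    ring

/-- the value of the form on images of pure tensors -/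
lemma tens_form {f : (ι → F) → (ι → F) → F} {f₁ : (Fin n₁ → F) → (Fin n₁ → F) → F}
    {f₂ : (Fin n₂ → F) → (Fin n₂ → F) → F} (hf₁ : Cfsg.Geo.IsBilinearForm f₁)
    (hf₂ : Cfsg.Geo.IsBilinearForm f₂) {e : ι ≃ Fin n₁ × Fin n₂} {P : GL ι F} {c : F}
    (hT : ∀ x y : Fin n₁ × Fin n₂ → F,
      f ((P : Matrix ι ι F) *ᵥ (x ∘ e)) ((P : Matrix ι ι F) *ᵥ (y ∘ e)) =
        c * Cfsg.Geo.formOfGram id (Cfsg.Geo.gramMatrix f₁ ⊗ₖ Cfsg.Geo.gramMatrix f₂) x y)
    (u u' : Fin n₁ → F) (w w' : Fin n₂ → F) :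
    f (tensPhi e P (pureT u w)) (tensPhi e P (pureT u' w')) = c * (f₁ u u' * f₂ w w') := by
  rw [tensPhi_apply, tensPhi_apply, hT, formOfGram_kronecker_pureT id (fun _ _ => rfl),
    formOfGram_gramMatrix hf₁, formOfGram_gramMatrix hf₂]

/-- three pairwise orthogonal vectors, the first two of the same non-zero norm -/
lemma exists_three_orth [Fintype F] (hq : Fintype.card F = 3) {n : ℕ} (hn : 3 ≤ n)
    {f : (Fin n → F) → (Fin n → F) → F} (hf : Cfsg.Geo.IsSymmetricForm f) :
    ∃ w w' w₃ : Fin n → F, f w w' = 0 ∧ f w w₃ = 0 ∧ f w' w₃ = 0 ∧ f w w = f w' w' ∧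
      f w w ≠ 0 ∧ w₃ ≠ 0 := by
  have h3 := QuadData.three_eq_zero hq
  have h2 : (2 : F) ≠ 0 := by
    intro h2
    have : (1 : F) = 0 := by linear_combination h3 - h2
    exact one_ne_zero this
  have hD := symQuadData hf h2
  have hfr : Module.finrank F (⊤ : Submodule F (Fin n → F)) = n := by
    rw [finrank_top, Module.finrank_fin_fun]
  have hnd : ∀ x ∈ (⊤ : Submodule F (Fin n → F)),
      (∀ y ∈ (⊤ : Submodule F (Fin n → F)), bilinOf hf.bilinear x y = 0) → x = 0 := by
    intro x _ hx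
    by_contra h0
    obtain ⟨y, hy⟩ := (hf.nondegenerate x h0).2
    exact hy (hx y trivial)
  obtain ⟨a, -, haorth, haQ, -⟩ := hD.exists_orth_basis h2 ⊤ (by omega) hfr hnd
  have hne : ∀ i, f (a i) (a i) ≠ 0 := by
    intro i h0
    apply haQ i
    show 2⁻¹ * f (a i) (a i) = 0
    rw [h0, mul_zero]
  have hne0 : ∀ i, a i ≠ 0 := by
    intro i h0
    apply hne i
    rw [h0]
    have := hf.bilinear.smul_left 0 0 (0 : Fin n → F)
    simpa using this
  have horth : ∀ i j, i ≠ j → f (a i) (a j) = 0 := fun i j hij => haorth i j hij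
  obtain ⟨i0, hi0⟩ : ∃ i0 : Fin n, i0 = ⟨0, by omega⟩ := ⟨_, rfl⟩
  obtain ⟨i1, hi1⟩ : ∃ i1 : Fin n, i1 = ⟨1, by omega⟩ := ⟨_, rfl⟩
  obtain ⟨i2, hi2⟩ : ∃ i2 : Fin n, i2 = ⟨2, by omega⟩ := ⟨_, rfl⟩
  have h01 : i0 ≠ i1 := by rw [hi0, hi1]; intro h; simp [Fin.ext_iff] at h
  have h02 : i0 ≠ i2 := by rw [hi0, hi2]; intro h; simp [Fin.ext_iff] at h
  have h12 : i1 ≠ i2 := by rw [hi1, hi2]; intro h; simp [Fin.ext_iff] at h
  have hval : ∀ i, f (a i) (a i) = 1 ∨ f (a i) (a i) = -1 := by
    intro i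
    rcases QuadData.eq_of_card_three hq (f (a i) (a i)) with h | h | h
    · exact absurd h (hne i)
    · exact Or.inl h
    · exact Or.inr h
  by_cases e01 : f (a i0) (a i0) = f (a i1) (a i1)
  · exact ⟨a i0, a i1, a i2, horth _ _ h01, horth _ _ h02, horth _ _ h12, e01, hne i0, hne0 i2⟩
  by_cases e02 : f (a i0) (a i0) = f (a i2) (a i2)
  · exact ⟨a i0, a i2, a i1, horth _ _ h02, horth _ _ h01, horth _ _ h12.symm, e02, hne i0,
      hne0 i1⟩
  · have e12 : f (a i1) (a i1) = f (a i2) (a i2) := by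
      rcases hval i0 with h0 | h0 <;> rcases hval i1 with h1 | h1 <;> rcases hval i2 with h2' | h2'
      · exact absurd (h0.trans h1.symm) e01
      · exact absurd (h0.trans h1.symm) e01
      · exact absurd (h0.trans h2'.symm) e02
      · exact h1.trans h2'.symm
      · exact h1.trans h2'.symm
      · exact absurd (h0.trans h2'.symm) e02
      · exact absurd (h0.trans h1.symm) e01
      · exact absurd (h0.trans h1.symm) e01
    exact ⟨a i1, a i2, a i0, horth _ _ h12, horth _ _ h01.symm, horth _ _ h02.symm, e12, hne i1,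
      hne0 i0⟩

/-- an invertible matrix kills no non-zero vector -/
lemma gl_mulVec_ne_zero {n : ℕ} (A : GL (Fin n) F) {v : Fin n → F} (hv : v ≠ 0) :
    (A : Matrix (Fin n) (Fin n) F) *ᵥ v ≠ 0 := by
  intro h
  apply hv
  have := congrArg (fun x => ((A⁻¹ : GL (Fin n) F) : Matrix (Fin n) (Fin n) F) *ᵥ x) h
  simp only [Matrix.mulVec_mulVec, ← Units.val_mul, inv_mul_cancel, Units.val_one,
    Matrix.one_mulVec, Matrix.mulVec_zero] at this
  exact this

/-- the reflection of a vector along itself -/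
lemma QuadData.refl_self {K V : Type*} [Field K] [AddCommGroup V] [Module K V]
    {B : BilinForm K V} {Q : V → K} (hQ : QuadData B Q) (a : V) (ha : Q a ≠ 0) :
    hQ.refl a ha a = -a := by
  rw [hQ.refl_apply, hQ.self]
  have : (Q a)⁻¹ * (2 * Q a) = 2 := by field_simp
  rw [this, two_smul]
  abel

/-- **Non-maximality** of the stabiliser in `Ω` of a tensor decomposition with a three-dimensional
first factor over the field with three elements. -/
theorem exists_between_tensor_orth3 [Fintype F] {Q : (ι → F) → F}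
    (hQ : Cfsg.Geo.IsNondegenerateQuadraticForm Q) (hq : Fintype.card F = 3) {n₂ : ℕ}
    (h2n : 3 ≤ n₂) (e : ι ≃ Fin 3 × Fin n₂) (P : GL ι F)
    (f₁ : (Fin 3 → F) → (Fin 3 → F) → F) (f₂ : (Fin n₂ → F) → (Fin n₂ → F) → F)
    (hf₁ : Cfsg.Geo.IsSymmetricForm f₁) (hf₂ : Cfsg.Geo.IsSymmetricForm f₂)
    (hT : Cfsg.Geo.IsTensorFormStructure id (QuadraticMap.polar Q) f₁ f₂ e P) :
    ∃ K : Subgroup (GL ι F),
      Cfsg.Geo.tensorProductSubgroup 3 n₂ e P ⊓ Cfsg.Geo.omegaGL Q < K ∧
        K < Cfsg.Geo.omegaGL Q := by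
  classical
  have h3 := QuadData.three_eq_zero hq
  have h2 : (2 : F) ≠ 0 := by
    intro h2
    have : (1 : F) = 0 := by linear_combination h3 - h2
    exact one_ne_zero this
  have hDat := quadData_polarBilin hQ
  obtain ⟨c, hc, hTc⟩ := hT
  -- the form on pure tensors
  have hB : ∀ u u' w w', polarBilin hQ (tensPhi e P (pureT u w)) (tensPhi e P (pureT u' w')) =
      c * (f₁ u u' * f₂ w w') := by
    intro u u' w w'
    rw [polarBilin_apply]
    exact tens_form hf₁.bilinear hf₂.bilinear hTc u u' w w'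
  have hQv : ∀ u w, Q (tensPhi e P (pureT u w)) = 2⁻¹ * (c * (f₁ u u * f₂ w w)) := by
    intro u w
    have := hDat.self (tensPhi e P (pureT u w))
    rw [hB] at this
    field_simp
    linear_combination -this
  -- the frame of `f₁`
  have hD₁ := symQuadData hf₁ h2
  have hfr₁ : Module.finrank F (⊤ : Submodule F (Fin 3 → F)) = 3 := by
    rw [finrank_top, Module.finrank_fin_fun]
  have hnd₁ : ∀ x ∈ (⊤ : Submodule F (Fin 3 → F)),
      (∀ y ∈ (⊤ : Submodule F (Fin 3 → F)), bilinOf hf₁.bilinear x y = 0) → x = 0 := by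
    intro x _ hx
    by_contra h0
    obtain ⟨y, hy⟩ := (hf₁.nondegenerate x h0).2
    exact hy (hx y trivial)
  obtain ⟨c₁, hc₁, p0, p1, p2, hfr⟩ := hD₁.exists_frame3 hq ⊤ hfr₁ hnd₁
  obtain ⟨d, hd⟩ : ∃ d : F, d = 2 * c₁ := ⟨_, rfl⟩
  have hd0 : d ≠ 0 := by rw [hd]; exact mul_ne_zero h2 hc₁
  have n0 : f₁ p0 p0 = d := by
    have : 2⁻¹ * f₁ p0 p0 = c₁ := hfr.norm0
    rw [hd, ← this]; field_simp
  have n1 : f₁ p1 p1 = d := by
    have : 2⁻¹ * f₁ p1 p1 = c₁ := hfr.norm1
    rw [hd, ← this]; field_simp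
  have n2 : f₁ p2 p2 = d := by
    have : 2⁻¹ * f₁ p2 p2 = c₁ := hfr.norm2
    rw [hd, ← this]; field_simp
  have o01 : f₁ p0 p1 = 0 := hfr.orth01
  have o02 : f₁ p0 p2 = 0 := hfr.orth02
  have o12 : f₁ p1 p2 = 0 := hfr.orth12
  have o10 : f₁ p1 p0 = 0 := by rw [hf₁.symm, o01]
  have o20 : f₁ p2 p0 = 0 := by rw [hf₁.symm, o02]
  have o21 : f₁ p2 p1 = 0 := by rw [hf₁.symm, o12]
  have hprop : ∀ v : Fin 3 → F, f₁ v v = d →
      v = p0 ∨ v = -p0 ∨ v = p1 ∨ v = -p1 ∨ v = p2 ∨ v = -p2 := by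
    intro v hv
    apply hfr.prop v trivial
    show 2⁻¹ * f₁ v v = c₁
    rw [hv, hd]; field_simp
  obtain ⟨b, hb⟩ : ∃ b : Fin 3 → (Fin 3 → F), b = ![p0, p1, p2] := ⟨_, rfl⟩
  have hb0 : b 0 = p0 := by rw [hb]; rfl
  have hb1 : b 1 = p1 := by rw [hb]; rfl
  have hb2 : b 2 = p2 := by rw [hb]; rfl
  have hbn : ∀ i, f₁ (b i) (b i) = d := by
    intro i; fin_cases i
    · exact hb0 ▸ n0
    · exact hb1 ▸ n1
    · exact hb2 ▸ n2
  have hbo : ∀ i j, i ≠ j → f₁ (b i) (b j) = 0 := by
    intro i j hij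
    fin_cases i <;> fin_cases j
    all_goals first
      | exact absurd rfl hij
      | (simp only [Fin.zero_eta, Fin.mk_one, Fin.reduceFinMk, hb0, hb1, hb2]; assumption)
  have hbprop : ∀ v : Fin 3 → F, f₁ v v = d → ∃ i : Fin 3, ∃ ε : F, ε ≠ 0 ∧ v = ε • b i := by
    intro v hv
    rcases hprop v hv with h | h | h | h | h | h
    · exact ⟨0, 1, one_ne_zero, by rw [one_smul, hb0, h]⟩
    · exact ⟨0, -1, neg_ne_zero.2 one_ne_zero, by rw [neg_one_smul, hb0, h]⟩
    · exact ⟨1, 1, one_ne_zero, by rw [one_smul, hb1, h]⟩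
    · exact ⟨1, -1, neg_ne_zero.2 one_ne_zero, by rw [neg_one_smul, hb1, h]⟩
    · exact ⟨2, 1, one_ne_zero, by rw [one_smul, hb2, h]⟩
    · exact ⟨2, -1, neg_ne_zero.2 one_ne_zero, by rw [neg_one_smul, hb2, h]⟩
  -- three vectors for `f₂`
  obtain ⟨w, w', w₃, oww', oww₃, ow'w₃, hww', hφ, hw₃⟩ := exists_three_orth hq h2n hf₂
  have ow'w : f₂ w' w = 0 := by rw [hf₂.symm, oww']
  have ow₃w : f₂ w₃ w = 0 := by rw [hf₂.symm, oww₃]
  have ow₃w' : f₂ w₃ w' = 0 := by rw [hf₂.symm, ow'w₃]
  have hw0 : w ≠ 0 := by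
    intro h0
    apply hφ
    rw [h0]
    have := hf₂.bilinear.smul_left 0 0 (0 : Fin n₂ → F)
    simpa using this
  have hp0 : p0 ≠ 0 := by
    intro h0
    apply hd0
    rw [← n0, h0]
    have := hf₁.bilinear.smul_left 0 0 (0 : Fin 3 → F)
    simpa using this
  have hp1 : p1 ≠ 0 := by
    intro h0
    apply hd0
    rw [← n1, h0]
    have := hf₁.bilinear.smul_left 0 0 (0 : Fin 3 → F)
    simpa using this
  -- the decomposition
  obtain ⟨D, hD⟩ : ∃ D : Fin 3 → Submodule F (ι → F), D = fun j => tensD e P (b j) := ⟨_, rfl⟩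
  have hDmem : ∀ j v, tensPhi e P (pureT (b j) v) ∈ D j := by
    intro j v; rw [hD]; exact tens_mem_tensD _ _ _ _
  -- separation of the members
  have hsep : ∀ (i j : Fin 3) (v : Fin n₂ → F), v ≠ 0 → tensPhi e P (pureT (b i) v) ∈ D j →
      i = j := by
    intro i j v hv hmem
    by_contra hij
    rw [hD] at hmem
    obtain ⟨v', hv'⟩ := mem_tensD.1 hmem
    obtain ⟨y, hy⟩ := (hf₂.nondegenerate v hv).2
    have h1 := hB (b i) (b i) v y
    rw [← hv', hB, hbo j i (Ne.symm hij), hbn] at h1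
    apply hy
    have : c * (d * f₂ v y) = 0 := by rw [← h1]; ring
    rcases mul_eq_zero.1 this with h | h
    · exact absurd h hc
    · rcases mul_eq_zero.1 h with h' | h'
      · exact absurd h' hd0
      · exact h'
  -- reflections along vectors of the first member
  have hrefl : ∀ (v : Fin n₂ → F) (hv : Q (tensPhi e P (pureT p0 v)) ≠ 0) (i : Fin 3),
      ∀ x ∈ D i, hDat.refl (tensPhi e P (pureT p0 v)) hv x ∈ D i := by
    intro v hv i x hx
    rw [hD] at hx
    obtain ⟨v', rfl⟩ := mem_tensD.1 hx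
    by_cases hi : i = 0
    · subst hi
      rw [hDat.refl_apply, hb0, ← map_smul, ← map_sub, ← pureT_smul_right, ← pureT_sub_right]
      rw [← hb0]
      exact hDmem 0 _
    · rw [hDat.refl_apply_of_orth]
      · exact hDmem i _
      · rw [← hb0, hB, hbo i 0 hi]; ring
  apply exists_between_of_map (glEquiv ι F)
  rw [map_inf_equiv, map_omegaGL]
  refine ⟨SympData.stabDec D ⊓ ⁅OG Q, OG Q⁆, ?_, ?_⟩
  · rw [SetLike.lt_iff_le_and_exists]
    refine ⟨?_, ?_⟩
    · rintro g' ⟨hg1, hg2⟩
      refine ⟨?_, hg2⟩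
      obtain ⟨g, hg, rfl⟩ := Subgroup.mem_map.1 hg1
      obtain ⟨A, B', hAB⟩ := exists_of_mem_tensorProductSubgroup hg
      have hg' : ∀ x, (glEquiv ι F g) (tensPhi e P x) = tensPhi e P
          (((A : Matrix (Fin 3) (Fin 3) F) ⊗ₖ (B' : Matrix (Fin n₂) (Fin n₂) F)) *ᵥ x) := by
        intro x; rw [glEquiv_apply]; exact hAB x
      have hgO : glEquiv ι F g ∈ OG Q := QuadData.commutator_le_OG hg2
      have key : ∀ u u' v v', f₁ ((A : Matrix (Fin 3) (Fin 3) F) *ᵥ u)
          ((A : Matrix (Fin 3) (Fin 3) F) *ᵥ u') *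
          f₂ ((B' : Matrix (Fin n₂) (Fin n₂) F) *ᵥ v) ((B' : Matrix (Fin n₂) (Fin n₂) F) *ᵥ v') =
          f₁ u u' * f₂ v v' := by
        intro u u' v v'
        have h1 := hDat.B_map hgO (tensPhi e P (pureT u v)) (tensPhi e P (pureT u' v'))
        rw [hg', hg', kronecker_mulVec_pureT, kronecker_mulVec_pureT, hB, hB] at h1
        exact mul_left_cancel₀ hc h1
      obtain ⟨μ, hμ⟩ := exists_similarity_left hf₂.nondegenerate (by omega)
        (A : Matrix (Fin 3) (Fin 3) F) B' key
      have hpow := similarity_pow_eq hf₁.bilinear hf₁.nondegenerate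
        (A : Matrix (Fin 3) (Fin 3) F) μ hμ
      have hμ3 : μ ^ 3 = μ := by
        have := FiniteField.pow_card μ
        rwa [hq] at this
      have hdet : (A : Matrix (Fin 3) (Fin 3) F).det ≠ 0 :=
        ((Matrix.isUnit_iff_isUnit_det _).1 A.isUnit).ne_zero
      have hμ1 : μ = 1 := by
        rw [← hμ3, hpow]
        rcases QuadData.eq_of_card_three hq (A : Matrix (Fin 3) (Fin 3) F).det with h | h | h
        · exact absurd h hdet
        · rw [h]; ring
        · rw [h]; ring
      have hiso : ∀ u u', f₁ ((A : Matrix (Fin 3) (Fin 3) F) *ᵥ u)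
          ((A : Matrix (Fin 3) (Fin 3) F) *ᵥ u') = f₁ u u' := by
        intro u u'; rw [hμ, hμ1, one_mul]
      have hmono : ∀ j : Fin 3, ∃ i : Fin 3, ∃ ε : F, ε ≠ 0 ∧
          (A : Matrix (Fin 3) (Fin 3) F) *ᵥ b j = ε • b i := by
        intro j
        apply hbprop
        rw [hiso, hbn]
      choose π ε hε hA using hmono
      have hπ : Function.Injective π := by
        intro j k hjk
        by_contra hne
        have h1 := hiso (b j) (b k)
        rw [hA j, hA k, hjk, hbo j k hne, hf₁.bilinear.smul_left, hf₁.bilinear.smul_right, hbn]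
          at h1
        have : ε j * (ε k * d) ≠ 0 := mul_ne_zero (hε j) (mul_ne_zero (hε k) hd0)
        exact this h1
      have := mem_stabDec_of_monomial (e := e) (P := P) b hg' π hπ
        (fun j => ⟨ε j, hε j, hA j⟩)
      rw [hD]
      exact this
    · -- an element of the larger group outside the tensor product subgroup
      have Qa : Q (tensPhi e P (pureT p0 w)) = 2⁻¹ * (c * (d * f₂ w w)) := by rw [hQv, n0]
      have Qa' : Q (tensPhi e P (pureT p0 w')) = 2⁻¹ * (c * (d * f₂ w w)) := by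
        rw [hQv, n0, hww']
      have hne : 2⁻¹ * (c * (d * f₂ w w)) ≠ 0 :=
        mul_ne_zero (inv_ne_zero h2) (mul_ne_zero hc (mul_ne_zero hd0 hφ))
      have ha : Q (tensPhi e P (pureT p0 w)) ≠ 0 := by rw [Qa]; exact hne
      have ha' : Q (tensPhi e P (pureT p0 w')) ≠ 0 := by rw [Qa']; exact hne
      have hdiff : Q (tensPhi e P (pureT p0 w) - tensPhi e P (pureT p0 w')) ≠ 0 := by
        rw [← map_sub, ← pureT_sub_right, hQv, n0]
        have : f₂ (w - w') (w - w') = 2 * f₂ w w := by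
          have := (bilinOf hf₂.bilinear).map_sub w w'
          have e1 : bilinOf hf₂.bilinear (w - w') (w - w') = 2 * f₂ w w := by
            simp only [map_sub, LinearMap.sub_apply, bilinOf_apply, oww', ow'w, ← hww']
            ring
          exact e1
        rw [this]
        exact mul_ne_zero (inv_ne_zero h2) (mul_ne_zero hc (mul_ne_zero hd0 (mul_ne_zero h2 hφ)))
      refine ⟨hDat.refl _ ha * hDat.refl _ ha',
        ⟨?_, hDat.refl_mul_refl_mem ha ha' (Qa.trans Qa'.symm) hdiff⟩, ?_⟩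
      · change _ ∈ SympData.stabDec D
        rw [SympData.mem_stabDec]
        refine ⟨Equiv.refl _, fun i => ?_⟩
        rw [Equiv.refl_apply]
        apply SympData.map_eq_of_maps
        · intro x hx
          rw [LinearEquiv.mul_apply]
          exact hrefl w ha i _ (hrefl w' ha' i x hx)
        · intro x hx
          rw [mul_inv_rev, QuadData.refl_inv, QuadData.refl_inv, LinearEquiv.mul_apply]
          exact hrefl w' ha' i _ (hrefl w ha i x hx)
      · rintro ⟨hk, -⟩
        obtain ⟨g, hg, hgk⟩ := Subgroup.mem_map.1 hk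
        obtain ⟨A, B', hAB⟩ := exists_of_mem_tensorProductSubgroup hg
        have hk' : ∀ x, (hDat.refl _ ha * hDat.refl _ ha') (tensPhi e P x) = tensPhi e P
            (((A : Matrix (Fin 3) (Fin 3) F) ⊗ₖ (B' : Matrix (Fin n₂) (Fin n₂) F)) *ᵥ x) := by
          intro x
          rw [← hgk]
          change (glEquiv ι F g) (tensPhi e P x) = _
          rw [glEquiv_apply]; exact hAB x
        -- the four values
        have E1 : (hDat.refl _ ha * hDat.refl _ ha') (tensPhi e P (pureT p0 w)) =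
            tensPhi e P (pureT p0 (-w)) := by
          rw [LinearEquiv.mul_apply, hDat.refl_apply_of_orth _ ha', hDat.refl_self, pureT_neg_right,
            map_neg]
          rw [hB, oww']; ring
        have E2 : (hDat.refl _ ha * hDat.refl _ ha') (tensPhi e P (pureT p0 w₃)) =
            tensPhi e P (pureT p0 w₃) := by
          rw [LinearEquiv.mul_apply, hDat.refl_apply_of_orth _ ha', hDat.refl_apply_of_orth _ ha]
          · rw [hB, ow₃w]; ring
          · rw [hB, ow₃w']; ring
        have E3 : (hDat.refl _ ha * hDat.refl _ ha') (tensPhi e P (pureT p1 w)) =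
            tensPhi e P (pureT p1 w) := by
          rw [LinearEquiv.mul_apply, hDat.refl_apply_of_orth _ ha', hDat.refl_apply_of_orth _ ha]
          · rw [hB, o10]; ring
          · rw [hB, o10]; ring
        have E4 : (hDat.refl _ ha * hDat.refl _ ha') (tensPhi e P (pureT p1 w₃)) =
            tensPhi e P (pureT p1 w₃) := by
          rw [LinearEquiv.mul_apply, hDat.refl_apply_of_orth _ ha', hDat.refl_apply_of_orth _ ha]
          · rw [hB, o10]; ring
          · rw [hB, o10]; ring
        rw [hk', kronecker_mulVec_pureT] at E1 E2 E3 E4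
        have F1 := (tensPhi e P).injective E1
        have F2 := (tensPhi e P).injective E2
        have F3 := (tensPhi e P).injective E3
        have F4 := (tensPhi e P).injective E4
        obtain ⟨i₀, hi₀⟩ := exists_ne_zero_of_ne_zero (gl_mulVec_ne_zero A hp0)
        obtain ⟨i₁, hi₁⟩ := exists_ne_zero_of_ne_zero (gl_mulVec_ne_zero A hp1)
        have G1 := pureT_cancel_left F1 hi₀
        have G2 := pureT_cancel_left F2 hi₀
        have G3 := pureT_cancel_left F3 hi₁
        have G4 := pureT_cancel_left F4 hi₁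
        obtain ⟨j₃, hj₃⟩ := exists_ne_zero_of_ne_zero hw₃
        obtain ⟨j, hj⟩ := exists_ne_zero_of_ne_zero hw0
        set s₀ := p0 i₀ / ((A : Matrix (Fin 3) (Fin 3) F) *ᵥ p0) i₀ with hs₀
        set s₁ := p1 i₁ / ((A : Matrix (Fin 3) (Fin 3) F) *ᵥ p1) i₁ with hs₁
        have e1 : s₀ = s₁ := by
          have := congrFun (G2.symm.trans G4) j₃
          simp only [Pi.smul_apply, smul_eq_mul] at this
          exact mul_right_cancel₀ hj₃ this
        have e2 : -s₀ = s₁ := by
          have := congrFun (G1.symm.trans G3) j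
          simp only [Pi.smul_apply, smul_eq_mul, Pi.neg_apply, mul_neg] at this
          have h' : (-s₀) * w j = s₁ * w j := by rw [← this]; ring
          exact mul_right_cancel₀ hj h'
        have e3 : s₀ = 0 := by
          have : 2 * s₀ = 0 := by linear_combination e1 - e2
          rcases mul_eq_zero.1 this with h | h
          · exact absurd h h2
          · exact h
        rw [e3, zero_smul] at G2
        exact gl_mulVec_ne_zero B' hw₃ G2
  · rw [SetLike.lt_iff_le_and_exists]
    refine ⟨inf_le_right, ?_⟩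
    have f01 : f₁ (p0 + p1) (p0 + p1) = 2 * d := by
      have e1 : bilinOf hf₁.bilinear (p0 + p1) (p0 + p1) = 2 * d := by
        simp only [map_add, LinearMap.add_apply, bilinOf_apply, n0, n1, o01, o10]
        ring
      exact e1
    have f02 : f₁ (p0 + p2) (p0 + p2) = 2 * d := by
      have e1 : bilinOf hf₁.bilinear (p0 + p2) (p0 + p2) = 2 * d := by
        simp only [map_add, LinearMap.add_apply, bilinOf_apply, n0, n2, o02, o20]
        ring
      exact e1
    have f12 : f₁ (p1 - p2) (p1 - p2) = 2 * d := by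
      have e1 : bilinOf hf₁.bilinear (p1 - p2) (p1 - p2) = 2 * d := by
        simp only [map_sub, LinearMap.sub_apply, bilinOf_apply, n1, n2, o12, o21]
        ring
      exact e1
    have Qa : Q (tensPhi e P (pureT (p0 + p1) w)) = c * (d * f₂ w w) := by
      rw [hQv, f01]; field_simp
    have Qa' : Q (tensPhi e P (pureT (p0 + p2) w)) = c * (d * f₂ w w) := by
      rw [hQv, f02]; field_simp
    have hne : c * (d * f₂ w w) ≠ 0 := mul_ne_zero hc (mul_ne_zero hd0 hφ)
    have ha : Q (tensPhi e P (pureT (p0 + p1) w)) ≠ 0 := by rw [Qa]; exact hne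
    have ha' : Q (tensPhi e P (pureT (p0 + p2) w)) ≠ 0 := by rw [Qa']; exact hne
    have hdiff : Q (tensPhi e P (pureT (p0 + p1) w) - tensPhi e P (pureT (p0 + p2) w)) ≠ 0 := by
      rw [← map_sub, ← pureT_sub_left, show p0 + p1 - (p0 + p2) = p1 - p2 by abel, hQv, f12]
      have : 2⁻¹ * (c * (2 * d * f₂ w w)) = c * (d * f₂ w w) := by field_simp
      rw [this]; exact hne
    refine ⟨hDat.refl _ ha * hDat.refl _ ha',
      hDat.refl_mul_refl_mem ha ha' (Qa.trans Qa'.symm) hdiff, ?_⟩
    rintro ⟨hmem, -⟩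
    obtain ⟨σ, hσ⟩ := SympData.mem_stabDec.1 hmem
    have g1 : (hDat.refl _ ha * hDat.refl _ ha') (tensPhi e P (pureT (b 1) w)) =
        tensPhi e P (pureT (b 0) (-w)) := by
      rw [hb1, hb0, LinearEquiv.mul_apply, hDat.refl_apply_of_orth _ ha', hDat.refl_apply, hB, Qa]
      · have e1 : f₁ p1 (p0 + p1) = d := by
          rw [hf₁.bilinear.add_right, o10, n1, zero_add]
        rw [e1, inv_mul_cancel₀ hne, one_smul, pureT_add_left, map_add, pureT_neg_right, map_neg]
        abel
      · have e1 : f₁ p1 (p0 + p2) = 0 := by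
          rw [hf₁.bilinear.add_right, o10, o12, zero_add]
        rw [hB, e1]; ring
    have g2 : (hDat.refl _ ha * hDat.refl _ ha') (tensPhi e P (pureT (b 1) w₃)) =
        tensPhi e P (pureT (b 1) w₃) := by
      rw [LinearEquiv.mul_apply, hDat.refl_apply_of_orth _ ha', hDat.refl_apply_of_orth _ ha]
      · rw [hB, ow₃w]; ring
      · rw [hB, ow₃w]; ring
    have m1 : tensPhi e P (pureT (b 0) (-w)) ∈ D (σ 1) := by
      rw [← hσ 1, ← g1]
      exact Submodule.mem_map_of_mem (hDmem 1 w)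
    have m2 : tensPhi e P (pureT (b 1) w₃) ∈ D (σ 1) := by
      rw [← hσ 1, ← g2]
      exact Submodule.mem_map_of_mem (hDmem 1 w₃)
    have s1 := hsep 0 (σ 1) (-w) (neg_ne_zero.2 hw0) m1
    have s2 := hsep 1 (σ 1) w₃ hw₃ m2
    have : (0 : Fin 3) = 1 := s1.trans s2.symm
    exact absurd this (by decide)

end Cfsg.Agent.Lib.Helper94
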