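import Mathlib
import Cfsg.Prelude.Def_Local
import Cfsg.Prelude.Def_Transfer
import Cfsg.Agent.Lib.Helper26.PGV.End2Defs

/-!
# PGV-[REG-SIGMA] (helper94, hedge): the anti-involution `σ` of the regular model (S3086, END2 step (5))
-/

set_option autoImplicit false

namespace Cfsg.Agent.Lib.Helper94.PGV

open Cfsg Cfsg.Agent.Lib.Helper26.PGV

universe u

section reg
variable {H : Type*} {W : Type u} [Group H] [AddCommGroup W] [Module (ZMod 2) W]
variable (r : Representation (ZMod 2) H W) (K B : Subgroup H) (a : H)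

theorem mem_AA_of_mem {x : H} (hx : x ∈ K) : r x ∈ AA r K := Algebra.subset_adjoin ⟨x, hx, rfl⟩

theorem neg_eq_self_zmod2 (v : W) : -v = v := by
  have h : (2 : ZMod 2) • v = 0 := by rw [show (2 : ZMod 2) = 0 from rfl, zero_smul]
  rw [two_smul] at h
  exact neg_eq_of_add_eq_zero_left h

theorem sub_eq_add_zmod2 (v w : W) : v - w = v + w := by
  rw [sub_eq_add_neg, neg_eq_self_zmod2]

variable {r K B a}

theorem rep_aa (c : Cfg r K B a) (w : W) : r a (r a w) = w := by
  rw [← Module.End.mul_apply, ← map_mul, c.ha2, map_one]; rfl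

theorem rep_a_pt (c : Cfg r K B a) {m : W} (hm : Pt r B a m) : r a m = m := by
  obtain ⟨w, rfl⟩ := hm.mem
  rw [map_sub, rep_aa c, sub_eq_add_zmod2, sub_eq_add_zmod2, add_comm]

/-- step (2a) -/
theorem conj_smul_pt' (c : Cfg r K B a) {m : W} (hm : Pt r B a m) {x : H} (hx : x ∈ K) :
    r (a * x * a⁻¹) m = r x⁻¹ m := by
  obtain ⟨w, hw⟩ := hm.mem
  have h1 := c.hHD x hx w
  rw [← hw, map_mul, Module.End.mul_apply] at h1
  have h2 : r x⁻¹ (r x (r (a * x * a⁻¹) m)) = r x⁻¹ m := by rw [h1]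
  rw [← Module.End.mul_apply, ← map_mul, inv_mul_cancel, map_one] at h2
  exact h2

/-- step (2b) -/
theorem conj_commute' (c : Cfg r K B a) {y : H} (hy : y ∈ K) {ξ : Module.End (ZMod 2) W}
    (hξ : ξ ∈ AA r K) : r (a * y * a⁻¹) * ξ = ξ * r (a * y * a⁻¹) := by
  have hle : AA r K ≤ Subalgebra.centralizer (ZMod 2) {r (a * y * a⁻¹)} := by
    apply Algebra.adjoin_le
    rintro f ⟨x, hx, rfl⟩
    rw [SetLike.mem_coe, Subalgebra.mem_centralizer_iff]
    intro g hg
    rw [Set.mem_singleton_iff] at hg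
    subst hg
    rw [← map_mul, ← map_mul, c.hcomm x hx y hy]
  have := hle hξ
  rw [Subalgebra.mem_centralizer_iff] at this
  exact this _ rfl

/-- **PGV-[REG-SIGMA]**, relative to `ev_bijective`. -/
theorem exists_sigma_of [Finite H] [Finite W] (c : Cfg r K B a) {m : W} (hm : Pt r B a m)
    (hev : Function.Bijective (fun ξ : AA r K => (ξ : Module.End (ZMod 2) W) m)) :
    ∃ σ : AA r K →+ AA r K,
      (∀ ξ : AA r K, (σ ξ : Module.End (ZMod 2) W) m = r a ((ξ : Module.End (ZMod 2) W) m)) ∧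
      (∀ ξ η, σ (ξ * η) = σ η * σ ξ) ∧ (∀ ξ, σ (σ ξ) = ξ) ∧
      (∀ ξ, ξ + σ ξ ∈ Subring.center (AA r K)) ∧
      (∀ x (hx : x ∈ K), σ ⟨r x, mem_AA_of_mem r K hx⟩ = ⟨r x⁻¹, mem_AA_of_mem r K (K.inv_mem hx)⟩) := by
  classical
  -- evaluation as a linear equivalence
  let evL : AA r K →ₗ[ZMod 2] W :=
    { toFun := fun ξ => (ξ : Module.End (ZMod 2) W) m
      map_add' := by intro ξ η; simp
      map_smul' := by intro t ξ; simp }
  have hevL : Function.Bijective evL := hev
  let e : AA r K ≃ₗ[ZMod 2] W := LinearEquiv.ofBijective evL hevL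
  have he : ∀ ξ : AA r K, e ξ = (ξ : Module.End (ZMod 2) W) m := fun ξ => rfl
  have hinj : ∀ ξ η : AA r K, (ξ : Module.End (ZMod 2) W) m = (η : Module.End (ZMod 2) W) m →
      ξ = η := fun ξ η h => hev.1 h
  let σL : AA r K →ₗ[ZMod 2] AA r K := e.symm.toLinearMap ∘ₗ (r a) ∘ₗ e.toLinearMap
  have hσ : ∀ ξ : AA r K, ((σL ξ : AA r K) : Module.End (ZMod 2) W) m =
      r a ((ξ : Module.End (ZMod 2) W) m) := by
    intro ξ
    rw [← he (σL ξ)]
    show e (e.symm (r a (e ξ))) = _
    rw [LinearEquiv.apply_symm_apply, he]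
  have ham : r a m = m := rep_a_pt c hm
  -- σ on generators
  have hσgen : ∀ x (hx : x ∈ K), σL ⟨r x, mem_AA_of_mem r K hx⟩ =
      ⟨r x⁻¹, mem_AA_of_mem r K (K.inv_mem hx)⟩ := by
    intro x hx
    apply hinj
    rw [hσ]
    show r a (r x m) = r x⁻¹ m
    rw [← conj_smul_pt' c hm hx]
    nth_rewrite 2 [← ham]
    rw [← Module.End.mul_apply, ← Module.End.mul_apply, ← map_mul, ← map_mul]
    congr 2
    group
  have hσ1 : σL 1 = 1 := by
    apply hinj
    rw [hσ]
    show r a ((1 : Module.End (ZMod 2) W) m) = (1 : Module.End (ZMod 2) W) m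
    rw [Module.End.one_apply, ham]
  -- anti-multiplicativity
  have hσmul : ∀ ξ η : AA r K, σL (ξ * η) = σL η * σL ξ := by
    intro ξ
    obtain ⟨ξ, hξ⟩ := ξ
    induction hξ using Algebra.adjoin_induction with
    | mem f hf =>
      obtain ⟨x, hx, rfl⟩ := hf
      intro η
      apply hinj
      rw [hσ]
      show r a (r x ((η : Module.End (ZMod 2) W) m)) =
        ((σL η : AA r K) : Module.End (ZMod 2) W)
          (((σL ⟨r x, _⟩ : AA r K) : Module.End (ZMod 2) W) m)
      rw [hσgen x hx]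
      show _ = ((σL η : AA r K) : Module.End (ZMod 2) W) (r x⁻¹ m)
      have hL : r a (r x ((η : Module.End (ZMod 2) W) m)) =
          r (a * x * a⁻¹) (r a ((η : Module.End (ZMod 2) W) m)) := by
        generalize ((η : Module.End (ZMod 2) W) m) = v
        rw [← Module.End.mul_apply (r a) (r x) v, ← Module.End.mul_apply (r (a * x * a⁻¹)) (r a) v,
          ← map_mul, ← map_mul]
        congr 2
        group
      have hR : ((σL η : AA r K) : Module.End (ZMod 2) W) (r x⁻¹ m) =
          r (a * x * a⁻¹) (r a ((η : Module.End (ZMod 2) W) m)) := by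
        rw [← conj_smul_pt' c hm hx, ← Module.End.mul_apply, ← conj_commute' c hx (σL η).2,
          Module.End.mul_apply, hσ]
      rw [hL, hR]
    | algebraMap t =>
      intro η
      have e1 : (⟨algebraMap (ZMod 2) (Module.End (ZMod 2) W) t, Subalgebra.algebraMap_mem _ t⟩ :
          AA r K) = t • (1 : AA r K) := by
        apply Subtype.ext
        simp [Algebra.algebraMap_eq_smul_one]
      rw [e1, smul_mul_assoc, one_mul, map_smul, map_smul, hσ1, mul_smul_comm, mul_one]
    | add f g hf hg ihf ihg =>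
      intro η
      have e1 : (⟨f + g, add_mem hf hg⟩ : AA r K) = ⟨f, hf⟩ + ⟨g, hg⟩ := rfl
      rw [e1, add_mul, map_add, map_add, ihf, ihg, mul_add]
    | mul f g hf hg ihf ihg =>
      intro η
      have e1 : (⟨f * g, mul_mem hf hg⟩ : AA r K) = ⟨f, hf⟩ * ⟨g, hg⟩ := rfl
      rw [e1, mul_assoc, ihf, ihg, ihf, mul_assoc]
  have hσσ : ∀ ξ : AA r K, σL (σL ξ) = ξ := by
    intro ξ
    apply hinj
    rw [hσ, hσ, rep_aa c]
  -- centrality of the trace
  have hcent : ∀ ξ : AA r K, ξ + σL ξ ∈ Subring.center (AA r K) := by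
    intro ξ
    set T : AA r K := ξ + σL ξ with hT
    have hTm : (T : Module.End (ZMod 2) W) m =
        r a ((ξ : Module.End (ZMod 2) W) m) - (ξ : Module.End (ZMod 2) W) m := by
      rw [sub_eq_add_zmod2, ← hσ ξ, add_comm]
      rfl
    -- T commutes with r x
    have hx : ∀ x ∈ K, r x * (T : Module.End (ZMod 2) W) = (T : Module.End (ZMod 2) W) * r x := by
      intro x hx
      have hmem : r x * (T : Module.End (ZMod 2) W) * r x⁻¹ ∈ AA r K :=
        mul_mem (mul_mem (mem_AA_of_mem r K hx) T.2) (mem_AA_of_mem r K (K.inv_mem hx))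
      have h1 : (⟨_, hmem⟩ : AA r K) = T := by
        apply hinj
        show (r x * (T : Module.End (ZMod 2) W) * r x⁻¹) m = (T : Module.End (ZMod 2) W) m
        rw [Module.End.mul_apply, Module.End.mul_apply, ← conj_smul_pt' c hm hx,
          ← Module.End.mul_apply _ (r (a * x * a⁻¹)), ← conj_commute' c hx T.2,
          Module.End.mul_apply, hTm, ← Module.End.mul_apply, ← map_mul]
        exact c.hHD x hx _
      have h2 : r x * (T : Module.End (ZMod 2) W) * r x⁻¹ = (T : Module.End (ZMod 2) W) :=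
        congrArg Subtype.val h1
      calc r x * (T : Module.End (ZMod 2) W)
          = r x * (T : Module.End (ZMod 2) W) * (r x⁻¹ * r x) := by
            rw [← map_mul, inv_mul_cancel, map_one, mul_one]
        _ = (r x * (T : Module.End (ZMod 2) W) * r x⁻¹) * r x := by simp only [mul_assoc]
        _ = _ := by rw [h2]
    have hle : AA r K ≤ Subalgebra.centralizer (ZMod 2) {(T : Module.End (ZMod 2) W)} := by
      apply Algebra.adjoin_le
      rintro f ⟨x, hxK, rfl⟩
      rw [SetLike.mem_coe, Subalgebra.mem_centralizer_iff]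
      intro g hg
      rw [Set.mem_singleton_iff] at hg
      subst hg
      exact (hx x hxK).symm
    rw [Subring.mem_center_iff]
    intro g
    apply Subtype.ext
    have := hle g.2
    rw [Subalgebra.mem_centralizer_iff] at this
    exact (this _ rfl).symm
  exact ⟨σL.toAddMonoidHom, hσ, hσmul, hσσ, hcent, hσgen⟩

end reg

end Cfsg.Agent.Lib.Helper94.PGV
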