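import Mathlib
import Cfsg.Prelude.Def_Local
import Cfsg.Prelude.Def_Transfer
import Cfsg.Agent.Lib.Helper26.PGV.End2Defs
import Cfsg.Agent.Lib.Helper39.PgvRegBeta
import Cfsg.Agent.Lib.Helper94.PgvRegSigma

/-!
# PGV-[REG-ASM] (helper94, hedge): assembly of the regular model (S3086, END2 steps (7), (8))

`end2_abs_of`: from the sheet statements of `exists_pt`, `ev_bijective`, `ring_thm` (hypotheses) and the landed
`exists_sigma_of` (helper94), `exists_beta` (helper39).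
-/

set_option autoImplicit false

namespace Cfsg.Agent.Lib.Helper94.PGV

open Cfsg Cfsg.Agent.Lib.Helper26.PGV

universe u

section reg
variable {H : Type*} {W : Type u} [Group H] [AddCommGroup W] [Module (ZMod 2) W]
variable {r : Representation (ZMod 2) H W} {K B : Subgroup H} {a : H}

/-- the statement of the sheet's `ring_thm` in universe `u` -/
def RingThm : Prop :=
  ∀ {R : Type u} [Ring R] [Finite R] (_h2 : (2 : R) = 0)
    (σ : R →+ R) (_hσmul : ∀ x y, σ (x * y) = σ y * σ x) (_hσσ : ∀ x, σ (σ x) = x)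
    (_hT : ∀ x, x + σ x ∈ Subring.center R)
    (K : Subgroup Rˣ) (_hKspan : AddSubgroup.closure {x : R | ∃ u ∈ K, (u : R) = x} = ⊤)
    (_hKσ : ∀ u ∈ K, σ (u : R) = ((u⁻¹ : Rˣ) : R))
    (_hKperf : ⁅K, K⁆ = K) (_hKne : K ≠ ⊥)
    (B : Subgroup (RingAut R)) (_hB2 : ∀ b ∈ B, b * b = 1)
    (_hBσ : ∀ b ∈ B, ∀ x, b (σ x) = σ (b x))
    (_hBK : ∀ b ∈ B, ∀ u ∈ K, ∃ u' ∈ K, (u' : R) = b (u : R))
    (_hsimple : ∀ I : AddSubgroup R, IsTwoSided I → (∀ x ∈ I, σ x ∈ I) →
        (∀ b ∈ B, ∀ x ∈ I, b x ∈ I) → I = ⊥ ∨ I = ⊤),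
    2 * Nat.card B * Nat.card {x : R // σ x = x ∧ ∀ b ∈ B, b x = x} < Nat.card R

/-- the restriction of `r` to `K`, with values in `AA r K` -/
def rK (r : Representation (ZMod 2) H W) (K : Subgroup H) : K →* AA r K where
  toFun x := ⟨r x, mem_AA_of_mem r K x.2⟩
  map_one' := by apply Subtype.ext; simp
  map_mul' x y := by apply Subtype.ext; simp

theorem rK_val (x : K) : ((rK r K x : AA r K) : Module.End (ZMod 2) W) = r x := rfl

/-- the additive closure of the image of `K` is all of `AA r K` -/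
theorem closure_units_eq_top :
    AddSubgroup.closure {x : AA r K | ∃ u ∈ (rK r K).toHomUnits.range, (u : AA r K) = x} = ⊤ := by
  set φ := (rK r K).toHomUnits with hφ
  let M : Submonoid (AA r K) := Submonoid.map (Units.coeHom (AA r K)) φ.range.toSubmonoid
  have hM : {x : AA r K | ∃ u ∈ φ.range, (u : AA r K) = x} = (M : Set (AA r K)) := by
    ext x
    simp only [Set.mem_ofPred_eq, M, Submonoid.coe_map, Set.mem_image, SetLike.mem_coe,
      Subgroup.mem_toSubmonoid, Units.coeHom_apply]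
  rw [hM]
  have hS : ∀ x : AA r K, x ∈ Subring.closure (M : Set (AA r K)) := by
    rintro ⟨ξ, hξ⟩
    induction hξ using Algebra.adjoin_induction with
    | mem f hf =>
      obtain ⟨x, hx, rfl⟩ := hf
      apply Subring.subset_closure
      refine ⟨φ ⟨x, hx⟩, ⟨⟨x, hx⟩, rfl⟩, ?_⟩
      apply Subtype.ext
      rfl
    | algebraMap t =>
      have e1 : (⟨algebraMap (ZMod 2) (Module.End (ZMod 2) W) t, Subalgebra.algebraMap_mem _ t⟩ :
          AA r K) = algebraMap (ZMod 2) (AA r K) t := rfl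
      rw [e1]
      have ht : t = 0 ∨ t = 1 := by
        fin_cases t
        · left; rfl
        · right; rfl
      rcases ht with rfl | rfl
      · rw [map_zero]; exact zero_mem _
      · rw [map_one]; exact one_mem _
    | add f g hf hg ihf ihg =>
      exact add_mem ihf ihg
    | mul f g hf hg ihf ihg =>
      exact mul_mem ihf ihg
  rw [eq_top_iff]
  intro x _
  have := hS x
  rw [Subring.mem_closure_iff, Submonoid.closure_eq] at this
  exact this

/-- **PGV-[REG-ASM]** relative to the sheet statements of `exists_pt`, `ev_bijective`, `ring_thm`. -/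
theorem end2_abs_of [Finite H] [Finite W] (c : Cfg r K B a)
    (hpt : ∃ m : W, Pt r B a m)
    (hev : ∀ {m : W}, Pt r B a m →
      Function.Bijective (fun ξ : AA r K => (ξ : Module.End (ZMod 2) W) m))
    (hring : RingThm.{u}) :
    2 * Nat.card B * Nat.card {w : W // r a w = w ∧ ∀ b ∈ B, r b w = w} < Nat.card W := by
  classical
  obtain ⟨m, hm⟩ := hpt
  have hbij := hev hm
  have hinj : ∀ ξ η : AA r K, (ξ : Module.End (ZMod 2) W) m = (η : Module.End (ZMod 2) W) m →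
      ξ = η := fun ξ η h => hbij.1 h
  obtain ⟨σ, hσ, hσmul, hσσ, hσT, hσK⟩ := exists_sigma_of c hm hbij
  obtain ⟨β, hβinj, hβval, hβm⟩ := Cfsg.Agent.Lib.Helper39.PgvRegBeta.exists_beta r K B a c hm
  have : Finite (Module.End (ZMod 2) W) :=
    Finite.of_injective (fun f => (f : W → W)) DFunLike.coe_injective
  have : Finite (AA r K) := inferInstance
  set φ := (rK r K).toHomUnits with hφ
  have hφval : ∀ x : K, ((φ x : AA r K) : Module.End (ZMod 2) W) = r x := fun x => rfl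
  have h2 : (2 : AA r K) = 0 := by
    have h : ((2 : ZMod 2) • (1 : AA r K)) = 0 := by
      rw [show (2 : ZMod 2) = 0 from rfl, zero_smul]
    rw [two_smul] at h
    exact one_add_one_eq_two.symm.trans h
  have hKσ : ∀ u ∈ φ.range, σ (u : AA r K) = ((u⁻¹ : (AA r K)ˣ) : AA r K) := by
    rintro u ⟨x, rfl⟩
    rw [← map_inv]
    exact hσK x x.2
  have hKperf : ⁅φ.range, φ.range⁆ = φ.range := by
    have : Group.IsPerfect K := c.hKqs.1
    have := Group.IsPerfect.range φ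
    exact Subgroup.isPerfect_iff.mp inferInstance
  have hKne : φ.range ≠ ⊥ := by
    intro hbot
    obtain ⟨x, hx, w, hw⟩ := c.hKnt
    apply hw
    have h1 : φ ⟨x, hx⟩ ∈ φ.range := ⟨_, rfl⟩
    rw [hbot, Subgroup.mem_bot] at h1
    have h3 : ((φ ⟨x, hx⟩ : AA r K) : Module.End (ZMod 2) W) = 1 := by rw [h1]; rfl
    rw [hφval] at h3
    show r x w = w
    rw [h3]; rfl
  have hB2 : ∀ b' ∈ β.range, b' * b' = 1 := by
    rintro _ ⟨b, rfl⟩
    rw [← map_mul]
    have : b * b = 1 := Subtype.ext (c.hB2 b b.2)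
    rw [this, map_one]
  have hBσ : ∀ b' ∈ β.range, ∀ ξ, b' (σ ξ) = σ (b' ξ) := by
    rintro _ ⟨b, rfl⟩ ξ
    apply hinj
    rw [hβm, hσ, hσ, hβm]
    generalize ((ξ : Module.End (ZMod 2) W) m) = v
    rw [← Module.End.mul_apply (r b) (r a) v, ← Module.End.mul_apply (r a) (r b) v,
      ← map_mul, ← map_mul, c.hBa b b.2]
  have hBK : ∀ b' ∈ β.range, ∀ u ∈ φ.range, ∃ u' ∈ φ.range, (u' : AA r K) = b' (u : AA r K) := by
    rintro _ ⟨b, rfl⟩ _ ⟨x, rfl⟩
    refine ⟨φ ⟨b * x * (b : H)⁻¹, c.hBK b b.2 x x.2⟩, ⟨_, rfl⟩, ?_⟩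
    apply Subtype.ext
    rw [hβval, hφval, hφval]
    simp [map_mul]
  have hsimple : ∀ I : AddSubgroup (AA r K), IsTwoSided I → (∀ x ∈ I, σ x ∈ I) →
      (∀ b' ∈ β.range, ∀ x ∈ I, b' x ∈ I) → I = ⊥ ∨ I = ⊤ := by
    intro I hI hIσ hIβ
    let evA : AA r K →+ W :=
      { toFun := fun ξ => (ξ : Module.End (ZMod 2) W) m
        map_zero' := by simp
        map_add' := by intro ξ η; simp }
    let U : Submodule (ZMod 2) W := AddSubgroup.toZModSubmodule 2 (I.map evA)
    have hU : ∀ w, w ∈ U ↔ ∃ ξ ∈ I, (ξ : Module.End (ZMod 2) W) m = w := by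
      intro w
      rfl
    have hUinv : ∀ g, (g ∈ K ∨ g ∈ B ∨ g = a) → ∀ w ∈ U, r g w ∈ U := by
      intro g hg w hw
      rw [hU] at hw ⊢
      obtain ⟨ξ, hξ, rfl⟩ := hw
      rcases hg with hg | hg | rfl
      · exact ⟨rK r K ⟨g, hg⟩ * ξ, (hI ξ hξ _).1, rfl⟩
      · refine ⟨β ⟨g, hg⟩ ξ, hIβ _ ⟨_, rfl⟩ ξ hξ, ?_⟩
        rw [hβm]
      · exact ⟨σ ξ, hIσ ξ hξ, hσ ξ⟩
    rcases c.hirr U hUinv with h | h
    · left
      rw [eq_bot_iff]
      intro ξ hξ
      have h1 : (ξ : Module.End (ZMod 2) W) m ∈ U := (hU _).2 ⟨ξ, hξ, rfl⟩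
      rw [h, Submodule.mem_bot] at h1
      have h3 : ξ = 0 := hinj ξ 0 (by rw [h1]; simp)
      rw [h3]
      exact zero_mem _
    · right
      rw [eq_top_iff]
      intro η _
      have h1 : (η : Module.End (ZMod 2) W) m ∈ U := by rw [h]; trivial
      obtain ⟨ξ, hξ, hξη⟩ := (hU _).1 h1
      rw [← hinj ξ η hξη]
      exact hξ
  have key := hring h2 σ hσmul hσσ hσT φ.range closure_units_eq_top hKσ hKperf hKne β.range
    hB2 hBσ hBK hsimple
  have hcB : Nat.card β.range = Nat.card B :=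
    Nat.card_congr (MonoidHom.ofInjective hβinj).toEquiv.symm
  let e : AA r K ≃ W := Equiv.ofBijective _ hbij
  have hcR : Nat.card (AA r K) = Nat.card W := Nat.card_congr e
  have hcF : Nat.card {x : AA r K // σ x = x ∧ ∀ b ∈ β.range, b x = x} =
      Nat.card {w : W // r a w = w ∧ ∀ b ∈ B, r b w = w} := by
    apply Nat.card_congr
    refine e.subtypeEquiv ?_
    intro ξ
    show _ ↔ (r a ((ξ : Module.End (ZMod 2) W) m) = (ξ : Module.End (ZMod 2) W) m ∧
      ∀ b ∈ B, r b ((ξ : Module.End (ZMod 2) W) m) = (ξ : Module.End (ZMod 2) W) m)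
    constructor
    · rintro ⟨h1, h3⟩
      refine ⟨?_, ?_⟩
      · rw [← hσ, h1]
      · intro b hb
        rw [← hβm ⟨b, hb⟩, h3 _ ⟨_, rfl⟩]
    · rintro ⟨h1, h3⟩
      refine ⟨hinj _ _ (by rw [hσ, h1]), ?_⟩
      rintro _ ⟨b, rfl⟩
      apply hinj
      rw [hβm]
      exact h3 b b.2
  rw [hcB, hcR, hcF] at key
  exact key

end reg

end Cfsg.Agent.Lib.Helper94.PGV
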