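import Mathlib
import Cfsg.Prelude.Def_Local
import Cfsg.Prelude.Def_Transfer
import Cfsg.Agent.Lib.Helper26.PGV.End2Defs
import Cfsg.Agent.Lib.Helper26.PGV.RingThm
import Cfsg.Agent.Lib.Helper14.PgvCrt
import Cfsg.Agent.Lib.Helper14.PgvSimpleThm
import Cfsg.Agent.Lib.Helper51.PgvRegEv
import Cfsg.Agent.Lib.Helper74.PgvEnd2Front
import Cfsg.Agent.Lib.Helper94.PgvRegSigma
import Cfsg.Agent.Lib.Helper94.PgvRegAsm

/-!
# S3086 / END2 glue (helper94): everything of END2 from the single open leaf `simple_struct`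

`SimpleStruct.{u}` is the sheet statement of PGV-[SIMPLE-STRUCT].  From it: `simple_thm`, `ring_thm`, `end2_abs`,
`end2_insitu` (exact sheet statements, with the extra hypothesis `SimpleStruct`).  Also the exact `exists_sigma`.
-/

set_option autoImplicit false

namespace Cfsg.Agent.Lib.Helper94.PGV

open Cfsg Cfsg.Agent.Lib.Helper26.PGV

universe u v

/-- the sheet statement of PGV-[SIMPLE-STRUCT] in universe `u` -/
def SimpleStruct : Prop :=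
  ∀ {R : Type u} [Ring R] [Finite R] (_h2 : (2 : R) = 0)
    (σ : R →+ R) (_hσmul : ∀ x y, σ (x * y) = σ y * σ x) (_hσσ : ∀ x, σ (σ x) = x)
    (_hT : ∀ x, x + σ x ∈ Subring.center R)
    (K : Subgroup Rˣ) (_hKspan : AddSubgroup.closure {x : R | ∃ u ∈ K, (u : R) = x} = ⊤)
    (_hKσ : ∀ u ∈ K, σ (u : R) = ((u⁻¹ : Rˣ) : R))
    (_hKperf : ⁅K, K⁆ = K) (_hKne : K ≠ ⊥)
    (_hsimple : ∀ I : AddSubgroup R, IsTwoSided I → (∀ x ∈ I, σ x ∈ I) → I = ⊥ ∨ I = ⊤),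
    ∃ (F : Type u) (_ : Field F) (_ : Finite F) (_ : CharP F 2) (φ : R ≃+* Matrix (Fin 2) (Fin 2) F),
      2 < Nat.card F ∧ ∀ x, σ x = x ↔ (φ x).trace = 0

/-- PGV-[SIMPLE-THM] from `SimpleStruct` -/
theorem simple_thm_of_struct (hs : SimpleStruct.{u}) {R : Type u} [Ring R] [Finite R]
    (h2 : (2 : R) = 0)
    (σ : R →+ R) (hσmul : ∀ x y, σ (x * y) = σ y * σ x) (hσσ : ∀ x, σ (σ x) = x)
    (hT : ∀ x, x + σ x ∈ Subring.center R)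
    (K : Subgroup Rˣ) (hKspan : AddSubgroup.closure {x : R | ∃ u ∈ K, (u : R) = x} = ⊤)
    (hKσ : ∀ u ∈ K, σ (u : R) = ((u⁻¹ : Rˣ) : R))
    (hKperf : ⁅K, K⁆ = K) (hKne : K ≠ ⊥)
    (hsimple : ∀ I : AddSubgroup R, IsTwoSided I → (∀ x ∈ I, σ x ∈ I) → I = ⊥ ∨ I = ⊤)
    (B : Subgroup (RingAut R)) (hB2 : ∀ b ∈ B, b * b = 1) :
    2 * Nat.card B * Nat.card {x : R // σ x = x ∧ ∀ b ∈ B, b x = x} < Nat.card R :=
  Cfsg.Agent.Lib.Helper14.PgvSimpleThm.simple_thm_of σ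
    (hs h2 σ hσmul hσσ hT K hKspan hKσ hKperf hKne hsimple) B hB2

/-- PGV-[RING-THM] from `SimpleStruct` -/
theorem ringThm_of_struct (hs : SimpleStruct.{u}) : RingThm.{u} := by
  intro R _ _ h2 σ hσmul hσσ hT K hKspan hKσ hKperf hKne B hB2 hBσ hBK hsimple
  exact ring_thm_of
    (fun Q _ _ h2' σ' h1 h3 h4 K' h5 h6 h7 h8 h9 B' h10 =>
      simple_thm_of_struct hs h2' σ' h1 h3 h4 K' h5 h6 h7 h8 h9 B' h10)
    (fun s h1 h3 n h4 => Cfsg.Agent.Lib.Helper14.PgvCrt.crt_card s h1 h3 n h4)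
    h2 σ hσmul hσσ hT K hKspan hKσ hKperf hKne B hB2 hBσ hBK hsimple

section reg
variable {H : Type*} {W : Type u} [Group H] [AddCommGroup W] [Module (ZMod 2) W]
variable (r : Representation (ZMod 2) H W) (K B : Subgroup H) (a : H)

/-- **PGV-[REG-SIGMA]**, exact sheet statement. -/
theorem exists_sigma [Finite H] [Finite W] (c : Cfg r K B a) {m : W} (hm : Pt r B a m) :
    ∃ σ : AA r K →+ AA r K,
      (∀ ξ : AA r K, (σ ξ : Module.End (ZMod 2) W) m = r a ((ξ : Module.End (ZMod 2) W) m)) ∧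
      (∀ ξ η, σ (ξ * η) = σ η * σ ξ) ∧ (∀ ξ, σ (σ ξ) = ξ) ∧
      (∀ ξ, ξ + σ ξ ∈ Subring.center (AA r K)) ∧
      (∀ x (hx : x ∈ K), σ ⟨r x, mem_AA_of_mem r K hx⟩ = ⟨r x⁻¹, mem_AA_of_mem r K (K.inv_mem hx)⟩) :=
  exists_sigma_of c hm (Cfsg.Agent.Lib.Helper51.PGVReg.ev_bijective r K B a c hm)

/-- **PGV-[REG-ASM]** (`end2_abs`) from `SimpleStruct`. -/
theorem end2_abs_of_struct (hs : SimpleStruct.{u}) [Finite H] [Finite W] (c : Cfg r K B a) :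
    2 * Nat.card B * Nat.card {w : W // r a w = w ∧ ∀ b ∈ B, r b w = w} < Nat.card W :=
  end2_abs_of c (Cfsg.Agent.Lib.Helper51.PGVReg.exists_pt r K B a c)
    (fun hm => Cfsg.Agent.Lib.Helper51.PGVReg.ev_bijective r K B a c hm) (ringThm_of_struct hs)

end reg

/-- **END2, in-situ form** (the interface RED -> END2) from `SimpleStruct`. -/
theorem end2_insitu_of_struct (hs : SimpleStruct.{v}) {G : Type u} {V : Type v} [Group G] [Finite G]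
    [AddCommGroup V] [Module (ZMod 2) V] [Finite V]
    (ρ : Representation (ZMod 2) G V) (K B : Subgroup G) (a : G)
    (ha2 : a * a = 1)
    (hKqs : IsQuasisimple K)
    (hcomm : ∀ x ∈ K, ∀ y ∈ K, x * (a * y * a⁻¹) = (a * y * a⁻¹) * x)
    (hB2 : ∀ b ∈ B, b * b = 1)
    (hBa : ∀ b ∈ B, b * a = a * b)
    (hBK : ∀ b ∈ B, ∀ x ∈ K, b * x * b⁻¹ ∈ K)
    (hBfaith : ∀ b ∈ B, (∀ x ∈ K, b * x * b⁻¹ = x) → b = 1)
    (V₁ V₂ : Submodule (ZMod 2) V) (h21 : V₂ ≤ V₁)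
    (hV₁ : ∀ g, (g ∈ K ∨ g ∈ B ∨ g = a) → ∀ v ∈ V₁, ρ g v ∈ V₁)
    (hV₂ : ∀ g, (g ∈ K ∨ g ∈ B ∨ g = a) → ∀ v ∈ V₂, ρ g v ∈ V₂)
    (hirr : ∀ U : Submodule (ZMod 2) V, V₂ ≤ U → U ≤ V₁ →
        (∀ g, (g ∈ K ∨ g ∈ B ∨ g = a) → ∀ v ∈ U, ρ g v ∈ U) → U = V₂ ∨ U = V₁)
    (hKnt : ∃ x ∈ K, ∃ v ∈ V₁, ρ x v - v ∉ V₂)
    (hHD : ∀ x ∈ K, ∀ v ∈ V₁, ρ (x * (a * x * a⁻¹)) (ρ a v - v) - (ρ a v - v) ∈ V₂) :
    2 * Nat.card B * Nat.card {v : V // v ∈ V₁ ∧ ρ a v - v ∈ V₂ ∧ ∀ b ∈ B, ρ b v - v ∈ V₂}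
      < Nat.card V₁ :=
  Cfsg.Agent.Lib.Helper74.PgvFront.end2_insitu_of
    (fun _ _ _ _ _ r K B a _ _ c => end2_abs_of_struct r K B a hs c)
    ρ K B a ha2 hKqs hcomm hB2 hBa hBK hBfaith V₁ V₂ h21 hV₁ hV₂ hirr hKnt hHD

end Cfsg.Agent.Lib.Helper94.PGV
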