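/-
Helper94: module TRI8-[S3C] for helper36 (S2607): an extension with the shape of
`Out PΩ⁺₈(q) = S₃ × C_f` is a direct product `S₃ × C`.
-/
import Mathlib
import Cfsg.Agent.S4062

set_option autoImplicit false

namespace Cfsg.Agent.Lib.Helper94.TriS3C

theorem out_equiv_S3_prod {A C : Type*} [Group A] [Finite A] [Group C] (N : Subgroup A) [N.Normal]
    (Γs : Subgroup A) (hidx : Γs.index = 3) (hN : N ≤ Γs)
    (fp : ↥Γs →* C) (s : C →* ↥Γs) (hs : ∀ c, fp (s c) = c)
    (hNk : N.subgroupOf Γs ≤ fp.ker) (hrel : (N.subgroupOf Γs).relIndex fp.ker = 2)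
    (τ : A) (hτ3 : τ * τ * τ = 1) (hτ : τ ∉ Γs)
    (γ : ↥Γs) (hγk : γ ∈ fp.ker) (hγτ : (γ : A) * τ * (γ : A)⁻¹ = τ⁻¹)
    (hsτ : ∀ c, ((s c : ↥Γs) : A) * τ = τ * ((s c : ↥Γs) : A)) :
    Nonempty (A ⧸ N ≃* Equiv.Perm (Fin 3) × C) := by
  classical
  have hsinj : Function.Injective s := fun a b h => by rw [← hs a, ← hs b, h]
  have : Finite C := Finite.of_injective s hsinj
  have hfps : Function.Surjective fp := fun c => ⟨s c, hs c⟩
  have hτinv : τ⁻¹ = τ * τ := by
    rw [inv_eq_iff_mul_eq_one, ← mul_assoc]; exact hτ3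
  have hτ2 : τ * τ ∉ Γs := by
    intro h
    apply hτ
    have := Γs.inv_mem h
    rwa [← hτinv, inv_inv] at this
  -- index two
  have key2 : ∀ x y : ↥Γs, x ∈ fp.ker → y ∈ fp.ker →
      ((((x * y : ↥Γs) : A) ∈ N) ↔ (((x : A) ∈ N) ↔ ((y : A) ∈ N))) := by
    intro x y hx hy
    have h := Subgroup.mul_mem_iff_of_index_two (H := (N.subgroupOf Γs).subgroupOf fp.ker) hrel
      (a := ⟨x, hx⟩) (b := ⟨y, hy⟩)
    simp only [Subgroup.mem_subgroupOf] at h
    exact h
  have hγN : (γ : A) ∉ N := by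
    intro h
    have h1 : (γ : A) * τ * (γ : A)⁻¹ * τ⁻¹ ∈ N := by
      have h2 : τ * (γ : A)⁻¹ * τ⁻¹ ∈ N := ‹N.Normal›.conj_mem _ (N.inv_mem h) τ
      have : (γ : A) * τ * (γ : A)⁻¹ * τ⁻¹ = (γ : A) * (τ * (γ : A)⁻¹ * τ⁻¹) := by group
      rw [this]
      exact N.mul_mem h h2
    rw [hγτ, hτinv] at h1
    apply hτ
    apply hN
    have e : τ = τ * τ * (τ * τ) := by
      calc τ = τ * (τ * τ * τ) := by rw [hτ3, mul_one]
        _ = τ * τ * (τ * τ) := by group
    rw [e]
    exact h1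
  have hγγ : (((γ * γ : ↥Γs) : A)) ∈ N := (key2 γ γ hγk hγk).2 Iff.rfl
  -- the quotient
  set π : A →* A ⧸ N := QuotientGroup.mk' N with hπ
  have hπN : ∀ a : A, π a = 1 ↔ a ∈ N := fun a => QuotientGroup.eq_one_iff a
  set t : A ⧸ N := π τ with ht
  set g : A ⧸ N := π (γ : A) with hg
  have ht3 : t * t * t = 1 := by rw [ht, ← map_mul, ← map_mul, hτ3, map_one]
  have htinv : t⁻¹ = t * t := by rw [ht, ← map_inv, hτinv, map_mul]
  have hg2 : g * g = 1 := by
    rw [hg, ← map_mul]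
    exact (hπN _).2 hγγ
  have hginv : g⁻¹ = g := inv_eq_of_mul_eq_one_right hg2
  have hgt : g * t = t * t * g := by
    have h1 : g * t * g⁻¹ = t⁻¹ := by rw [hg, ht, ← map_inv, ← map_mul, ← map_mul, hγτ, map_inv]
    rw [← htinv, ← h1]
    group
  let sb : C →* A ⧸ N := π.comp (Γs.subtype.comp s)
  have hsb : ∀ c, sb c = π ((s c : ↥Γs) : A) := fun c => rfl
  have hct : ∀ c, Commute t (sb c) := by
    intro c
    show t * sb c = sb c * t
    rw [hsb, ht, ← map_mul, ← map_mul, hsτ]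
  have hcg : ∀ c, Commute g (sb c) := by
    intro c
    show g * sb c = sb c * g
    -- s c * γ * (s c)⁻¹ * γ⁻¹ ∈ N
    have hk1 : s c * γ * (s c)⁻¹ ∈ fp.ker := by
      rw [MonoidHom.mem_ker, map_mul, map_mul, map_inv, MonoidHom.mem_ker.1 hγk]
      group
    have hk2 : γ⁻¹ ∈ fp.ker := fp.ker.inv_mem hγk
    have hn1 : ((s c * γ * (s c)⁻¹ : ↥Γs) : A) ∉ N := by
      intro h
      apply hγN
      have := ‹N.Normal›.conj_mem _ h ((s c : ↥Γs) : A)⁻¹
      have e : ((s c : ↥Γs) : A)⁻¹ * ((s c * γ * (s c)⁻¹ : ↥Γs) : A) * (((s c : ↥Γs) : A)⁻¹)⁻¹ =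
          (γ : A) := by
        push_cast
        group
      rwa [e] at this
    have hn2 : ((γ⁻¹ : ↥Γs) : A) ∉ N := by
      intro h
      apply hγN
      have := N.inv_mem h
      simpa using this
    have hmem : (((s c * γ * (s c)⁻¹ * γ⁻¹ : ↥Γs)) : A) ∈ N :=
      (key2 _ _ hk1 hk2).2 ⟨fun h => absurd h hn1, fun h => absurd h hn2⟩
    have h1 : π (((s c * γ * (s c)⁻¹ * γ⁻¹ : ↥Γs)) : A) = 1 := (hπN _).2 hmem
    have h2 : sb c * g * (sb c)⁻¹ * g⁻¹ = 1 := by
      rw [hsb, hg, ← map_inv, ← map_inv, ← map_mul, ← map_mul, ← map_mul]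
      have : ((s c : ↥Γs) : A) * (γ : A) * ((s c : ↥Γs) : A)⁻¹ * (γ : A)⁻¹ =
          (((s c * γ * (s c)⁻¹ * γ⁻¹ : ↥Γs)) : A) := by push_cast; rfl
      rw [this, h1]
    have h3 : sb c * g = g * sb c := by
      have := congrArg (fun x => x * g * sb c) h2
      simp only [one_mul] at this
      rw [← this]
      group
    exact h3.symm
  -- the dihedral part
  set H₁ : Subgroup (A ⧸ N) := Subgroup.closure {t, g} with hH₁
  have hcomm : ∀ (h : ↥H₁) (c : C), Commute (H₁.subtype h) (sb c) := by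
    intro h c
    have hle : H₁ ≤ Subgroup.centralizer {sb c} := by
      rw [hH₁, Subgroup.closure_le]
      intro x hx
      rw [SetLike.mem_coe, Subgroup.mem_centralizer_iff]
      intro y hy
      rw [Set.mem_singleton_iff] at hy
      subst hy
      rcases hx with rfl | rfl
      · exact (hct c).symm
      · exact (hcg c).symm
    have := Subgroup.mem_centralizer_iff.1 (hle h.2) (sb c) rfl
    exact this.symm
  -- normal form
  have hnf : ∀ x ∈ H₁, ∃ i : ℕ, x = t ^ i ∨ x = t ^ i * g := by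
    have step : ∀ x : A ⧸ N, (∃ i : ℕ, x = t ^ i ∨ x = t ^ i * g) →
        (∃ i : ℕ, x * t = t ^ i ∨ x * t = t ^ i * g) ∧
          (∃ i : ℕ, x * g = t ^ i ∨ x * g = t ^ i * g) := by
      rintro x ⟨i, rfl | rfl⟩
      · exact ⟨⟨i + 1, Or.inl (pow_succ t i).symm⟩, ⟨i, Or.inr rfl⟩⟩
      · refine ⟨⟨i + 2, Or.inr ?_⟩, ⟨i, Or.inl ?_⟩⟩
        · rw [mul_assoc, hgt, pow_add, pow_two]
          group
        · rw [mul_assoc, hg2, mul_one]
    intro x hx
    induction hx using Subgroup.closure_induction_right with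
    | one => exact ⟨0, Or.inl (pow_zero t).symm⟩
    | mul_right x hx y hy ih =>
      rcases hy with rfl | rfl
      · exact (step x ih).1
      · exact (step x ih).2
    | mul_inv_cancel x hx y hy ih =>
      rcases hy with rfl | rfl
      · rw [htinv, ← mul_assoc]
        exact (step _ (step x ih).1).1
      · rw [hginv]
        exact (step x ih).2
  -- powers of τ in Γs
  have hpow : ∀ i : ℕ, τ ^ i ∈ Γs → τ ^ i = 1 := by
    intro i hi
    have h3 : τ ^ 3 = 1 := by rw [pow_succ, pow_two]; exact hτ3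
    have e : τ ^ i = τ ^ (i % 3) := by
      conv_lhs => rw [← Nat.div_add_mod i 3, pow_add, pow_mul, h3, one_pow, one_mul]
    rw [e] at hi ⊢
    have hlt : i % 3 < 3 := Nat.mod_lt _ (by norm_num)
    interval_cases (i % 3)
    · exact pow_zero τ
    · rw [pow_one] at hi; exact absurd hi hτ
    · rw [pow_two] at hi; exact absurd hi hτ2
  -- the product map
  let Ψ : ↥H₁ × C →* A ⧸ N := MonoidHom.noncommCoprod H₁.subtype sb hcomm
  have hΨ : ∀ (h : ↥H₁) (c : C), Ψ (h, c) = (h : A ⧸ N) * sb c := fun h c => rfl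
  have hinj : Function.Injective Ψ := by
    rw [injective_iff_map_eq_one]
    rintro ⟨h, c⟩ hhc
    rw [hΨ] at hhc
    have hsbH : sb c ∈ H₁ := by
      have : sb c = (h : A ⧸ N)⁻¹ := (eq_inv_of_mul_eq_one_right hhc)
      rw [this]
      exact H₁.inv_mem h.2
    have hc1 : c = 1 := by
      obtain ⟨i, hi | hi⟩ := hnf _ hsbH
      · rw [hsb, ht, ← map_pow] at hi
        have h1 : (τ ^ i)⁻¹ * ((s c : ↥Γs) : A) ∈ N := by
          have := QuotientGroup.eq.1 hi.symm
          exact this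
        have h2 : τ ^ i ∈ Γs := by
          have h3 := Γs.mul_mem (s c).2 (Γs.inv_mem (hN h1))
          have e : ((s c : ↥Γs) : A) * ((τ ^ i)⁻¹ * ((s c : ↥Γs) : A))⁻¹ = τ ^ i := by group
          rwa [e] at h3
        rw [hpow i h2, inv_one, one_mul] at h1
        have h4 : s c ∈ fp.ker := hNk (Subgroup.mem_subgroupOf.2 h1)
        rw [MonoidHom.mem_ker, hs] at h4
        exact h4
      · rw [hsb, ht, hg, ← map_pow, ← map_mul] at hi
        have h1 : (τ ^ i * (γ : A))⁻¹ * ((s c : ↥Γs) : A) ∈ N := by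
          have := QuotientGroup.eq.1 hi.symm
          exact this
        have h2 : τ ^ i ∈ Γs := by
          have h3 := Γs.mul_mem (Γs.mul_mem (s c).2 (Γs.inv_mem (hN h1))) (Γs.inv_mem γ.2)
          have e : ((s c : ↥Γs) : A) * ((τ ^ i * (γ : A))⁻¹ * ((s c : ↥Γs) : A))⁻¹ * (γ : A)⁻¹ =
              τ ^ i := by group
          rwa [e] at h3
        rw [hpow i h2, one_mul] at h1
        have h4 : γ⁻¹ * s c ∈ fp.ker := hNk (Subgroup.mem_subgroupOf.2 (by push_cast; exact h1))
        rw [MonoidHom.mem_ker, map_mul, map_inv, MonoidHom.mem_ker.1 hγk, hs] at h4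
        simpa using h4
    subst hc1
    rw [map_one, mul_one] at hhc
    exact Prod.ext (Subtype.ext hhc) rfl
  -- the cosets of Γs
  have hcos : ∀ a : A, ∃ (j : ℕ) (h : A), h ∈ Γs ∧ a = τ ^ j * h := by
    intro a
    have : Fintype (A ⧸ Γs) := Fintype.ofFinite _
    have hcard : Fintype.card (A ⧸ Γs) = 3 := by
      rw [← Nat.card_eq_fintype_card]; exact hidx
    set q₀ : A ⧸ Γs := QuotientGroup.mk 1 with hq₀
    set q₁ : A ⧸ Γs := QuotientGroup.mk τ with hq₁
    set q₂ : A ⧸ Γs := QuotientGroup.mk (τ * τ) with hq₂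
    have h01 : q₀ ≠ q₁ := by
      intro h
      have := QuotientGroup.eq.1 h
      rw [inv_one, one_mul] at this
      exact hτ this
    have h02 : q₀ ≠ q₂ := by
      intro h
      have := QuotientGroup.eq.1 h
      rw [inv_one, one_mul] at this
      exact hτ2 this
    have h12 : q₁ ≠ q₂ := by
      intro h
      have := QuotientGroup.eq.1 h
      rw [← mul_assoc, inv_mul_cancel, one_mul] at this
      exact hτ this
    have huniv : ({q₀, q₁, q₂} : Finset (A ⧸ Γs)) = Finset.univ := by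
      apply Finset.eq_univ_of_card
      rw [Finset.card_insert_of_notMem, Finset.card_insert_of_notMem, Finset.card_singleton, hcard]
      · simpa using h12
      · simp only [Finset.mem_insert, Finset.mem_singleton, not_or]
        exact ⟨h01, h02⟩
    have hmem : (QuotientGroup.mk a : A ⧸ Γs) ∈ ({q₀, q₁, q₂} : Finset (A ⧸ Γs)) := by
      rw [huniv]; exact Finset.mem_univ _
    simp only [Finset.mem_insert, Finset.mem_singleton] at hmem
    rcases hmem with h | h | h
    · refine ⟨0, a, ?_, by rw [pow_zero, one_mul]⟩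
      have := QuotientGroup.eq.1 h.symm
      rwa [inv_one, one_mul] at this
    · refine ⟨1, τ⁻¹ * a, QuotientGroup.eq.1 h.symm, by rw [pow_one]; group⟩
    · refine ⟨2, (τ * τ)⁻¹ * a, QuotientGroup.eq.1 h.symm, by rw [pow_two]; group⟩
  have htH : t ∈ H₁ := Subgroup.subset_closure (by simp)
  have hgH : g ∈ H₁ := Subgroup.subset_closure (by simp)
  have hsurj : Function.Surjective Ψ := by
    intro x
    obtain ⟨a, rfl⟩ := QuotientGroup.mk_surjective x
    obtain ⟨j, h, hh, rfl⟩ := hcos a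
    set c : C := fp ⟨h, hh⟩ with hc
    set k : ↥Γs := ⟨h, hh⟩ * (s c)⁻¹ with hk
    have hkk : k ∈ fp.ker := by
      rw [MonoidHom.mem_ker, hk, map_mul, map_inv, hs, ← hc, mul_inv_cancel]
    have hhk : h = (k : A) * ((s c : ↥Γs) : A) := by
      rw [hk]; push_cast; group
    by_cases hkN : (k : A) ∈ N
    · refine ⟨(⟨t ^ j, H₁.pow_mem htH j⟩, c), ?_⟩
      rw [hΨ, hsb]
      show t ^ j * π ((s c : ↥Γs) : A) = π (τ ^ j * h)
      rw [hhk, map_mul, map_mul, map_pow, (hπN _).2 hkN, one_mul]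
    · refine ⟨(⟨t ^ j * g, H₁.mul_mem (H₁.pow_mem htH j) hgH⟩, c), ?_⟩
      rw [hΨ, hsb]
      show t ^ j * g * π ((s c : ↥Γs) : A) = π (τ ^ j * h)
      have hk2 : γ⁻¹ ∈ fp.ker := fp.ker.inv_mem hγk
      have hn2 : ((γ⁻¹ : ↥Γs) : A) ∉ N := by
        intro h'
        apply hγN
        have := N.inv_mem h'
        simpa using this
      have hmem : (((k * γ⁻¹ : ↥Γs)) : A) ∈ N :=
        (key2 _ _ hkk hk2).2 ⟨fun h' => absurd h' hkN, fun h' => absurd h' hn2⟩
      have e1 : π (k : A) = g := by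
        have h1 : π (((k * γ⁻¹ : ↥Γs)) : A) = 1 := (hπN _).2 hmem
        have h2 : π (k : A) * g⁻¹ = 1 := by
          rw [hg, ← map_inv, ← map_mul]
          have : (k : A) * (γ : A)⁻¹ = (((k * γ⁻¹ : ↥Γs)) : A) := by push_cast; rfl
          rw [this, h1]
        exact mul_inv_eq_one.1 h2
      rw [hhk, map_mul, map_mul, map_pow, e1, mul_assoc]
  have hbij : Function.Bijective Ψ := ⟨hinj, hsurj⟩
  -- cardinalities
  have hcardX : Nat.card (A ⧸ N) = 6 * Nat.card C := by
    have h1 : N.index = N.relIndex Γs * Γs.index := (Subgroup.relIndex_mul_index hN).symm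
    have h2 : (N.subgroupOf Γs).index = (N.subgroupOf Γs).relIndex fp.ker * fp.ker.index :=
      (Subgroup.relIndex_mul_index hNk).symm
    have h3 : fp.ker.index = Nat.card C := by
      rw [Subgroup.index_ker, MonoidHom.range_eq_top.2 hfps]
      exact Nat.card_congr (Subgroup.topEquiv).toEquiv
    have h4 : N.relIndex Γs = (N.subgroupOf Γs).index := rfl
    show N.index = 6 * Nat.card C
    rw [h1, h4, h2, hrel, h3, hidx]
    ring
  have hcardH : Nat.card ↥H₁ = 6 := by
    have h1 : Nat.card (↥H₁ × C) = Nat.card (A ⧸ N) := Nat.card_congr (Equiv.ofBijective Ψ hbij)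
    rw [Nat.card_prod, hcardX] at h1
    have hC : 0 < Nat.card C := Nat.card_pos
    nlinarith
  have hnab : ¬ ∀ a b : ↥H₁, a * b = b * a := by
    intro hab
    have h1 := hab ⟨g, hgH⟩ ⟨t, htH⟩
    have h2 : g * t = t * g := congrArg Subtype.val h1
    rw [hgt] at h2
    have h3 : t = 1 := by
      have := mul_right_cancel h2
      have h4 : t * t = t * 1 := by rw [mul_one]; exact this
      exact mul_left_cancel h4
    apply hτ
    apply hN
    exact (hπN τ).1 h3
  obtain ⟨e₁⟩ := Cfsg.Agent.S4062.perm3_of_card_six hcardH hnab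
  exact ⟨(MulEquiv.ofBijective Ψ hbij).symm.trans (e₁.prodCongr (MulEquiv.refl C))⟩

end Cfsg.Agent.Lib.Helper94.TriS3C
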