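/-
Helper94: backup for module TRI8-[AB5] of helper36 (S2608): an extension with the shape of
`Out PΩ⁺₈(q) = S₄ × C_f`, `q` odd, is a direct product `S₄ × C`.
-/
import Mathlib

set_option autoImplicit false

namespace Cfsg.Agent.Lib.Helper94.TriS4C

/-- Recognition of `S₄`: a group of order `24` with a normal subgroup `V` of order at most `4` and
a complement `H` acting faithfully on `V`. -/
theorem perm4_of_complement {S : Type*} [Group S] [Finite S] (V H : Subgroup S) [V.Normal]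
    (hcard : Nat.card S = 24) (hV : Nat.card V ≤ 4)
    (hmul : ∀ x : S, ∃ v ∈ V, ∃ h ∈ H, x = v * h)
    (hdisj : ∀ x, x ∈ V → x ∈ H → x = 1)
    (hfaith : ∀ h ∈ H, (∀ v ∈ V, h * v = v * h) → h = 1) :
    Nonempty (S ≃* Equiv.Perm (Fin 4)) := by
  classical
  set ρ : S →* Equiv.Perm (S ⧸ H) := MulAction.toPermHom S (S ⧸ H) with hρ
  have hinj : Function.Injective ρ := by
    rw [injective_iff_map_eq_one]
    intro x hx
    have hxk : x ∈ H.normalCore := by
      rw [Subgroup.normalCore_eq_ker]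
      exact hx
    have hxH : x ∈ H := by
      have := hxk 1
      simpa using this
    apply hfaith x hxH
    intro v hv
    have h1 : v * x * v⁻¹ ∈ H := hxk v
    have h2 : v * x * v⁻¹ * x⁻¹ ∈ H := H.mul_mem h1 (H.inv_mem hxH)
    have h3 : v * x * v⁻¹ * x⁻¹ ∈ V := by
      have : x * v⁻¹ * x⁻¹ ∈ V := ‹V.Normal›.conj_mem _ (V.inv_mem hv) x
      have e : v * x * v⁻¹ * x⁻¹ = v * (x * v⁻¹ * x⁻¹) := by group
      rw [e]
      exact V.mul_mem hv this
    have h4 := hdisj _ h3 h2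
    have h5 : v * x = x * v := by
      have := congrArg (fun y => y * x * v) h4
      simp only [one_mul] at this
      rw [← this]
      group
    exact h5.symm
  -- the number of cosets
  have hsurjV : Function.Surjective (fun v : ↥V => (QuotientGroup.mk (v : S) : S ⧸ H)) := by
    intro q
    obtain ⟨x, rfl⟩ := QuotientGroup.mk_surjective q
    obtain ⟨v, hv, h, hh, rfl⟩ := hmul x
    refine ⟨⟨v, hv⟩, ?_⟩
    show (QuotientGroup.mk v : S ⧸ H) = QuotientGroup.mk (v * h)
    rw [QuotientGroup.eq]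
    have : v⁻¹ * (v * h) = h := by group
    rw [this]
    exact hh
  have hn4 : Nat.card (S ⧸ H) ≤ 4 :=
    (Nat.card_le_card_of_surjective _ hsurjV).trans hV
  have h24 : 24 ≤ (Nat.card (S ⧸ H)).factorial := by
    rw [← Nat.card_perm, ← hcard]
    exact Nat.card_le_card_of_injective ρ hinj
  have hn : Nat.card (S ⧸ H) = 4 := by
    have : ∀ n : ℕ, n ≤ 4 → 24 ≤ n.factorial → n = 4 := by
      intro n hn
      interval_cases n <;> simp [Nat.factorial]
    exact this _ hn4 h24
  have hbij : Function.Bijective ρ := by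
    rw [Nat.bijective_iff_injective_and_card]
    refine ⟨hinj, ?_⟩
    rw [Nat.card_perm, hn, hcard]
    rfl
  have e : (S ⧸ H) ≃ Fin 4 := Finite.equivFinOfCardEq hn
  exact ⟨(MulEquiv.ofBijective ρ hbij).trans e.permCongrHom⟩

/-- a subgroup of order four containing three distinct non-identity elements -/
theorem four_enum {G : Type*} [Group G] (V : Subgroup G) (hV : Nat.card V = 4) (a b c : G)
    (ha : a ∈ V) (hb : b ∈ V) (hc : c ∈ V) (ha1 : a ≠ 1) (hb1 : b ≠ 1) (hc1 : c ≠ 1)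
    (hab : a ≠ b) (hac : a ≠ c) (hbc : b ≠ c) :
    ∀ v ∈ V, v = 1 ∨ v = a ∨ v = b ∨ v = c := by
  classical
  have hfin : Finite ↥V := Nat.finite_of_card_ne_zero (by rw [hV]; norm_num)
  have hsub : ({1, a, b, c} : Set G) ⊆ (V : Set G) := by
    intro y hy
    simp only [Set.mem_insert_iff, Set.mem_singleton_iff] at hy
    rcases hy with rfl | rfl | rfl | rfl
    · exact V.one_mem
    · exact ha
    · exact hb
    · exact hc
  have hcard : ({1, a, b, c} : Set G).ncard = 4 := by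
    rw [Set.ncard_insert_of_notMem, Set.ncard_insert_of_notMem, Set.ncard_pair hbc]
    · simp only [Set.mem_insert_iff, Set.mem_singleton_iff, not_or]
      exact ⟨hab, hac⟩
    · simp only [Set.mem_insert_iff, Set.mem_singleton_iff, not_or]
      exact ⟨ha1.symm, hb1.symm, hc1.symm⟩
  have hVfin : (V : Set G).Finite := Set.toFinite _
  have heq : ({1, a, b, c} : Set G) = (V : Set G) := by
    apply Set.eq_of_subset_of_ncard_le hsub _ hVfin
    rw [hcard, ← hV]
    exact le_of_eq (Nat.card_coe_set_eq (V : Set G)).symm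
  intro v hv
  have : v ∈ ({1, a, b, c} : Set G) := by rw [heq]; exact hv
  simpa only [Set.mem_insert_iff, Set.mem_singleton_iff] using this

theorem out_equiv_S4_prod {A C : Type*} [Group A] [Finite A] [Group C] (N : Subgroup A) [N.Normal]
    (Γs : Subgroup A) (hidx : Γs.index = 3)
    (fp : ↥Γs →* C) (s : C →* ↥Γs) (hs : ∀ c, fp (s c) = c)
    (I : Subgroup A) [I.Normal] (hNI : N ≤ I) (hIΓ : I ≤ Γs) (hIk : I.subgroupOf Γs ≤ fp.ker)
    (hrelNI : N.relIndex I = 4) (hexp : ∀ x ∈ I, x * x ∈ N)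
    (hrelIK : (I.subgroupOf Γs).relIndex fp.ker = 2)
    (τ : A) (hτ3 : τ * τ * τ = 1) (hτ : τ ∉ Γs)
    (γ : ↥Γs) (hγk : γ ∈ fp.ker) (hγI : (γ : A) ∉ I) (hγ2 : (γ : A) * (γ : A) = 1)
    (hγτ : (γ : A) * τ * (γ : A)⁻¹ = τ⁻¹)
    (hsτ : ∀ c, ((s c : ↥Γs) : A) * τ = τ * ((s c : ↥Γs) : A))
    (hsγ : ∀ c, ((s c : ↥Γs) : A) * (γ : A) = (γ : A) * ((s c : ↥Γs) : A))
    (hτI : ∃ x ∈ I, τ * x * τ⁻¹ * x⁻¹ ∉ N) :
    Nonempty (A ⧸ N ≃* Equiv.Perm (Fin 4) × C) := by
  classical
  have hsinj : Function.Injective s := fun a b h => by rw [← hs a, ← hs b, h]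
  have : Finite C := Finite.of_injective s hsinj
  have hfps : Function.Surjective fp := fun c => ⟨s c, hs c⟩
  have hNΓ : N ≤ Γs := hNI.trans hIΓ
  have hτinv : τ⁻¹ = τ * τ := by
    rw [inv_eq_iff_mul_eq_one, ← mul_assoc]; exact hτ3
  have hτ2 : τ * τ ∉ Γs := by
    intro h
    apply hτ
    have := Γs.inv_mem h
    rwa [← hτinv, inv_inv] at this
  -- index two
  have key2 : ∀ x y : ↥Γs, x ∈ fp.ker → y ∈ fp.ker →
      ((((x * y : ↥Γs) : A) ∈ I) ↔ (((x : A) ∈ I) ↔ ((y : A) ∈ I))) := by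
    intro x y hx hy
    have h := Subgroup.mul_mem_iff_of_index_two (H := (I.subgroupOf Γs).subgroupOf fp.ker) hrelIK
      (a := ⟨x, hx⟩) (b := ⟨y, hy⟩)
    simp only [Subgroup.mem_subgroupOf] at h
    exact h
  have hfpI : ∀ (x : A) (hx : x ∈ I), fp ⟨x, hIΓ hx⟩ = 1 := by
    intro x hx
    have : (⟨x, hIΓ hx⟩ : ↥Γs) ∈ fp.ker := hIk (Subgroup.mem_subgroupOf.2 hx)
    exact this
  -- the quotient
  set π : A →* A ⧸ N := QuotientGroup.mk' N with hπ
  have hπN : ∀ a : A, π a = 1 ↔ a ∈ N := fun a => QuotientGroup.eq_one_iff a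
  have hπeq : ∀ a b : A, π a = π b → a⁻¹ * b ∈ N := fun a b h => QuotientGroup.eq.1 h
  set t : A ⧸ N := π τ with ht
  set g : A ⧸ N := π (γ : A) with hg
  have ht3 : t * t * t = 1 := by rw [ht, ← map_mul, ← map_mul, hτ3, map_one]
  have htinv : t⁻¹ = t * t := by rw [ht, ← map_inv, hτinv, map_mul]
  have hg2 : g * g = 1 := by rw [hg, ← map_mul, hγ2, map_one]
  have hginv : g⁻¹ = g := inv_eq_of_mul_eq_one_right hg2
  have hgtg : g * t * g⁻¹ = t⁻¹ := by
    rw [hg, ht, ← map_inv, ← map_mul, ← map_mul, hγτ, map_inv]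
  have hgt : g * t = t * t * g := by
    rw [← htinv, ← hgtg]
    group
  let sb : C →* A ⧸ N := π.comp (Γs.subtype.comp s)
  have hsb : ∀ c, sb c = π ((s c : ↥Γs) : A) := fun c => rfl
  have hct : ∀ c, Commute t (sb c) := by
    intro c
    show t * sb c = sb c * t
    rw [hsb, ht, ← map_mul, ← map_mul, hsτ]
  have hcg : ∀ c, Commute g (sb c) := by
    intro c
    show g * sb c = sb c * g
    rw [hsb, hg, ← map_mul, ← map_mul, hsγ]
  -- the dihedral part
  set H₁ : Subgroup (A ⧸ N) := Subgroup.closure {t, g} with hH₁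
  have htH : t ∈ H₁ := Subgroup.subset_closure (by simp)
  have hgH : g ∈ H₁ := Subgroup.subset_closure (by simp)
  have hH₁c : ∀ c, H₁ ≤ Subgroup.centralizer {sb c} := by
    intro c
    rw [hH₁, Subgroup.closure_le]
    intro x hx
    rw [SetLike.mem_coe, Subgroup.mem_centralizer_iff]
    intro y hy
    rw [Set.mem_singleton_iff] at hy
    subst hy
    rcases hx with rfl | rfl
    · exact (hct c).symm
    · exact (hcg c).symm
  -- normal form
  have hnf : ∀ x ∈ H₁, ∃ i : ℕ, x = t ^ i ∨ x = t ^ i * g := by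
    have step : ∀ x : A ⧸ N, (∃ i : ℕ, x = t ^ i ∨ x = t ^ i * g) →
        (∃ i : ℕ, x * t = t ^ i ∨ x * t = t ^ i * g) ∧
          (∃ i : ℕ, x * g = t ^ i ∨ x * g = t ^ i * g) := by
      rintro x ⟨i, rfl | rfl⟩
      · exact ⟨⟨i + 1, Or.inl (pow_succ t i).symm⟩, ⟨i, Or.inr rfl⟩⟩
      · refine ⟨⟨i + 2, Or.inr ?_⟩, ⟨i, Or.inl ?_⟩⟩
        · rw [mul_assoc, hgt, pow_add, pow_two]
          group
        · rw [mul_assoc, hg2, mul_one]
    intro x hx
    induction hx using Subgroup.closure_induction_right with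
    | one => exact ⟨0, Or.inl (pow_zero t).symm⟩
    | mul_right x hx y hy ih =>
      rcases hy with rfl | rfl
      · exact (step x ih).1
      · exact (step x ih).2
    | mul_inv_cancel x hx y hy ih =>
      rcases hy with rfl | rfl
      · rw [htinv, ← mul_assoc]
        exact (step _ (step x ih).1).1
      · rw [hginv]
        exact (step x ih).2
  -- powers of τ in Γs
  have hτpow3 : τ ^ 3 = 1 := by rw [pow_succ, pow_two]; exact hτ3
  have hpow : ∀ i : ℕ, τ ^ i ∈ Γs → τ ^ i = 1 := by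
    intro i hi
    have e : τ ^ i = τ ^ (i % 3) := by
      conv_lhs => rw [← Nat.div_add_mod i 3, pow_add, pow_mul, hτpow3, one_pow, one_mul]
    rw [e] at hi ⊢
    have hlt : i % 3 < 3 := Nat.mod_lt _ (by norm_num)
    interval_cases (i % 3)
    · exact pow_zero τ
    · rw [pow_one] at hi; exact absurd hi hτ
    · rw [pow_two] at hi; exact absurd hi hτ2
  -- the four-group
  set V : Subgroup (A ⧸ N) := I.map π with hVdef
  have hVn : V.Normal := Subgroup.Normal.map ‹I.Normal› π (QuotientGroup.mk'_surjective N)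
  have hπV : ∀ a : A, π a ∈ V ↔ a ∈ I := by
    intro a
    constructor
    · intro h
      obtain ⟨b, hb, hab⟩ := Subgroup.mem_map.1 h
      have h1 : b⁻¹ * a ∈ N := hπeq b a hab
      have h2 := I.mul_mem hb (hNI h1)
      have e : b * (b⁻¹ * a) = a := by group
      rwa [e] at h2
    · intro h
      exact Subgroup.mem_map.2 ⟨a, h, rfl⟩
  have hVexp : ∀ v ∈ V, v * v = 1 := by
    intro v hv
    obtain ⟨b, hb, rfl⟩ := Subgroup.mem_map.1 hv
    rw [← map_mul]
    exact (hπN _).2 (hexp b hb)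
  have hV4 : Nat.card V = 4 := by
    let f : ↥I →* A ⧸ N := π.comp I.subtype
    have hker : f.ker = N.subgroupOf I := by
      ext x
      rw [MonoidHom.mem_ker, Subgroup.mem_subgroupOf]
      exact hπN _
    have hrange : f.range = V := by
      ext y
      constructor
      · rintro ⟨x, rfl⟩
        exact Subgroup.mem_map.2 ⟨x, x.2, rfl⟩
      · intro hy
        obtain ⟨b, hb, rfl⟩ := Subgroup.mem_map.1 hy
        exact ⟨⟨b, hb⟩, rfl⟩
    have h1 := Subgroup.index_ker f
    rw [hker, hrange] at h1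
    rw [← h1]
    exact hrelNI
  -- t acts on V without fixed points
  obtain ⟨x₀, hx₀I, hx₀⟩ := hτI
  set v₀ : A ⧸ N := π x₀ with hv₀
  have hv₀V : v₀ ∈ V := (hπV x₀).2 hx₀I
  set v₁ : A ⧸ N := t * v₀ * t⁻¹ with hv₁
  set v₂ : A ⧸ N := t * v₁ * t⁻¹ with hv₂
  have hv₁V : v₁ ∈ V := hVn.conj_mem _ hv₀V t
  have hv₂V : v₂ ∈ V := hVn.conj_mem _ hv₁V t
  have h10 : v₁ ≠ v₀ := by
    intro h
    apply hx₀
    rw [← hπN, map_mul, map_mul, map_mul, map_inv, map_inv]
    show t * v₀ * t⁻¹ * v₀⁻¹ = 1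
    rw [← hv₁, h, mul_inv_cancel]
  have htv₂ : t * v₂ * t⁻¹ = v₀ := by
    rw [hv₂, hv₁]
    have e : t * (t * (t * v₀ * t⁻¹) * t⁻¹) * t⁻¹ = (t * t * t) * v₀ * (t * t * t)⁻¹ := by group
    rw [e, ht3, one_mul, inv_one, mul_one]
  have hv₀1 : v₀ ≠ 1 := by
    intro h
    apply h10
    rw [hv₁, h, mul_one, mul_inv_cancel]
  have hv₁1 : v₁ ≠ 1 := by
    intro h
    apply hv₀1
    have : t⁻¹ * v₁ * t = v₀ := by rw [hv₁]; group
    rw [← this, h, mul_one, inv_mul_cancel]
  have hv₂1 : v₂ ≠ 1 := by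
    intro h
    apply hv₁1
    have : t⁻¹ * v₂ * t = v₁ := by rw [hv₂]; group
    rw [← this, h, mul_one, inv_mul_cancel]
  have h12 : v₁ ≠ v₂ := by
    intro h
    apply h10
    have e1 : t⁻¹ * v₁ * t = v₀ := by rw [hv₁]; group
    have e2 : t⁻¹ * v₂ * t = v₁ := by rw [hv₂]; group
    rw [← e2, ← h, e1]
  have h02 : v₀ ≠ v₂ := by
    intro h
    apply h10
    have : t * v₀ * t⁻¹ = t * v₂ * t⁻¹ := by rw [← h]
    rw [htv₂] at this
    exact this
  have hVenum : ∀ v ∈ V, v = 1 ∨ v = v₀ ∨ v = v₁ ∨ v = v₂ :=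
    four_enum V hV4 v₀ v₁ v₂ hv₀V hv₁V hv₂V hv₀1 hv₁1 hv₂1 h10.symm h02 h12
  -- t does not centralise V
  have htcent : ¬ ∀ w ∈ V, t * w = w * t := by
    intro h
    apply h10
    rw [hv₁, h v₀ hv₀V, mul_assoc, mul_inv_cancel, mul_one]
  have httcent : ¬ ∀ w ∈ V, (t * t) * w = w * (t * t) := by
    intro h
    apply htcent
    intro w hw
    have e : t = (t * t) * (t * t) := by
      calc t = t * (t * t * t) := by rw [ht3, mul_one]
        _ = (t * t) * (t * t) := by group
    rw [e, mul_assoc, h w hw, ← mul_assoc, h w hw, mul_assoc]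
  -- the field part centralises V
  have hVc : ∀ c, V ≤ Subgroup.centralizer {sb c} := by
    intro c
    set x : A ⧸ N := sb c with hx
    have hxt : x * t = t * x := (hct c).symm
    have hxg : x * g = g * x := (hcg c).symm
    have hxt' : x * t⁻¹ = t⁻¹ * x := (Commute.inv_right (show Commute x t from hxt)).eq
    have hxg' : x * g⁻¹ = g⁻¹ * x := by rw [hginv]; exact hxg
    -- the key lemma
    have key : ∀ u : A ⧸ N, u * t = t * u → g * u * g⁻¹ = u⁻¹ → x * v₀ * x⁻¹ = u * v₀ * u⁻¹ →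
        ∀ w ∈ V, (u * u) * w = w * (u * u) := by
      intro u hut hgu hxv
      have hut' : u * t⁻¹ = t⁻¹ * u := (Commute.inv_right (show Commute u t from hut)).eq
      have hstep : ∀ v : A ⧸ N, x * v * x⁻¹ = u * v * u⁻¹ →
          x * (t * v * t⁻¹) * x⁻¹ = u * (t * v * t⁻¹) * u⁻¹ := by
        intro v hv
        have e1 : x * (t * v * t⁻¹) * x⁻¹ = t * (x * v * x⁻¹) * t⁻¹ := by
          have h1 : x * (t * v * t⁻¹) * x⁻¹ = (x * t) * v * (x * t)⁻¹ := by group
          rw [h1, hxt]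
          group
        have e2 : u * (t * v * t⁻¹) * u⁻¹ = t * (u * v * u⁻¹) * t⁻¹ := by
          have h1 : u * (t * v * t⁻¹) * u⁻¹ = (u * t) * v * (u * t)⁻¹ := by group
          rw [h1, hut]
          group
        rw [e1, e2, hv]
      have hall : ∀ v ∈ V, x * v * x⁻¹ = u * v * u⁻¹ := by
        intro v hv
        rcases hVenum v hv with rfl | rfl | rfl | rfl
        · simp
        · exact hxv
        · exact hstep v₀ hxv
        · exact hstep v₁ (hstep v₀ hxv)
      intro w hw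
      have hw' : g⁻¹ * w * g ∈ V := by
        have := hVn.conj_mem _ hw g⁻¹
        rwa [inv_inv] at this
      have h1 := hall w hw
      have h2 := hall _ hw'
      -- conjugate h2 by g
      have h3 : x * w * x⁻¹ = u⁻¹ * w * u := by
        have e1 : x * w * x⁻¹ = g * (x * (g⁻¹ * w * g) * x⁻¹) * g⁻¹ := by
          have h4 : g * (x * (g⁻¹ * w * g) * x⁻¹) * g⁻¹ = (g * x * g⁻¹) * w * (g * x * g⁻¹)⁻¹ := by
            group
          have h5 : g * x * g⁻¹ = x := by rw [← hxg]; group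
          rw [h4, h5]
        rw [e1, h2]
        have e2 : g * (u * (g⁻¹ * w * g) * u⁻¹) * g⁻¹ = (g * u * g⁻¹) * w * (g * u * g⁻¹)⁻¹ := by
          group
        rw [e2, hgu, inv_inv]
      rw [h1] at h3
      -- u w u⁻¹ = u⁻¹ w u
      have h6 := congrArg (fun y => u * y * u) h3
      beta_reduce at h6
      have e3 : u * (u * w * u⁻¹) * u = u * u * w := by group
      have e4 : u * (u⁻¹ * w * u) * u = w * (u * u) := by group
      rw [e3, e4] at h6
      exact h6
    have hxv₀ : x * v₀ * x⁻¹ ∈ V := hVn.conj_mem _ hv₀V x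
    have hfix : x * v₀ * x⁻¹ = v₀ := by
      rcases hVenum _ hxv₀ with h | h | h | h
      · exfalso
        apply hv₀1
        have : v₀ = x⁻¹ * (x * v₀ * x⁻¹) * x := by group
        rw [this, h, mul_one, inv_mul_cancel]
      · exact h
      · exfalso
        apply httcent
        exact key t rfl hgtg (by rw [h])
      · exfalso
        apply htcent
        have hu : g * (t * t) * g⁻¹ = (t * t)⁻¹ := by
          have e : g * (t * t) * g⁻¹ = (g * t * g⁻¹) * (g * t * g⁻¹) := by group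
          rw [e, hgtg]
          group
        have hv : x * v₀ * x⁻¹ = (t * t) * v₀ * (t * t)⁻¹ := by
          rw [h, hv₂, hv₁]
          group
        have h4 := key (t * t) (by group) hu hv
        intro w hw
        have e : t = (t * t) * (t * t) := by
          calc t = t * (t * t * t) := by rw [ht3, mul_one]
            _ = (t * t) * (t * t) := by group
        have := h4 w hw
        rw [← e] at this
        exact this
    have hstep' : ∀ v : A ⧸ N, x * v * x⁻¹ = v → x * (t * v * t⁻¹) * x⁻¹ = t * v * t⁻¹ := by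
      intro v hv
      have h1 : x * (t * v * t⁻¹) * x⁻¹ = (x * t) * v * (x * t)⁻¹ := by group
      rw [h1, hxt]
      have h2 : t * x * v * (t * x)⁻¹ = t * (x * v * x⁻¹) * t⁻¹ := by group
      rw [h2, hv]
    intro v hv
    rw [Subgroup.mem_centralizer_iff]
    intro y hy
    rw [Set.mem_singleton_iff] at hy
    subst hy
    have hconj : x * v * x⁻¹ = v := by
      rcases hVenum v hv with rfl | rfl | rfl | rfl
      · simp
      · exact hfix
      · exact hstep' v₀ hfix
      · exact hstep' v₁ (hstep' v₀ hfix)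
    have := congrArg (fun z => z * x) hconj
    beta_reduce at this
    rw [inv_mul_cancel_right] at this
    exact this
  -- S
  set S : Subgroup (A ⧸ N) := V ⊔ H₁ with hS
  have hVS : V ≤ S := le_sup_left
  have hHS : H₁ ≤ S := le_sup_right
  have hSmem : ∀ y, y ∈ S ↔ ∃ v ∈ V, ∃ h ∈ H₁, y = v * h := by
    intro y
    rw [← SetLike.mem_coe, hS, Subgroup.normal_mul, Set.mem_mul]
    constructor
    · rintro ⟨v, hv, h, hh, rfl⟩
      exact ⟨v, hv, h, hh, rfl⟩
    · rintro ⟨v, hv, h, hh, rfl⟩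
      exact ⟨v, hv, h, hh, rfl⟩
  have hcommS : ∀ (m : ↥S) (c : C), Commute (S.subtype m) (sb c) := by
    intro m c
    have hle : S ≤ Subgroup.centralizer {sb c} := sup_le (hVc c) (hH₁c c)
    have := Subgroup.mem_centralizer_iff.1 (hle m.2) (sb c) rfl
    exact this.symm
  -- elements of S that come from Γs
  have hSΓ : ∀ (y : A ⧸ N) (b : ↥Γs), y ∈ S → π (b : A) = y → fp b = 1 := by
    intro y b hy hb
    obtain ⟨v, hv, h, hh, rfl⟩ := (hSmem y).1 hy
    obtain ⟨x, hxI, rfl⟩ := Subgroup.mem_map.1 hv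
    have hxΓ : x ∈ Γs := hIΓ hxI
    obtain ⟨i, hi | hi⟩ := hnf h hh
    · rw [hi, ht, ← map_pow, ← map_mul] at hb
      have h1 : (x * τ ^ i)⁻¹ * (b : A) ∈ N := hπeq _ _ hb.symm
      have h2 : τ ^ i ∈ Γs := by
        have h3 := Γs.mul_mem (Γs.inv_mem hxΓ) (Γs.mul_mem b.2 (Γs.inv_mem (hNΓ h1)))
        have e : x⁻¹ * ((b : A) * ((x * τ ^ i)⁻¹ * (b : A))⁻¹) = τ ^ i := by group
        rwa [e] at h3
      rw [hpow i h2, mul_one] at h1
      have h4 : (⟨x, hxΓ⟩ : ↥Γs)⁻¹ * b ∈ fp.ker :=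
        hIk (Subgroup.mem_subgroupOf.2 (hNI (by push_cast; exact h1)))
      rw [MonoidHom.mem_ker, map_mul, map_inv, hfpI x hxI, inv_one, one_mul] at h4
      exact h4
    · rw [hi, ht, hg, ← map_pow, ← map_mul, ← map_mul] at hb
      have h1 : (x * (τ ^ i * (γ : A)))⁻¹ * (b : A) ∈ N := hπeq _ _ hb.symm
      have h2 : τ ^ i ∈ Γs := by
        have h3 := Γs.mul_mem (Γs.mul_mem (Γs.inv_mem hxΓ)
          (Γs.mul_mem b.2 (Γs.inv_mem (hNΓ h1)))) (Γs.inv_mem γ.2)
        have e : x⁻¹ * ((b : A) * ((x * (τ ^ i * (γ : A)))⁻¹ * (b : A))⁻¹) * (γ : A)⁻¹ =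
            τ ^ i := by group
        rwa [e] at h3
      rw [hpow i h2, one_mul] at h1
      have h4 : ((⟨x, hxΓ⟩ : ↥Γs) * γ)⁻¹ * b ∈ fp.ker :=
        hIk (Subgroup.mem_subgroupOf.2 (hNI (by push_cast; exact h1)))
      rw [MonoidHom.mem_ker, map_mul, map_inv, map_mul, hfpI x hxI, MonoidHom.mem_ker.1 hγk,
        one_mul, inv_one, one_mul] at h4
      exact h4
  -- the product map
  let Ψ : ↥S × C →* A ⧸ N := MonoidHom.noncommCoprod S.subtype sb hcommS
  have hΨ : ∀ (m : ↥S) (c : C), Ψ (m, c) = (m : A ⧸ N) * sb c := fun m c => rfl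
  have hinj : Function.Injective Ψ := by
    rw [injective_iff_map_eq_one]
    rintro ⟨m, c⟩ hmc
    rw [hΨ] at hmc
    have hsbS : sb c ∈ S := by
      have : sb c = (m : A ⧸ N)⁻¹ := (eq_inv_of_mul_eq_one_right hmc)
      rw [this]
      exact S.inv_mem m.2
    have hc1 : c = 1 := by
      have := hSΓ (sb c) (s c) hsbS rfl
      rw [hs] at this
      exact this
    subst hc1
    rw [map_one, mul_one] at hmc
    exact Prod.ext (Subtype.ext hmc) rfl
  -- the cosets of Γs
  have hcos : ∀ a : A, ∃ (j : ℕ) (h : A), h ∈ Γs ∧ a = τ ^ j * h := by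
    intro a
    have : Fintype (A ⧸ Γs) := Fintype.ofFinite _
    have hcard : Fintype.card (A ⧸ Γs) = 3 := by
      rw [← Nat.card_eq_fintype_card]; exact hidx
    set q₀ : A ⧸ Γs := QuotientGroup.mk 1 with hq₀
    set q₁ : A ⧸ Γs := QuotientGroup.mk τ with hq₁
    set q₂ : A ⧸ Γs := QuotientGroup.mk (τ * τ) with hq₂
    have h01 : q₀ ≠ q₁ := by
      intro h
      have := QuotientGroup.eq.1 h
      rw [inv_one, one_mul] at this
      exact hτ this
    have h02 : q₀ ≠ q₂ := by
      intro h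
      have := QuotientGroup.eq.1 h
      rw [inv_one, one_mul] at this
      exact hτ2 this
    have h12 : q₁ ≠ q₂ := by
      intro h
      have := QuotientGroup.eq.1 h
      rw [← mul_assoc, inv_mul_cancel, one_mul] at this
      exact hτ this
    have huniv : ({q₀, q₁, q₂} : Finset (A ⧸ Γs)) = Finset.univ := by
      apply Finset.eq_univ_of_card
      rw [Finset.card_insert_of_notMem, Finset.card_insert_of_notMem, Finset.card_singleton, hcard]
      · simpa using h12
      · simp only [Finset.mem_insert, Finset.mem_singleton, not_or]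
        exact ⟨h01, h02⟩
    have hmem : (QuotientGroup.mk a : A ⧸ Γs) ∈ ({q₀, q₁, q₂} : Finset (A ⧸ Γs)) := by
      rw [huniv]; exact Finset.mem_univ _
    simp only [Finset.mem_insert, Finset.mem_singleton] at hmem
    rcases hmem with h | h | h
    · refine ⟨0, a, ?_, by rw [pow_zero, one_mul]⟩
      have := QuotientGroup.eq.1 h.symm
      rwa [inv_one, one_mul] at this
    · refine ⟨1, τ⁻¹ * a, QuotientGroup.eq.1 h.symm, by rw [pow_one]; group⟩
    · refine ⟨2, (τ * τ)⁻¹ * a, QuotientGroup.eq.1 h.symm, by rw [pow_two]; group⟩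
  have hsurj : Function.Surjective Ψ := by
    intro x
    obtain ⟨a, rfl⟩ := QuotientGroup.mk_surjective x
    obtain ⟨j, h, hh, rfl⟩ := hcos a
    set c : C := fp ⟨h, hh⟩ with hc
    set k : ↥Γs := ⟨h, hh⟩ * (s c)⁻¹ with hk
    have hkk : k ∈ fp.ker := by
      rw [MonoidHom.mem_ker, hk, map_mul, map_inv, hs, ← hc, mul_inv_cancel]
    have hhk : h = (k : A) * ((s c : ↥Γs) : A) := by
      rw [hk]; push_cast; group
    by_cases hkI : (k : A) ∈ I
    · have hm : t ^ j * π (k : A) ∈ S :=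
        S.mul_mem (hHS (H₁.pow_mem htH j)) (hVS ((hπV _).2 hkI))
      refine ⟨(⟨_, hm⟩, c), ?_⟩
      rw [hΨ, hsb]
      show t ^ j * π (k : A) * π ((s c : ↥Γs) : A) = π (τ ^ j * h)
      rw [hhk, map_mul, map_mul, map_pow, mul_assoc]
    · have hk2 : γ⁻¹ ∈ fp.ker := fp.ker.inv_mem hγk
      have hn2 : ((γ⁻¹ : ↥Γs) : A) ∉ I := by
        intro h'
        apply hγI
        have := I.inv_mem h'
        simpa using this
      have hmem : (((k * γ⁻¹ : ↥Γs)) : A) ∈ I :=
        (key2 _ _ hkk hk2).2 ⟨fun h' => absurd h' hkI, fun h' => absurd h' hn2⟩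
      have e1 : π (k : A) = π (((k * γ⁻¹ : ↥Γs)) : A) * g := by
        rw [hg, ← map_mul]
        congr 1
        push_cast
        group
      have hm : t ^ j * (π (((k * γ⁻¹ : ↥Γs)) : A) * g) ∈ S :=
        S.mul_mem (hHS (H₁.pow_mem htH j)) (S.mul_mem (hVS ((hπV _).2 hmem)) (hHS hgH))
      refine ⟨(⟨_, hm⟩, c), ?_⟩
      rw [hΨ, hsb]
      show t ^ j * (π (((k * γ⁻¹ : ↥Γs)) : A) * g) * π ((s c : ↥Γs) : A) = π (τ ^ j * h)
      rw [← e1, hhk, map_mul, map_mul, map_pow, mul_assoc]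
  have hbij : Function.Bijective Ψ := ⟨hinj, hsurj⟩
  -- cardinalities
  have hcardX : Nat.card (A ⧸ N) = 24 * Nat.card C := by
    have h1 : N.index = N.relIndex I * I.index := (Subgroup.relIndex_mul_index hNI).symm
    have h2 : I.index = I.relIndex Γs * Γs.index := (Subgroup.relIndex_mul_index hIΓ).symm
    have h3 : (I.subgroupOf Γs).index = (I.subgroupOf Γs).relIndex fp.ker * fp.ker.index :=
      (Subgroup.relIndex_mul_index hIk).symm
    have h4 : fp.ker.index = Nat.card C := by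
      rw [Subgroup.index_ker, MonoidHom.range_eq_top.2 hfps]
      exact Nat.card_congr (Subgroup.topEquiv).toEquiv
    have h5 : I.relIndex Γs = (I.subgroupOf Γs).index := rfl
    show N.index = 24 * Nat.card C
    rw [h1, h2, h5, h3, hrelIK, h4, hidx, hrelNI]
    ring
  have hcardS : Nat.card ↥S = 24 := by
    have h1 : Nat.card (↥S × C) = Nat.card (A ⧸ N) := Nat.card_congr (Equiv.ofBijective Ψ hbij)
    rw [Nat.card_prod, hcardX] at h1
    have hC : 0 < Nat.card C := Nat.card_pos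
    exact Nat.eq_of_mul_eq_mul_right hC h1
  -- V ∩ H₁ = 1
  have hdisj : ∀ y, y ∈ V → y ∈ H₁ → y = 1 := by
    intro y hyV hyH
    obtain ⟨i, hi | hi⟩ := hnf y hyH
    · rw [hi, ht, ← map_pow] at hyV ⊢
      have h1 : τ ^ i ∈ I := (hπV _).1 hyV
      rw [hpow i (hIΓ h1), map_one]
    · exfalso
      rw [hi, ht, hg, ← map_pow, ← map_mul] at hyV
      have h1 : τ ^ i * (γ : A) ∈ I := (hπV _).1 hyV
      have h2 : τ ^ i ∈ Γs := by
        have h3 := Γs.mul_mem (hIΓ h1) (Γs.inv_mem γ.2)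
        have e : τ ^ i * (γ : A) * (γ : A)⁻¹ = τ ^ i := by group
        rwa [e] at h3
      rw [hpow i h2, one_mul] at h1
      exact hγI h1
  -- H₁ acts faithfully on V
  have hfaith : ∀ y ∈ H₁, (∀ v ∈ V, y * v = v * y) → y = 1 := by
    intro y hyH hy
    have ht3' : t ^ 3 = 1 := by rw [pow_succ, pow_two]; exact ht3
    obtain ⟨i, hi | hi⟩ := hnf y hyH
    · have e : t ^ i = t ^ (i % 3) := by
        conv_lhs => rw [← Nat.div_add_mod i 3, pow_add, pow_mul, ht3', one_pow, one_mul]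
      rw [hi, e] at hy ⊢
      have hlt : i % 3 < 3 := Nat.mod_lt _ (by norm_num)
      interval_cases (i % 3)
      · exact pow_zero t
      · exfalso; apply htcent; intro w hw; have := hy w hw; rwa [pow_one] at this
      · exfalso; apply httcent; intro w hw; have := hy w hw; rwa [pow_two] at this
    · exfalso
      apply httcent
      -- t y t⁻¹ y⁻¹ = t * t centralises V
      have hy' : ∀ v ∈ V, y⁻¹ * v = v * y⁻¹ := by
        intro v hv
        exact (Commute.inv_left (show Commute y v from hy v hv)).eq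
      have hty : ∀ v ∈ V, (t * y * t⁻¹) * v = v * (t * y * t⁻¹) := by
        intro v hv
        have hv' : t⁻¹ * v * t ∈ V := by
          have := hVn.conj_mem _ hv t⁻¹
          rwa [inv_inv] at this
        have h1 := hy _ hv'
        have e1 : (t * y * t⁻¹) * v = t * (y * (t⁻¹ * v * t)) * t⁻¹ := by group
        have e2 : v * (t * y * t⁻¹) = t * ((t⁻¹ * v * t) * y) * t⁻¹ := by group
        rw [e1, e2, h1]
      have e : t * t = (t * y * t⁻¹) * y⁻¹ := by
        rw [hi]
        have h2 : g * t⁻¹ * g⁻¹ = t := by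
          have : g * t⁻¹ * g⁻¹ = (g * t * g⁻¹)⁻¹ := by group
          rw [this, hgtg, inv_inv]
        have hc : t ^ i * t = t * t ^ i := (Commute.pow_self t i).eq
        calc t * t = t * (t ^ i * t * (t ^ i)⁻¹) := by
              rw [hc, mul_assoc, mul_inv_cancel, mul_one]
          _ = t * (t ^ i * (g * t⁻¹ * g⁻¹) * (t ^ i)⁻¹) := by rw [h2]
          _ = t * (t ^ i * g) * t⁻¹ * (t ^ i * g)⁻¹ := by group
      intro w hw
      rw [e, mul_assoc, hy' w hw, ← mul_assoc, hty w hw, mul_assoc]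
  -- S is S₄
  have hS4 : Nonempty (↥S ≃* Equiv.Perm (Fin 4)) := by
    apply perm4_of_complement (V.subgroupOf S) (H₁.subgroupOf S) hcardS
    · have : Nat.card ↥(V.subgroupOf S) = Nat.card ↥V :=
        Nat.card_congr (Subgroup.subgroupOfEquivOfLe hVS).toEquiv
      rw [this, hV4]
    · intro y
      obtain ⟨v, hv, h, hh, hy⟩ := (hSmem y).1 y.2
      refine ⟨⟨v, hVS hv⟩, Subgroup.mem_subgroupOf.2 hv, ⟨h, hHS hh⟩, Subgroup.mem_subgroupOf.2 hh,
        Subtype.ext hy⟩
    · intro y hyV hyH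
      exact Subtype.ext (hdisj _ (Subgroup.mem_subgroupOf.1 hyV) (Subgroup.mem_subgroupOf.1 hyH))
    · intro y hyH hy
      apply Subtype.ext
      apply hfaith _ (Subgroup.mem_subgroupOf.1 hyH)
      intro v hv
      have := hy ⟨v, hVS hv⟩ (Subgroup.mem_subgroupOf.2 hv)
      exact congrArg Subtype.val this
  obtain ⟨e₁⟩ := hS4
  exact ⟨(MulEquiv.ofBijective Ψ hbij).symm.trans (e₁.prodCongr (MulEquiv.refl C))⟩

end Cfsg.Agent.Lib.Helper94.TriS4C
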