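/-
Helper94: direct-sum decompositions of a vector space without any form: projections, the weight of
a vector (number of non-zero components) and the subgroup of automorphisms preserving the weight
modulo the characteristic.
-/
import Mathlib
import Cfsg.Agent.Lib.Helper94.SympBridge2
import Cfsg.Agent.Lib.Helper94.SympBridge3
import Cfsg.Agent.Lib.Helper94.SympSLBridge

set_option autoImplicit false
set_option linter.unusedSimpArgs false
set_option linter.unusedSectionVars false
set_option linter.unusedVariables false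

namespace Cfsg.Agent.Lib.Helper94

open Module (finrank)

variable {K V : Type*} [Field K] [AddCommGroup V] [Module K V]

/-- a decomposition into independent subspaces of equal dimension spanning the space -/
structure LDecomp {t : ℕ} (m : ℕ) (D : Fin t → Submodule K V) : Prop where
  finrank_eq : ∀ i, finrank K (D i) = m
  indep : iSupIndep D
  iSup_eq_top : iSup D = ⊤

namespace LDecomp

variable {t m : ℕ} {D : Fin t → Submodule K V}

lemma isCompl (hD : LDecomp m D) (i : Fin t) : IsCompl (D i) (⨆ (j) (_ : j ≠ i), D j) := by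
  refine ⟨hD.indep i, ?_⟩
  rw [codisjoint_iff, ← iSup_split_single D i, hD.iSup_eq_top]

/-- the projection onto the `i`-th member -/
noncomputable def proj (hD : LDecomp m D) (i : Fin t) : V →ₗ[K] D i :=
  Submodule.linearProjOfIsCompl _ _ (hD.isCompl i)

lemma proj_of_mem (hD : LDecomp m D) {i : Fin t} {y : V} (hy : y ∈ D i) :
    (hD.proj i y : V) = y := by
  have := Submodule.linearProjOfIsCompl_apply_left (hD.isCompl i) ⟨y, hy⟩
  rw [proj]
  exact congrArg Subtype.val this

lemma proj_of_mem_ne (hD : LDecomp m D) {i j : Fin t} (hij : j ≠ i) {y : V} (hy : y ∈ D j) :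
    hD.proj i y = 0 := by
  have hy' : y ∈ ⨆ (j) (_ : j ≠ i), D j := by
    have : D j ≤ ⨆ (j) (_ : j ≠ i), D j := le_iSup₂ (f := fun j (_ : j ≠ i) => D j) j hij
    exact this hy
  rw [proj]
  exact (Submodule.linearProjOfIsCompl_apply_eq_zero_iff (hD.isCompl i)).2 hy'

lemma sum_proj (hD : LDecomp m D) (x : V) : ∑ i, (hD.proj i x : V) = x := by
  have hx : x ∈ iSup D := by rw [hD.iSup_eq_top]; trivial
  refine Submodule.iSup_induction D (motive := fun x => ∑ i, (hD.proj i x : V) = x) hx ?_ ?_ ?_
  · intro j y hy
    rw [Finset.sum_eq_single j]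
    · exact hD.proj_of_mem hy
    · intro i _ hij
      rw [hD.proj_of_mem_ne (Ne.symm hij) hy]
      rfl
    · intro h
      exact absurd (Finset.mem_univ j) h
  · simp
  · intro x y hx hy
    simp only [map_add, Submodule.coe_add, Finset.sum_add_distrib, hx, hy]

/-- the projections of a sum of members -/
lemma proj_sum (hD : LDecomp m D) (S : Finset (Fin t)) (y : Fin t → V)
    (hy : ∀ i ∈ S, y i ∈ D i) (j : Fin t) :
    (hD.proj j (∑ i ∈ S, y i) : V) = if j ∈ S then y j else 0 := by
  rw [map_sum, Submodule.coe_sum]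
  by_cases hj : j ∈ S
  · rw [if_pos hj, Finset.sum_eq_single j]
    · exact hD.proj_of_mem (hy j hj)
    · intro i hi hij
      rw [hD.proj_of_mem_ne hij (hy i hi)]
      rfl
    · intro h
      exact absurd hj h
  · rw [if_neg hj]
    apply Finset.sum_eq_zero
    intro i hi
    have hij : i ≠ j := by rintro rfl; exact hj hi
    rw [hD.proj_of_mem_ne hij (hy i hi)]
    rfl

/-- compatibility of the projections with an automorphism permuting the members -/
lemma proj_map (hD : LDecomp m D) {h : V ≃ₗ[K] V} {σ : Equiv.Perm (Fin t)}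
    (hσ : ∀ i, (D i).map (h : V →ₗ[K] V) = D (σ i)) (i : Fin t) (x : V) :
    (hD.proj (σ i) (h x) : V) = h (hD.proj i x : V) := by
  have hmem : ∀ j, h (hD.proj j x : V) ∈ D (σ j) := by
    intro j
    rw [← hσ j]
    exact ⟨_, (hD.proj j x).2, rfl⟩
  have h1 : h x = ∑ j, h (hD.proj j x : V) := by
    conv_lhs => rw [← hD.sum_proj x]
    rw [map_sum]
  rw [h1, map_sum, Submodule.coe_sum, Finset.sum_eq_single i]
  · exact hD.proj_of_mem (hmem i)
  · intro j _ hji
    have : σ j ≠ σ i := fun h' => hji (σ.injective h')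
    rw [hD.proj_of_mem_ne this (hmem j)]
    rfl
  · intro h'
    exact absurd (Finset.mem_univ i) h'

open scoped Classical in
/-- the weight: the number of non-zero components -/
noncomputable def wt (hD : LDecomp m D) (x : V) : ℕ :=
  (Finset.univ.filter (fun i => hD.proj i x ≠ 0)).card

open scoped Classical in
lemma wt_map (hD : LDecomp m D) {h : V ≃ₗ[K] V} (hh : h ∈ SympData.stabDec D) (x : V) :
    hD.wt (h x) = hD.wt x := by
  obtain ⟨σ, hσ⟩ := hh
  rw [wt, wt]
  symm
  apply Finset.card_equiv σ
  intro i
  simp only [Finset.mem_filter, Finset.mem_univ, true_and]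
  have h1 := hD.proj_map hσ i x
  constructor
  · intro hne h0
    apply hne
    rw [h0] at h1
    have : h (hD.proj i x : V) = 0 := by rw [← h1]; rfl
    have h2 : (hD.proj i x : V) = 0 := by
      have := h.injective (this.trans (map_zero h).symm)
      exact this
    exact Subtype.ext h2
  · intro hne h0
    apply hne
    apply Subtype.ext
    rw [h1, h0]
    simp

open scoped Classical in
/-- the weight of a sum of non-zero members -/
lemma wt_sum (hD : LDecomp m D) (S : Finset (Fin t)) (y : Fin t → V)
    (hy : ∀ i ∈ S, y i ∈ D i) (hy0 : ∀ i ∈ S, y i ≠ 0) : hD.wt (∑ i ∈ S, y i) = S.card := by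
  rw [wt]
  congr 1
  ext j
  simp only [Finset.mem_filter, Finset.mem_univ, true_and]
  have h1 := hD.proj_sum S y hy j
  constructor
  · intro hne
    by_contra hj
    rw [if_neg hj] at h1
    exact hne (Subtype.ext h1)
  · intro hj h0
    rw [if_pos hj, h0] at h1
    exact hy0 j hj h1.symm

/-- the group of automorphisms preserving the weight modulo the characteristic -/
noncomputable def wtGroup (hD : LDecomp m D) : Subgroup (V ≃ₗ[K] V) where
  carrier := {g | ∀ x, (hD.wt (g x) : K) = hD.wt x}
  mul_mem' {a b} ha hb := by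
    intro x
    rw [LinearEquiv.mul_apply, ha, hb]
  one_mem' := fun x => rfl
  inv_mem' {a} ha := by
    intro x
    have := ha (a⁻¹ x)
    rw [← LinearEquiv.mul_apply, mul_inv_cancel] at this
    exact this.symm

lemma mem_wtGroup (hD : LDecomp m D) {g : V ≃ₗ[K] V} :
    g ∈ hD.wtGroup ↔ ∀ x, (hD.wt (g x) : K) = hD.wt x := Iff.rfl

lemma stabDec_le_wtGroup (hD : LDecomp m D) : SympData.stabDec D ≤ hD.wtGroup := by
  intro h hh x
  rw [hD.wt_map hh]

section Coordinates

variable [FiniteDimensional K V]

/-- a basis of the `i`-th member -/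
noncomputable def bas (hD : LDecomp m D) (i : Fin t) : Module.Basis (Fin m) K (D i) :=
  Module.finBasisOfFinrankEq K (D i) (hD.finrank_eq i)

/-- the basis vectors, in the ambient space -/
noncomputable def vec (hD : LDecomp m D) (i : Fin t) (j : Fin m) : V := (hD.bas i j : V)

/-- the coordinate functionals -/
noncomputable def coo (hD : LDecomp m D) (i : Fin t) (j : Fin m) : V →ₗ[K] K :=
  (hD.bas i).coord j ∘ₗ hD.proj i

lemma vec_mem (hD : LDecomp m D) (i : Fin t) (j : Fin m) : hD.vec i j ∈ D i := (hD.bas i j).2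

lemma vec_ne_zero (hD : LDecomp m D) (i : Fin t) (j : Fin m) : hD.vec i j ≠ 0 := by
  intro h
  have : hD.bas i j = 0 := Subtype.ext h
  exact (hD.bas i).ne_zero j this

lemma coo_apply (hD : LDecomp m D) (i : Fin t) (j : Fin m) (x : V) :
    hD.coo i j x = (hD.bas i).repr (hD.proj i x) j := rfl

lemma coo_vec (hD : LDecomp m D) (i i' : Fin t) (j j' : Fin m) :
    hD.coo i j (hD.vec i' j') = if i = i' ∧ j = j' then 1 else 0 := by
  rw [coo_apply]
  by_cases hi : i = i'
  · subst hi
    have h1 : hD.proj i (hD.vec i j') = hD.bas i j' := Subtype.ext (hD.proj_of_mem (hD.vec_mem i j'))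
    rw [h1, Module.Basis.repr_self, Finsupp.single_apply]
    by_cases hj : j = j'
    · subst hj; simp
    · rw [if_neg (fun h => hj h.symm), if_neg (fun h => hj h.2)]
  · rw [hD.proj_of_mem_ne (fun h => hi h.symm) (hD.vec_mem i' j'), map_zero, Finsupp.zero_apply,
      if_neg (fun h => hi h.1)]

lemma proj_eq_sum (hD : LDecomp m D) (i : Fin t) (x : V) :
    (hD.proj i x : V) = ∑ j, hD.coo i j x • hD.vec i j := by
  have h1 := (hD.bas i).sum_repr (hD.proj i x)
  have h2 := congrArg Subtype.val h1
  rw [Submodule.coe_sum] at h2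
  rw [← h2]
  rfl

lemma proj_eq_zero_iff (hD : LDecomp m D) (i : Fin t) (x : V) :
    hD.proj i x = 0 ↔ ∀ j, hD.coo i j x = 0 := by
  constructor
  · intro h j
    rw [coo_apply, h, map_zero, Finsupp.zero_apply]
  · intro h
    apply Subtype.ext
    rw [hD.proj_eq_sum]
    simp [h]

open scoped Classical in
/-- the weight as an element of the field -/
lemma wt_cast (hD : LDecomp m D) (x : V) :
    (hD.wt x : K) = ∑ i, if hD.proj i x = 0 then (0 : K) else 1 := by
  rw [wt, Finset.card_filter, Nat.cast_sum]
  apply Finset.sum_congr rfl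
  intro i _
  by_cases h : hD.proj i x = 0
  · simp [h]
  · simp [h]

/-- the sum of the `j`-th basis vectors of the members in `S` -/
noncomputable def vecS (hD : LDecomp m D) (S : Finset (Fin t)) (j : Fin m) : V :=
  ∑ i ∈ S, hD.vec i j

/-- the sum of the `j`-th coordinate functionals of the members in `S` -/
noncomputable def cooS (hD : LDecomp m D) (S : Finset (Fin t)) (j : Fin m) : V →ₗ[K] K :=
  ∑ i ∈ S, hD.coo i j

lemma cooS_apply (hD : LDecomp m D) (S : Finset (Fin t)) (j : Fin m) (x : V) :
    hD.cooS S j x = ∑ i ∈ S, hD.coo i j x := by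
  rw [cooS, LinearMap.sum_apply]

open scoped Classical in
lemma coo_vecS (hD : LDecomp m D) (S : Finset (Fin t)) (i : Fin t) (j j' : Fin m) :
    hD.coo i j (hD.vecS S j') = if i ∈ S ∧ j = j' then 1 else 0 := by
  rw [vecS, map_sum]
  simp only [coo_vec]
  by_cases hi : i ∈ S
  · rw [Finset.sum_eq_single i]
    · by_cases hj : j = j'
      · simp [hi, hj]
      · simp [hi, hj]
    · intro b _ hb
      rw [if_neg (fun h => hb h.1.symm)]
    · intro h; exact absurd hi h
  · rw [if_neg (fun h => hi h.1)]
    apply Finset.sum_eq_zero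
    intro b hb
    rw [if_neg]
    rintro ⟨rfl, -⟩
    exact hi hb

lemma proj_vecS_of_not_mem (hD : LDecomp m D) (S : Finset (Fin t)) (j : Fin m) {i : Fin t}
    (hi : i ∉ S) : hD.proj i (hD.vecS S j) = 0 := by
  apply Subtype.ext
  rw [vecS, hD.proj_sum S (fun i => hD.vec i j) (fun i _ => hD.vec_mem i j), if_neg hi]
  rfl

lemma cooS_vecS (hD : LDecomp m D) (S : Finset (Fin t)) (j j' : Fin m) :
    hD.cooS S j (hD.vecS S j') = if j = j' then (S.card : K) else 0 := by
  classical
  rw [cooS_apply]
  simp only [coo_vecS]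
  by_cases hj : j = j'
  · rw [if_pos hj]
    rw [Finset.sum_congr rfl (g := fun _ => (1 : K))]
    · simp
    · intro i hi
      rw [if_pos ⟨hi, hj⟩]
  · rw [if_neg hj]
    apply Finset.sum_eq_zero
    intro i _
    rw [if_neg (fun h => hj h.2)]

/-- the determinant of a dilatransvection -/
lemma det_dilatransvection {f : Module.Dual K V} {v : V} (h : IsUnit (1 + f v)) :
    ((LinearEquiv.det (LinearEquiv.dilatransvection h) : Kˣ) : K) = 1 + f v := by
  rw [LinearEquiv.coe_det, LinearEquiv.dilatransvection.coe_toLinearMap,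
    LinearMap.transvection.det]

open scoped Classical in
/-- coordinates of the image under a dilatransvection built from `cooS` and `vecS` -/
lemma coo_dil (hD : LDecomp m D) (S : Finset (Fin t)) (jv jf : Fin m)
    (hu : IsUnit (1 + hD.cooS S jf (hD.vecS S jv))) (i : Fin t) (j : Fin m) (x : V) :
    hD.coo i j (LinearEquiv.dilatransvection hu x) =
      hD.coo i j x + hD.cooS S jf x * (if i ∈ S ∧ j = jv then 1 else 0) := by
  rw [LinearEquiv.dilatransvection.apply, map_add, map_smul, coo_vecS, smul_eq_mul]

open scoped Classical in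
/-- the change of the weight under such a dilatransvection only comes from the members in `S` -/
lemma wt_dil (hD : LDecomp m D) (S : Finset (Fin t)) (jv jf : Fin m)
    (hu : IsUnit (1 + hD.cooS S jf (hD.vecS S jv))) (x : V) :
    (hD.wt (LinearEquiv.dilatransvection hu x) : K) = (hD.wt x : K) +
      ∑ i ∈ S, ((if hD.proj i (LinearEquiv.dilatransvection hu x) = 0 then (0 : K) else 1) -
        (if hD.proj i x = 0 then (0 : K) else 1)) := by
  rw [wt_cast, wt_cast, ← sub_eq_iff_eq_add', ← Finset.sum_sub_distrib]
  symm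
  apply Finset.sum_subset (Finset.subset_univ S)
  intro i _ hi
  have : hD.proj i (LinearEquiv.dilatransvection hu x) = hD.proj i x := by
    rw [LinearEquiv.dilatransvection.apply, map_add, map_smul, hD.proj_vecS_of_not_mem S jv hi,
      smul_zero, add_zero]
  rw [this, sub_self]

open scoped Classical in
/-- the weight of a combination of basis vectors -/
lemma wt_sum_of_ne (hD : LDecomp m D) (S : Finset (Fin t)) (y : Fin t → V)
    (hy : ∀ i ∈ S, y i ∈ D i) :
    hD.wt (∑ i ∈ S, y i) = (S.filter (fun i => y i ≠ 0)).card := by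
  rw [← hD.wt_sum (S.filter (fun i => y i ≠ 0)) y
    (fun i hi => hy i (Finset.mem_filter.1 hi).1) (fun i hi => (Finset.mem_filter.1 hi).2)]
  congr 1
  rw [Finset.sum_filter_ne_zero]

end Coordinates

end LDecomp

end Cfsg.Agent.Lib.Helper94
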