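/-
Helper94: the stabiliser in the special linear group of a decomposition into lines over a field
with at most four elements, or into planes over the field with two elements, is not maximal: it
lies in the group of automorphisms preserving the weight modulo the characteristic.
-/
import Mathlib
import Cfsg.Agent.Lib.Helper94.LinDecomp

set_option autoImplicit false
set_option linter.unusedSimpArgs false
set_option linter.unusedSectionVars false
set_option linter.unusedVariables false

namespace Cfsg.Agent.Lib.Helper94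

open Module (finrank)

variable {K V : Type*} [Field K] [AddCommGroup V] [Module K V] [FiniteDimensional K V]

namespace LDecomp

variable {t m : ℕ} {D : Fin t → Submodule K V}

open scoped Classical

/-- for lines, the indicator of a non-zero component is a power of the coordinate -/
lemma nu_one [Fintype K] (hD : LDecomp 1 D) (i : Fin t) (y : V) :
    (if hD.proj i y = 0 then (0 : K) else 1) = (hD.coo i 0 y) ^ (Fintype.card K - 1) := by
  have hq : Fintype.card K - 1 ≠ 0 := by
    have := Fintype.one_lt_card (α := K)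
    omega
  by_cases h : hD.coo i 0 y = 0
  · have h0 : hD.proj i y = 0 := by
      rw [hD.proj_eq_zero_iff]
      intro j
      rw [Subsingleton.elim j 0]
      exact h
    rw [if_pos h0, h, zero_pow hq]
  · have h0 : hD.proj i y ≠ 0 := by
      intro h0
      exact h ((hD.proj_eq_zero_iff i y).1 h0 0)
    rw [if_neg h0, FiniteField.pow_card_sub_one_eq_one _ h]

/-- membership of a dilatransvection in the weight group, for lines -/
lemma mem_wtGroup_dil_one [Fintype K] (hD : LDecomp 1 D) (S : Finset (Fin t))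
    (hu : IsUnit (1 + hD.cooS S 0 (hD.vecS S 0)))
    (hkey : ∀ ξ : Fin t → K, ∑ i ∈ S, ((ξ i + ∑ l ∈ S, ξ l) ^ (Fintype.card K - 1) -
      ξ i ^ (Fintype.card K - 1)) = 0) :
    LinearEquiv.dilatransvection hu ∈ hD.wtGroup := by
  intro x
  rw [hD.wt_dil S 0 0 hu x]
  have := hkey (fun i => hD.coo i 0 x)
  rw [← cooS_apply] at this
  rw [Finset.sum_congr rfl (g := fun i => (hD.coo i 0 x + hD.cooS S 0 x) ^ (Fintype.card K - 1) -
    hD.coo i 0 x ^ (Fintype.card K - 1)), this, add_zero]
  intro i hi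
  rw [nu_one, nu_one, coo_dil, if_pos ⟨hi, rfl⟩, mul_one]

lemma sum_sq_of_two (h2 : (2 : K) = 0) {ι : Type*} (S : Finset ι) (ξ : ι → K) :
    (∑ i ∈ S, ξ i) ^ 2 = ∑ i ∈ S, ξ i ^ 2 := by
  classical
  induction S using Finset.induction_on with
  | empty => simp
  | insert a S ha ih =>
    rw [Finset.sum_insert ha, Finset.sum_insert ha, ← ih]
    linear_combination (ξ a * ∑ i ∈ S, ξ i) * h2

lemma key_pow_one {ι : Type*} (S : Finset ι) (ξ : ι → K) (hS : (S.card : K) = 0) :
    ∑ i ∈ S, ((ξ i + ∑ l ∈ S, ξ l) ^ 1 - ξ i ^ 1) = 0 := by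
  simp only [pow_one, add_sub_cancel_left, Finset.sum_const, nsmul_eq_mul, hS, zero_mul]

lemma key_pow_two {ι : Type*} (S : Finset ι) (ξ : ι → K) (hS : (S.card : K) + 2 = 0) :
    ∑ i ∈ S, ((ξ i + ∑ l ∈ S, ξ l) ^ 2 - ξ i ^ 2) = 0 := by
  set s := ∑ l ∈ S, ξ l with hs
  have h1 : ∀ i ∈ S, (ξ i + s) ^ 2 - ξ i ^ 2 = 2 * s * ξ i + s ^ 2 := by
    intro i _; ring
  rw [Finset.sum_congr rfl h1, Finset.sum_add_distrib, ← Finset.mul_sum, ← hs, Finset.sum_const,
    nsmul_eq_mul]
  linear_combination s ^ 2 * hS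

lemma key_pow_three {ι : Type*} (S : Finset ι) (ξ : ι → K) (h2 : (2 : K) = 0)
    (hS : (S.card : K) = 0) :
    ∑ i ∈ S, ((ξ i + ∑ l ∈ S, ξ l) ^ 3 - ξ i ^ 3) = 0 := by
  set s := ∑ l ∈ S, ξ l with hs
  have h1 : ∀ i ∈ S, (ξ i + s) ^ 3 - ξ i ^ 3 = 3 * s * ξ i ^ 2 + 3 * s ^ 2 * ξ i + s ^ 3 := by
    intro i _; ring
  rw [Finset.sum_congr rfl h1, Finset.sum_add_distrib, Finset.sum_add_distrib, ← Finset.mul_sum,
    ← Finset.mul_sum, ← sum_sq_of_two h2, ← hs, Finset.sum_const, nsmul_eq_mul]
  linear_combination (3 * s ^ 3) * h2 + s ^ 3 * hS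

/-- for planes over the field with two elements, the indicator of a non-zero component is a
quadratic polynomial in the coordinates -/
lemma nu_two (hK : ∀ c : K, c = 0 ∨ c = 1) (hD : LDecomp 2 D) (i : Fin t) (y : V) :
    (if hD.proj i y = 0 then (0 : K) else 1) =
      hD.coo i 0 y + hD.coo i 1 y + hD.coo i 0 y * hD.coo i 1 y := by
  have h2 : (1 : K) + 1 = 0 := by
    rcases hK (1 + 1) with h | h
    · exact h
    · exfalso
      have : (1 : K) = 0 := by linear_combination h
      exact one_ne_zero this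
  have hiff := hD.proj_eq_zero_iff i y
  rw [Fin.forall_fin_two] at hiff
  rcases hK (hD.coo i 0 y) with h0 | h0 <;> rcases hK (hD.coo i 1 y) with h1 | h1
  · rw [if_pos (hiff.2 ⟨h0, h1⟩), h0, h1]; ring
  · rw [if_neg (fun h => one_ne_zero (h1.symm.trans (hiff.1 h).2)), h0, h1]; ring
  · rw [if_neg (fun h => one_ne_zero (h0.symm.trans (hiff.1 h).1)), h0, h1]; ring
  · rw [if_neg (fun h => one_ne_zero (h0.symm.trans (hiff.1 h).1)), h0, h1]
    linear_combination -h2

/-- membership of a transvection in the weight group, for planes over the field with two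
elements -/
lemma mem_wtGroup_dil_two (hK : ∀ c : K, c = 0 ∨ c = 1) (hD : LDecomp 2 D) (S : Finset (Fin t))
    (hS : (S.card : K) = 1) (hu : IsUnit (1 + hD.cooS S 1 (hD.vecS S 0))) :
    LinearEquiv.dilatransvection hu ∈ hD.wtGroup := by
  intro x
  rw [hD.wt_dil S 0 1 hu x]
  set β := hD.cooS S 1 x with hβ
  have h1 : ∀ i ∈ S, ((if hD.proj i (LinearEquiv.dilatransvection hu x) = 0 then (0 : K) else 1) -
      (if hD.proj i x = 0 then (0 : K) else 1)) = β + β * hD.coo i 1 x := by
    intro i hi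
    rw [nu_two hK, nu_two hK, coo_dil, coo_dil, if_pos ⟨hi, rfl⟩,
      if_neg (fun h => absurd h.2 (by decide))]
    ring
  rw [Finset.sum_congr rfl h1, Finset.sum_add_distrib, Finset.sum_const, nsmul_eq_mul, hS,
    ← Finset.mul_sum, ← cooS_apply, ← hβ]
  have h2 : (1 : K) + 1 = 0 := by
    rcases hK (1 + 1) with h | h
    · exact h
    · exfalso
      have : (1 : K) = 0 := by linear_combination h
      exact one_ne_zero this
  rcases hK β with h | h
  · rw [h]; ring
  · rw [h]; linear_combination (hD.wt x : K) * 0 + h2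

/-- a vector with two non-zero components has weight at least two -/
lemma one_lt_wt (hD : LDecomp m D) {y : V} {i₁ i₂ : Fin t} (h12 : i₁ ≠ i₂)
    (h1 : hD.proj i₁ y ≠ 0) (h2 : hD.proj i₂ y ≠ 0) : 1 < hD.wt y := by
  rw [wt, Finset.one_lt_card]
  exact ⟨i₁, by simp [h1], i₂, by simp [h2], h12⟩

lemma wt_vec (hD : LDecomp m D) (i : Fin t) (j : Fin m) : hD.wt (hD.vec i j) = 1 := by
  have := hD.wt_sum {i} (fun i => hD.vec i j) (fun i _ => hD.vec_mem i j)
    (fun i _ => hD.vec_ne_zero i j)
  simpa using this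

/-- an automorphism moving a basis vector to a vector with two non-zero components does not
permute the members -/
lemma not_mem_stabDec (hD : LDecomp m D) {g : V ≃ₗ[K] V} (i : Fin t) (j : Fin m) {i₁ i₂ : Fin t}
    (h12 : i₁ ≠ i₂) (h1 : hD.proj i₁ (g (hD.vec i j)) ≠ 0) (h2 : hD.proj i₂ (g (hD.vec i j)) ≠ 0) :
    g ∉ SympData.stabDec D := by
  intro hg
  have h3 := hD.wt_map hg (hD.vec i j)
  have h4 := hD.one_lt_wt h12 h1 h2
  rw [hD.wt_vec] at h3
  omega

lemma proj_ne_zero_of_coo (hD : LDecomp m D) {i : Fin t} {j : Fin m} {y : V}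
    (h : hD.coo i j y ≠ 0) : hD.proj i y ≠ 0 := by
  intro h0
  exact h ((hD.proj_eq_zero_iff i y).1 h0 j)

end LDecomp

end Cfsg.Agent.Lib.Helper94
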