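/-
Helper94: the stabiliser in the special linear group of a decomposition into lines over a field
with at most four elements, or into planes over the field with two elements, is not maximal
(assembly of the witnesses).
-/
import Mathlib
import Cfsg.Agent.Lib.Helper94.LinDecomp2

set_option autoImplicit false
set_option linter.unusedSimpArgs false
set_option linter.unusedSectionVars false
set_option linter.unusedVariables false

namespace Cfsg.Agent.Lib.Helper94

open Module (finrank)

variable {K V : Type*} [Field K] [AddCommGroup V] [Module K V] [FiniteDimensional K V]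

namespace LDecomp

variable {t m : ℕ} {D : Fin t → Submodule K V}

open scoped Classical

lemma cooS_vec (hD : LDecomp m D) (S : Finset (Fin t)) (i : Fin t) (j j' : Fin m) :
    hD.cooS S j (hD.vec i j') = if i ∈ S ∧ j = j' then 1 else 0 := by
  rw [cooS_apply]
  simp only [coo_vec]
  by_cases hi : i ∈ S
  · rw [Finset.sum_eq_single i]
    · by_cases hj : j = j'
      · simp [hi, hj]
      · simp [hi, hj]
    · intro b _ hb
      rw [if_neg (fun h => hb h.1)]
    · intro h; exact absurd hi h
  · rw [if_neg (fun h => hi h.1)]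
    apply Finset.sum_eq_zero
    intro b hb
    rw [if_neg]
    rintro ⟨rfl, -⟩
    exact hi hb

lemma proj_dil_vec_ne_zero (hD : LDecomp m D) (S : Finset (Fin t)) (jv jf : Fin m)
    (hu : IsUnit (1 + hD.cooS S jf (hD.vecS S jv))) {i0 i1 : Fin t} (h0 : i0 ∈ S) (h1 : i1 ∈ S)
    (h10 : i1 ≠ i0) :
    hD.proj i1 (LinearEquiv.dilatransvection hu (hD.vec i0 jf)) ≠ 0 := by
  apply hD.proj_ne_zero_of_coo (j := jv)
  rw [coo_dil, coo_vec, cooS_vec, if_neg (fun h => h10 h.1), if_pos ⟨h0, rfl⟩, if_pos ⟨h1, rfl⟩]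
  simp

lemma dil_mem_SLe {f : Module.Dual K V} {v : V} (h : IsUnit (1 + f v)) (h0 : f v = 0) :
    LinearEquiv.dilatransvection h ∈ SympData.SLe K V := by
  rw [SympData.mem_SLe]
  apply Units.ext
  rw [det_dilatransvection, h0, add_zero]
  rfl

/-- the weight group does not contain the whole special linear group -/
lemma wtGroup_inf_lt (hD : LDecomp m D) (j0 : Fin m) {i0 i1 : Fin t} (h01 : i0 ≠ i1) :
    hD.wtGroup ⊓ SympData.SLe K V < SympData.SLe K V := by
  refine lt_of_le_of_ne inf_le_right ?_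
  intro heq
  have hfv : hD.coo i0 j0 (hD.vec i1 j0) = 0 := by rw [coo_vec, if_neg (fun h => h01 h.1)]
  have hu : IsUnit (1 + hD.coo i0 j0 (hD.vec i1 j0)) := by rw [hfv, add_zero]; exact isUnit_one
  have hmem : LinearEquiv.dilatransvection hu ∈ SympData.SLe K V := dil_mem_SLe hu hfv
  rw [← heq] at hmem
  have h1 := hmem.1 (hD.vec i0 j0)
  rw [LinearEquiv.dilatransvection.apply, coo_vec, if_pos ⟨rfl, rfl⟩, one_smul, wt_vec] at h1
  have h2 : hD.vec i0 j0 + hD.vec i1 j0 = ∑ i ∈ ({i0, i1} : Finset (Fin t)), hD.vec i j0 := by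
    rw [Finset.sum_pair h01]
  rw [h2, hD.wt_sum _ (fun i => hD.vec i j0) (fun i _ => hD.vec_mem i j0)
    (fun i _ => hD.vec_ne_zero i j0), Finset.card_pair h01] at h1
  have : (1 : K) = 0 := by
    push_cast at h1
    linear_combination h1
  exact one_ne_zero this

lemma lt_of_witness (hD : LDecomp m D) {g : V ≃ₗ[K] V} (h1 : g ∈ hD.wtGroup)
    (h2 : g ∈ SympData.SLe K V) (h3 : g ∉ SympData.stabDec D) :
    SympData.stabDec D ⊓ SympData.SLe K V < hD.wtGroup ⊓ SympData.SLe K V := by
  refine lt_of_le_of_ne (inf_le_inf_right _ hD.stabDec_le_wtGroup) ?_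
  intro heq
  have : g ∈ hD.wtGroup ⊓ SympData.SLe K V := ⟨h1, h2⟩
  rw [← heq] at this
  exact h3 this.1

lemma exists_finset_card (ht : 5 ≤ t) (k : ℕ) (hk : k ≤ 4) :
    ∃ S : Finset (Fin t), S.card = k ∧ ∃ i, i ∉ S := by
  obtain ⟨S, -, hS⟩ := Finset.exists_subset_card_eq (s := (Finset.univ : Finset (Fin t))) (n := k)
    (by rw [Finset.card_univ, Fintype.card_fin]; omega)
  refine ⟨S, hS, ?_⟩
  by_contra hcon
  push Not at hcon
  have : S = Finset.univ := Finset.eq_univ_iff_forall.2 hcon
  rw [this, Finset.card_univ, Fintype.card_fin] at hS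
  omega

/-- lines, characteristic two -/
lemma lt_wtGroup_one_even [Fintype K] (hD : LDecomp 1 D) (ht : 5 ≤ t) (h2 : (2 : K) = 0)
    (hkey : ∀ S : Finset (Fin t), (S.card : K) = 0 → ∀ ξ : Fin t → K,
      ∑ i ∈ S, ((ξ i + ∑ l ∈ S, ξ l) ^ (Fintype.card K - 1) - ξ i ^ (Fintype.card K - 1)) = 0) :
    SympData.stabDec D ⊓ SympData.SLe K V < hD.wtGroup ⊓ SympData.SLe K V := by
  obtain ⟨S, hS4, -⟩ := exists_finset_card ht 4 le_rfl
  have hS : (S.card : K) = 0 := by
    rw [hS4]; push_cast; linear_combination 2 * h2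
  have hfv : hD.cooS S 0 (hD.vecS S 0) = 0 := by rw [cooS_vecS, if_pos rfl, hS]
  have hu : IsUnit (1 + hD.cooS S 0 (hD.vecS S 0)) := by rw [hfv, add_zero]; exact isUnit_one
  obtain ⟨a, ha, b, hb, c, hc, hab, hac, hbc⟩ := Finset.two_lt_card.1 (by omega : 2 < S.card)
  exact hD.lt_of_witness (hD.mem_wtGroup_dil_one S hu (hkey S hS)) (dil_mem_SLe hu hfv)
    (hD.not_mem_stabDec a 0 hbc (hD.proj_dil_vec_ne_zero S 0 0 hu ha hb hab.symm)
      (hD.proj_dil_vec_ne_zero S 0 0 hu ha hc hac.symm))

/-- lines over the field with three elements -/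
lemma lt_wtGroup_one_three [Fintype K] (hD : LDecomp 1 D) (ht : 5 ≤ t)
    (hq : Fintype.card K = 3) :
    SympData.stabDec D ⊓ SympData.SLe K V < hD.wtGroup ⊓ SympData.SLe K V := by
  have h3 : (3 : K) = 0 := by
    have := Nat.cast_card_eq_zero K
    rw [hq] at this
    exact_mod_cast this
  have hexp : Fintype.card K - 1 = 2 := by omega
  obtain ⟨S, hS4, i4, hi4⟩ := exists_finset_card ht 4 le_rfl
  have hfa : hD.cooS S 0 (hD.vecS S 0) = 4 := by
    rw [cooS_vecS, if_pos rfl, hS4]; norm_num
  have hfb : hD.cooS {i4} 0 (hD.vecS {i4} 0) = 1 := by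
    rw [cooS_vecS, if_pos rfl, Finset.card_singleton]; norm_num
  have hua : IsUnit (1 + hD.cooS S 0 (hD.vecS S 0)) := by
    rw [hfa, isUnit_iff_ne_zero]
    intro h
    have : (1 : K) = 0 := by linear_combination 2 * h3 - h
    exact one_ne_zero this
  have hub : IsUnit (1 + hD.cooS {i4} 0 (hD.vecS {i4} 0)) := by
    rw [hfb, isUnit_iff_ne_zero]
    intro h
    have : (1 : K) = 0 := by linear_combination h3 - h
    exact one_ne_zero this
  have hma : LinearEquiv.dilatransvection hua ∈ hD.wtGroup := by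
    apply hD.mem_wtGroup_dil_one S hua
    intro ξ
    rw [hexp]
    apply key_pow_two
    rw [hS4]; push_cast; linear_combination 2 * h3
  have hmb : LinearEquiv.dilatransvection hub ∈ hD.wtGroup := by
    apply hD.mem_wtGroup_dil_one {i4} hub
    intro ξ
    rw [hexp]
    apply key_pow_two
    rw [Finset.card_singleton]; push_cast; linear_combination h3
  obtain ⟨a, ha, b, hb, c, hc, hab, hac, hbc⟩ := Finset.two_lt_card.1 (by omega : 2 < S.card)
  have hfix : (LinearEquiv.dilatransvection hua * LinearEquiv.dilatransvection hub) (hD.vec a 0) =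
      LinearEquiv.dilatransvection hua (hD.vec a 0) := by
    rw [LinearEquiv.mul_apply]
    congr 1
    rw [LinearEquiv.dilatransvection.apply, cooS_vec, if_neg, zero_smul, add_zero]
    rintro ⟨h, -⟩
    rw [Finset.mem_singleton] at h
    rw [h] at ha
    exact hi4 ha
  refine hD.lt_of_witness (mul_mem hma hmb) ?_ ?_
  · rw [SympData.mem_SLe, map_mul]
    apply Units.ext
    rw [Units.val_mul, det_dilatransvection, det_dilatransvection, hfa, hfb]
    rw [Units.val_one]
    linear_combination 3 * h3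
  · apply hD.not_mem_stabDec a 0 hbc
    · rw [hfix]; exact hD.proj_dil_vec_ne_zero S 0 0 hua ha hb hab.symm
    · rw [hfix]; exact hD.proj_dil_vec_ne_zero S 0 0 hua ha hc hac.symm

/-- planes over the field with two elements -/
lemma lt_wtGroup_two (hK : ∀ c : K, c = 0 ∨ c = 1) (hD : LDecomp 2 D) (ht : 5 ≤ t) :
    SympData.stabDec D ⊓ SympData.SLe K V < hD.wtGroup ⊓ SympData.SLe K V := by
  have h2 : (1 : K) + 1 = 0 := by
    rcases hK (1 + 1) with h | h
    · exact h
    · exfalso
      have : (1 : K) = 0 := by linear_combination h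
      exact one_ne_zero this
  obtain ⟨S, hS3, -⟩ := exists_finset_card ht 3 (by omega)
  have hS : (S.card : K) = 1 := by
    rw [hS3]; push_cast; linear_combination h2
  have hfv : hD.cooS S 1 (hD.vecS S 0) = 0 := by
    rw [cooS_vecS, if_neg (by decide)]
  have hu : IsUnit (1 + hD.cooS S 1 (hD.vecS S 0)) := by rw [hfv, add_zero]; exact isUnit_one
  obtain ⟨a, ha, b, hb, c, hc, hab, hac, hbc⟩ := Finset.two_lt_card.1 (by omega : 2 < S.card)
  exact hD.lt_of_witness (hD.mem_wtGroup_dil_two hK S hS hu) (dil_mem_SLe hu hfv)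
    (hD.not_mem_stabDec a 1 hbc (hD.proj_dil_vec_ne_zero S 0 1 hu ha hb hab.symm)
      (hD.proj_dil_vec_ne_zero S 0 1 hu ha hc hac.symm))

/-- the stabiliser of the decomposition in the special linear group is not maximal -/
theorem exists_between [Fintype K] (hD : LDecomp m D) (ht : 5 ≤ t)
    (hcase : (m = 1 ∧ Fintype.card K ≤ 4) ∨ (m = 2 ∧ Fintype.card K = 2)) :
    ∃ K' : Subgroup (V ≃ₗ[K] V),
      SympData.stabDec D ⊓ SympData.SLe K V < K' ∧ K' < SympData.SLe K V := by
  have h01 : (⟨0, by omega⟩ : Fin t) ≠ ⟨1, by omega⟩ := by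
    intro h
    simp [Fin.ext_iff] at h
  rcases hcase with ⟨rfl, hq⟩ | ⟨rfl, hq⟩
  · refine ⟨hD.wtGroup ⊓ SympData.SLe K V, ?_, hD.wtGroup_inf_lt 0 h01⟩
    have h1 := Fintype.one_lt_card (α := K)
    have hc0 := Nat.cast_card_eq_zero K
    obtain h | h | h : Fintype.card K = 2 ∨ Fintype.card K = 3 ∨ Fintype.card K = 4 := by omega
    · have h2 : (2 : K) = 0 := by
        rw [h] at hc0
        exact_mod_cast hc0
      apply hD.lt_wtGroup_one_even ht h2
      intro S hS ξ
      have hexp : Fintype.card K - 1 = 1 := by omega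
      rw [hexp]
      exact key_pow_one S ξ hS
    · exact hD.lt_wtGroup_one_three ht h
    · have h4 : (4 : K) = 0 := by
        rw [h] at hc0
        exact_mod_cast hc0
      have h2 : (2 : K) = 0 := by
        have : (2 : K) * 2 = 0 := by rw [← h4]; norm_num
        exact mul_self_eq_zero.1 this
      apply hD.lt_wtGroup_one_even ht h2
      intro S hS ξ
      have hexp : Fintype.card K - 1 = 3 := by omega
      rw [hexp]
      exact key_pow_three S ξ h2 hS
  · exact ⟨hD.wtGroup ⊓ SympData.SLe K V,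
      hD.lt_wtGroup_two (eq_zero_or_one_of_card_two hq) ht, hD.wtGroup_inf_lt 0 h01⟩

lemma finrank_biSup_le (D : Fin t → Submodule K V) (S : Finset (Fin t)) :
    finrank K ↥(⨆ i ∈ S, D i) ≤ ∑ i ∈ S, finrank K (D i) := by
  induction S using Finset.induction_on with
  | empty => simp
  | insert a S ha ih =>
    rw [Finset.iSup_insert, Finset.sum_insert ha]
    exact (Submodule.finrank_add_le_finrank_add_finrank _ _).trans (Nat.add_le_add_left ih _)

/-- the dimension of the space is at most the number of members times their dimension -/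
lemma finrank_le (hD : LDecomp m D) : finrank K V ≤ t * m := by
  have h1 := finrank_biSup_le D Finset.univ
  have h2 : (⨆ i ∈ (Finset.univ : Finset (Fin t)), D i) = ⊤ := by
    rw [← hD.iSup_eq_top]
    simp
  rw [h2, finrank_top] at h1
  refine h1.trans ?_
  rw [Finset.sum_congr rfl (fun i _ => hD.finrank_eq i)]
  simp

end LDecomp

end Cfsg.Agent.Lib.Helper94
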