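/-
Helper94: over the field with two elements, the stabiliser in `Ω⁺` of a tensor decomposition
`Sp_2(2) ⊗ Sp_{n₂}(2)` is not maximal: it normalises the group of order three generated by
`ω ⊗ 1`, whose normaliser in `Ω` (a unitary group over the field with four elements) is larger.
-/
import Mathlib
import Cfsg.Prelude.Def_GeometricClasses
import Cfsg.Agent.S5638
import Cfsg.Agent.Lib.Helper94.TensorOrth3
import Cfsg.Agent.Lib.Helper94.OrthSiegel
import Cfsg.Agent.Lib.Helper94.SympSLBridge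
import Cfsg.Agent.Lib.Helper94.SympDecomp

set_option autoImplicit false
set_option linter.unusedSimpArgs false
set_option linter.unusedSectionVars false
set_option linter.unusedVariables false

namespace Cfsg.Agent.Lib.Helper94

open scoped MatrixGroups Matrix Kronecker
open LinearMap (BilinForm)
open scoped commutatorElement

variable {ι : Type} [Fintype ι] [DecidableEq ι] {F : Type*} [Field F] {n₁ n₂ : ℕ}

/-- images of the subgroup of elements inverting or centralising `x` -/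
lemma map_invNormalizer_le {G G' : Type*} [Group G] [Group G'] (f : G →* G') (x : G) :
    (Cfsg.Agent.S5638.invNormalizer x).map f ≤ Cfsg.Agent.S5638.invNormalizer (f x) := by
  rintro _ ⟨g, hg, rfl⟩
  rcases hg with h | h
  · left; rw [← map_inv, ← map_mul, ← map_mul, h]
  · right; rw [← map_inv, ← map_mul, ← map_mul, h, map_inv]

/-- the conjugate by `P` of a reindexed matrix acts through the coordinate isomorphism -/
lemma conj_reindex_mulVec (e : ι ≃ Fin n₁ × Fin n₂) (P : GL ι F) (k : GL (Fin n₁ × Fin n₂) F)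
    (x : Fin n₁ × Fin n₂ → F) :
    (((MulAut.conj P).toMonoidHom ((Cfsg.Geo.glReindex e.symm).toMonoidHom k) : GL ι F) :
      Matrix ι ι F) *ᵥ tensPhi e P x =
      tensPhi e P ((k : Matrix (Fin n₁ × Fin n₂) (Fin n₁ × Fin n₂) F) *ᵥ x) := by
  rw [tensPhi_apply, tensPhi_apply]
  have h1 : ((MulAut.conj P).toMonoidHom ((Cfsg.Geo.glReindex e.symm).toMonoidHom k) : GL ι F) =
      P * (Cfsg.Geo.glReindex e.symm k) * P⁻¹ := rfl
  rw [h1, Units.val_mul, Units.val_mul, ← Matrix.mulVec_mulVec, ← Matrix.mulVec_mulVec,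
    Matrix.mulVec_mulVec (x ∘ e), ← Units.val_mul, inv_mul_cancel, Units.val_one,
    Matrix.one_mulVec]
  congr 1
  have h2 : ((Cfsg.Geo.glReindex e.symm k : GL ι F) : Matrix ι ι F) =
      (k : Matrix (Fin n₁ × Fin n₂) (Fin n₁ × Fin n₂) F).submatrix e e := rfl
  rw [h2, Matrix.submatrix_mulVec_equiv]
  congr 2
  ext a
  simp

/-- linear maps agreeing on the images of the pure tensors `e_i ⊗ w` are equal -/
lemma linearMap_ext_pure {W : Type*} [AddCommGroup W] [Module F W] (e : ι ≃ Fin n₁ × Fin n₂)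
    (P : GL ι F) {f g : (ι → F) →ₗ[F] W}
    (h : ∀ (i : Fin n₁) (w : Fin n₂ → F), f (tensPhi e P (pureT (Pi.single i 1) w)) =
      g (tensPhi e P (pureT (Pi.single i 1) w))) : f = g := by
  have key : f ∘ₗ (tensPhi e P : (Fin n₁ × Fin n₂ → F) →ₗ[F] (ι → F)) =
      g ∘ₗ (tensPhi e P : (Fin n₁ × Fin n₂ → F) →ₗ[F] (ι → F)) := by
    apply LinearMap.pi_ext
    rintro ⟨i, j⟩ c
    have hp : (Pi.single (i, j) c : Fin n₁ × Fin n₂ → F) =
        pureT (Pi.single i 1) (Pi.single j c) := by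
      ext ⟨a, b⟩
      simp only [pureT_apply, Pi.single_apply, Prod.mk.injEq]
      by_cases ha : a = i <;> by_cases hb : b = j <;> simp [ha, hb]
    simp only [LinearMap.comp_apply, LinearEquiv.coe_coe]
    rw [hp]
    exact h i _
  apply LinearMap.ext
  intro x
  have := LinearMap.congr_fun key ((tensPhi e P).symm x)
  simpa using this

namespace SympData

variable {K V : Type*} [Field K] [AddCommGroup V] [Module K V] {B : BilinForm K V}

/-- a hyperbolic pair `e₁, f₁`, a non-zero vector `e₂` orthogonal to it, and a hyperbolic pair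
`e₃, f₃` orthogonal to all of them -/
lemma exists_hyp_config [FiniteDimensional K V] (h : SympData B)
    (hdim : 5 ≤ Module.finrank K V) :
    ∃ e₁ f₁ e₂ e₃ f₃ : V, B e₁ f₁ = 1 ∧ e₂ ≠ 0 ∧ B e₂ e₁ = 0 ∧ B e₂ f₁ = 0 ∧ B e₃ f₃ = 1 ∧
      B e₃ e₁ = 0 ∧ B e₃ f₁ = 0 ∧ B e₃ e₂ = 0 ∧ B f₃ e₁ = 0 ∧ B f₃ f₁ = 0 ∧ B f₃ e₂ = 0 := by
  have hnt : Nontrivial V := Module.nontrivial_of_finrank_pos (R := K) (by omega)
  have htop : NondegOn B (⊤ : Submodule K V) := fun x _ hx => h.nondeg x (fun y => hx y trivial)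
  obtain ⟨e₁, he₁⟩ := exists_ne (0 : V)
  obtain ⟨f₁, -, hef₁⟩ := exists_hyp_partner htop (Submodule.mem_top (x := e₁)) he₁
  have hN₁ := h.hypCompl_nondegOn htop (Submodule.mem_top (x := e₁)) (Submodule.mem_top (x := f₁))
    hef₁
  have hfr₁ := h.finrank_hypCompl (N := ⊤) (Submodule.mem_top (x := e₁))
    (Submodule.mem_top (x := f₁)) hef₁
  rw [finrank_top] at hfr₁
  have hne₁ : hypCompl B ⊤ e₁ f₁ ≠ ⊥ := by
    intro hbot
    rw [hbot, finrank_bot] at hfr₁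
    omega
  obtain ⟨e₂, he₂N, he₂⟩ := Submodule.exists_mem_ne_zero_of_ne_bot hne₁
  obtain ⟨f₂, hf₂N, hef₂⟩ := exists_hyp_partner hN₁ he₂N he₂
  have hN₂ := h.hypCompl_nondegOn hN₁ he₂N hf₂N hef₂
  have hfr₂ := h.finrank_hypCompl he₂N hf₂N hef₂
  have hne₂ : hypCompl B (hypCompl B ⊤ e₁ f₁) e₂ f₂ ≠ ⊥ := by
    intro hbot
    rw [hbot, finrank_bot] at hfr₂
    omega
  obtain ⟨e₃, he₃N, he₃⟩ := Submodule.exists_mem_ne_zero_of_ne_bot hne₂
  obtain ⟨f₃, hf₃N, hef₃⟩ := exists_hyp_partner hN₂ he₃N he₃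
  obtain ⟨-, h2e, h2f⟩ := h.mem_hypCompl.1 he₂N
  obtain ⟨he₃N₁, h3e₂, -⟩ := h.mem_hypCompl.1 he₃N
  obtain ⟨hf₃N₁, h3f₂, -⟩ := h.mem_hypCompl.1 hf₃N
  obtain ⟨-, h3e₁, h3f₁⟩ := h.mem_hypCompl.1 he₃N₁
  obtain ⟨-, h3e₁', h3f₁'⟩ := h.mem_hypCompl.1 hf₃N₁
  exact ⟨e₁, f₁, e₂, e₃, f₃, hef₁, he₂, h2e, h2f, hef₃, h3e₁, h3f₁, h3e₂, h3e₁', h3f₁', h3f₂⟩

end SympData

/-- the image of the pure tensor `u ⊗ w` -/
noncomputable def tT (e : ι ≃ Fin n₁ × Fin n₂) (P : GL ι F) (u : Fin n₁ → F) (w : Fin n₂ → F) :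
    ι → F := tensPhi e P (pureT u w)

lemma tT_def (e : ι ≃ Fin n₁ × Fin n₂) (P : GL ι F) (u : Fin n₁ → F) (w : Fin n₂ → F) :
    tT e P u w = tensPhi e P (pureT u w) := rfl

lemma tT_add_left (e : ι ≃ Fin n₁ × Fin n₂) (P : GL ι F) (u u' : Fin n₁ → F) (w : Fin n₂ → F) :
    tT e P (u + u') w = tT e P u w + tT e P u' w := by
  unfold tT; rw [pureT_add_left, map_add]

lemma tT_add_right (e : ι ≃ Fin n₁ × Fin n₂) (P : GL ι F) (u : Fin n₁ → F) (w w' : Fin n₂ → F) :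
    tT e P u (w + w') = tT e P u w + tT e P u w' := by
  unfold tT; rw [pureT_add_right, map_add]

/-- **Non-maximality** of the stabiliser in `Ω⁺` of a tensor decomposition `Sp_2 ⊗ Sp_{n₂}` over
the field with two elements. -/
theorem exists_between_tensor_sp2 [Fintype F] {Q : (ι → F) → F}
    (hQ : Cfsg.Geo.IsNondegenerateQuadraticForm Q) (hq : Fintype.card F = 2) {n₂ : ℕ}
    (h2n : 5 ≤ n₂) (e : ι ≃ Fin 2 × Fin n₂) (P : GL ι F)
    (f₁ : (Fin 2 → F) → (Fin 2 → F) → F) (f₂ : (Fin n₂ → F) → (Fin n₂ → F) → F)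
    (hf₁ : Cfsg.Geo.IsSymplecticForm f₁) (hf₂ : Cfsg.Geo.IsSymplecticForm f₂)
    (hT : Cfsg.Geo.IsTensorFormStructure id (QuadraticMap.polar Q) f₁ f₂ e P)
    (hpure : ∀ (x₁ : Fin 2 → F) (x₂ : Fin n₂ → F),
      Q ((P : Matrix ι ι F) *ᵥ ((fun a : Fin 2 × Fin n₂ => x₁ a.1 * x₂ a.2) ∘ e)) = 0) :
    ∃ K : Subgroup (GL ι F),
      Cfsg.Geo.tensorProductSubgroup 2 n₂ e P ⊓ Cfsg.Geo.omegaGL Q < K ∧
        K < Cfsg.Geo.omegaGL Q := by
  classical
  have h2 : (2 : F) = 0 := by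
    have := Cfsg.Agent.S5638.two_eq_zero hq
    rw [← this]; norm_num
  have h01 : ∀ x : F, x = 0 ∨ x = 1 := Cfsg.Agent.S5638.elem_cases hq
  have hneg : ∀ x : F, -x = x := fun x => by linear_combination (-x) * h2
  have hDat := quadData_polarBilin hQ
  obtain ⟨c, hc, hTc⟩ := hT
  have hc1 : c = 1 := (h01 c).resolve_left hc
  subst hc1
  -- the form on pure tensors
  have hB : ∀ u u' w w', polarBilin hQ (tT e P u w) (tT e P u' w') = f₁ u u' * f₂ w w' := by
    intro u u' w w'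
    rw [polarBilin_apply, tT_def, tT_def, tens_form hf₁.bilinear hf₂.bilinear hTc u u' w w',
      one_mul]
  have hQ0 : ∀ u w, Q (tT e P u w) = 0 := by
    intro u w
    rw [tT_def, tensPhi_apply]
    exact hpure u w
  -- the standard basis of the first factor
  obtain ⟨E0, hE0⟩ : ∃ E0 : Fin 2 → F, E0 = Pi.single 0 1 := ⟨_, rfl⟩
  obtain ⟨E1, hE1⟩ : ∃ E1 : Fin 2 → F, E1 = Pi.single 1 1 := ⟨_, rfl⟩
  have a00 : f₁ E0 E0 = 0 := hf₁.alternating _
  have a11 : f₁ E1 E1 = 0 := hf₁.alternating _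
  have a01 : f₁ E0 E1 = 1 := by
    rcases h01 (f₁ E0 E1) with h | h
    · exfalso
      have hE0ne : E0 ≠ 0 := by
        rw [hE0]; intro h0
        have := congrFun h0 0
        simp at this
      obtain ⟨y, hy⟩ := (hf₁.nondegenerate E0 hE0ne).2
      apply hy
      have hy' : y = y 0 • E0 + y 1 • E1 := by
        rw [hE0, hE1]
        ext i; fin_cases i <;> simp
      rw [hy', hf₁.bilinear.add_right, hf₁.bilinear.smul_right, hf₁.bilinear.smul_right, a00, h]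
      ring
    · exact h
  have a10 : f₁ E1 E0 = 1 := by rw [hf₁.skew, a01, hneg]
  have hsym₂ : ∀ x y, f₂ x y = f₂ y x := fun x y => by rw [hf₂.skew, hneg]
  -- vectors of the second factor
  have hS₂ := sympData_bilinOfSymp hf₂
  have hfr : 5 ≤ Module.finrank F (Fin n₂ → F) := by rw [Module.finrank_fin_fun]; exact h2n
  obtain ⟨w₁, w', w₂, w₃, w₄, b11', hw₂, b21, b21', b34, b31, b31', b32, b41, b41', b42⟩ :=
    hS₂.exists_hyp_config hfr
  simp only [bilinOfSymp_apply] at b11' b21 b21' b34 b31 b31' b32 b41 b41' b42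
  have b1'1 : f₂ w' w₁ = 1 := by rw [hsym₂, b11']
  have b12 : f₂ w₁ w₂ = 0 := by rw [hsym₂, b21]
  have b1'2 : f₂ w' w₂ = 0 := by rw [hsym₂, b21']
  have b11 : f₂ w₁ w₁ = 0 := hf₂.alternating _
  have b22 : f₂ w₂ w₂ = 0 := hf₂.alternating _
  -- the element of order three
  obtain ⟨Ψ, hΨ⟩ : ∃ Ψ : GL (Fin 2 × Fin n₂) F →* GL ι F,
    Ψ = (MulAut.conj P).toMonoidHom.comp (Cfsg.Geo.glReindex e.symm).toMonoidHom := ⟨_, rfl⟩
  have hTP : Cfsg.Geo.tensorProductSubgroup 2 n₂ e P =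
      (Cfsg.Geo.kroneckerSubgroup 2 n₂ F).map Ψ := by
    unfold Cfsg.Geo.tensorProductSubgroup
    rw [Subgroup.map_map, hΨ]
  obtain ⟨W, hW⟩ : ∃ W : GL ι F, W = Ψ (Cfsg.Agent.S5638.OmG hq n₂) := ⟨_, rfl⟩
  obtain ⟨ω, hω⟩ : ∃ ω : (ι → F) ≃ₗ[F] (ι → F), ω = glEquiv ι F W := ⟨_, rfl⟩
  have hω_apply : ∀ u w, ω (tT e P u w) = tT e P (Cfsg.Agent.S5638.om F *ᵥ u) w := by
    intro u w
    rw [hω, glEquiv_apply, hW, hΨ, tT_def, tT_def]
    have := conj_reindex_mulVec e P (Cfsg.Agent.S5638.OmG hq n₂) (pureT u w)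
    rw [Cfsg.Agent.S5638.OmG_val, kronecker_mulVec_pureT, Matrix.one_mulVec] at this
    exact this
  have omE0 : Cfsg.Agent.S5638.om F *ᵥ E0 = E1 := by
    rw [hE0, hE1]
    ext i
    fin_cases i <;>
      simp [Cfsg.Agent.S5638.om, Matrix.mulVec, dotProduct, Fin.sum_univ_two]
  have omE1 : Cfsg.Agent.S5638.om F *ᵥ E1 = E0 + E1 := by
    rw [hE0, hE1]
    ext i
    fin_cases i <;>
      simp [Cfsg.Agent.S5638.om, Matrix.mulVec, dotProduct, Fin.sum_univ_two]
  have ω0 : ∀ w, ω (tT e P E0 w) = tT e P E1 w := fun w => by rw [hω_apply, omE0]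
  have ω1 : ∀ w, ω (tT e P E1 w) = tT e P E0 w + tT e P E1 w := fun w => by
    rw [hω_apply, omE1, tT_add_left]
  -- the two singular vectors spanning an `ω`-invariant plane
  obtain ⟨a, ha⟩ : ∃ a : ι → F, a = tT e P E0 w₁ + tT e P E1 w₂ := ⟨_, rfl⟩
  obtain ⟨a', ha'⟩ : ∃ a' : ι → F, a' = tT e P E1 w₁ + tT e P E0 w₂ + tT e P E1 w₂ := ⟨_, rfl⟩
  have ωa : ω a = a' := by
    rw [ha, ha', map_add, ω0, ω1]; abel
  have ωa' : ω a' = a + a' := by
    rw [ha, ha', map_add, map_add, ω0, ω1, ω1]; abel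
  have hBa : ∀ u w, polarBilin hQ (tT e P u w) a = f₁ u E0 * f₂ w w₁ + f₁ u E1 * f₂ w w₂ := by
    intro u w
    rw [ha, map_add, hB, hB]
  have hBa' : ∀ u w, polarBilin hQ (tT e P u w) a' =
      f₁ u E1 * f₂ w w₁ + f₁ u E0 * f₂ w w₂ + f₁ u E1 * f₂ w w₂ := by
    intro u w
    rw [ha', map_add, map_add, hB, hB, hB]
  have hQa : Q a = 0 := by
    rw [ha, hDat.polar, hQ0, hQ0, hB, b12]; ring
  have hQa' : Q a' = 0 := by
    rw [ha', hDat.polar, hDat.polar, hQ0, hQ0, hQ0, hB, map_add, LinearMap.add_apply, hB, hB, b12,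
      b22]
    ring
  have hBaa' : polarBilin hQ a a' = 0 := by
    rw [ha, map_add, LinearMap.add_apply, hBa', hBa', b11, b12, b21, b22]
    ring
  -- a hyperbolic pair orthogonal to everything
  have hcc' : polarBilin hQ (tT e P E0 w₃) (tT e P E1 w₄) = 1 := by
    rw [hB, a01, b34, one_mul]
  have hca : polarBilin hQ (tT e P E0 w₃) a = 0 := by rw [hBa, a00, b32]; ring
  have hca' : polarBilin hQ (tT e P E0 w₃) a' = 0 := by rw [hBa', a00, b31, b32]; ring
  have hc'a : polarBilin hQ (tT e P E1 w₄) a = 0 := by rw [hBa, a11, b41]; ring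
  have hc'a' : polarBilin hQ (tT e P E1 w₄) a' = 0 := by rw [hBa', a11, b42]; ring
  -- the Siegel transformation commuting with `ω`
  obtain ⟨k, hk⟩ : ∃ k : (ι → F) ≃ₗ[F] (ι → F), k = QuadData.siegel (polarBilin hQ) Q a a' :=
    ⟨_, rfl⟩
  have hk_apply : ∀ x, k x = x + polarBilin hQ x a • a' - polarBilin hQ x a' • a := by
    intro x; rw [hk]; exact QuadData.siegel_apply hDat hQa hQa' hBaa' x
  have hk_comm : k ∈ ⁅OG Q, OG Q⁆ := by
    rw [hk]
    exact QuadData.siegel_mem_commutator hDat hQa hQa' hBaa' (hQ0 _ _) (hQ0 _ _) hcc' hca hca'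
      hc'a hc'a'
  have hkE0 : ∀ w, k (tT e P E0 w) =
      tT e P E0 w + f₂ w w₂ • a' - (f₂ w w₁ + f₂ w w₂) • a := by
    intro w
    rw [hk_apply, hBa, hBa', a00, a01]
    congr 2 <;> ring_nf
  have hkE1 : ∀ w, k (tT e P E1 w) = tT e P E1 w + f₂ w w₁ • a' - f₂ w w₂ • a := by
    intro w
    rw [hk_apply, hBa, hBa', a10, a11]
    congr 2 <;> ring_nf
  have hk_inv : k ∈ Cfsg.Agent.S5638.invNormalizer ω := by
    rw [Cfsg.Agent.S5638.mem_invNormalizer_iff]
    left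
    apply LinearEquiv.toLinearMap_injective
    apply linearMap_ext_pure e P
    refine Fin.forall_fin_two.2 ⟨?_, ?_⟩
    · intro w
      rw [← hE0, ← tT_def, LinearEquiv.coe_coe, LinearEquiv.coe_coe]
      rw [LinearEquiv.mul_apply, LinearEquiv.mul_apply, ω0, hkE1, hkE0, map_sub, map_add,
        map_smul, map_smul, ω0, ωa, ωa']
      have key : tT e P E1 w + f₂ w w₁ • a' - f₂ w w₂ • a -
          (tT e P E1 w + f₂ w w₂ • (a + a') - (f₂ w w₁ + f₂ w w₂) • a') =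
          (2 : F) • (f₂ w w₁ • a' - f₂ w w₂ • a) := by module
      rw [h2, zero_smul, sub_eq_zero] at key
      exact key
    · intro w
      rw [← hE1, ← tT_def, LinearEquiv.coe_coe, LinearEquiv.coe_coe]
      rw [LinearEquiv.mul_apply, LinearEquiv.mul_apply, ω1, map_add, hkE1, hkE0, map_sub,
        map_add, map_smul, map_smul, ω1, ωa, ωa']
      have key : tT e P E0 w + f₂ w w₂ • a' - (f₂ w w₁ + f₂ w w₂) • a +
          (tT e P E1 w + f₂ w w₁ • a' - f₂ w w₂ • a) -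
          (tT e P E0 w + tT e P E1 w + f₂ w w₁ • (a + a') - f₂ w w₂ • a') =
          (2 : F) • (f₂ w w₂ • a' - f₂ w w₁ • a - f₂ w w₂ • a) := by module
      rw [h2, zero_smul, sub_eq_zero] at key
      exact key
  -- a Siegel transformation not normalising `⟨ω⟩`
  have hB12 : polarBilin hQ (tT e P E0 w₁) (tT e P E0 w₂) = 0 := by rw [hB, a00]; ring
  obtain ⟨g, hg⟩ : ∃ g : (ι → F) ≃ₗ[F] (ι → F),
    g = QuadData.siegel (polarBilin hQ) Q (tT e P E0 w₁) (tT e P E0 w₂) := ⟨_, rfl⟩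
  have hg_apply : ∀ x, g x = x + polarBilin hQ x (tT e P E0 w₁) • tT e P E0 w₂ -
      polarBilin hQ x (tT e P E0 w₂) • tT e P E0 w₁ := by
    intro x; rw [hg]; exact QuadData.siegel_apply hDat (hQ0 _ _) (hQ0 _ _) hB12 x
  have hg_comm : g ∈ ⁅OG Q, OG Q⁆ := by
    rw [hg]
    refine QuadData.siegel_mem_commutator hDat (hQ0 _ _) (hQ0 _ _) hB12 (hQ0 _ _) (hQ0 _ _) hcc'
      ?_ ?_ ?_ ?_
    · rw [hB, a00]; ring
    · rw [hB, a00]; ring
    · rw [hB, b41]; ring
    · rw [hB, b42]; ring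
  have hg1 : g (tT e P E1 w') = tT e P E1 w' + tT e P E0 w₂ := by
    rw [hg_apply, hB, hB, a10, b1'1, b1'2]
    simp
  have hg0 : g (tT e P E0 w') = tT e P E0 w' := by
    rw [hg_apply, hB, hB, a00]
    simp
  have hg_not : g ∉ Cfsg.Agent.S5638.invNormalizer ω := by
    rw [Cfsg.Agent.S5638.mem_invNormalizer_iff]
    rintro (h | h)
    · have h1 := LinearEquiv.congr_fun h (tT e P E0 w')
      rw [LinearEquiv.mul_apply, LinearEquiv.mul_apply, ω0, hg1, hg0, ω0] at h1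
      have h3 : tT e P E0 w₂ = 0 := by
        have := congrArg (fun x => x - tT e P E1 w') h1
        simpa using this
      obtain ⟨y, hy⟩ := (hf₂.nondegenerate w₂ hw₂).2
      apply hy
      have h4 := hB E0 E1 w₂ y
      rw [h3, map_zero, LinearMap.zero_apply, a01, one_mul] at h4
      exact h4.symm
    · have h' : ω * (g * ω) = g := by rw [h, mul_inv_cancel_left]
      have h1 := LinearEquiv.congr_fun h' (tT e P E0 w')
      rw [LinearEquiv.mul_apply, LinearEquiv.mul_apply, ω0, hg1, hg0, map_add, ω1, ω0] at h1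
      have h3 : tT e P E1 w' + tT e P E1 w₂ = 0 := by
        have := congrArg (fun x => x - tT e P E0 w') h1
        simp only [sub_self] at this
        rw [← this]; abel
      have h4 : polarBilin hQ (tT e P E1 w' + tT e P E1 w₂) (tT e P E0 w₁) = 1 := by
        rw [map_add, LinearMap.add_apply, hB, hB, a10, b1'1, b21]; ring
      rw [h3, map_zero, LinearMap.zero_apply] at h4
      exact zero_ne_one h4
  apply exists_between_of_map (glEquiv ι F)
  rw [map_inf_equiv, map_omegaGL]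
  refine ⟨Cfsg.Agent.S5638.invNormalizer ω ⊓ ⁅OG Q, OG Q⁆, ?_, ?_⟩
  · rw [SetLike.lt_iff_le_and_exists]
    refine ⟨?_, k, ⟨hk_inv, hk_comm⟩, ?_⟩
    · rintro g' ⟨hg1', hg2'⟩
      refine ⟨?_, hg2'⟩
      obtain ⟨g₀, hg₀, rfl⟩ := Subgroup.mem_map.1 hg1'
      rw [hTP] at hg₀
      obtain ⟨k₀, hk₀, rfl⟩ := Subgroup.mem_map.1 hg₀
      have h1 : k₀ ∈ Cfsg.Agent.S5638.invNormalizer (Cfsg.Agent.S5638.OmG hq n₂) :=
        Cfsg.Agent.S5638.kronecker_le hq n₂ hk₀
      have h2' : Ψ k₀ ∈ Cfsg.Agent.S5638.invNormalizer W := by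
        rw [hW]; exact map_invNormalizer_le Ψ _ (Subgroup.mem_map_of_mem _ h1)
      have h3 := map_invNormalizer_le (glEquiv ι F).toMonoidHom W (Subgroup.mem_map_of_mem _ h2')
      rw [hω]; exact h3
    · rintro ⟨hk1, -⟩
      obtain ⟨g₀, hg₀, hgk⟩ := Subgroup.mem_map.1 hk1
      obtain ⟨A, B', hAB⟩ := exists_of_mem_tensorProductSubgroup hg₀
      have hk' : k (tT e P E0 w') = tT e P ((A : Matrix (Fin 2) (Fin 2) F) *ᵥ E0)
          ((B' : Matrix (Fin n₂) (Fin n₂) F) *ᵥ w') := by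
        rw [← hgk, tT_def, tT_def, ← kronecker_mulVec_pureT, ← hAB]
        change (glEquiv ι F g₀) _ = _
        rw [glEquiv_apply]
      rw [hkE0, b1'1, b1'2, zero_smul, add_zero, add_zero, one_smul] at hk'
      obtain ⟨p, hp⟩ : ∃ p : Fin 2 → F, p = (A : Matrix (Fin 2) (Fin 2) F) *ᵥ E0 := ⟨_, rfl⟩
      obtain ⟨v, hv⟩ : ∃ v : Fin n₂ → F, v = (B' : Matrix (Fin n₂) (Fin n₂) F) *ᵥ w' := ⟨_, rfl⟩
      rw [← hp, ← hv] at hk'
      have key : ∀ u y, f₁ p u * f₂ v y =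
          f₁ E0 u * f₂ w' y - (f₁ E0 u * f₂ w₁ y + f₁ E1 u * f₂ w₂ y) := by
        intro u y
        have := congrArg (fun x => polarBilin hQ x (tT e P u y)) hk'
        simp only [ha, map_sub, map_add, LinearMap.sub_apply, LinearMap.add_apply, hB] at this
        exact this.symm
      obtain ⟨y₀, hy₀⟩ := (hf₂.nondegenerate w₂ hw₂).2
      have k0 := key E0 y₀
      rw [a00, a10, zero_mul, zero_mul, one_mul, zero_add, zero_sub, hneg] at k0
      have hα : f₁ p E0 = 1 := by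
        rcases h01 (f₁ p E0) with h | h
        · rw [h, zero_mul] at k0; exact absurd k0.symm hy₀
        · exact h
      have k1 := key E0 w₁
      rw [hα, a00, a10, zero_mul, zero_mul, one_mul, one_mul, zero_add, zero_sub, hneg, b21] at k1
      have k2 := key E1 w₁
      rw [k1, mul_zero, a01, a11, b1'1, b11] at k2
      have : (0 : F) = 1 := by rw [k2]; ring
      exact zero_ne_one this
  · rw [SetLike.lt_iff_le_and_exists]
    refine ⟨inf_le_right, g, hg_comm, ?_⟩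
    rintro ⟨hmem, -⟩
    exact hg_not hmem

end Cfsg.Agent.Lib.Helper94
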