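import Mathlib
import Cfsg.Agent.Lib.Helper43.SUMD.Basic

/-!
# Project SUMD (helper43), module [U-A2] (helper94): the abelian group `A₂ = ⟨Z_z : z ∈ ⟨v, v'⟩⟩`

* `A2_comm` : `A₂` is abelian;
(`A2_iso` is in `SumdUA2Iso.lean`; this file has `A2_comm` and the matrices `UA2.E`.)
-/

set_option autoImplicit false

namespace Cfsg.Agent.Lib.Helper43.SUMD

open Matrix Module Cfsg.Agent.S0837 Cfsg.Agent.S0781 Cfsg.Agent.S2644 Cfsg.Agent.Lib.Helper37

namespace UA2

theorem comm_of_closure {G : Type*} [Group G] (S : Set G) (hS : ∀ a ∈ S, ∀ b ∈ S, a * b = b * a) :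
    ∀ a ∈ Subgroup.closure S, ∀ b ∈ Subgroup.closure S, a * b = b * a := by
  intro a ha b hb
  have h1 : Subgroup.closure S ≤ Subgroup.centralizer (Subgroup.centralizer S : Set G) :=
    Subgroup.closure_le_centralizer_centralizer S
  have h2 : Subgroup.centralizer (Subgroup.centralizer S : Set G) ≤ Subgroup.centralizer S :=
    Subgroup.centralizer_le (fun x hx => Subgroup.mem_centralizer_iff.mpr (fun y hy => hS y hy x hx))
  exact (Subgroup.mem_centralizer_iff.mp (h1 ha) b (h2 (h1 hb))).symm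

section aux
variable {F : Type*} [Field F] (σ : F →+* F) {n : ℕ}

/-- transvections with mutually orthogonal centres commute -/
theorem tv_comm (z z' : Fin n → F) (c c' : F) (h1 : hf σ z z' = 0) (h2 : hf σ z' z = 0) :
    tv σ z c * tv σ z' c' = tv σ z' c' * tv σ z c := by
  apply Matrix.toLin'.injective
  apply LinearMap.ext
  intro x
  rw [Matrix.toLin'_apply, Matrix.toLin'_apply, ← mulVec_mulVec, ← mulVec_mulVec, tv_mulVec,
    tv_mulVec, tv_mulVec, tv_mulVec]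
  simp only [hf_add_left, hf_smul_left, h1, h2]
  module

/-- the matrix `E(α,β,γ) : x ↦ x + h(x,v)(α v + γ v') + h(x,v')(β v' - σ(γ) v)` -/
def E (v v' : Fin n → F) (α β γ : F) : Matrix (Fin n) (Fin n) F :=
  1 + vecMulVec (α • v + γ • v') (σ ∘ v) + vecMulVec (β • v' - σ γ • v) (σ ∘ v')

theorem E_mulVec (v v' : Fin n → F) (α β γ : F) (x : Fin n → F) :
    E σ v v' α β γ *ᵥ x =
      x + hf σ x v • (α • v + γ • v') + hf σ x v' • (β • v' - σ γ • v) := by
  unfold E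
  rw [Matrix.add_mulVec, Matrix.add_mulVec, Matrix.one_mulVec, Matrix.vecMulVec_mulVec,
    Matrix.vecMulVec_mulVec]
  have h1 : ∀ w : Fin n → F, (σ ∘ w) ⬝ᵥ x = hf σ x w := by
    intro w
    unfold hf dotProduct
    exact Finset.sum_congr rfl fun i _ => mul_comm _ _
  rw [h1, h1]
  ext i
  simp only [Pi.add_apply, Pi.sub_apply, Pi.smul_apply, MulOpposite.smul_eq_mul_unop,
    MulOpposite.unop_op, smul_eq_mul]
  ring

theorem E_mul (hσ2 : ∀ a, σ (σ a) = a) (v v' : Fin n → F) (hv : hf σ v v = 0)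
    (hv' : hf σ v' v' = 0) (hvv' : hf σ v v' = 0) (α β γ α' β' γ' : F) :
    E σ v v' α β γ * E σ v v' α' β' γ' = E σ v v' (α + α') (β + β') (γ + γ') := by
  have hv'v : hf σ v' v = 0 := by rw [hf_symm σ hσ2, hvv', map_zero]
  apply Matrix.toLin'.injective
  apply LinearMap.ext
  intro x
  rw [Matrix.toLin'_apply, Matrix.toLin'_apply, ← mulVec_mulVec, E_mulVec, E_mulVec, E_mulVec]
  simp only [hf_add_left, hf_sub_left, hf_smul_left, hv, hv', hvv', hv'v, map_add]
  module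

theorem tv_eq_E (hσ2 : ∀ a, σ (σ a) = a) (v v' : Fin n → F) (a b c : F) (hc : c + σ c = 0) :
    tv σ (a • v + b • v') c = E σ v v' (a * σ a * c) (b * σ b * c) (c * σ a * b) := by
  have hσc : σ c = -c := by linear_combination hc
  apply Matrix.toLin'.injective
  apply LinearMap.ext
  intro x
  rw [Matrix.toLin'_apply, Matrix.toLin'_apply, tv_mulVec, E_mulVec]
  simp only [hf_add_right, hf_smul_right, map_mul, hσ2, hσc]
  module

theorem hf_comb (hσ2 : ∀ a, σ (σ a) = a) (v v' : Fin n → F) (hv : hf σ v v = 0)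
    (hv' : hf σ v' v' = 0) (hvv' : hf σ v v' = 0) (a b a' b' : F) :
    hf σ (a • v + b • v') (a' • v + b' • v') = 0 := by
  have hv'v : hf σ v' v = 0 := by rw [hf_symm σ hσ2, hvv', map_zero]
  simp only [hf_add_left, hf_add_right, hf_smul_left, hf_smul_right, hv, hv', hvv', hv'v]
  ring

/-- `E(α,β,γ)` is the matrix of an element of `A₂` when `α, β` have trace zero -/
theorem exists_mem_A2 [Finite F] (hσ : σ ≠ RingHom.id F) (hσ2 : ∀ a, σ (σ a) = a) (v v' : Fin n → F)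
    (hv : hf σ v v = 0) (hv' : hf σ v' v' = 0) (hvv' : hf σ v v' = 0) (α β γ : F)
    (hα : α + σ α = 0) (hβ : β + σ β = 0) :
    ∃ g : ↥(SUg σ n), g ∈ A2 σ v v' ∧ smat g = E σ v v' α β γ := by
  obtain ⟨c, hc0, hc⟩ := exists_trace_zero_ne σ hσ hσ2
  have hσc : σ c = -c := by linear_combination hc
  set b := γ / c with hb
  have hz : ∀ a b : F, hf σ (a • v + b • v') (a • v + b • v') = 0 := fun a b =>
    hf_comb σ hσ2 v v' hv hv' hvv' a b a b
  have hc1 : (α - c) + σ (α - c) = 0 := by rw [map_sub]; linear_combination hα - hc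
  have hc2 : (β - b * σ b * c) + σ (β - b * σ b * c) = 0 := by
    simp only [map_sub, map_mul, hσ2, hσc]
    linear_combination hβ
  have hmem : ∀ (a b c : F) (hc : c + σ c = 0),
      tvS σ hσ2 (a • v + b • v') c (hz a b) hc ∈ A2 σ v v' := fun a b c hc =>
    Subgroup.subset_closure ⟨a, b, c, hc, rfl⟩
  refine ⟨tvS σ hσ2 ((1 : F) • v + b • v') c (hz 1 b) hc *
      tvS σ hσ2 ((1 : F) • v + (0 : F) • v') (α - c) (hz 1 0) hc1 *
      tvS σ hσ2 ((0 : F) • v + (1 : F) • v') (β - b * σ b * c) (hz 0 1) hc2,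
    Subgroup.mul_mem _ (Subgroup.mul_mem _ (hmem _ _ _ _) (hmem _ _ _ _)) (hmem _ _ _ _), ?_⟩
  rw [smat_mul, smat_mul, smat_tvS, smat_tvS, smat_tvS, tv_eq_E σ hσ2 v v' 1 b c hc,
    tv_eq_E σ hσ2 v v' 1 0 (α - c) hc1, tv_eq_E σ hσ2 v v' 0 1 (β - b * σ b * c) hc2,
    E_mul σ hσ2 v v' hv hv' hvv', E_mul σ hσ2 v v' hv hv' hvv']
  have e1 : (1 : F) * σ 1 * c + 1 * σ 1 * (α - c) + 0 * σ 0 * (β - b * σ b * c) = α := by
    rw [map_one, map_zero]; ring
  have e2 : b * σ b * c + 0 * σ 0 * (α - c) + 1 * σ 1 * (β - b * σ b * c) = β := by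
    rw [map_one, map_zero]; ring
  have e3 : c * σ 1 * b + (α - c) * σ 1 * 0 + (β - b * σ b * c) * σ 0 * 1 = γ := by
    rw [map_one, map_zero, hb]; field_simp; ring
  rw [e1, e2, e3]

end aux

end UA2

section U
variable {F : Type*} [Field F] [Fintype F] (σ : F →+* F) {n : ℕ}

/-- **[U-A2]** `A₂` is abelian -/
theorem A2_comm (hσ2 : ∀ a, σ (σ a) = a) (v v' : Fin n → F) (hv : hf σ v v = 0)
    (hv' : hf σ v' v' = 0) (hvv' : hf σ v v' = 0) :
    ∀ a ∈ A2 σ v v', ∀ b ∈ A2 σ v v', a * b = b * a := by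
  apply UA2.comm_of_closure
  rintro g ⟨a, b, c, hc, hg⟩ g' ⟨a', b', c', hc', hg'⟩
  apply smat_injective
  rw [smat_mul, smat_mul, hg, hg']
  exact UA2.tv_comm σ _ _ c c' (UA2.hf_comb σ hσ2 v v' hv hv' hvv' a b a' b')
    (UA2.hf_comb σ hσ2 v v' hv hv' hvv' a' b' a b)

end U

end Cfsg.Agent.Lib.Helper43.SUMD
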