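import Mathlib
import Cfsg.Agent.Lib.Helper43.SUMD.Basic
import Cfsg.Agent.Lib.Helper94.SumdUA2
import Cfsg.Agent.Lib.Helper87.SumdFIso

/-!
# Project SUMD (helper43), module [U-A2] part 2 (helper94): `A2_iso`
every linear character of `A₂` is trivial on some `Z_{a v + b v'}`, `(a, b) ≠ 0` (uses [F-ISO]).
-/

set_option autoImplicit false

namespace Cfsg.Agent.Lib.Helper43.SUMD

open Matrix Module Cfsg.Agent.S0837 Cfsg.Agent.S0781 Cfsg.Agent.S2644 Cfsg.Agent.Lib.Helper37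

section U
variable {F : Type*} [Field F] [Fintype F] (σ : F →+* F) {n : ℕ}

/-- **[U-A2]** every linear character of `A₂` is trivial on some `Z_{a v + b v'}`, `(a, b) ≠ 0` -/
theorem A2_iso (hσ : σ ≠ RingHom.id F) (hσ2 : ∀ a, σ (σ a) = a) (v v' : Fin n → F)
    (hv : hf σ v v = 0) (hv' : hf σ v' v' = 0) (hvv' : hf σ v v' = 0)
    (χ : ↥(A2 σ v v') →* ℂˣ) :
    ∃ a b : F, (a ≠ 0 ∨ b ≠ 0) ∧ ∀ g : ↥(A2 σ v v'),
      (∃ c, c + σ c = 0 ∧ smat (g : ↥(SUg σ n)) = tv σ (a • v + b • v') c) → χ g = 1 := by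
  classical
  -- the element of `A₂` with matrix `E(α,β,γ)`
  have hex : ∀ α β γ : F, α + σ α = 0 → β + σ β = 0 →
      ∃ g : ↥(A2 σ v v'), smat (g : ↥(SUg σ n)) = UA2.E σ v v' α β γ := by
    intro α β γ hα hβ
    obtain ⟨g, hg, hgm⟩ := UA2.exists_mem_A2 σ hσ hσ2 v v' hv hv' hvv' α β γ hα hβ
    exact ⟨⟨g, hg⟩, hgm⟩
  let Λ : F → F → F → ℂˣ := fun α β γ =>
    if h : α + σ α = 0 ∧ β + σ β = 0 then χ (Classical.choose (hex α β γ h.1 h.2)) else 1
  have hΛval : ∀ (α β γ : F) (hα : α + σ α = 0) (hβ : β + σ β = 0) (g : ↥(A2 σ v v')),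
      smat (g : ↥(SUg σ n)) = UA2.E σ v v' α β γ → Λ α β γ = χ g := by
    intro α β γ hα hβ g hg
    have hcond : α + σ α = 0 ∧ β + σ β = 0 := ⟨hα, hβ⟩
    show (if h : α + σ α = 0 ∧ β + σ β = 0 then χ (Classical.choose (hex α β γ h.1 h.2)) else 1) = χ g
    rw [dif_pos hcond]
    congr 1
    apply Subtype.ext
    apply smat_injective
    rw [Classical.choose_spec (hex α β γ hcond.1 hcond.2), hg]
  have hΛ : ∀ α β γ α' β' γ', α + σ α = 0 → β + σ β = 0 → α' + σ α' = 0 → β' + σ β' = 0 →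
      Λ (α + α') (β + β') (γ + γ') = Λ α β γ * Λ α' β' γ' := by
    intro α β γ α' β' γ' hα hβ hα' hβ'
    obtain ⟨g, hg⟩ := hex α β γ hα hβ
    obtain ⟨g', hg'⟩ := hex α' β' γ' hα' hβ'
    have hαα : (α + α') + σ (α + α') = 0 := by rw [map_add]; linear_combination hα + hα'
    have hββ : (β + β') + σ (β + β') = 0 := by rw [map_add]; linear_combination hβ + hβ'
    rw [hΛval α β γ hα hβ g hg, hΛval α' β' γ' hα' hβ' g' hg', ← map_mul]
    apply hΛval _ _ _ hαα hββ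
    rw [Subgroup.coe_mul, smat_mul, hg, hg', UA2.E_mul σ hσ2 v v' hv hv' hvv']
  obtain ⟨a, b, hab, hall⟩ := exists_isotropic_of_char σ hσ hσ2 Λ hΛ
  refine ⟨a, b, hab, ?_⟩
  rintro g ⟨c, hc, hg⟩
  have hσc : σ c = -c := by linear_combination hc
  have h1 : (a * σ a * c) + σ (a * σ a * c) = 0 := by
    simp only [map_mul, hσ2, hσc]; ring
  have h2 : (b * σ b * c) + σ (b * σ b * c) = 0 := by
    simp only [map_mul, hσ2, hσc]; ring
  rw [← hΛval _ _ _ h1 h2 g (by rw [hg, UA2.tv_eq_E σ hσ2 v v' a b c hc])]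
  exact hall c hc

end U

end Cfsg.Agent.Lib.Helper43.SUMD
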