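import Mathlib
import Cfsg.Agent.Lib.Helper43.SUMD.Basic

/-!
# Project SUMD (helper43), module [U-Q] (helper94): the Siegel group `Q_v` of `SU_n(q)`

* `Zsub_central_Qsub` : `Z_v` is central in `Q_v`;
* `Qsub_comm_exists` : commutators in `Q_v` realise every element of `Z_v`;
(`card_Qsub_ge` : `|Q_v| ≥ q^(2n-3)` is in `SumdUQCard.lean`.)
-/

set_option autoImplicit false

namespace Cfsg.Agent.Lib.Helper43.SUMD

open Matrix Module Cfsg.Agent.S0837 Cfsg.Agent.S0781 Cfsg.Agent.S2644 Cfsg.Agent.Lib.Helper37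

namespace UQ

section aux
variable {F : Type*} [Field F] (σ : F →+* F) {n : ℕ}

theorem sieg_mul_tv (hσ2 : ∀ a, σ (σ a) = a) (v u : Fin n → F) (β c : F) (hv : hf σ v v = 0)
    (hu : hf σ u v = 0) : sieg σ v u β * tv σ v c = sieg σ v u (β + c) := by
  unfold tv
  rw [sieg_mul σ hσ2 v u 0 β c hv hu (hf_zero_left σ v), add_zero, hf_zero_left, sub_zero]

theorem tv_mul_sieg (hσ2 : ∀ a, σ (σ a) = a) (v u : Fin n → F) (β c : F) (hv : hf σ v v = 0)
    (hu : hf σ u v = 0) : tv σ v c * sieg σ v u β = sieg σ v u (c + β) := by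
  unfold tv
  rw [sieg_mul σ hσ2 v 0 u c β hv (hf_zero_left σ v) hu, zero_add, hf_zero_right, sub_zero]

theorem sieg_smul_self (v : Fin n → F) (l β : F) :
    sieg σ v (l • v) β = tv σ v (β + l - σ l) := by
  apply Matrix.toLin'.injective
  apply LinearMap.ext
  intro x
  rw [Matrix.toLin'_apply, Matrix.toLin'_apply, sieg_mulVec, tv_mulVec]
  simp only [hf_smul_right]
  module

end aux

end UQ

section U
variable {F : Type*} [Field F] [Fintype F] (σ : F →+* F) {n : ℕ}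

/-- **[U-Q]** `Z_v` is central in `Q_v` -/
theorem Zsub_central_Qsub (hσ2 : ∀ a, σ (σ a) = a) (v : Fin n → F) (hv : hf σ v v = 0) :
    ∀ s ∈ Qsub σ hσ2 v hv, ∀ z ∈ Zsub σ v hv, s * z = z * s := by
  rintro s ⟨u, β, hu, hβ, hs⟩ z ⟨c, hc, hz⟩
  apply smat_injective
  rw [smat_mul, smat_mul, hs, hz, UQ.sieg_mul_tv σ hσ2 v u β c hv hu,
    UQ.tv_mul_sieg σ hσ2 v u β c hv hu, add_comm]

/-- **[U-Q]** commutators in `Q_v` realise every element of `Z_v` -/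
theorem Qsub_comm_exists (hσ : σ ≠ RingHom.id F) (hσ2 : ∀ a, σ (σ a) = a) {v w : Fin n → F}
    (h : HP σ v w) (s : ↥(SUg σ n)) (hs : s ∈ Qsub σ hσ2 v h.uu) (hsZ : s ∉ Zsub σ v h.uu)
    (c₀ : F) (hc₀ : c₀ + σ c₀ = 0) :
    ∃ s' ∈ Qsub σ hσ2 v h.uu, s' * s * s'⁻¹ = s * tvS σ hσ2 v c₀ h.uu hc₀ := by
  obtain ⟨u, β, hu, hβ, hsm⟩ := hs
  have hu₀ne : pr σ v w u ≠ 0 := by
    intro h0
    apply hsZ
    have hu_eq : u = hf σ u w • v := by
      have := pr_eq σ v w u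
      rw [h0, hu, zero_smul, add_zero, add_zero] at this
      exact this
    refine ⟨β + hf σ u w - σ (hf σ u w), ?_, ?_⟩
    · have huu : hf σ u u = 0 := by
        rw [hu_eq, hf_smul_left, hf_smul_right, h.uu, mul_zero, mul_zero]
      rw [huu, add_zero] at hβ
      simp only [map_add, map_sub, hσ2]
      linear_combination hβ
    · rw [hsm]
      conv_lhs => rw [hu_eq]
      exact UQ.sieg_smul_self σ v _ β
  obtain ⟨y, hy⟩ := exists_hf_ne_zero σ hσ2 (pr σ v w u) hu₀ne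
  have hu₀v : hf σ (pr σ v w u) v = 0 := hf_pr_u σ h u
  have hu₀w : hf σ (pr σ v w u) w = 0 := hf_pr_v σ hσ2 h u
  have hy₀v : hf σ (pr σ v w y) v = 0 := hf_pr_u σ h y
  have hy₀w : hf σ (pr σ v w y) w = 0 := hf_pr_v σ hσ2 h y
  have hd : hf σ (pr σ v w y) (pr σ v w u) = hf σ y (pr σ v w u) :=
    hf_pr_left σ hσ2 y (pr σ v w u) hu₀v hu₀w
  obtain ⟨e, he⟩ := trace_surj σ hσ hσ2 1 (map_one σ)
  set d := hf σ (pr σ v w y) (pr σ v w u) with hd_def
  have hdne : d ≠ 0 := by rw [hd]; exact hy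
  set t := c₀ * e with ht
  set u' := (t / d) • pr σ v w y with hu'
  have hy₀u : hf σ (pr σ v w y) u = d := by
    conv_lhs => rw [pr_eq σ v w u]
    rw [hf_add_right, hf_add_right, hf_smul_right, hf_smul_right, hy₀v, hy₀w, mul_zero, mul_zero,
      zero_add, zero_add]
  have hu'u : hf σ u' u = t := by
    rw [hu', hf_smul_left, hy₀u, div_mul_cancel₀ _ hdne]
  have hu'v : hf σ u' v = 0 := by
    rw [hu', hf_smul_left, hy₀v, mul_zero]
  have huu' : hf σ u u' = σ t := by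
    rw [hf_symm σ hσ2, hu'u]
  obtain ⟨β', hβ'⟩ := trace_surj σ hσ hσ2 (-(hf σ u' u')) (by
    rw [map_neg, hf_self_fixed σ hσ2])
  have hβ'0 : β' + σ β' + hf σ u' u' = 0 := by rw [hβ']; ring
  refine ⟨siegS σ hσ2 v u' β' h.uu hu'v hβ'0, ⟨u', β', hu'v, hβ'0, rfl⟩, ?_⟩
  rw [mul_inv_eq_iff_eq_mul]
  apply smat_injective
  rw [smat_mul, smat_mul, smat_mul, hsm, smat_siegS, smat_tvS,
    UQ.sieg_mul_tv σ hσ2 v u β c₀ h.uu hu,
    sieg_mul σ hσ2 v u' u β' β h.uu hu'v hu, sieg_mul σ hσ2 v u u' (β + c₀) β' h.uu hu hu'v,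
    huu', hu'u, add_comm u' u]
  congr 1
  have hσc : σ c₀ = -c₀ := by linear_combination hc₀
  rw [ht, map_mul, hσc]
  linear_combination c₀ * he

end U

end Cfsg.Agent.Lib.Helper43.SUMD
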