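import Mathlib
import Cfsg.Agent.Lib.Helper43.SUMD.Basic
import Cfsg.Agent.Lib.Helper87.SumdFCard

/-!
# Project SUMD (helper43), module [U-Q] part 2 (helper94): `card_Qsub_ge` : `|Q_v| ≥ q^(2n-3)`
(uses [F-CARD] `card_trace_zero`)
-/

set_option autoImplicit false

namespace Cfsg.Agent.Lib.Helper43.SUMD

open Matrix Module Cfsg.Agent.S0837 Cfsg.Agent.S0781 Cfsg.Agent.S2644 Cfsg.Agent.Lib.Helper37

section U
variable {F : Type*} [Field F] [Fintype F] (σ : F →+* F) {n : ℕ}

/-- **[U-Q]** `|Q_v| ≥ q^(2n-3)` -/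
theorem card_Qsub_ge {q : ℕ} (hF : Fintype.card F = q ^ 2) (hσq : ∀ x, σ x = x ^ q)
    (hσ2 : ∀ a, σ (σ a) = a) (hn : 2 ≤ n) {v w : Fin n → F} (h : HP σ v w) :
    q ^ (2 * n - 3) ≤ Nat.card (Qsub σ hσ2 v h.uu) := by
  classical
  have hσ : σ ≠ RingHom.id F := frob_ne_id σ hF hσq
  -- the perp of the hyperbolic pair
  let L : (Fin n → F) →ₗ[F] F × F := (BV σ n v).prod (BV σ n w)
  have hL : ∀ x, L x = (hf σ x v, hf σ x w) := fun x => rfl
  have hsurj : Function.Surjective L := by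
    rintro ⟨a, b⟩
    refine ⟨a • w + b • v, ?_⟩
    rw [hL, hf_add_left, hf_add_left, hf_smul_left, hf_smul_left, hf_smul_left, hf_smul_left,
      h.vu, h.uu, h.vv, h.uv hσ2]
    simp
  have hrank : finrank F (LinearMap.ker L) = n - 2 := by
    have h1 := LinearMap.finrank_range_add_finrank_ker L
    rw [LinearMap.range_eq_top.mpr hsurj, finrank_top, Module.finrank_prod, Module.finrank_self,
      Module.finrank_fintype_fun_eq_card, Fintype.card_fin] at h1
    omega
  have hcardU : Nat.card (LinearMap.ker L) = q ^ (2 * (n - 2)) := by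
    rw [Nat.card_eq_fintype_card, Module.card_eq_pow_finrank (K := F), hrank, hF, ← pow_mul]
  have hcardT : Nat.card {c : F // c + σ c = 0} = q := card_trace_zero σ hF hσq
  have hmemU : ∀ u : LinearMap.ker L, hf σ (u : Fin n → F) v = 0 ∧ hf σ (u : Fin n → F) w = 0 := by
    intro u
    have := u.2
    rw [LinearMap.mem_ker, hL, Prod.mk_eq_zero] at this
    exact this
  have hβex : ∀ u : LinearMap.ker L, ∃ β : F, β + σ β + hf σ (u : Fin n → F) (u : Fin n → F) = 0 := by
    intro u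
    obtain ⟨β, hβ⟩ := trace_surj σ hσ hσ2 (-(hf σ (u : Fin n → F) (u : Fin n → F))) (by
      rw [map_neg, hf_self_fixed σ hσ2])
    exact ⟨β, by rw [hβ]; ring⟩
  choose β₀ hβ₀ using hβex
  have hβc : ∀ (u : LinearMap.ker L) (c : {c : F // c + σ c = 0}),
      (β₀ u + c.1) + σ (β₀ u + c.1) + hf σ (u : Fin n → F) (u : Fin n → F) = 0 := by
    intro u c
    rw [map_add]
    linear_combination hβ₀ u + c.2
  let f : (LinearMap.ker L) × {c : F // c + σ c = 0} → ↥(Qsub σ hσ2 v h.uu) := fun p =>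
    ⟨siegS σ hσ2 v (p.1 : Fin n → F) (β₀ p.1 + p.2.1) h.uu (hmemU p.1).1 (hβc p.1 p.2),
      ⟨(p.1 : Fin n → F), β₀ p.1 + p.2.1, (hmemU p.1).1, hβc p.1 p.2, rfl⟩⟩
  have hfinj : Function.Injective f := by
    rintro ⟨u, c⟩ ⟨u', c'⟩ hEq
    have h1 : sieg σ v (u : Fin n → F) (β₀ u + c.1) = sieg σ v (u' : Fin n → F) (β₀ u' + c'.1) := by
      have := congrArg (fun g : ↥(Qsub σ hσ2 v h.uu) => smat (g : ↥(SUg σ n))) hEq
      simpa [f] using this
    have h2 := congrArg (fun M : Matrix (Fin n) (Fin n) F => M *ᵥ w) h1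
    simp only [sieg_mulVec] at h2
    have hwu : hf σ w (u : Fin n → F) = 0 := by rw [hf_symm σ hσ2, (hmemU u).2, map_zero]
    have hwu' : hf σ w (u' : Fin n → F) = 0 := by rw [hf_symm σ hσ2, (hmemU u').2, map_zero]
    rw [h.vu, hwu, hwu', one_smul, one_smul, zero_smul, sub_zero, sub_zero] at h2
    have h3 : (u : Fin n → F) + (β₀ u + c.1) • v = (u' : Fin n → F) + (β₀ u' + c'.1) • v :=
      add_left_cancel h2
    have h4 := congrArg (fun x => hf σ x w) h3
    simp only [hf_add_left, hf_smul_left, (hmemU u).2, (hmemU u').2, h.uv hσ2, mul_one,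
      zero_add] at h4
    have h5 : (u : Fin n → F) = (u' : Fin n → F) := by
      rw [h4] at h3
      exact add_right_cancel h3
    have h6 : u = u' := Subtype.ext h5
    subst h6
    have h7 : c.1 = c'.1 := add_left_cancel h4
    rw [Prod.mk.injEq]
    exact ⟨rfl, Subtype.ext h7⟩
  have hfin : Finite ↥(Qsub σ hσ2 v h.uu) := inferInstance
  have hle := Nat.card_le_card_of_injective f hfinj
  rw [Nat.card_prod, hcardU, hcardT, ← pow_succ] at hle
  have hexp : 2 * (n - 2) + 1 = 2 * n - 3 := by omega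
  rwa [hexp] at hle

end U

end Cfsg.Agent.Lib.Helper43.SUMD
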