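import Mathlib
import Cfsg.Agent.Lib.Helper43.SUMD.Basic

/-!
# Project SUMD (helper43), module [U-TOR] (helper94): the Levi torus of two orthogonal hyperbolic pairs

`exists_torus` : for orthogonal hyperbolic pairs `(v,w)`, `(v',w')` and `β ≠ 0` there is `g ∈ SU_n` with
`g v = σ β • v`, `g v' = β • v'`.
-/

set_option autoImplicit false

namespace Cfsg.Agent.Lib.Helper43.SUMD

open Matrix Module Cfsg.Agent.S0837 Cfsg.Agent.S0781 Cfsg.Agent.S2644 Cfsg.Agent.Lib.Helper37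

namespace UTor

section aux
variable {F : Type*} [Field F] (σ : F →+* F) {n : ℕ}

/-- the hyperbolic rotation `x ↦ x + (σβ - 1) h(x,w) v + (β⁻¹ - 1) h(x,v) w` -/
def rot (v w : Fin n → F) (β : F) : Matrix (Fin n) (Fin n) F :=
  1 + vecMulVec ((σ β - 1) • v) (σ ∘ w) + vecMulVec ((β⁻¹ - 1) • w) (σ ∘ v)

theorem rot_mulVec (v w : Fin n → F) (β : F) (x : Fin n → F) :
    rot σ v w β *ᵥ x = x + ((σ β - 1) * hf σ x w) • v + ((β⁻¹ - 1) * hf σ x v) • w := by
  unfold rot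
  rw [Matrix.add_mulVec, Matrix.add_mulVec, Matrix.one_mulVec, Matrix.vecMulVec_mulVec,
    Matrix.vecMulVec_mulVec]
  have h1 : ∀ z : Fin n → F, (σ ∘ z) ⬝ᵥ x = hf σ x z := by
    intro z
    unfold hf dotProduct
    exact Finset.sum_congr rfl fun i _ => mul_comm _ _
  rw [h1, h1]
  ext i
  simp only [Pi.add_apply, Pi.smul_apply, MulOpposite.smul_eq_mul_unop,
    MulOpposite.unop_op, smul_eq_mul]
  ring

theorem rot_preserves (hσ2 : ∀ a, σ (σ a) = a) {v w : Fin n → F} (h : HP σ v w) (β : F)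
    (hβ : β ≠ 0) (x y : Fin n → F) :
    hf σ (rot σ v w β *ᵥ x) (rot σ v w β *ᵥ y) = hf σ x y := by
  have hyw : σ (hf σ y w) = hf σ w y := (hf_symm σ hσ2 w y).symm
  have hyv : σ (hf σ y v) = hf σ v y := (hf_symm σ hσ2 v y).symm
  have hσβ : σ β ≠ 0 := map_ne_zero_of_invol σ hσ2 hβ
  rw [rot_mulVec, rot_mulVec]
  simp only [hf_add_left, hf_add_right, hf_smul_left, hf_smul_right, map_mul, map_sub, map_one,
    map_inv₀, hσ2, hyw, hyv, h.uu, h.vv, h.vu, h.uv hσ2]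
  field_simp
  ring

theorem rot_det (hσ2 : ∀ a, σ (σ a) = a) {v w : Fin n → F} (h : HP σ v w) (β : F) :
    (rot σ v w β).det = σ β * β⁻¹ := by
  set A : Matrix (Fin n) (Fin 2) F :=
    Matrix.of fun i j => ![((σ β - 1) • v) i, ((β⁻¹ - 1) • w) i] j with hA
  set B : Matrix (Fin 2) (Fin n) F := Matrix.of ![σ ∘ w, σ ∘ v] with hB
  have hAB : rot σ v w β = 1 + A * B := by
    unfold rot
    rw [add_assoc]
    congr 1
    ext i k
    simp [hA, hB, Matrix.mul_apply, Fin.sum_univ_two, vecMulVec_apply]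
    ring
  have hdot : ∀ a b : Fin n → F, ∑ k, σ (a k) * b k = hf σ b a := by
    intro a b
    unfold hf
    exact Finset.sum_congr rfl fun i _ => mul_comm _ _
  have hB0 : ∀ k, B 0 k = σ (w k) := fun k => rfl
  have hB1 : ∀ k, B 1 k = σ (v k) := fun k => rfl
  have hA0 : ∀ k, A k 0 = ((σ β - 1) • v) k := fun k => rfl
  have hA1 : ∀ k, A k 1 = ((β⁻¹ - 1) • w) k := fun k => rfl
  have h00 : (B * A) 0 0 = σ β - 1 := by
    simp only [Matrix.mul_apply, hB0, hA0]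
    rw [hdot, hf_smul_left, h.uv hσ2, mul_one]
  have h01 : (B * A) 0 1 = 0 := by
    simp only [Matrix.mul_apply, hB0, hA1]
    rw [hdot, hf_smul_left, h.vv, mul_zero]
  have h10 : (B * A) 1 0 = 0 := by
    simp only [Matrix.mul_apply, hB1, hA0]
    rw [hdot, hf_smul_left, h.uu, mul_zero]
  have h11 : (B * A) 1 1 = β⁻¹ - 1 := by
    simp only [Matrix.mul_apply, hB1, hA1]
    rw [hdot, hf_smul_left, h.vu, mul_one]
  rw [hAB, Matrix.det_one_add_mul_comm, Matrix.det_fin_two]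
  simp only [Matrix.add_apply, Matrix.one_apply_eq, h00, h01, h10, h11]
  simp

end aux

end UTor

section U
variable {F : Type*} [Field F] [Fintype F] (σ : F →+* F) {n : ℕ}

/-- **[U-TOR]** the Levi torus: for orthogonal hyperbolic pairs `(v,w)`, `(v',w')` and `β ≠ 0` there is
`g ∈ SU_n` with `g v = σ β • v`, `g v' = β • v'` -/
theorem exists_torus (hσ2 : ∀ a, σ (σ a) = a) {v w v' w' : Fin n → F} (h : HP σ v w)
    (h' : HP σ v' w') (h1 : hf σ v' v = 0) (h2 : hf σ v' w = 0) (h3 : hf σ w' v = 0)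
    (h4 : hf σ w' w = 0) (β : F) (hβ : β ≠ 0) :
    ∃ g : ↥(SUg σ n), smat g *ᵥ v = σ β • v ∧ smat g *ᵥ v' = β • v' := by
  have hσβ : σ β ≠ 0 := map_ne_zero_of_invol σ hσ2 hβ
  have hvv' : hf σ v v' = 0 := by rw [hf_symm σ hσ2, h1, map_zero]
  have hvw' : hf σ v w' = 0 := by rw [hf_symm σ hσ2, h3, map_zero]
  have hdet : (UTor.rot σ v w β * UTor.rot σ v' w' (σ β)).det = 1 := by
    rw [Matrix.det_mul, UTor.rot_det σ hσ2 h, UTor.rot_det σ hσ2 h', hσ2]
    field_simp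
  have hpres : ∀ x y, hf σ ((UTor.rot σ v w β * UTor.rot σ v' w' (σ β)) *ᵥ x)
      ((UTor.rot σ v w β * UTor.rot σ v' w' (σ β)) *ᵥ y) = hf σ x y := by
    intro x y
    rw [← mulVec_mulVec, ← mulVec_mulVec, UTor.rot_preserves σ hσ2 h β hβ,
      UTor.rot_preserves σ hσ2 h' (σ β) hσβ]
  refine ⟨mkS _ hdet hpres, ?_, ?_⟩
  · rw [smat_mkS, ← mulVec_mulVec, UTor.rot_mulVec σ v' w' (σ β) v, hvw', hvv', mul_zero, mul_zero,
      zero_smul, zero_smul, add_zero, add_zero, UTor.rot_mulVec, h.uv hσ2, h.uu, mul_one, mul_zero,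
      zero_smul, add_zero]
    module
  · rw [smat_mkS, ← mulVec_mulVec, UTor.rot_mulVec σ v' w' (σ β) v', h'.uv hσ2, h'.uu, mul_one,
      mul_zero, zero_smul, add_zero, hσ2]
    have e : v' + (β - 1) • v' = β • v' := by module
    rw [e, Matrix.mulVec_smul, UTor.rot_mulVec, h2, h1, mul_zero, mul_zero, zero_smul, zero_smul,
      add_zero, add_zero]

end U

end Cfsg.Agent.Lib.Helper43.SUMD
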