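/-
helper94: the subfield subgroup `SU_n(q₀)·Z` (odd prime degree `r`) is maximal in `SU_n(q)`.
Part 1: membership of matrices in a subgroup of `GL`, rational matrices, the commutator of an
element fixing `s` with a Siegel element centred at `s`.
-/
import Mathlib
import Cfsg.Agent.Lib.Helper37.UnitaryGen
import Cfsg.Agent.Lib.Helper13.UnitMax
import Cfsg.Agent.Lib.Helper13.SubfieldBasic

set_option autoImplicit false

namespace Cfsg.Agent.Lib.Helper94.SUSub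

open Matrix Module Cfsg.Agent.S0837 Cfsg.Agent.S0781 Cfsg.Agent.S2644 Cfsg.Agent.Lib.Helper37
open Cfsg.Agent.Lib.Helper13 (rat rat_apply rat_add rat_smul rat_zero rat_neg rat_single
  rat_injective mem_subfieldSubgroup_iff)

section memM
variable {F : Type*} [Field F] {n : ℕ}

/-- the matrix `A` is the matrix of an element of the subgroup `M`. -/
def MemM (M : Subgroup (GL (Fin n) F)) (A : Matrix (Fin n) (Fin n) F) : Prop :=
  ∃ g ∈ M, (g : Matrix (Fin n) (Fin n) F) = A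

variable {M : Subgroup (GL (Fin n) F)}

theorem MemM.mul {A B : Matrix (Fin n) (Fin n) F} (hA : MemM M A) (hB : MemM M B) :
    MemM M (A * B) := by
  obtain ⟨s, hs, rfl⟩ := hA
  obtain ⟨t, ht, rfl⟩ := hB
  exact ⟨s * t, M.mul_mem hs ht, rfl⟩

theorem MemM.one : MemM M (1 : Matrix (Fin n) (Fin n) F) := ⟨1, M.one_mem, rfl⟩

theorem MemM.of_mul_eq_one {A B : Matrix (Fin n) (Fin n) F} (hA : MemM M A) (h : A * B = 1) :
    MemM M B := by
  obtain ⟨g, hg, rfl⟩ := hA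
  refine ⟨g⁻¹, M.inv_mem hg, ?_⟩
  calc ((g⁻¹ : GL (Fin n) F) : Matrix (Fin n) (Fin n) F)
      = ((g⁻¹ : GL (Fin n) F) : Matrix (Fin n) (Fin n) F) * ((g : Matrix (Fin n) (Fin n) F) * B) := by
        rw [h, Matrix.mul_one]
    _ = B := by
        rw [← Matrix.mul_assoc, ← Units.val_mul, inv_mul_cancel, Units.val_one, Matrix.one_mul]

theorem MemM.of_mem {g : GL (Fin n) F} (hg : g ∈ M) : MemM M (g : Matrix (Fin n) (Fin n) F) :=
  ⟨g, hg, rfl⟩

theorem MemM.pow {A : Matrix (Fin n) (Fin n) F} (hA : MemM M A) (k : ℕ) : MemM M (A ^ k) := by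
  obtain ⟨g, hg, rfl⟩ := hA
  exact ⟨g ^ k, M.pow_mem hg k, by rw [Units.val_pow_eq_pow_val]⟩

end memM

section comm
variable {F : Type*} [Field F] (σ : F →+* F) {n : ℕ}

theorem hf_neg_right' (u w : Fin n → F) : hf σ u (-w) = -hf σ u w := by
  simp [hf]

/-- the inverse of a Siegel element -/
theorem sieg_mul_inv' (hσ2 : ∀ a, σ (σ a) = a) (u w : Fin n → F) (β : F) (hu : hf σ u u = 0)
    (hw : hf σ w u = 0) (hβ : β + σ β + hf σ w w = 0) :
    sieg σ u (-w) (σ β) * sieg σ u w β = 1 := by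
  have := sieg_mul_inv σ hσ2 u (-w) (σ β) hu (by rw [hf_neg_left, hw, neg_zero]) (by
    rw [hσ2, hf_neg_left, hf_neg_right']
    linear_combination hβ)
  rwa [neg_neg, hσ2] at this

variable {M : Subgroup (GL (Fin n) F)}

/-- **The commutator of an element fixing `s` with a Siegel element centred at `s`.** -/
theorem memM_comm_sieg (hσ2 : ∀ a, σ (σ a) = a) (hMU : M ≤ UG σ n)
    {G : Matrix (Fin n) (Fin n) F} (hG : MemM M G) {s u : Fin n → F} {z : F}
    (hGs : G *ᵥ s = s) (hss : hf σ s s = 0) (hus : hf σ u s = 0)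
    (hz : z + σ z + hf σ u u = 0) (hy : MemM M (sieg σ s u z)) :
    MemM M (sieg σ s (G *ᵥ u - u) (z + σ z + hf σ u (G *ᵥ u))) := by
  obtain ⟨g, hg, rfl⟩ := hG
  have hgU : ∀ x y, hf σ ((g : Matrix (Fin n) (Fin n) F) *ᵥ x)
      ((g : Matrix (Fin n) (Fin n) F) *ᵥ y) = hf σ x y := hMU hg
  have hinv : MemM M ((g⁻¹ : GL (Fin n) F) : Matrix (Fin n) (Fin n) F) :=
    MemM.of_mem (M.inv_mem hg)
  have hyinv : MemM M (sieg σ s (-u) (σ z)) :=
    hy.of_mul_eq_one (sieg_mul_inv σ hσ2 s u z hss hus hz)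
  have h1 := (((MemM.of_mem hg).mul hy).mul hinv).mul hyinv
  have hconj : (g : Matrix (Fin n) (Fin n) F) * sieg σ s u z *
      ((g⁻¹ : GL (Fin n) F) : Matrix (Fin n) (Fin n) F) =
      sieg σ s ((g : Matrix (Fin n) (Fin n) F) *ᵥ u) z := by
    rw [sieg_conj σ _ hgU, hGs, Matrix.mul_assoc, ← Units.val_mul, mul_inv_cancel, Units.val_one,
      Matrix.mul_one]
  have hgus : hf σ ((g : Matrix (Fin n) (Fin n) F) *ᵥ u) s = 0 := by
    rw [← hGs, hgU, hus]
  rw [hconj, sieg_mul σ hσ2 s _ (-u) z (σ z) hss hgus (by rw [hf_neg_left, hus, neg_zero]),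
    hf_neg_left, sub_neg_eq_add, ← sub_eq_add_neg] at h1
  exact h1

/-- the same for a transvection centred at `s` -/
theorem tv_eq_sieg (v : Fin n → F) (c : F) : tv σ v c = sieg σ v 0 c := rfl

end comm

section rational
variable {F : Type*} [Field F] (σ : F →+* F) {n : ℕ} (F₀ : Subfield F) (σ₀ : F₀ →+* F₀)

/-- the form on rational vectors -/
theorem hf_rat (hc : ∀ x : F₀, ((σ₀ x : F₀) : F) = σ (x : F)) (a b : Fin n → F₀) :
    hf σ (rat F₀ a) (rat F₀ b) = ((hf σ₀ a b : F₀) : F) := by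
  unfold hf
  rw [AddSubmonoidClass.coe_finsetSum]
  refine Finset.sum_congr rfl fun i _ => ?_
  rw [Subfield.coe_mul, hc, rat_apply, rat_apply]

theorem rat_sub (a b : Fin n → F₀) : rat F₀ (a - b) = rat F₀ a - rat F₀ b := by
  funext i
  simp [rat]

theorem map_sieg (hc : ∀ x : F₀, ((σ₀ x : F₀) : F) = σ (x : F)) (s u : Fin n → F₀) (z : F₀) :
    (sieg σ₀ s u z).map F₀.subtype = sieg σ (rat F₀ s) (rat F₀ u) (z : F) := by
  ext i j
  simp only [sieg, Matrix.map_apply, Matrix.add_apply, Matrix.sub_apply, Matrix.one_apply,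
    vecMulVec_apply, Pi.add_apply, Pi.smul_apply, Function.comp_apply, smul_eq_mul, rat_apply,
    Subfield.coe_subtype, Subfield.coe_sub, Subfield.coe_add, Subfield.coe_mul, hc]
  split_ifs <;> simp

variable {M : Subgroup (GL (Fin n) F)}

/-- rational matrices of determinant one preserving the form lie in `M` -/
theorem memM_of_rat
    (hM : ∀ g : GL (Fin n) F, g ∈ UG σ n → (g : Matrix (Fin n) (Fin n) F).det = 1 →
      g ∈ Cfsg.Geo.subfieldSubgroup F₀ (1 : GL (Fin n) F) → g ∈ M)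
    (A : GL (Fin n) F₀)
    (hU : ∀ x y, hf σ ((A : Matrix (Fin n) (Fin n) F₀).map F₀.subtype *ᵥ x)
      ((A : Matrix (Fin n) (Fin n) F₀).map F₀.subtype *ᵥ y) = hf σ x y)
    (hdet : ((A : Matrix (Fin n) (Fin n) F₀).map F₀.subtype).det = 1) :
    MemM M ((A : Matrix (Fin n) (Fin n) F₀).map F₀.subtype) := by
  refine ⟨Matrix.GeneralLinearGroup.map F₀.subtype A, hM _ hU hdet ?_, rfl⟩
  rw [mem_subfieldSubgroup_iff]
  refine ⟨A, 1, ?_⟩
  simp

/-- rational Siegel elements lie in `M` -/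
theorem memM_sieg_rat (hσ2 : ∀ a, σ (σ a) = a) (hσ₀2 : ∀ a, σ₀ (σ₀ a) = a)
    (hc : ∀ x : F₀, ((σ₀ x : F₀) : F) = σ (x : F))
    (hM : ∀ g : GL (Fin n) F, g ∈ UG σ n → (g : Matrix (Fin n) (Fin n) F).det = 1 →
      g ∈ Cfsg.Geo.subfieldSubgroup F₀ (1 : GL (Fin n) F) → g ∈ M)
    (s u : Fin n → F₀) (z : F₀) (hss : hf σ₀ s s = 0) (hus : hf σ₀ u s = 0)
    (hz : z + σ₀ z + hf σ₀ u u = 0) :
    MemM M (sieg σ (rat F₀ s) (rat F₀ u) (z : F)) := by
  have hss' : hf σ (rat F₀ s) (rat F₀ s) = 0 := by rw [hf_rat σ F₀ σ₀ hc, hss]; rfl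
  have hus' : hf σ (rat F₀ u) (rat F₀ s) = 0 := by rw [hf_rat σ F₀ σ₀ hc, hus]; rfl
  have hz' : (z : F) + σ (z : F) + hf σ (rat F₀ u) (rat F₀ u) = 0 := by
    rw [hf_rat σ F₀ σ₀ hc, ← hc, ← Subfield.coe_add, ← Subfield.coe_add, hz]; rfl
  have h := memM_of_rat σ F₀ hM (siegGL σ₀ hσ₀2 s u z hss hus hz) (by
    intro x y
    show hf σ ((sieg σ₀ s u z).map F₀.subtype *ᵥ x) ((sieg σ₀ s u z).map F₀.subtype *ᵥ y) = _
    rw [map_sieg σ F₀ σ₀ hc]
    exact sieg_preserves σ hσ2 _ _ _ hss' hus' hz' x y) (by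
    show ((sieg σ₀ s u z).map F₀.subtype).det = 1
    rw [map_sieg σ F₀ σ₀ hc]
    exact sieg_det σ hσ2 _ _ _ hss' hus')
  have e : ((siegGL σ₀ hσ₀2 s u z hss hus hz : GL (Fin n) F₀) : Matrix (Fin n) (Fin n) F₀) =
      sieg σ₀ s u z := rfl
  rw [e, map_sieg σ F₀ σ₀ hc] at h
  exact h

end rational

end Cfsg.Agent.Lib.Helper94.SUSub
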