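/-
helper94: S5658, part 2: existence of hyperbolic pairs orthogonal to a small subspace in the
standard unitary space over a finite field.
-/
import Mathlib
import Cfsg.Agent.Lib.Helper94.SUSub1
import Cfsg.Agent.Lib.Helper13.GUParabolic

set_option autoImplicit false

namespace Cfsg.Agent.Lib.Helper94.SUSub

open Matrix Module Cfsg.Agent.S0837 Cfsg.Agent.S0781 Cfsg.Agent.S2644 Cfsg.Agent.Lib.Helper37
open Cfsg.Agent.Lib.Helper13 (finrank_perp perp_perp hf_span_right)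

section exist
variable {K : Type*} [Field K] (σ : K →+* K) {n : ℕ}

/-- the size of a subspace, counting its radical twice -/
noncomputable def dsz (U : Submodule K (Fin n → K)) : ℕ :=
  finrank K U + finrank K ↥(U ⊓ perp σ U)

theorem dsz_le (U : Submodule K (Fin n → K)) : dsz σ U ≤ 2 * finrank K U := by
  unfold dsz
  have := Submodule.finrank_mono (inf_le_left : U ⊓ perp σ U ≤ U)
  omega

theorem hf_eq_zero_symm (hσ2 : ∀ a, σ (σ a) = a) {x y : Fin n → K} (h : hf σ x y = 0) :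
    hf σ y x = 0 := by
  rw [hf_symm σ hσ2, h, map_zero]

/-- a subspace all of whose vectors are isotropic is totally isotropic -/
theorem ti_of_all_isotropic (hσ : σ ≠ RingHom.id K)
    (T : Submodule K (Fin n → K)) (h : ∀ x ∈ T, hf σ x x = 0) :
    ∀ x ∈ T, ∀ y ∈ T, hf σ x y = 0 := by
  intro x hx y hy
  obtain ⟨t, ht⟩ : ∃ t : K, σ t ≠ t := by
    by_contra hcon
    push Not at hcon
    exact hσ (RingHom.ext hcon)
  have h1 := h (x + y) (T.add_mem hx hy)
  have h2 := h (t • x + y) (T.add_mem (T.smul_mem t hx) hy)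
  simp only [hf_add_left, hf_add_right, hf_smul_left, hf_smul_right, h x hx, h y hy] at h1 h2
  have h3 : (t - σ t) * hf σ x y = 0 := by linear_combination h2 - σ t * h1
  rcases mul_eq_zero.mp h3 with h4 | h4
  · exact absurd (sub_eq_zero.mp h4).symm ht
  · exact h4

/-- **A hyperbolic pair orthogonal to a small subspace.** -/
theorem exists_HP_perp [Finite K] (hσ : σ ≠ RingHom.id K) (hσ2 : ∀ a, σ (σ a) = a)
    (U : Submodule K (Fin n → K)) (hU : dsz σ U + 2 ≤ n) :
    ∃ c c' : Fin n → K, HP σ c c' ∧ c ∈ perp σ U ∧ c' ∈ perp σ U := by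
  unfold dsz at hU
  have hT := finrank_perp σ hσ2 U
  -- an anisotropic vector of `perp U`
  obtain ⟨x, hxT, hxx⟩ : ∃ x ∈ perp σ U, hf σ x x ≠ 0 := by
    by_contra hcon
    push Not at hcon
    have hti := ti_of_all_isotropic σ hσ (perp σ U) hcon
    have hle : perp σ U ≤ U ⊓ perp σ U := by
      intro x hx
      refine ⟨?_, hx⟩
      rw [← perp_perp σ hσ2 U]
      exact fun w hw => hti x hx w hw
    have := Submodule.finrank_mono hle
    omega
  -- a vector of `perp U` orthogonal to `x` and outside `U`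
  obtain ⟨y, hyT, hyx, hyU⟩ : ∃ y ∈ perp σ U, hf σ y x = 0 ∧ y ∉ U := by
    by_contra hcon
    push Not at hcon
    have hP := finrank_perp σ hσ2 (Submodule.span K {x})
    have hx0 : x ≠ 0 := by
      rintro rfl
      exact hxx (hf_zero_left σ 0)
    rw [finrank_span_singleton hx0] at hP
    have hle : perp σ U ⊓ perp σ (Submodule.span K {x}) ≤ U ⊓ perp σ U := by
      intro y hy
      refine ⟨hcon y hy.1 (hy.2 x (Submodule.mem_span_singleton_self x)), hy.1⟩
    have h1 := Submodule.finrank_mono hle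
    have h2 := Submodule.finrank_sup_add_finrank_inf_eq (perp σ U) (perp σ (Submodule.span K {x}))
    have h3 : finrank K ↥(perp σ U ⊔ perp σ (Submodule.span K {x})) ≤ n := by
      have := Submodule.finrank_le (perp σ U ⊔ perp σ (Submodule.span K {x}))
      rwa [Module.finrank_fin_fun] at this
    omega
  obtain ⟨w, hwT, hyw⟩ : ∃ w ∈ perp σ U, hf σ y w ≠ 0 := by
    by_contra hcon
    push Not at hcon
    apply hyU
    rw [← perp_perp σ hσ2 U]
    exact fun w hw => hcon w hw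
  have hwy : hf σ w y ≠ 0 := by
    rw [hf_symm σ hσ2]
    exact map_ne_zero_of_invol σ hσ2 hyw
  by_cases hyy : hf σ y y = 0
  · obtain ⟨a, b, hab⟩ := exists_partner σ hσ hσ2 y w hyy hwy
    exact ⟨y, _, hab, hyT, (perp σ U).add_mem ((perp σ U).smul_mem a hwT)
      ((perp σ U).smul_mem b hyT)⟩
  · have hxy : hf σ x y = 0 := hf_eq_zero_symm σ hσ2 hyx
    obtain ⟨l, hl⟩ := Cfsg.Agent.Lib.Helper36.exists_mul_map_eq σ hσ hσ2
      (-(hf σ y y) / hf σ x x) (by
        rw [map_div₀, map_neg, hf_self_fixed σ hσ2, hf_self_fixed σ hσ2])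
    have hl0 : l ≠ 0 := by
      rintro rfl
      rw [zero_mul] at hl
      have : -(hf σ y y) / hf σ x x ≠ 0 := div_ne_zero (neg_ne_zero.mpr hyy) hxx
      exact this hl.symm
    have hcc : hf σ (l • x + y) (l • x + y) = 0 := by
      simp only [hf_add_left, hf_add_right, hf_smul_left, hf_smul_right, hxy, hyx]
      have : l * σ l * hf σ x x = -(hf σ y y) := by rw [hl, div_mul_cancel₀ _ hxx]
      linear_combination this
    have hxc : hf σ x (l • x + y) ≠ 0 := by
      rw [hf_add_right, hf_smul_right, hxy, add_zero]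
      exact mul_ne_zero (map_ne_zero_of_invol σ hσ2 hl0) hxx
    have hcT : l • x + y ∈ perp σ U := (perp σ U).add_mem ((perp σ U).smul_mem l hxT) hyT
    obtain ⟨a, b, hab⟩ := exists_partner σ hσ hσ2 (l • x + y) x hcc hxc
    exact ⟨_, _, hab, hcT, (perp σ U).add_mem ((perp σ U).smul_mem a hxT)
      ((perp σ U).smul_mem b hcT)⟩

/-- a partner orthogonal to `U` of an isotropic vector of `perp U` outside `U` -/
theorem exists_partner_perp (hσ : σ ≠ RingHom.id K) (hσ2 : ∀ a, σ (σ a) = a)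
    (U : Submodule K (Fin n → K)) (b : Fin n → K) (hbb : hf σ b b = 0) (hbU : b ∈ perp σ U)
    (hb : b ∉ U) : ∃ b', HP σ b b' ∧ b' ∈ perp σ U := by
  obtain ⟨w, hwT, hbw⟩ : ∃ w ∈ perp σ U, hf σ b w ≠ 0 := by
    by_contra hcon
    push Not at hcon
    apply hb
    rw [← perp_perp σ hσ2 U]
    exact fun w hw => hcon w hw
  have hwb : hf σ w b ≠ 0 := by
    rw [hf_symm σ hσ2]
    exact map_ne_zero_of_invol σ hσ2 hbw
  obtain ⟨a, β, hab⟩ := exists_partner σ hσ hσ2 b w hbb hwb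
  exact ⟨_, hab, (perp σ U).add_mem ((perp σ U).smul_mem a hwT) ((perp σ U).smul_mem β hbU)⟩

/-- adding an orthogonal hyperbolic pair increases the size by at most two -/
theorem dsz_sup_HP (hσ2 : ∀ a, σ (σ a) = a) (U : Submodule K (Fin n → K)) {c c' : Fin n → K}
    (h : HP σ c c') (hc : c ∈ perp σ U) (hc' : c' ∈ perp σ U) :
    dsz σ (U ⊔ Submodule.span K (Set.range ![c, c'])) ≤ dsz σ U + 2 := by
  unfold dsz
  set S := Submodule.span K (Set.range ![c, c']) with hS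
  have hcS : c ∈ S := Submodule.subset_span ⟨0, rfl⟩
  have hc'S : c' ∈ S := Submodule.subset_span ⟨1, rfl⟩
  have h1 : finrank K ↥(U ⊔ S) ≤ finrank K U + 2 := by
    have h2 := Submodule.finrank_add_le_finrank_add_finrank U S
    have h3 : finrank K S ≤ 2 := by
      have := finrank_range_le_card (R := K) ![c, c']
      simpa [Set.finrank] using this
    omega
  have h4 : (U ⊔ S) ⊓ perp σ (U ⊔ S) ≤ U ⊓ perp σ U := by
    intro x hx
    obtain ⟨hx1, hx2⟩ := hx
    obtain ⟨u, hu, s, hs, rfl⟩ := Submodule.mem_sup.mp hx1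
    rw [hS, Matrix.range_cons_cons_empty, Submodule.mem_span_pair] at hs
    obtain ⟨α, β, rfl⟩ := hs
    have e1 := hx2 c (Submodule.mem_sup_right hcS)
    have e2 := hx2 c' (Submodule.mem_sup_right hc'S)
    have huc : hf σ u c = 0 := hf_eq_zero_symm σ hσ2 (hc u hu)
    have huc' : hf σ u c' = 0 := hf_eq_zero_symm σ hσ2 (hc' u hu)
    simp only [hf_add_left, hf_smul_left, huc, huc', h.uu, h.vv, h.vu, h.uv hσ2, mul_zero,
      mul_one, zero_add, add_zero] at e1 e2
    rw [e1, e2, zero_smul, zero_smul, add_zero, add_zero]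
    refine ⟨hu, fun w hw => ?_⟩
    have := hx2 w (Submodule.mem_sup_left hw)
    rwa [e1, e2, zero_smul, zero_smul, add_zero, add_zero] at this
  have h5 := Submodule.finrank_mono h4
  omega

theorem mem_perp_span_iff {k : ℕ} (v : Fin k → (Fin n → K)) (x : Fin n → K) :
    x ∈ perp σ (Submodule.span K (Set.range v)) ↔ ∀ i, hf σ x (v i) = 0 :=
  ⟨fun h i => h _ (Submodule.subset_span ⟨i, rfl⟩), fun h => hf_span_right σ v x h⟩

theorem dsz_span_le {k : ℕ} (v : Fin k → (Fin n → K)) :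
    dsz σ (Submodule.span K (Set.range v)) ≤ 2 * k := by
  have h1 := dsz_le σ (Submodule.span K (Set.range v))
  have h2 := finrank_range_le_card (R := K) v
  simp only [Set.finrank, Fintype.card_fin] at h2
  omega

theorem mem_perp_sup_pair (U : Submodule K (Fin n → K))
    (c c' x : Fin n → K) :
    x ∈ perp σ (U ⊔ Submodule.span K (Set.range ![c, c'])) ↔
      x ∈ perp σ U ∧ hf σ x c = 0 ∧ hf σ x c' = 0 := by
  constructor
  · intro h
    refine ⟨fun w hw => h w (Submodule.mem_sup_left hw), ?_, ?_⟩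
    · exact h c (Submodule.mem_sup_right (Submodule.subset_span ⟨0, rfl⟩))
    · exact h c' (Submodule.mem_sup_right (Submodule.subset_span ⟨1, rfl⟩))
  · rintro ⟨h1, h2, h3⟩ w hw
    obtain ⟨u, hu, s, hs, rfl⟩ := Submodule.mem_sup.mp hw
    rw [Matrix.range_cons_cons_empty, Submodule.mem_span_pair] at hs
    obtain ⟨α, β, rfl⟩ := hs
    rw [hf_add_right, hf_add_right, hf_smul_right, hf_smul_right, h1 u hu, h2, h3]
    ring

/-- one hyperbolic pair orthogonal to a family -/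
theorem exists_HP_perp_fam [Finite K] (hσ : σ ≠ RingHom.id K) (hσ2 : ∀ a, σ (σ a) = a)
    {k : ℕ} (v : Fin k → (Fin n → K)) (hk : 2 * k + 2 ≤ n) :
    ∃ c c' : Fin n → K, HP σ c c' ∧ (∀ i, hf σ c (v i) = 0) ∧ (∀ i, hf σ c' (v i) = 0) := by
  have h1 := dsz_span_le σ v
  obtain ⟨c, c', h, hc, hc'⟩ := exists_HP_perp σ hσ hσ2 (Submodule.span K (Set.range v))
    (by omega)
  exact ⟨c, c', h, (mem_perp_span_iff σ v c).mp hc, (mem_perp_span_iff σ v c').mp hc'⟩

/-- two mutually orthogonal hyperbolic pairs orthogonal to a family -/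
theorem exists_HP2_perp_fam [Finite K] (hσ : σ ≠ RingHom.id K) (hσ2 : ∀ a, σ (σ a) = a)
    {k : ℕ} (v : Fin k → (Fin n → K)) (hk : 2 * k + 4 ≤ n) :
    ∃ c c' d d' : Fin n → K, HP σ c c' ∧ HP σ d d' ∧ (∀ i, hf σ c (v i) = 0) ∧
      (∀ i, hf σ c' (v i) = 0) ∧ (∀ i, hf σ d (v i) = 0) ∧ (∀ i, hf σ d' (v i) = 0) ∧
      hf σ d c = 0 ∧ hf σ d c' = 0 ∧ hf σ d' c = 0 ∧ hf σ d' c' = 0 := by
  have h1 := dsz_span_le σ v
  set U := Submodule.span K (Set.range v) with hU
  obtain ⟨c, c', h, hc, hc'⟩ := exists_HP_perp σ hσ hσ2 U (by omega)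
  have h2 := dsz_sup_HP σ hσ2 U h hc hc'
  obtain ⟨d, d', h', hd, hd'⟩ := exists_HP_perp σ hσ hσ2
    (U ⊔ Submodule.span K (Set.range ![c, c'])) (by omega)
  rw [mem_perp_sup_pair σ] at hd hd'
  exact ⟨c, c', d, d', h, h', (mem_perp_span_iff σ v c).mp hc, (mem_perp_span_iff σ v c').mp hc',
    (mem_perp_span_iff σ v d).mp hd.1, (mem_perp_span_iff σ v d').mp hd'.1, hd.2.1, hd.2.2,
    hd'.2.1, hd'.2.2⟩

/-- three mutually orthogonal hyperbolic pairs orthogonal to a family -/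
theorem exists_HP3_perp_fam [Finite K] (hσ : σ ≠ RingHom.id K) (hσ2 : ∀ a, σ (σ a) = a)
    {k : ℕ} (v : Fin k → (Fin n → K)) (hk : 2 * k + 6 ≤ n) :
    ∃ c c' d d' e e' : Fin n → K, HP σ c c' ∧ HP σ d d' ∧ HP σ e e' ∧ (∀ i, hf σ c (v i) = 0) ∧
      (∀ i, hf σ c' (v i) = 0) ∧ (∀ i, hf σ d (v i) = 0) ∧ (∀ i, hf σ d' (v i) = 0) ∧
      (∀ i, hf σ e (v i) = 0) ∧ (∀ i, hf σ e' (v i) = 0) ∧
      hf σ d c = 0 ∧ hf σ d c' = 0 ∧ hf σ d' c = 0 ∧ hf σ d' c' = 0 ∧
      hf σ e c = 0 ∧ hf σ e c' = 0 ∧ hf σ e' c = 0 ∧ hf σ e' c' = 0 ∧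
      hf σ e d = 0 ∧ hf σ e d' = 0 ∧ hf σ e' d = 0 ∧ hf σ e' d' = 0 := by
  have h1 := dsz_span_le σ v
  set U := Submodule.span K (Set.range v) with hU
  obtain ⟨c, c', h, hc, hc'⟩ := exists_HP_perp σ hσ hσ2 U (by omega)
  have h2 := dsz_sup_HP σ hσ2 U h hc hc'
  set U₁ := U ⊔ Submodule.span K (Set.range ![c, c']) with hU₁
  obtain ⟨d, d', h', hd, hd'⟩ := exists_HP_perp σ hσ hσ2 U₁ (by omega)
  have h3 := dsz_sup_HP σ hσ2 U₁ h' hd hd'
  obtain ⟨e, e', h'', he, he'⟩ := exists_HP_perp σ hσ hσ2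
    (U₁ ⊔ Submodule.span K (Set.range ![d, d'])) (by omega)
  rw [mem_perp_sup_pair σ, hU₁, mem_perp_sup_pair σ] at he he'
  rw [hU₁, mem_perp_sup_pair σ] at hd hd'
  exact ⟨c, c', d, d', e, e', h, h', h'', (mem_perp_span_iff σ v c).mp hc,
    (mem_perp_span_iff σ v c').mp hc', (mem_perp_span_iff σ v d).mp hd.1,
    (mem_perp_span_iff σ v d').mp hd'.1, (mem_perp_span_iff σ v e).mp he.1.1,
    (mem_perp_span_iff σ v e').mp he'.1.1, hd.2.1, hd.2.2, hd'.2.1, hd'.2.2,
    he.1.2.1, he.1.2.2, he'.1.2.1, he'.1.2.2, he.2.1, he.2.2, he'.2.1, he'.2.2⟩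

end exist

end Cfsg.Agent.Lib.Helper94.SUSub
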