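/-
helper94: S5658, part 3: the short root elements `E a b c`, their commutator relation, the
transfer of parameters between rational totally isotropic pairs, and the ring of parameters.
-/
import Mathlib
import Cfsg.Agent.Lib.Helper94.SUSub2

set_option autoImplicit false

namespace Cfsg.Agent.Lib.Helper94.SUSub

open Matrix Module Cfsg.Agent.S0837 Cfsg.Agent.S0781 Cfsg.Agent.S2644 Cfsg.Agent.Lib.Helper37
open Cfsg.Agent.Lib.Helper13 (rat rat_apply rat_add rat_smul rat_zero rat_neg rat_single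
  rat_injective)

section ctx
variable {F : Type*} [Field F] {n : ℕ}

/-- the standing hypotheses: `σ` an involution of `F` inducing the involution `σ₀` of the
subfield `F₀`, and `M` a group of isometries containing the rational isometries of determinant
one. -/
structure SCtx (σ : F →+* F) (F₀ : Subfield F) (σ₀ : F₀ →+* F₀) (M : Subgroup (GL (Fin n) F)) :
    Prop where
  hσ : σ ≠ RingHom.id F
  hσ2 : ∀ a, σ (σ a) = a
  hσ₀ : σ₀ ≠ RingHom.id F₀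
  hσ₀2 : ∀ a, σ₀ (σ₀ a) = a
  hc : ∀ x : F₀, ((σ₀ x : F₀) : F) = σ (x : F)
  hMU : M ≤ UG σ n
  hdet : ∀ g ∈ M, (g : Matrix (Fin n) (Fin n) F).det = 1
  hM : ∀ g : GL (Fin n) F, g ∈ UG σ n → (g : Matrix (Fin n) (Fin n) F).det = 1 →
    g ∈ Cfsg.Geo.subfieldSubgroup F₀ (1 : GL (Fin n) F) → g ∈ M
  hn : 13 ≤ n

variable (σ : F →+* F)

/-- the short root element `x ↦ x + c h(x,b) a - σ(c) h(x,a) b` -/
def E (a b : Fin n → F) (c : F) : Matrix (Fin n) (Fin n) F := sieg σ b (c • a) 0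

theorem E_mulVec (a b : Fin n → F) (c : F) (x : Fin n → F) :
    E σ a b c *ᵥ x = x + (c * hf σ x b) • a - (σ c * hf σ x a) • b := by
  unfold E
  rw [sieg_mulVec, hf_smul_right, zero_smul, add_zero, smul_smul, mul_comm]

theorem E_swap (hσ2 : ∀ a, σ (σ a) = a) (a b : Fin n → F) (c : F) :
    E σ a b c = E σ b a (-σ c) := by
  apply Matrix.toLin'.injective
  apply LinearMap.ext
  intro x
  rw [Matrix.toLin'_apply, Matrix.toLin'_apply, E_mulVec σ, E_mulVec σ, map_neg, hσ2]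
  module

theorem E_add (hσ2 : ∀ a, σ (σ a) = a) {a b : Fin n → F} (haa : hf σ a a = 0)
    (hbb : hf σ b b = 0) (hab : hf σ a b = 0) (c c' : F) :
    E σ a b c * E σ a b c' = E σ a b (c + c') := by
  unfold E
  rw [sieg_mul σ hσ2 b _ _ 0 0 hbb (by rw [hf_smul_left, hab, mul_zero])
    (by rw [hf_smul_left, hab, mul_zero]), hf_smul_left, hf_smul_right, haa, ← add_smul]
  simp

variable {σ} {F₀ : Subfield F} {σ₀ : F₀ →+* F₀} {M : Subgroup (GL (Fin n) F)}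

theorem SCtx.hf0 (C : SCtx σ F₀ σ₀ M) {a b : Fin n → F₀} (h : hf σ₀ a b = 0) :
    hf σ (rat F₀ a) (rat F₀ b) = 0 := by
  rw [hf_rat σ F₀ σ₀ C.hc, h]; rfl

theorem SCtx.hf1 (C : SCtx σ F₀ σ₀ M) {a b : Fin n → F₀} (h : hf σ₀ a b = 1) :
    hf σ (rat F₀ a) (rat F₀ b) = 1 := by
  rw [hf_rat σ F₀ σ₀ C.hc, h]; rfl

theorem SCtx.sym0 (C : SCtx σ F₀ σ₀ M) {a b : Fin n → F₀} (h : hf σ₀ a b = 0) :
    hf σ₀ b a = 0 := hf_eq_zero_symm σ₀ C.hσ₀2 h

/-- **The commutator relation** `[E a c s, E c' b t] = E a b (t s)`. -/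
theorem memM_E_comm (C : SCtx σ F₀ σ₀ M) {a b c c' : Fin n → F}
    (hbb : hf σ b b = 0) (hc'c' : hf σ c' c' = 0)
    (hab : hf σ a b = 0) (hac' : hf σ a c' = 0) (hbc : hf σ b c = 0)
    (hbc' : hf σ b c' = 0) (hc'c : hf σ c' c = 1) {s t : F}
    (h1 : MemM M (E σ a c s)) (h2 : MemM M (E σ c' b t)) : MemM M (E σ a b (t * s)) := by
  have hσ2 := C.hσ2
  have hba : hf σ b a = 0 := hf_eq_zero_symm σ hσ2 hab
  have hc'a : hf σ c' a = 0 := hf_eq_zero_symm σ hσ2 hac'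
  have hc'b : hf σ c' b = 0 := hf_eq_zero_symm σ hσ2 hbc'
  have hGb : E σ a c s *ᵥ b = b := by
    rw [E_mulVec σ, hbc, hba]
    simp
  have hGc' : E σ a c s *ᵥ (t • c') = t • c' + (t * s) • a := by
    rw [E_mulVec σ, hf_smul_left, hf_smul_left, hc'c, hc'a]
    simp only [mul_zero, zero_smul, sub_zero, mul_one]
    rw [mul_comm]
  have h := memM_comm_sieg σ hσ2 C.hMU h1 (s := b) (u := t • c') (z := 0) hGb hbb
    (by rw [hf_smul_left, hc'b, mul_zero])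
    (by rw [hf_smul_left, hf_smul_right, hc'c', map_zero]; ring) h2
  rw [hGc'] at h
  have e1 : t • c' + (t * s) • a - t • c' = (t * s) • a := by abel
  have e2 : (0 : F) + σ 0 + hf σ (t • c') (t • c' + (t * s) • a) = 0 := by
    rw [hf_smul_left, hf_add_right, hf_smul_right, hf_smul_right, hc'c', hc'a, map_zero]
    ring
  rw [e1, e2] at h
  exact h

/-- rational short root elements lie in `M` -/
theorem memM_E_rat (C : SCtx σ F₀ σ₀ M) {a b : Fin n → F₀} (haa : hf σ₀ a a = 0)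
    (hbb : hf σ₀ b b = 0) (hab : hf σ₀ a b = 0) (c : F₀) :
    MemM M (E σ (rat F₀ a) (rat F₀ b) (c : F)) := by
  have h := memM_sieg_rat σ F₀ σ₀ C.hσ2 C.hσ₀2 C.hc C.hM b (c • a) 0 hbb
    (by rw [hf_smul_left, hab, mul_zero])
    (by rw [hf_smul_left, hf_smul_right, haa, map_zero]; ring)
  rw [rat_smul] at h
  exact h

/-- a totally isotropic pair of rational vectors (possibly dependent) -/
def Pr (σ₀ : F₀ →+* F₀) (a b : Fin n → F₀) : Prop :=
  hf σ₀ a a = 0 ∧ hf σ₀ b b = 0 ∧ hf σ₀ a b = 0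

/-- changing the second vector of the pair -/
theorem memM_E_T1 (C : SCtx σ F₀ σ₀ M) {a b c c' : Fin n → F₀}
    (hbb : hf σ₀ b b = 0) (hc'c' : hf σ₀ c' c' = 0)
    (hab : hf σ₀ a b = 0) (hac' : hf σ₀ a c' = 0) (hbc : hf σ₀ b c = 0)
    (hbc' : hf σ₀ b c' = 0) (hc'c : hf σ₀ c' c = 1) {s : F}
    (h : MemM M (E σ (rat F₀ a) (rat F₀ c) s)) : MemM M (E σ (rat F₀ a) (rat F₀ b) s) := by
  have h2 := memM_E_rat C hc'c' hbb (C.sym0 hbc') 1
  have := memM_E_comm C (C.hf0 hbb) (C.hf0 hc'c') (C.hf0 hab) (C.hf0 hac') (C.hf0 hbc)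
    (C.hf0 hbc') (C.hf1 hc'c) h h2
  simpa using this

/-- **Transfer of parameters** from an independent totally isotropic pair to any pair. -/
theorem memM_E_transfer [Finite F] (C : SCtx σ F₀ σ₀ M) {a b : Fin n → F₀} (hP : Pr σ₀ a b)
    (ha0 : a ≠ 0) (hind : ∀ α : F₀, b ≠ α • a) {s : F}
    (hs : MemM M (E σ (rat F₀ a) (rat F₀ b) s)) {x y : Fin n → F₀} (hQ : Pr σ₀ x y) :
    MemM M (E σ (rat F₀ x) (rat F₀ y) s) := by
  have hn := C.hn
  obtain ⟨haa, hbb, hab⟩ := hP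
  obtain ⟨hxx, hyy, hxy⟩ := hQ
  have hσ₀ := C.hσ₀
  have hσ₀2 := C.hσ₀2
  have : Finite F₀ := Finite.of_injective (fun x : F₀ => (x : F)) Subtype.val_injective
  obtain ⟨c, c', d, d', hcc', hdd', hc, hc', hd, hd', hdc, hdc', hd'c, hd'c'⟩ :=
    exists_HP2_perp_fam σ₀ hσ₀ hσ₀2 ![a, b, x, y] (by omega)
  have hca : hf σ₀ c a = 0 := hc 0
  have hcb : hf σ₀ c b = 0 := hc 1
  have hcx : hf σ₀ c x = 0 := hc 2
  have hcy : hf σ₀ c y = 0 := hc 3
  have hc'a : hf σ₀ c' a = 0 := hc' 0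
  have hc'b : hf σ₀ c' b = 0 := hc' 1
  have hc'x : hf σ₀ c' x = 0 := hc' 2
  have hc'y : hf σ₀ c' y = 0 := hc' 3
  have hda : hf σ₀ d a = 0 := hd 0
  have hdb : hf σ₀ d b = 0 := hd 1
  have hdx : hf σ₀ d x = 0 := hd 2
  have hdy : hf σ₀ d y = 0 := hd 3
  have hd'a : hf σ₀ d' a = 0 := hd' 0
  have hd'b : hf σ₀ d' b = 0 := hd' 1
  have hd'x : hf σ₀ d' x = 0 := hd' 2
  have hd'y : hf σ₀ d' y = 0 := hd' 3
  -- step 1: (a,b) -> (a,c)
  obtain ⟨b', hbb', hb'U⟩ := exists_partner_perp σ₀ hσ₀ hσ₀2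
    (Submodule.span F₀ (Set.range ![a, c])) b hbb
    ((mem_perp_span_iff σ₀ _ b).mpr (by
      intro i
      fin_cases i
      · exact C.sym0 hab
      · exact C.sym0 hcb)) (by
      intro hmem
      rw [Matrix.range_cons_cons_empty, Submodule.mem_span_pair] at hmem
      obtain ⟨α, β, hαβ⟩ := hmem
      have h1 := congrArg (fun z => hf σ₀ z c') hαβ
      simp only [hf_add_left, hf_smul_left, C.sym0 hc'a, hcc'.uv hσ₀2, C.sym0 hc'b, mul_zero,
        mul_one, zero_add] at h1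
      rw [h1, zero_smul, add_zero] at hαβ
      exact hind α hαβ.symm)
  rw [mem_perp_span_iff] at hb'U
  have hb'a : hf σ₀ b' a = 0 := hb'U 0
  have hb'c : hf σ₀ b' c = 0 := hb'U 1
  have s1 : MemM M (E σ (rat F₀ a) (rat F₀ c) s) :=
    memM_E_T1 C hcc'.uu hbb'.vv (C.sym0 hca) (C.sym0 hb'a) hcb (C.sym0 hb'c) hbb'.vu hs
  -- step 2: (a,c) -> (d,c)
  obtain ⟨a', haa', ha'U⟩ := exists_partner_perp σ₀ hσ₀ hσ₀2
    (Submodule.span F₀ (Set.range ![c, d])) a haa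
    ((mem_perp_span_iff σ₀ _ a).mpr (by
      intro i
      fin_cases i
      · exact C.sym0 hca
      · exact C.sym0 hda)) (by
      intro hmem
      rw [Matrix.range_cons_cons_empty, Submodule.mem_span_pair] at hmem
      obtain ⟨α, β, hαβ⟩ := hmem
      have h1 := congrArg (fun z => hf σ₀ z c') hαβ
      have h2 := congrArg (fun z => hf σ₀ z d') hαβ
      simp only [hf_add_left, hf_smul_left, C.sym0 hc'a, hcc'.uv hσ₀2, hdc', mul_zero,
        mul_one, add_zero] at h1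
      simp only [hf_add_left, hf_smul_left, C.sym0 hd'a, hdd'.uv hσ₀2, C.sym0 hd'c, mul_zero,
        mul_one, zero_add] at h2
      rw [h1, h2, zero_smul, zero_smul, add_zero] at hαβ
      exact ha0 hαβ.symm)
  rw [mem_perp_span_iff] at ha'U
  have ha'c : hf σ₀ a' c = 0 := ha'U 0
  have ha'd : hf σ₀ a' d = 0 := ha'U 1
  rw [E_swap σ C.hσ2] at s1
  have s2 : MemM M (E σ (rat F₀ c) (rat F₀ d) (-σ s)) :=
    memM_E_T1 C hdd'.uu haa'.vv (C.sym0 hdc) (C.sym0 ha'c) hda (C.sym0 ha'd) haa'.vu s1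
  rw [E_swap σ C.hσ2, map_neg, C.hσ2, neg_neg] at s2
  -- step 3: (d,c) -> (d,y)
  have s3 : MemM M (E σ (rat F₀ d) (rat F₀ y) s) :=
    memM_E_T1 C hyy hcc'.vv hdy hdc' (C.sym0 hcy) (C.sym0 hc'y) hcc'.vu s2
  -- step 4: (d,y) -> (x,y)
  rw [E_swap σ C.hσ2] at s3
  have s4 : MemM M (E σ (rat F₀ y) (rat F₀ x) (-σ s)) :=
    memM_E_T1 C hxx hdd'.vv (C.sym0 hxy) (C.sym0 hd'y) (C.sym0 hdx) (C.sym0 hd'x) hdd'.vu s3
  rw [E_swap σ C.hσ2, map_neg, C.hσ2, neg_neg] at s4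
  exact s4

/-- the parameters `c` such that all rational short root elements `E a b c` lie in `M` -/
def SS (σ : F →+* F) (F₀ : Subfield F) (σ₀ : F₀ →+* F₀) (M : Subgroup (GL (Fin n) F)) : Set F :=
  {c | ∀ a b : Fin n → F₀, Pr σ₀ a b → MemM M (E σ (rat F₀ a) (rat F₀ b) c)}

theorem SS_coe (C : SCtx σ F₀ σ₀ M) (c : F₀) : (c : F) ∈ SS σ F₀ σ₀ M :=
  fun _ _ h => memM_E_rat C h.1 h.2.1 h.2.2 c

theorem SS_add (C : SCtx σ F₀ σ₀ M) {c c' : F} (hc : c ∈ SS σ F₀ σ₀ M)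
    (hc' : c' ∈ SS σ F₀ σ₀ M) : c + c' ∈ SS σ F₀ σ₀ M := by
  intro a b h
  rw [← E_add σ C.hσ2 (C.hf0 h.1) (C.hf0 h.2.1) (C.hf0 h.2.2)]
  exact (hc a b h).mul (hc' a b h)

theorem SS_mul [Finite F] (C : SCtx σ F₀ σ₀ M) {c c' : F} (hc : c ∈ SS σ F₀ σ₀ M)
    (hc' : c' ∈ SS σ F₀ σ₀ M) : c * c' ∈ SS σ F₀ σ₀ M := by
  intro a b h
  have hn := C.hn
  obtain ⟨haa, hbb, hab⟩ := h
  have : Finite F₀ := Finite.of_injective (fun x : F₀ => (x : F)) Subtype.val_injective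
  obtain ⟨d, d', hdd', hd, hd'⟩ := exists_HP_perp_fam σ₀ C.hσ₀ C.hσ₀2 ![a, b] (by omega)
  have hda : hf σ₀ d a = 0 := hd 0
  have hdb : hf σ₀ d b = 0 := hd 1
  have hd'a : hf σ₀ d' a = 0 := hd' 0
  have hd'b : hf σ₀ d' b = 0 := hd' 1
  have h1 := hc' a d ⟨haa, hdd'.uu, C.sym0 hda⟩
  have h2 := hc d' b ⟨hdd'.vv, hbb, hd'b⟩
  exact memM_E_comm C (C.hf0 hbb) (C.hf0 hdd'.vv) (C.hf0 hab) (C.hf0 (C.sym0 hd'a))
    (C.hf0 (C.sym0 hdb)) (C.hf0 (C.sym0 hd'b)) (C.hf1 hdd'.vu) h1 h2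

/-- **The dichotomy**: the ring of parameters is `F₀` or `F`. -/
theorem SS_dichotomy [Finite F] (C : SCtx σ F₀ σ₀ M) (hprime : (Module.finrank F₀ F).Prime) :
    (∀ c ∈ SS σ F₀ σ₀ M, c ∈ F₀) ∨ ∀ c : F, c ∈ SS σ F₀ σ₀ M := by
  let A : Subalgebra F₀ F :=
    { carrier := SS σ F₀ σ₀ M
      mul_mem' := fun ha hb => SS_mul C ha hb
      add_mem' := fun ha hb => SS_add C ha hb
      algebraMap_mem' := fun c => SS_coe C c }
  have : IsSimpleOrder (Subalgebra F₀ F) := Subalgebra.isSimpleOrder_of_finrank_prime F₀ F hprime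
  rcases eq_bot_or_eq_top A with hA | hA
  · left
    intro c hc
    have : c ∈ A := hc
    rw [hA, Algebra.mem_bot] at this
    obtain ⟨c', rfl⟩ := this
    exact c'.2
  · right
    intro t
    have : t ∈ A := by rw [hA]; exact Algebra.mem_top
    exact this

end ctx

end Cfsg.Agent.Lib.Helper94.SUSub
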