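/-
helper94: S5658, part 4: if all parameters occur, then `M` contains the special unitary group.
-/
import Mathlib
import Cfsg.Agent.Lib.Helper94.SUSub3

set_option autoImplicit false

namespace Cfsg.Agent.Lib.Helper94.SUSub

open Matrix Module Cfsg.Agent.S0837 Cfsg.Agent.S0781 Cfsg.Agent.S2644 Cfsg.Agent.Lib.Helper37
open Cfsg.Agent.Lib.Helper13 (rat rat_apply rat_add rat_smul rat_zero rat_neg rat_single
  rat_injective UX ux_map ux_smul)

section decomp
variable {K : Type*} [Field K] (σ : K →+* K) {n : ℕ}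

/-- every vector orthogonal to a small family is a combination of three isotropic vectors
orthogonal to the family -/
theorem exists_sing_decomp [Finite K] (hσ : σ ≠ RingHom.id K) (hσ2 : ∀ a, σ (σ a) = a)
    {k : ℕ} (v : Fin k → (Fin n → K)) (hk : 2 * k + 4 ≤ n) (w : Fin n → K)
    (hw : ∀ i, hf σ w (v i) = 0) :
    ∃ (t e f : Fin n → K) (α : K), hf σ t t = 0 ∧ hf σ e e = 0 ∧ hf σ f f = 0 ∧
      (∀ i, hf σ t (v i) = 0) ∧ (∀ i, hf σ e (v i) = 0) ∧ (∀ i, hf σ f (v i) = 0) ∧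
      w = t - α • e - f := by
  obtain ⟨e, f, hef, he, hf'⟩ := exists_HP_perp_fam σ hσ hσ2 (Fin.cons w v : Fin (k + 1) → _)
    (by omega)
  have hew : hf σ e w = 0 := by simpa using he 0
  have hfw : hf σ f w = 0 := by simpa using hf' 0
  have hev : ∀ i, hf σ e (v i) = 0 := fun i => by simpa using he i.succ
  have hfv : ∀ i, hf σ f (v i) = 0 := fun i => by simpa using hf' i.succ
  have hwe : hf σ w e = 0 := hf_eq_zero_symm σ hσ2 hew
  have hwf : hf σ w f = 0 := hf_eq_zero_symm σ hσ2 hfw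
  obtain ⟨α, hα⟩ := trace_surj σ hσ hσ2 (-(hf σ w w)) (by rw [map_neg, hf_self_fixed σ hσ2])
  refine ⟨w + α • e + f, e, f, α, ?_, hef.uu, hef.vv, ?_, hev, hfv, ?_⟩
  · simp only [hf_add_left, hf_add_right, hf_smul_left, hf_smul_right, hew, hfw, hwe, hwf,
      hef.uu, hef.vv, hef.vu, hef.uv hσ2]
    linear_combination hα
  · intro i
    rw [hf_add_left, hf_add_left, hf_smul_left, hw i, hev i, hfv i]
    ring
  · abel

end decomp

section full
variable {F : Type*} [Field F] {n : ℕ} {σ : F →+* F} {F₀ : Subfield F} {σ₀ : F₀ →+* F₀}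
  {M : Subgroup (GL (Fin n) F)}

theorem E_self (a : Fin n → F) (c : F) : E σ a a c = tv σ a (c - σ c) := by
  apply Matrix.toLin'.injective
  apply LinearMap.ext
  intro x
  rw [Matrix.toLin'_apply, Matrix.toLin'_apply, E_mulVec, tv_mulVec]
  module

/-- all transvections centred at rational isotropic vectors lie in `M` -/
theorem memM_tv_rat_all (C : SCtx σ F₀ σ₀ M) (hall : ∀ c : F, c ∈ SS σ F₀ σ₀ M)
    {a : Fin n → F₀} (haa : hf σ₀ a a = 0) {z : F} (hz : z + σ z = 0) :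
    MemM M (tv σ (rat F₀ a) z) := by
  obtain ⟨c₀, hc₀⟩ := trace_surj σ C.hσ C.hσ2 1 (map_one σ)
  have h := hall (z * c₀) a a ⟨haa, haa, haa⟩
  rw [E_self] at h
  have e : z * c₀ - σ (z * c₀) = z := by
    rw [map_mul]
    have : σ z = -z := by linear_combination hz
    rw [this]
    linear_combination z * hc₀
  rwa [e] at h

/-- all Siegel elements `sieg s w β` (for the given `s`, `w`) lie in `M` -/
def GoodM (σ : F →+* F) (M : Subgroup (GL (Fin n) F)) (s w : Fin n → F) : Prop :=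
  hf σ w s = 0 ∧ ∀ β, β + σ β + hf σ w w = 0 → MemM M (sieg σ s w β)

theorem goodM_of_one (hσ2 : ∀ a, σ (σ a) = a) {s w : Fin n → F} (hs : hf σ s s = 0)
    (htv : ∀ z, z + σ z = 0 → MemM M (tv σ s z))
    (hw : hf σ w s = 0) (β₀ : F) (hβ₀ : β₀ + σ β₀ + hf σ w w = 0)
    (h : MemM M (sieg σ s w β₀)) : GoodM σ M s w := by
  refine ⟨hw, fun β hβ => ?_⟩
  have hδ : (β - β₀) + σ (β - β₀) = 0 := by
    rw [map_sub]; linear_combination hβ - hβ₀
  have h2 := (htv _ hδ).mul h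
  rw [tv_eq_sieg, sieg_mul σ hσ2 s 0 w _ _ hs (hf_zero_left σ s) hw, zero_add, hf_zero_right,
    sub_zero, sub_add_cancel] at h2
  exact h2

theorem goodM_add (hσ : σ ≠ RingHom.id F) (hσ2 : ∀ a, σ (σ a) = a) {s w₁ w₂ : Fin n → F}
    (hs : hf σ s s = 0) (h₁ : GoodM σ M s w₁) (h₂ : GoodM σ M s w₂) :
    GoodM σ M s (w₁ + w₂) := by
  refine ⟨by rw [hf_add_left, h₁.1, h₂.1, add_zero], fun β hβ => ?_⟩
  obtain ⟨β₁, hβ₁⟩ := trace_surj σ hσ hσ2 (-(hf σ w₁ w₁)) (by rw [map_neg, hf_self_fixed σ hσ2])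
  have h21 : σ (hf σ w₂ w₁) = hf σ w₁ w₂ := (hf_symm σ hσ2 w₁ w₂).symm
  have hβ₂ : (β - β₁ + hf σ w₂ w₁) + σ (β - β₁ + hf σ w₂ w₁) + hf σ w₂ w₂ = 0 := by
    simp only [hf_add_left, hf_add_right] at hβ
    rw [map_add, map_sub, h21]
    linear_combination hβ - hβ₁
  have h := (h₁.2 β₁ (by linear_combination hβ₁)).mul (h₂.2 _ hβ₂)
  rw [sieg_mul σ hσ2 s w₁ w₂ _ _ hs h₁.1 h₂.1] at h
  have : β₁ + (β - β₁ + hf σ w₂ w₁) - hf σ w₂ w₁ = β := by ring
  rwa [this] at h

theorem goodM_zero (hσ2 : ∀ a, σ (σ a) = a) {s : Fin n → F} (hs : hf σ s s = 0)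
    (htv : ∀ z, z + σ z = 0 → MemM M (tv σ s z)) : GoodM σ M s 0 :=
  goodM_of_one hσ2 hs htv (hf_zero_left σ s) 0 (by rw [hf_zero_left, map_zero]; ring) (by
    rw [sieg_zero]; exact MemM.one)

theorem goodM_sum (hσ : σ ≠ RingHom.id F) (hσ2 : ∀ a, σ (σ a) = a) {s : Fin n → F}
    (hs : hf σ s s = 0) (htv : ∀ z, z + σ z = 0 → MemM M (tv σ s z)) {ι : Type*}
    (t : Finset ι) (w : ι → Fin n → F) (h : ∀ i ∈ t, GoodM σ M s (w i)) :
    GoodM σ M s (∑ i ∈ t, w i) := by
  classical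
  induction t using Finset.induction_on with
  | empty => simpa using goodM_zero hσ2 hs htv
  | insert a t ha ih =>
    rw [Finset.sum_insert ha]
    exact goodM_add hσ hσ2 hs (h a (Finset.mem_insert_self a t))
      (ih fun i hi => h i (Finset.mem_insert_of_mem hi))

/-- multiples of the centre -/
theorem goodM_smul_self (hσ2 : ∀ a, σ (σ a) = a) {s : Fin n → F} (hs : hf σ s s = 0)
    (htv : ∀ z, z + σ z = 0 → MemM M (tv σ s z)) (μ : F) : GoodM σ M s (μ • s) := by
  refine ⟨by rw [hf_smul_left, hs, mul_zero], fun β hβ => ?_⟩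
  rw [hf_smul_left, hf_smul_right, hs, mul_zero, mul_zero, add_zero] at hβ
  have e : sieg σ s (μ • s) β = tv σ s (β + μ - σ μ) := by
    apply Matrix.toLin'.injective
    apply LinearMap.ext
    intro x
    rw [Matrix.toLin'_apply, Matrix.toLin'_apply, sieg_mulVec, tv_mulVec, hf_smul_right]
    module
  rw [e]
  apply htv
  rw [map_sub, map_add, hσ2]
  linear_combination hβ

variable [Finite F]

/-- multiples of rational vectors orthogonal to the rational isotropic vector `s` are good -/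
theorem goodM_smul_rat (C : SCtx σ F₀ σ₀ M) (hall : ∀ c : F, c ∈ SS σ F₀ σ₀ M)
    {s : Fin n → F₀} (hss : hf σ₀ s s = 0) {w : Fin n → F₀} (hws : hf σ₀ w s = 0) (c : F) :
    GoodM σ M (rat F₀ s) (c • rat F₀ w) := by
  have hn := C.hn
  have : Finite F₀ := Finite.of_injective (fun x : F₀ => (x : F)) Subtype.val_injective
  have hss' : hf σ (rat F₀ s) (rat F₀ s) = 0 := C.hf0 hss
  have htv : ∀ z, z + σ z = 0 → MemM M (tv σ (rat F₀ s) z) :=
    fun z hz => memM_tv_rat_all C hall hss hz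
  obtain ⟨t, e, f, α, htt, hee, hff, hts, hes, hfs, hdec⟩ :=
    exists_sing_decomp σ₀ C.hσ₀ C.hσ₀2 ![s] (by omega) w (fun i => by
      fin_cases i
      exact hws)
  have key : ∀ (a : Fin n → F₀), hf σ₀ a a = 0 → hf σ₀ a s = 0 → ∀ c' : F,
      GoodM σ M (rat F₀ s) (c' • rat F₀ a) := by
    intro a haa has c'
    apply goodM_of_one C.hσ2 hss' htv (by rw [hf_smul_left, C.hf0 has, mul_zero]) 0
    · rw [hf_smul_left, hf_smul_right, C.hf0 haa, map_zero]; ring
    · exact hall c' a s ⟨haa, hss, has⟩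
  have h1 := key t htt (hts 0) c
  have h2 := key e hee (hes 0) (-(c * (α : F)))
  have h3 := key f hff (hfs 0) (-c)
  have h := goodM_add C.hσ C.hσ2 hss' (goodM_add C.hσ C.hσ2 hss' h1 h2) h3
  have e1 : c • rat F₀ w = c • rat F₀ t + -(c * (α : F)) • rat F₀ e + -c • rat F₀ f := by
    rw [hdec, rat_sub, rat_sub, rat_smul]
    module
  rw [e1]
  exact h

/-- the unipotent radical of the stabiliser of a rational isotropic point lies in `M` -/
theorem goodM_all (C : SCtx σ F₀ σ₀ M) (hall : ∀ c : F, c ∈ SS σ F₀ σ₀ M)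
    {s s' : Fin n → F₀} (hss' : HP σ₀ s s') {u : Fin n → F} (hus : hf σ u (rat F₀ s) = 0) :
    GoodM σ M (rat F₀ s) u := by
  have hs0 : hf σ (rat F₀ s) (rat F₀ s) = 0 := C.hf0 hss'.uu
  have htv : ∀ z, z + σ z = 0 → MemM M (tv σ (rat F₀ s) z) :=
    fun z hz => memM_tv_rat_all C hall hss'.uu hz
  -- the rational vectors `w i`, orthogonal to `s`
  set w : Fin n → Fin n → F₀ := fun i =>
    Pi.single i 1 - hf σ₀ (Pi.single i 1) s • s' with hw
  have hws : ∀ i, hf σ₀ (w i) s = 0 := by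
    intro i
    rw [hw]
    simp only [hf_sub_left, hf_smul_left, hss'.vu]
    ring
  have hdec : u = ∑ i, u i • rat F₀ (w i) + (∑ i, u i * hf σ (rat F₀ (Pi.single i 1)) (rat F₀ s)) •
      rat F₀ s' := by
    have h1 : u = ∑ i, u i • rat F₀ (Pi.single i 1) := by
      simp_rw [rat_single]
      funext j
      simp [Finset.sum_apply, Pi.single_apply]
    have h2 : ∀ i, rat F₀ (Pi.single i (1 : F₀)) = rat F₀ (w i) +
        hf σ (rat F₀ (Pi.single i 1)) (rat F₀ s) • rat F₀ s' := by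
      intro i
      rw [hw, rat_sub, rat_smul, hf_rat σ F₀ σ₀ C.hc]
      abel
    conv_lhs => rw [h1]
    rw [Finset.sum_smul, ← Finset.sum_add_distrib]
    refine Finset.sum_congr rfl fun i _ => ?_
    conv_lhs => rw [h2 i]
    rw [smul_add, smul_smul]
  have hcoef : ∑ i, u i * hf σ (rat F₀ (Pi.single i 1)) (rat F₀ s) = 0 := by
    have h3 := congrArg (fun x => hf σ x (rat F₀ s)) hdec
    simp only [hus, hf_add_left, hf_smul_left, C.hf1 hss'.vu, mul_one] at h3
    have h4 : hf σ (∑ i, u i • rat F₀ (w i)) (rat F₀ s) = 0 := by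
      unfold hf
      simp only [Finset.sum_apply, Finset.sum_mul]
      rw [Finset.sum_comm]
      apply Finset.sum_eq_zero
      intro i _
      have := C.hf0 (hws i)
      unfold hf at this
      simp only [Pi.smul_apply, smul_eq_mul, mul_assoc]
      rw [← Finset.mul_sum, this, mul_zero]
    rw [h4, zero_add] at h3
    exact h3.symm
  rw [hcoef, zero_smul, add_zero] at hdec
  rw [hdec]
  apply goodM_sum C.hσ C.hσ2 hs0 htv
  intro i _
  exact goodM_smul_rat C hall hss'.uu (hws i) (u i)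

/-- **If all parameters occur, all isotropic vectors lie in `UX`.** -/
theorem ux_all_of_full (C : SCtx σ F₀ σ₀ M) (hall : ∀ c : F, c ∈ SS σ F₀ σ₀ M)
    (v : Fin n → F) (hv : hf σ v v = 0) : v ∈ UX σ M := by
  have hn := C.hn
  have : Finite F₀ := Finite.of_injective (fun x : F₀ => (x : F)) Subtype.val_injective
  have hrat : ∀ a : Fin n → F₀, hf σ₀ a a = 0 → rat F₀ a ∈ UX σ M := by
    intro a haa
    refine ⟨C.hf0 haa, fun c hc => ?_⟩
    obtain ⟨g, hg, hgv⟩ := memM_tv_rat_all C hall haa hc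
    have : g = tvGL σ (rat F₀ a) c (C.hf0 haa) := Units.ext hgv
    rw [← this]
    exact hg
  by_cases hv0 : v = 0
  · have := hrat 0 (hf_zero_left σ₀ 0)
    rwa [rat_zero, ← hv0] at this
  -- a rational isotropic vector not orthogonal to `v`
  obtain ⟨s, hss, hvs⟩ : ∃ s : Fin n → F₀, hf σ₀ s s = 0 ∧ hf σ v (rat F₀ s) ≠ 0 := by
    by_contra hcon
    push Not at hcon
    apply hv0
    funext i
    obtain ⟨t, e, f, α, htt, hee, hff, -, -, -, hdec⟩ :=
      exists_sing_decomp σ₀ C.hσ₀ C.hσ₀2 (![] : Fin 0 → _) (by omega) (Pi.single i 1)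
        (fun j => j.elim0)
    have h1 : hf σ v (rat F₀ (Pi.single i 1)) = 0 := by
      rw [hdec, rat_sub, rat_sub, rat_smul, hf_sub_right, hf_sub_right, hf_smul_right,
        hcon t htt, hcon e hee, hcon f hff]
      ring
    rw [rat_single, hf_single_right] at h1
    exact h1
  have hs0 : s ≠ 0 := by
    rintro rfl
    rw [rat_zero, hf_zero_right] at hvs
    exact hvs rfl
  obtain ⟨s', hss'⟩ := exists_HP_of_isotropic σ₀ C.hσ₀ C.hσ₀2 s hs0 hss
  set l := hf σ v (rat F₀ s) with hl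
  obtain ⟨v₁, hv₁⟩ : ∃ v₁, v₁ = l⁻¹ • v := ⟨_, rfl⟩
  have hv₁s : hf σ v₁ (rat F₀ s) = 1 := by
    rw [hv₁, hf_smul_left, ← hl, inv_mul_cancel₀ hvs]
  have hv₁v₁ : hf σ v₁ v₁ = 0 := by
    rw [hv₁, hf_smul_left, hf_smul_right, hv]; ring
  suffices h : v₁ ∈ UX σ M by
    have := ux_smul σ C.hσ2 h l
    rwa [hv₁, smul_smul, mul_inv_cancel₀ hvs, one_smul] at this
  set u := v₁ - rat F₀ s' with hu
  set z := hf σ (rat F₀ s') v₁ with hz
  have hσz : σ z = hf σ v₁ (rat F₀ s') := (hf_symm σ C.hσ2 _ _).symm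
  have hus : hf σ u (rat F₀ s) = 0 := by
    rw [hu, hf_sub_left, hv₁s, C.hf1 hss'.vu, sub_self]
  have hβ : z + σ z + hf σ u u = 0 := by
    rw [hu, hσz]
    simp only [hf_sub_left, hf_sub_right, hv₁v₁, C.hf0 hss'.vv, ← hz]
    ring
  obtain ⟨g, hg, hgv⟩ := (goodM_all C hall hss' hus).2 z hβ
  have h := ux_map σ g hg (C.hMU hg) (hrat s' hss'.vv)
  have e : (g : Matrix (Fin n) (Fin n) F) *ᵥ rat F₀ s' = v₁ := by
    rw [hgv, sieg_mulVec, C.hf1 hss'.vu, one_smul, hu, hf_sub_right, C.hf0 hss'.vv, sub_zero,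
      ← hz]
    abel
  rwa [e] at h

/-- **If all parameters occur, `M` contains the special unitary group.** -/
theorem su_le_of_full (C : SCtx σ F₀ σ₀ M) (hall : ∀ c : F, c ∈ SS σ F₀ σ₀ M)
    (g : GL (Fin n) F) (hg : g ∈ UG σ n) (hdet : (g : Matrix (Fin n) (Fin n) F).det = 1) :
    g ∈ M := by
  have hn := C.hn
  have hTG : TG σ n ≤ M := by
    unfold TG
    rw [Subgroup.closure_le]
    rintro g ⟨z, c, hz, hc, hg⟩
    obtain ⟨_, h1⟩ := ux_all_of_full C hall z hz
    have : g = tvGL σ z c hz := Units.ext hg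
    rw [this]
    exact h1 c hc
  exact hTG (su_gen σ C.hσ C.hσ2 n (by omega) (fun h3 => absurd h3 (by omega)) g hg hdet)

end full

end Cfsg.Agent.Lib.Helper94.SUSub
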