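/-
helper94: S5658, part 5: the tight case.  If only rational parameters occur, then the elements of
`M` in the unipotent radical of a rational isotropic point are rational modulo the centre.
-/
import Mathlib
import Cfsg.Agent.Lib.Helper94.SUSub4

set_option autoImplicit false

namespace Cfsg.Agent.Lib.Helper94.SUSub

open Matrix Module Cfsg.Agent.S0837 Cfsg.Agent.S0781 Cfsg.Agent.S2644 Cfsg.Agent.Lib.Helper37
open Cfsg.Agent.Lib.Helper13 (rat rat_apply rat_add rat_smul rat_zero rat_neg rat_single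
  rat_injective)

section tight
variable {F : Type*} [Field F] {n : ℕ} {σ : F →+* F} {F₀ : Subfield F} {σ₀ : F₀ →+* F₀}
  {M : Subgroup (GL (Fin n) F)}

theorem SCtx.finite₀ [Finite F] (_C : SCtx σ F₀ σ₀ M) : Finite F₀ :=
  Finite.of_injective (fun x : F₀ => (x : F)) Subtype.val_injective

theorem SCtx.coeσ (C : SCtx σ F₀ σ₀ M) (x : F₀) : σ (x : F) ∈ F₀ := by
  rw [← C.hc]; exact (σ₀ x).2

/-- rational transvections lie in `M` -/
theorem memM_tv_rat (C : SCtx σ F₀ σ₀ M) {t : Fin n → F₀} (htt : hf σ₀ t t = 0) {ε : F₀}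
    (hε : ε + σ₀ ε = 0) : MemM M (tv σ (rat F₀ t) (ε : F)) := by
  have := memM_sieg_rat σ F₀ σ₀ C.hσ2 C.hσ₀2 C.hc C.hM t 0 ε htt (hf_zero_left σ₀ t) (by
    rw [hf_zero_left]; linear_combination hε)
  rwa [rat_zero] at this

/-- in the tight case the parameters of an independent pair are rational -/
theorem tight_pair [Finite F] (C : SCtx σ F₀ σ₀ M) (htight : ∀ c ∈ SS σ F₀ σ₀ M, c ∈ F₀)
    {a b : Fin n → F₀} (hP : Pr σ₀ a b) (ha0 : a ≠ 0) (hind : ∀ α : F₀, b ≠ α • a) {c : F}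
    (hc : MemM M (E σ (rat F₀ a) (rat F₀ b) c)) : c ∈ F₀ :=
  htight c fun _ _ hQ => memM_E_transfer C hP ha0 hind hc hQ

variable [Finite F]

/-- step (2a): the pairing of `u` with a rational isotropic vector orthogonal to `s` -/
theorem tight_sieg_pair (C : SCtx σ F₀ σ₀ M) (htight : ∀ c ∈ SS σ F₀ σ₀ M, c ∈ F₀)
    {s : Fin n → F₀} (hs0 : s ≠ 0) (hss : hf σ₀ s s = 0) {u : Fin n → F} {z : F}
    (hus : hf σ u (rat F₀ s) = 0) (hz : z + σ z + hf σ u u = 0)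
    (hy : MemM M (sieg σ (rat F₀ s) u z)) {t : Fin n → F₀} (htt : hf σ₀ t t = 0)
    (hts : hf σ₀ t s = 0) : hf σ u (rat F₀ t) ∈ F₀ := by
  have hn := C.hn
  have := C.finite₀
  have hσ2 := C.hσ2
  by_cases hdep : ∃ α : F₀, t = α • s
  · obtain ⟨α, rfl⟩ := hdep
    rw [rat_smul, hf_smul_right, hus, mul_zero]
    exact F₀.zero_mem
  push Not at hdep
  -- a partner `c₀` of `t` orthogonal to `s`
  obtain ⟨c₀, htc₀, hc₀U⟩ := exists_partner_perp σ₀ C.hσ₀ C.hσ₀2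
    (Submodule.span F₀ (Set.range ![s])) t htt
    ((mem_perp_span_iff σ₀ _ t).mpr (by
      intro i
      fin_cases i
      exact hts)) (by
      intro hmem
      rw [Matrix.range_cons_empty, Submodule.mem_span_singleton] at hmem
      obtain ⟨α, hα⟩ := hmem
      exact hdep α hα.symm)
  rw [mem_perp_span_iff] at hc₀U
  have hc₀s : hf σ₀ c₀ s = 0 := hc₀U 0
  obtain ⟨a, a', haa', ha, ha'⟩ := exists_HP_perp_fam σ₀ C.hσ₀ C.hσ₀2 ![s, t, c₀] (by omega)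
  have has : hf σ₀ a s = 0 := ha 0
  have hat : hf σ₀ a t = 0 := ha 1
  have hac₀ : hf σ₀ a c₀ = 0 := ha 2
  have ha's : hf σ₀ a' s = 0 := ha' 0
  obtain ⟨ε, hε0, hε⟩ := exists_trace_zero_ne σ₀ C.hσ₀ C.hσ₀2
  have hεF : (ε : F) + σ (ε : F) = 0 := by
    rw [← C.hc, ← Subfield.coe_add, hε]; rfl
  have hεF0 : (ε : F) ≠ 0 := fun h => hε0 (Subtype.ext h)
  have hss' : hf σ (rat F₀ s) (rat F₀ s) = 0 := C.hf0 hss
  -- first commutator
  have hG₁ := memM_tv_rat C htt hε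
  have hG₁s : tv σ (rat F₀ t) (ε : F) *ᵥ rat F₀ s = rat F₀ s := by
    rw [tv_mulVec, C.hf0 (C.sym0 hts), mul_zero, zero_smul, add_zero]
  set κ : F := (ε : F) * hf σ u (rat F₀ t) with hκ
  have hG₁u : tv σ (rat F₀ t) (ε : F) *ᵥ u = u + κ • rat F₀ t := by
    rw [tv_mulVec]
  have h1 := memM_comm_sieg σ hσ2 C.hMU hG₁ hG₁s hss' hus hz hy
  rw [hG₁u] at h1
  have e1 : u + κ • rat F₀ t - u = κ • rat F₀ t := by abel
  rw [e1] at h1
  set β₁ : F := z + σ z + hf σ u (u + κ • rat F₀ t) with hβ₁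
  have hβ₁' : β₁ = σ κ * hf σ u (rat F₀ t) := by
    rw [hβ₁, hf_add_right, hf_smul_right]
    linear_combination hz
  have hβ₁z : β₁ + σ β₁ + hf σ (κ • rat F₀ t) (κ • rat F₀ t) = 0 := by
    rw [hβ₁', hκ, hf_smul_left, hf_smul_right, C.hf0 htt]
    simp only [map_mul, hσ2]
    linear_combination (hf σ u (rat F₀ t) * σ (hf σ u (rat F₀ t))) * hεF
  -- second commutator
  have hG₂ := memM_E_rat C haa'.uu htc₀.vv hac₀ 1
  have hG₂s : E σ (rat F₀ a) (rat F₀ c₀) ((1 : F₀) : F) *ᵥ rat F₀ s = rat F₀ s := by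
    rw [E_mulVec, C.hf0 (C.sym0 hc₀s), C.hf0 (C.sym0 has)]
    simp
  have hG₂t : E σ (rat F₀ a) (rat F₀ c₀) ((1 : F₀) : F) *ᵥ (κ • rat F₀ t) =
      κ • rat F₀ t + κ • rat F₀ a := by
    rw [E_mulVec, hf_smul_left, hf_smul_left, C.hf1 (htc₀.uv C.hσ₀2), C.hf0 (C.sym0 hat)]
    simp
  have h2 := memM_comm_sieg σ hσ2 C.hMU hG₂ hG₂s hss'
    (by rw [hf_smul_left, C.hf0 hts, mul_zero]) hβ₁z h1
  rw [hG₂t] at h2
  have e2 : κ • rat F₀ t + κ • rat F₀ a - κ • rat F₀ t = κ • rat F₀ a := by abel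
  have e3 : β₁ + σ β₁ + hf σ (κ • rat F₀ t) (κ • rat F₀ t + κ • rat F₀ a) = 0 := by
    rw [hf_add_right, hf_smul_left, hf_smul_left, hf_smul_right, hf_smul_right, C.hf0 htt,
      C.hf0 (C.sym0 hat)]
    rw [hf_smul_left, hf_smul_right, C.hf0 htt] at hβ₁z
    linear_combination hβ₁z
  rw [e2, e3] at h2
  have hκF₀ : κ ∈ F₀ := by
    refine tight_pair C htight ⟨haa'.uu, hss, has⟩ haa'.ne_zero ?_ h2
    intro α hα
    have h3 := congrArg (fun x => hf σ₀ a' x) hα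
    simp only [ha's, hf_smul_right, haa'.vu, mul_one] at h3
    have hα0 : α = 0 := by
      have := congrArg σ₀ h3
      rw [C.hσ₀2, map_zero] at this
      exact this.symm
    rw [hα0, zero_smul] at hα
    exact hs0 hα
  have : hf σ u (rat F₀ t) = (ε : F)⁻¹ * κ := by
    rw [hκ]; field_simp
  rw [this]
  exact F₀.mul_mem (F₀.inv_mem ε.2) hκF₀

/-- step (2b): the pairing of `u` with a rational vector orthogonal to `s` -/
theorem tight_sieg_pair' (C : SCtx σ F₀ σ₀ M) (htight : ∀ c ∈ SS σ F₀ σ₀ M, c ∈ F₀)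
    {s : Fin n → F₀} (hs0 : s ≠ 0) (hss : hf σ₀ s s = 0) {u : Fin n → F} {z : F}
    (hus : hf σ u (rat F₀ s) = 0) (hz : z + σ z + hf σ u u = 0)
    (hy : MemM M (sieg σ (rat F₀ s) u z)) {w : Fin n → F₀}
    (hws : hf σ₀ w s = 0) : hf σ u (rat F₀ w) ∈ F₀ := by
  have hn := C.hn
  have := C.finite₀
  obtain ⟨t, e, f, α, htt, hee, hff, hts, hes, hfs, hdec⟩ :=
    exists_sing_decomp σ₀ C.hσ₀ C.hσ₀2 ![s] (by omega) w (fun i => by
      fin_cases i
      exact hws)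
  rw [hdec, rat_sub, rat_sub, rat_smul, hf_sub_right, hf_sub_right, hf_smul_right]
  exact F₀.sub_mem (F₀.sub_mem (tight_sieg_pair C htight hs0 hss hus hz hy htt (hts 0))
    (F₀.mul_mem (C.coeσ α) (tight_sieg_pair C htight hs0 hss hus hz hy hee (hes 0))))
    (tight_sieg_pair C htight hs0 hss hus hz hy hff (hfs 0))

/-- step (2c): `u` is rational modulo `s` -/
theorem tight_sieg_rat (C : SCtx σ F₀ σ₀ M) (htight : ∀ c ∈ SS σ F₀ σ₀ M, c ∈ F₀)
    {s : Fin n → F₀} (hs0 : s ≠ 0) (hss : hf σ₀ s s = 0) {u : Fin n → F} {z : F}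
    (hus : hf σ u (rat F₀ s) = 0) (hz : z + σ z + hf σ u u = 0)
    (hy : MemM M (sieg σ (rat F₀ s) u z)) :
    ∃ (μ : F) (u₀ : Fin n → F₀), u = rat F₀ u₀ + μ • rat F₀ s := by
  obtain ⟨s', hss'⟩ := exists_HP_of_isotropic σ₀ C.hσ₀ C.hσ₀2 s hs0 hss
  set w : Fin n → Fin n → F₀ := fun i =>
    Pi.single i 1 - hf σ₀ (Pi.single i 1) s • s' with hw
  have hws : ∀ i, hf σ₀ (w i) s = 0 := by
    intro i
    rw [hw]
    simp only [hf_sub_left, hf_smul_left, hss'.vu]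
    ring
  have hmem : ∀ i, hf σ u (rat F₀ (w i)) ∈ F₀ :=
    fun i => tight_sieg_pair' C htight hs0 hss hus hz hy (hws i)
  refine ⟨hf σ u (rat F₀ s'), fun i => ⟨hf σ u (rat F₀ (w i)), hmem i⟩, ?_⟩
  funext i
  have h1 : u i = hf σ u (rat F₀ (Pi.single i 1)) := by
    rw [rat_single, hf_single_right]
  have h2 : rat F₀ (Pi.single i (1 : F₀)) = rat F₀ (w i) +
      hf σ (rat F₀ (Pi.single i 1)) (rat F₀ s) • rat F₀ s' := by
    rw [hw, rat_sub, rat_smul, hf_rat σ F₀ σ₀ C.hc]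
    abel
  have h3 : σ (hf σ (rat F₀ (Pi.single i 1)) (rat F₀ s)) = (rat F₀ s) i := by
    rw [← hf_symm σ C.hσ2, rat_single, hf_single_right]
  rw [Pi.add_apply, Pi.smul_apply, smul_eq_mul, rat_apply]
  show u i = hf σ u (rat F₀ (w i)) + _
  conv_lhs => rw [h1, h2, hf_add_right, hf_smul_right, h3]
  ring

end tight

end Cfsg.Agent.Lib.Helper94.SUSub
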