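/-
helper94: S5658, part 6: (STAR) in the tight case, a transvection of `M` whose centre is orthogonal
to a rational isotropic point has a rational centre.
-/
import Mathlib
import Cfsg.Agent.Lib.Helper94.SUSub5

set_option autoImplicit false

namespace Cfsg.Agent.Lib.Helper94.SUSub

open Matrix Module Cfsg.Agent.S0837 Cfsg.Agent.S0781 Cfsg.Agent.S2644 Cfsg.Agent.Lib.Helper37
open Cfsg.Agent.Lib.Helper13 (rat rat_apply rat_add rat_smul rat_zero rat_neg rat_single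
  rat_injective)

section star
variable {F : Type*} [Field F] {n : ℕ} {σ : F →+* F} {F₀ : Subfield F} {σ₀ : F₀ →+* F₀}
  {M : Subgroup (GL (Fin n) F)}

theorem SCtx.hf0' (C : SCtx σ F₀ σ₀ M) {a b : Fin n → F₀}
    (h : hf σ (rat F₀ a) (rat F₀ b) = 0) : hf σ₀ a b = 0 := by
  rw [hf_rat σ F₀ σ₀ C.hc] at h
  exact Subtype.ext h

/-- the coordinates of a vector in terms of a hyperbolic pair `s, s'` -/
theorem coord_decomp (C : SCtx σ F₀ σ₀ M) {s s' : Fin n → F₀} (u : Fin n → F) (i : Fin n) :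
    u i = hf σ u (rat F₀ (Pi.single i 1 - hf σ₀ (Pi.single i 1) s • s')) +
      hf σ u (rat F₀ s') * (s i : F) := by
  have h1 : u i = hf σ u (rat F₀ (Pi.single i 1)) := by
    rw [rat_single, hf_single_right]
  have h2 : rat F₀ (Pi.single i (1 : F₀)) = rat F₀ (Pi.single i 1 - hf σ₀ (Pi.single i 1) s • s') +
      hf σ (rat F₀ (Pi.single i 1)) (rat F₀ s) • rat F₀ s' := by
    rw [rat_sub, rat_smul, hf_rat σ F₀ σ₀ C.hc]
    abel
  have h3 : σ (hf σ (rat F₀ (Pi.single i 1)) (rat F₀ s)) = (rat F₀ s) i := by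
    rw [← hf_symm σ C.hσ2, rat_single, hf_single_right]
  conv_lhs => rw [h1, h2, hf_add_right, hf_smul_right, h3]
  rw [rat_apply]
  ring

theorem hf_single_sub_partner {s s' : Fin n → F₀} (h : HP σ₀ s s')
    (i : Fin n) : hf σ₀ (Pi.single i 1 - hf σ₀ (Pi.single i 1) s • s') s = 0 := by
  simp only [hf_sub_left, hf_smul_left, h.vu]
  ring

variable [Finite F]

/-- a vector orthogonal to all rational isotropic vectors orthogonal to `s` is a multiple of `s` -/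
theorem eq_smul_of_perp_sing (C : SCtx σ F₀ σ₀ M) {s : Fin n → F₀} (hs0 : s ≠ 0)
    (hss : hf σ₀ s s = 0) {a : Fin n → F}
    (h : ∀ t : Fin n → F₀, hf σ₀ t t = 0 → hf σ₀ t s = 0 → hf σ a (rat F₀ t) = 0) :
    ∃ μ : F, a = μ • rat F₀ s := by
  have hn := C.hn
  have := C.finite₀
  obtain ⟨s', hss'⟩ := exists_HP_of_isotropic σ₀ C.hσ₀ C.hσ₀2 s hs0 hss
  have h' : ∀ w : Fin n → F₀, hf σ₀ w s = 0 → hf σ a (rat F₀ w) = 0 := by
    intro w hws
    obtain ⟨t, e, f, α, htt, hee, hff, hts, hes, hfs, hdec⟩ :=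
      exists_sing_decomp σ₀ C.hσ₀ C.hσ₀2 ![s] (by omega) w (fun i => by
        fin_cases i
        exact hws)
    rw [hdec, rat_sub, rat_sub, rat_smul, hf_sub_right, hf_sub_right, hf_smul_right,
      h t htt (hts 0), h e hee (hes 0), h f hff (hfs 0)]
    ring
  refine ⟨hf σ a (rat F₀ s'), ?_⟩
  funext i
  rw [coord_decomp C (s := s) (s' := s') a i, h' _ (hf_single_sub_partner hss' i), zero_add,
    Pi.smul_apply, smul_eq_mul, rat_apply]

/-- (STAR), first part: the centre lies on a rational line through `s` -/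
theorem star_line (C : SCtx σ F₀ σ₀ M) (htight : ∀ c ∈ SS σ F₀ σ₀ M, c ∈ F₀)
    {a : Fin n → F} (haa : hf σ a a = 0) {z : F} (hz0 : z ≠ 0) (hz : z + σ z = 0)
    (hy : MemM M (tv σ a z)) {s : Fin n → F₀} (hs0 : s ≠ 0) (hss : hf σ₀ s s = 0)
    (has : hf σ a (rat F₀ s) = 0) (hnot : ∀ μ : F, a ≠ μ • rat F₀ s) :
    ∃ (l μ : F) (u₀ : Fin n → F₀), a = l • rat F₀ u₀ + μ • rat F₀ s := by
  have hσ2 := C.hσ2
  obtain ⟨t, htt, hts, hat⟩ : ∃ t : Fin n → F₀, hf σ₀ t t = 0 ∧ hf σ₀ t s = 0 ∧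
      hf σ a (rat F₀ t) ≠ 0 := by
    by_contra hcon
    push Not at hcon
    obtain ⟨μ, hμ⟩ := eq_smul_of_perp_sing C hs0 hss hcon
    exact hnot μ hμ
  have hta : hf σ (rat F₀ t) a ≠ 0 := by
    rw [hf_symm σ hσ2]
    exact map_ne_zero_of_invol σ hσ2 hat
  have hsa : hf σ (rat F₀ s) a = 0 := hf_eq_zero_symm σ hσ2 has
  have hss' : hf σ (rat F₀ s) (rat F₀ s) = 0 := C.hf0 hss
  have hG : MemM M (sieg σ (rat F₀ s) (rat F₀ t) 0) := by
    have := memM_sieg_rat σ F₀ σ₀ C.hσ2 C.hσ₀2 C.hc C.hM s t 0 hss hts (by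
      rw [htt, map_zero]; ring)
    exact this
  have hys : tv σ a z *ᵥ rat F₀ s = rat F₀ s := by
    rw [tv_mulVec, hsa, mul_zero, zero_smul, add_zero]
  set κ : F := z * hf σ (rat F₀ t) a with hκ
  have hκ0 : κ ≠ 0 := mul_ne_zero hz0 hta
  have hyt : tv σ a z *ᵥ rat F₀ t = rat F₀ t + κ • a := by
    rw [tv_mulVec]
  have h1 := memM_comm_sieg σ hσ2 C.hMU hy hys hss' (C.hf0 hts)
    (by rw [C.hf0 htt, map_zero]; ring) hG
  rw [hyt] at h1
  have e1 : rat F₀ t + κ • a - rat F₀ t = κ • a := by abel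
  rw [e1] at h1
  set β₂ : F := 0 + σ 0 + hf σ (rat F₀ t) (rat F₀ t + κ • a) with hβ₂
  have hβ₂' : β₂ = σ κ * hf σ (rat F₀ t) a := by
    rw [hβ₂, hf_add_right, hf_smul_right, C.hf0 htt, map_zero]
    ring
  have hβ₂z : β₂ + σ β₂ + hf σ (κ • a) (κ • a) = 0 := by
    rw [hβ₂', hκ, hf_smul_left, hf_smul_right, haa]
    simp only [map_mul, hσ2]
    linear_combination (hf σ (rat F₀ t) a * σ (hf σ (rat F₀ t) a)) * hz
  obtain ⟨μ, u₀, hu⟩ := tight_sieg_rat C htight hs0 hss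
    (by rw [hf_smul_left, has, mul_zero]) hβ₂z h1
  refine ⟨κ⁻¹, κ⁻¹ * μ, u₀, ?_⟩
  have : a = κ⁻¹ • (κ • a) := by rw [smul_smul, inv_mul_cancel₀ hκ0, one_smul]
  rw [this, hu, smul_add, smul_smul]

/-- **(STAR)**: the centre is a multiple of a rational vector -/
theorem star (C : SCtx σ F₀ σ₀ M) (htight : ∀ c ∈ SS σ F₀ σ₀ M, c ∈ F₀)
    {a : Fin n → F} (haa : hf σ a a = 0) {z : F} (hz0 : z ≠ 0) (hz : z + σ z = 0)
    (hy : MemM M (tv σ a z)) {s : Fin n → F₀} (hs0 : s ≠ 0) (hss : hf σ₀ s s = 0)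
    (has : hf σ a (rat F₀ s) = 0) (hnot : ∀ μ : F, a ≠ μ • rat F₀ s) :
    ∃ (l : F) (a₀ : Fin n → F₀), a = l • rat F₀ a₀ := by
  have hn := C.hn
  have := C.finite₀
  have hσ2 := C.hσ2
  have hσ₀ := C.hσ₀
  have hσ₀2 := C.hσ₀2
  obtain ⟨l₁, μ₁, u₀, hau⟩ := star_line C htight haa hz0 hz hy hs0 hss has hnot
  have hl₁ : l₁ ≠ 0 := by
    rintro rfl
    rw [zero_smul, zero_add] at hau
    exact hnot μ₁ hau
  have hu₀s : hf σ₀ u₀ s = 0 := by
    apply C.hf0'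
    have h1 := has
    rw [hau, hf_add_left, hf_smul_left, hf_smul_left, C.hf0 hss, mul_zero, add_zero] at h1
    exact (mul_eq_zero.mp h1).resolve_left hl₁
  have hsu₀ : hf σ₀ s u₀ = 0 := C.sym0 hu₀s
  have hu₀u₀ : hf σ₀ u₀ u₀ = 0 := by
    apply C.hf0'
    have h1 := haa
    rw [hau] at h1
    simp only [hf_add_left, hf_add_right, hf_smul_left, hf_smul_right, C.hf0 hss, C.hf0 hu₀s,
      C.hf0 hsu₀, mul_zero, add_zero] at h1
    rcases mul_eq_zero.mp h1 with h2 | h2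
    · exact absurd h2 (map_ne_zero_of_invol σ hσ2 hl₁)
    · rcases mul_eq_zero.mp h2 with h3 | h3
      · exact absurd h3 hl₁
      · exact h3
  have hu₀ind : ∀ α : F₀, u₀ ≠ α • s := by
    intro α hα
    apply hnot (l₁ * (α : F) + μ₁)
    rw [hau, hα, rat_smul, smul_smul, ← add_smul]
  -- auxiliary rational vectors
  obtain ⟨s', hss', hs'U⟩ := exists_partner_perp σ₀ hσ₀ hσ₀2
    (Submodule.span F₀ (Set.range ![u₀])) s hss
    ((mem_perp_span_iff σ₀ _ s).mpr (by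
      intro i
      fin_cases i
      exact hsu₀)) (by
      intro hmem
      rw [Matrix.range_cons_empty, Submodule.mem_span_singleton] at hmem
      obtain ⟨α, hα⟩ := hmem
      have hα0 : α ≠ 0 := by
        rintro rfl
        rw [zero_smul] at hα
        exact hs0 hα.symm
      apply hu₀ind α⁻¹
      rw [← hα, smul_smul, inv_mul_cancel₀ hα0, one_smul])
  rw [mem_perp_span_iff] at hs'U
  have hs'u₀ : hf σ₀ s' u₀ = 0 := hs'U 0
  obtain ⟨u₀', huu', hu'U⟩ := exists_partner_perp σ₀ hσ₀ hσ₀2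
    (Submodule.span F₀ (Set.range ![s, s'])) u₀ hu₀u₀
    ((mem_perp_span_iff σ₀ _ u₀).mpr (by
      intro i
      fin_cases i
      · exact hu₀s
      · exact C.sym0 hs'u₀)) (by
      intro hmem
      rw [Matrix.range_cons_cons_empty, Submodule.mem_span_pair] at hmem
      obtain ⟨α, β, hαβ⟩ := hmem
      have h1 := congrArg (fun x => hf σ₀ x s) hαβ
      simp only [hf_add_left, hf_smul_left, hss, hss'.vu, hu₀s, mul_zero, mul_one, zero_add] at h1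
      rw [h1, zero_smul, add_zero] at hαβ
      exact hu₀ind α hαβ.symm)
  rw [mem_perp_span_iff] at hu'U
  have hu'₀s : hf σ₀ u₀' s = 0 := hu'U 0
  have hu'₀s' : hf σ₀ u₀' s' = 0 := hu'U 1
  obtain ⟨s₂, s₂', hs₂, hs₂U, -⟩ := exists_HP_perp_fam σ₀ hσ₀ hσ₀2 ![s, s', u₀, u₀'] (by omega)
  have hs₂s : hf σ₀ s₂ s = 0 := hs₂U 0
  have hs₂s' : hf σ₀ s₂ s' = 0 := hs₂U 1
  have hs₂u₀ : hf σ₀ s₂ u₀ = 0 := hs₂U 2
  have hs₂u₀' : hf σ₀ s₂ u₀' = 0 := hs₂U 3
  -- pairings of `a`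
  have has' : hf σ a (rat F₀ s') = μ₁ := by
    rw [hau, hf_add_left, hf_smul_left, hf_smul_left, C.hf0 (C.sym0 hs'u₀),
      C.hf1 (hss'.uv hσ₀2)]
    ring
  have hau' : hf σ a (rat F₀ u₀') = l₁ := by
    rw [hau, hf_add_left, hf_smul_left, hf_smul_left, C.hf1 (huu'.uv hσ₀2),
      C.hf0 (C.sym0 hu'₀s)]
    ring
  have has₂ : hf σ a (rat F₀ s₂) = 0 := by
    rw [hau, hf_add_left, hf_smul_left, hf_smul_left, C.hf0 (C.sym0 hs₂u₀),
      C.hf0 (C.sym0 hs₂s)]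
    ring
  have hnot₂ : ∀ μ : F, a ≠ μ • rat F₀ s₂ := by
    intro μ hμ
    have h1 := hau'
    rw [hμ, hf_smul_left, C.hf0 hs₂u₀', mul_zero] at h1
    exact hl₁ h1.symm
  obtain ⟨l₂, μ₂, v₂, hav⟩ := star_line C htight haa hz0 hz hy hs₂.ne_zero hs₂.uu has₂ hnot₂
  have e1 : μ₁ = l₂ * ((hf σ₀ v₂ s' : F₀) : F) := by
    rw [← has', hav, hf_add_left, hf_smul_left, hf_smul_left, C.hf0 hs₂s',
      hf_rat σ F₀ σ₀ C.hc]
    ring
  have e2 : l₁ = l₂ * ((hf σ₀ v₂ u₀' : F₀) : F) := by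
    rw [← hau', hav, hf_add_left, hf_smul_left, hf_smul_left, C.hf0 hs₂u₀',
      hf_rat σ F₀ σ₀ C.hc]
    ring
  refine ⟨l₂, hf σ₀ v₂ u₀' • u₀ + hf σ₀ v₂ s' • s, ?_⟩
  rw [hau, e1, e2, rat_add, rat_smul, rat_smul, smul_add, smul_smul, smul_smul]

end star

end Cfsg.Agent.Lib.Helper94.SUSub
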