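/-
helper94: S5658, part 7: (P) in the tight case, an element of `M` mapping one rational isotropic
point to a rational point lies in the subfield group.
-/
import Mathlib
import Cfsg.Agent.Lib.Helper94.SUSub6

set_option autoImplicit false

namespace Cfsg.Agent.Lib.Helper94.SUSub

open Matrix Module Cfsg.Agent.S0837 Cfsg.Agent.S0781 Cfsg.Agent.S2644 Cfsg.Agent.Lib.Helper37
open Cfsg.Agent.Lib.Helper13 (rat rat_apply rat_add rat_smul rat_zero rat_neg rat_single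
  rat_injective mem_subfieldSubgroup_iff)

section point
variable {F : Type*} [Field F] {n : ℕ} {σ : F →+* F} {F₀ : Subfield F} {σ₀ : F₀ →+* F₀}
  {M : Subgroup (GL (Fin n) F)}

theorem gl_mulVec_inj' (k : GL (Fin n) F) {x y : Fin n → F}
    (h : (k : Matrix (Fin n) (Fin n) F) *ᵥ x = (k : Matrix (Fin n) (Fin n) F) *ᵥ y) : x = y := by
  have := congrArg (fun v => ((k⁻¹ : GL (Fin n) F) : Matrix (Fin n) (Fin n) F) *ᵥ v) h
  simpa [mulVec_mulVec, ← Units.val_mul] using this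

/-- conjugating a transvection of `M` by an element of `M` -/
theorem memM_conj_tv (hMU : M ≤ UG σ n) {k : GL (Fin n) F} (hk : k ∈ M) {v : Fin n → F} {c : F}
    (h : MemM M (tv σ v c)) : MemM M (tv σ ((k : Matrix (Fin n) (Fin n) F) *ᵥ v) c) := by
  have h1 := ((MemM.of_mem hk).mul h).mul (MemM.of_mem (M.inv_mem hk))
  have h2 : (k : Matrix (Fin n) (Fin n) F) * tv σ v c *
      ((k⁻¹ : GL (Fin n) F) : Matrix (Fin n) (Fin n) F) =
      tv σ ((k : Matrix (Fin n) (Fin n) F) *ᵥ v) c := by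
    rw [tv_eq_sieg, sieg_conj σ _ (hMU hk), mulVec_zero, Matrix.mul_assoc, ← Units.val_mul,
      mul_inv_cancel, Units.val_one, Matrix.mul_one]
    rfl
  rwa [h2] at h1

/-- proportional rational vectors are rationally proportional -/
theorem rat_prop {c p : Fin n → F₀} (hp0 : p ≠ 0) {ν : F} (h : rat F₀ c = ν • rat F₀ p) :
    ∃ α : F₀, c = α • p := by
  obtain ⟨i, hi⟩ : ∃ i, p i ≠ 0 := by
    by_contra hcon
    push Not at hcon
    exact hp0 (funext hcon)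
  have hi' : (p i : F) ≠ 0 := fun h0 => hi (Subtype.ext h0)
  have h1 := congrFun h i
  rw [Pi.smul_apply, rat_apply, rat_apply, smul_eq_mul] at h1
  have hν : ν = ((c i * (p i)⁻¹ : F₀) : F) := by
    rw [Subfield.coe_mul, Subfield.coe_inv, h1]
    field_simp
  refine ⟨c i * (p i)⁻¹, ?_⟩
  apply rat_injective F₀
  rw [h, hν, rat_smul]

variable [Finite F]

/-- a multiple of a rational vector -/
def RatPt (F₀ : Subfield F) (x : Fin n → F) : Prop :=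
  ∃ (l : F) (a₀ : Fin n → F₀), x = l • rat F₀ a₀

/-- (P), first step -/
theorem ratPt_of_perp (C : SCtx σ F₀ σ₀ M) (htight : ∀ c ∈ SS σ F₀ σ₀ M, c ∈ F₀)
    {k : GL (Fin n) F} (hk : k ∈ M) {p : Fin n → F₀} (hp0 : p ≠ 0) (hpp : hf σ₀ p p = 0)
    (hkp : RatPt F₀ ((k : Matrix (Fin n) (Fin n) F) *ᵥ rat F₀ p))
    {c : Fin n → F₀} (hcc : hf σ₀ c c = 0) (hcp : hf σ₀ c p = 0) :
    RatPt F₀ ((k : Matrix (Fin n) (Fin n) F) *ᵥ rat F₀ c) := by
  have hσ2 := C.hσ2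
  have hkU : ∀ x y, hf σ ((k : Matrix (Fin n) (Fin n) F) *ᵥ x)
      ((k : Matrix (Fin n) (Fin n) F) *ᵥ y) = hf σ x y := C.hMU hk
  obtain ⟨l, p', hlp'⟩ := hkp
  by_cases hdep : ∃ α : F₀, c = α • p
  · obtain ⟨α, rfl⟩ := hdep
    refine ⟨(α : F) * l, p', ?_⟩
    rw [rat_smul, mulVec_smul, hlp', smul_smul]
  push Not at hdep
  have hl0 : l ≠ 0 := by
    rintro rfl
    rw [zero_smul] at hlp'
    have : rat F₀ p = 0 := gl_mulVec_inj' k (hlp'.trans (mulVec_zero _).symm)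
    exact hp0 (Cfsg.Agent.Lib.Helper13.rat_eq_zero F₀ this)
  have hp'0 : p' ≠ 0 := by
    rintro rfl
    rw [rat_zero, smul_zero] at hlp'
    have : rat F₀ p = 0 := gl_mulVec_inj' k (hlp'.trans (mulVec_zero _).symm)
    exact hp0 (Cfsg.Agent.Lib.Helper13.rat_eq_zero F₀ this)
  have hp'p' : hf σ₀ p' p' = 0 := by
    apply C.hf0'
    have h1 := hkU (rat F₀ p) (rat F₀ p)
    rw [hlp', hf_smul_left, hf_smul_right, C.hf0 hpp] at h1
    rcases mul_eq_zero.mp h1 with h2 | h2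
    · exact absurd h2 hl0
    · rcases mul_eq_zero.mp h2 with h3 | h3
      · exact absurd h3 (map_ne_zero_of_invol σ hσ2 hl0)
      · exact h3
  set a := (k : Matrix (Fin n) (Fin n) F) *ᵥ rat F₀ c with ha
  have haa : hf σ a a = 0 := by rw [ha, hkU, C.hf0 hcc]
  have hap' : hf σ a (rat F₀ p') = 0 := by
    have h1 := hkU (rat F₀ c) (rat F₀ p)
    rw [hlp', hf_smul_right, C.hf0 hcp, ← ha] at h1
    exact (mul_eq_zero.mp h1).resolve_left (map_ne_zero_of_invol σ hσ2 hl0)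
  have hnot : ∀ μ : F, a ≠ μ • rat F₀ p' := by
    intro μ hμ
    have h1 : (k : Matrix (Fin n) (Fin n) F) *ᵥ rat F₀ c =
        (k : Matrix (Fin n) (Fin n) F) *ᵥ ((μ * l⁻¹) • rat F₀ p) := by
      rw [mulVec_smul, hlp', smul_smul, mul_assoc, inv_mul_cancel₀ hl0, mul_one, ← hμ]
    obtain ⟨α, hα⟩ := rat_prop hp0 (gl_mulVec_inj' k h1)
    exact hdep α hα
  obtain ⟨ε, hε0, hε⟩ := exists_trace_zero_ne σ₀ C.hσ₀ C.hσ₀2
  have hεF : (ε : F) + σ (ε : F) = 0 := by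
    rw [← C.hc, ← Subfield.coe_add, hε]; rfl
  have hεF0 : (ε : F) ≠ 0 := fun h => hε0 (Subtype.ext h)
  have hy : MemM M (tv σ a (ε : F)) := memM_conj_tv C.hMU hk (memM_tv_rat C hcc hε)
  exact star C htight haa hεF0 hεF hy hp'0 hp'p' hap' hnot

/-- (P), second step: all rational isotropic points are mapped to rational points -/
theorem ratPt_all (C : SCtx σ F₀ σ₀ M) (htight : ∀ c ∈ SS σ F₀ σ₀ M, c ∈ F₀)
    {k : GL (Fin n) F} (hk : k ∈ M) {p : Fin n → F₀} (hp0 : p ≠ 0) (hpp : hf σ₀ p p = 0)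
    (hkp : RatPt F₀ ((k : Matrix (Fin n) (Fin n) F) *ᵥ rat F₀ p))
    {d : Fin n → F₀} (hdd : hf σ₀ d d = 0) :
    RatPt F₀ ((k : Matrix (Fin n) (Fin n) F) *ᵥ rat F₀ d) := by
  have hn := C.hn
  have := C.finite₀
  obtain ⟨c, c', hcc', hc, -⟩ := exists_HP_perp_fam σ₀ C.hσ₀ C.hσ₀2 ![p, d] (by omega)
  have hcp : hf σ₀ c p = 0 := hc 0
  have hcd : hf σ₀ c d = 0 := hc 1
  have h1 := ratPt_of_perp C htight hk hp0 hpp hkp hcc'.uu hcp
  exact ratPt_of_perp C htight hk hcc'.ne_zero hcc'.uu h1 hdd (C.sym0 hcd)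

/-- **(P)**: an element of `M` mapping a rational isotropic point to a rational point lies in the
subfield group. `φ` is a field endomorphism with fixed field `F₀`. -/
theorem mem_subfield_of_point (C : SCtx σ F₀ σ₀ M) (htight : ∀ c ∈ SS σ F₀ σ₀ M, c ∈ F₀)
    (φ : F →+* F) (hfix : ∀ x, x ∈ F₀ ↔ φ x = x)
    {k : GL (Fin n) F} (hk : k ∈ M) {p : Fin n → F₀} (hp0 : p ≠ 0) (hpp : hf σ₀ p p = 0)
    (hkp : RatPt F₀ ((k : Matrix (Fin n) (Fin n) F) *ᵥ rat F₀ p)) :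
    k ∈ Cfsg.Geo.subfieldSubgroup F₀ (1 : GL (Fin n) F) := by
  have hn := C.hn
  have := C.finite₀
  set K := (k : Matrix (Fin n) (Fin n) F) with hK
  have hφrat : ∀ a : Fin n → F₀, φ ∘ rat F₀ a = rat F₀ a :=
    fun a => funext fun i => (hfix _).mp (a i).2
  have hKφ : ∀ (a a' : Fin n → F₀) (l : F), K *ᵥ rat F₀ a = l • rat F₀ a' →
      K.map φ *ᵥ rat F₀ a = φ l • rat F₀ a' := by
    intro a a' l h
    funext i
    have h1 := RingHom.map_mulVec φ K (rat F₀ a) i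
    rw [hφrat] at h1
    rw [← h1, h, Pi.smul_apply, Pi.smul_apply, smul_eq_mul, smul_eq_mul, map_mul]
    congr 1
    exact (hfix _).mp (a' i).2
  -- eigenvalues
  have hEV : ∀ d : Fin n → F₀, hf σ₀ d d = 0 → ∃ ρ : F, K.map φ *ᵥ rat F₀ d = ρ • (K *ᵥ rat F₀ d) := by
    intro d hdd
    obtain ⟨l, d', hld'⟩ := ratPt_all C htight hk hp0 hpp hkp hdd
    by_cases hl : l = 0
    · refine ⟨0, ?_⟩
      rw [hKφ d d' l hld', hl, map_zero, zero_smul, zero_smul]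
    · refine ⟨φ l * l⁻¹, ?_⟩
      rw [hKφ d d' l hld', hld', smul_smul, mul_assoc, inv_mul_cancel₀ hl, mul_one]
  -- comparison of eigenvalues
  have hcomp : ∀ (d c c' : Fin n → F₀), d ≠ 0 → hf σ₀ d d = 0 → HP σ₀ c c' → hf σ₀ c d = 0 →
      hf σ₀ c' d = 0 → ∀ ρ₁ ρ₂ : F, K.map φ *ᵥ rat F₀ d = ρ₁ • (K *ᵥ rat F₀ d) →
      K.map φ *ᵥ rat F₀ c = ρ₂ • (K *ᵥ rat F₀ c) → ρ₁ = ρ₂ := by
    intro d c c' hd0 hdd hcc' hcd hc'd ρ₁ ρ₂ h1 h2
    have hsum : hf σ₀ (d + c) (d + c) = 0 := by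
      simp only [hf_add_left, hf_add_right, hdd, hcc'.uu, hcd, C.sym0 hcd]
      ring
    obtain ⟨ρ₃, h3⟩ := hEV (d + c) hsum
    rw [rat_add, mulVec_add, mulVec_add, h1, h2] at h3
    have h4 : K *ᵥ ((ρ₁ - ρ₃) • rat F₀ d + (ρ₂ - ρ₃) • rat F₀ c) = K *ᵥ 0 := by
      rw [mulVec_add, mulVec_smul, mulVec_smul, mulVec_zero]
      have e : ∀ x y : Fin n → F, (ρ₁ - ρ₃) • x + (ρ₂ - ρ₃) • y =
          (ρ₁ • x + ρ₂ • y) - ρ₃ • (x + y) := by
        intro x y; module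
      rw [e, h3, sub_self]
    have h5 := gl_mulVec_inj' k h4
    have h6 := congrArg (fun x => hf σ x (rat F₀ c')) h5
    simp only [hf_add_left, hf_smul_left, C.hf0 (C.sym0 hc'd), C.hf1 (hcc'.uv C.hσ₀2),
      hf_zero_left, mul_zero, mul_one, zero_add] at h6
    have h7 : ρ₂ = ρ₃ := sub_eq_zero.mp h6
    rw [h7, sub_self, zero_smul, add_zero] at h5
    have hd0' : rat F₀ d ≠ 0 := fun h0 => hd0 (Cfsg.Agent.Lib.Helper13.rat_eq_zero F₀ h0)
    have h8 : ρ₁ - ρ₃ = 0 := (smul_eq_zero.mp h5).resolve_right hd0'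
    rw [h7]
    exact sub_eq_zero.mp h8
  obtain ⟨ρ₀, hρ₀⟩ := hEV p hpp
  have hEV₀ : ∀ d : Fin n → F₀, hf σ₀ d d = 0 → K.map φ *ᵥ rat F₀ d = ρ₀ • (K *ᵥ rat F₀ d) := by
    intro d hdd
    by_cases hd0 : d = 0
    · rw [hd0, rat_zero, mulVec_zero, mulVec_zero, smul_zero]
    obtain ⟨ρ, hρ⟩ := hEV d hdd
    obtain ⟨c, c', hcc', hc, hc'⟩ := exists_HP_perp_fam σ₀ C.hσ₀ C.hσ₀2 ![p, d] (by omega)
    obtain ⟨ρc, hρc⟩ := hEV c hcc'.uu
    have e1 := hcomp p c c' hp0 hpp hcc' (hc 0) (hc' 0) ρ₀ ρc hρ₀ hρc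
    have e2 := hcomp d c c' hd0 hdd hcc' (hc 1) (hc' 1) ρ ρc hρ hρc
    rw [hρ, e2, ← e1]
  have hEVall : ∀ w : Fin n → F₀, K.map φ *ᵥ rat F₀ w = ρ₀ • (K *ᵥ rat F₀ w) := by
    intro w
    obtain ⟨t, e, f, α, htt, hee, hff, -, -, -, hdec⟩ :=
      exists_sing_decomp σ₀ C.hσ₀ C.hσ₀2 (![] : Fin 0 → _) (by omega) w (fun j => j.elim0)
    rw [hdec, rat_sub, rat_sub, rat_smul]
    simp only [mulVec_sub, mulVec_smul, hEV₀ t htt, hEV₀ e hee, hEV₀ f hff]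
    module
  have hent : ∀ i j, φ (K i j) = ρ₀ * K i j := by
    intro i j
    have := congrFun (hEVall (Pi.single j 1)) i
    rw [rat_single, Matrix.mulVec_single_one, Matrix.mulVec_single_one, Pi.smul_apply,
      Matrix.col_apply, Matrix.col_apply, Matrix.map_apply, smul_eq_mul] at this
    exact this
  -- a nonzero entry
  obtain ⟨j0, hj0⟩ : ∃ j0 : Fin n, j0 = ⟨0, by omega⟩ := ⟨_, rfl⟩
  obtain ⟨i0, hi0⟩ : ∃ i0, K i0 j0 ≠ 0 := by
    by_contra hcon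
    push Not at hcon
    have hz : K *ᵥ Pi.single j0 1 = K *ᵥ 0 := by
      rw [Matrix.mulVec_single_one, mulVec_zero]
      funext i
      exact hcon i
    have hz2 := gl_mulVec_inj' k hz
    have := congrFun hz2 j0
    simp at this
  obtain ⟨l, hl⟩ : ∃ l : F, l = K i0 j0 := ⟨_, rfl⟩
  have hl0 : l ≠ 0 := by rw [hl]; exact hi0
  have hφl : φ l = ρ₀ * l := by rw [hl]; exact hent i0 j0
  have hρ0 : ρ₀ ≠ 0 := by
    intro h0
    rw [h0, zero_mul] at hφl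
    exact hl0 ((map_eq_zero φ).mp hφl)
  have hA : ∀ i j, K i j * l⁻¹ ∈ F₀ := by
    intro i j
    rw [hfix, map_mul, map_inv₀, hent, hφl]
    field_simp
  obtain ⟨A, hAdef⟩ : ∃ A : Matrix (Fin n) (Fin n) F₀,
      A = Matrix.of fun i j => (⟨K i j * l⁻¹, hA i j⟩ : F₀) := ⟨_, rfl⟩
  have hNA : K = l • A.map F₀.subtype := by
    ext i j
    rw [hAdef, Matrix.smul_apply, Matrix.map_apply, Matrix.of_apply, smul_eq_mul]
    show _ = l * (K i j * l⁻¹)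
    field_simp
  have hdet : A.det ≠ 0 := by
    intro h0
    have h1 : K.det = 0 := by
      rw [hNA, Matrix.det_smul, ← RingHom.mapMatrix_apply, ← RingHom.map_det, h0, map_zero,
        mul_zero]
    have h2 : IsUnit K.det := (Matrix.isUnit_iff_isUnit_det _).mp k.isUnit
    rw [h1] at h2
    exact not_isUnit_zero h2
  rw [mem_subfieldSubgroup_iff]
  refine ⟨Matrix.GeneralLinearGroup.mkOfDetNeZero A hdet, Units.mk0 l hl0, ?_⟩
  show K * ((1 : GL (Fin n) F) : Matrix (Fin n) (Fin n) F) =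
    l • (((1 : GL (Fin n) F) : Matrix (Fin n) (Fin n) F) * A.map F₀.subtype)
  rw [Units.val_one, Matrix.mul_one, Matrix.one_mul, ← hNA]

end point

end Cfsg.Agent.Lib.Helper94.SUSub
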