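/-
helper94: S5658, part 8: tools for the dihedral trick: the central involution of a dihedral
group, rationality of the involutions of the subfield group, isotropic vectors in a plane.
-/
import Mathlib
import Cfsg.Agent.Lib.Helper94.SUSub7

set_option autoImplicit false

namespace Cfsg.Agent.Lib.Helper94.SUSub

open Matrix Module Cfsg.Agent.S0837 Cfsg.Agent.S0781 Cfsg.Agent.S2644 Cfsg.Agent.Lib.Helper37
open Cfsg.Agent.Lib.Helper13 (rat rat_apply rat_add rat_smul rat_zero rat_neg rat_single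
  rat_injective mem_subfieldSubgroup_iff rat_mulVec)

section dihedral

/-- **The dihedral trick**: two involutions are conjugate in the group they generate, or that
group contains a central involution. -/
theorem dihedral_trick {G : Type*} [Group G] [Finite G] (M : Subgroup G) {x y : G} (hxM : x ∈ M)
    (hyM : y ∈ M) (hx : x * x = 1) (hy : y * y = 1) :
    (∃ h ∈ M, h * x * h⁻¹ = y) ∨
      ∃ k : ℕ, (x * y) ^ k ∈ M ∧ (x * y) ^ k ≠ 1 ∧ (x * y) ^ k * (x * y) ^ k = 1 ∧
        (x * y) ^ k * x = x * (x * y) ^ k ∧ (x * y) ^ k * y = y * (x * y) ^ k := by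
  have hxi : x⁻¹ = x := inv_eq_of_mul_eq_one_left hx
  have hyi : y⁻¹ = y := inv_eq_of_mul_eq_one_left hy
  set w := x * y with hw
  have hwM : w ∈ M := M.mul_mem hxM hyM
  have hwi : w⁻¹ = y * x := by rw [hw, _root_.mul_inv_rev, hxi, hyi]
  have hconj : ∀ j : ℕ, w ^ j * x = x * (w ^ j)⁻¹ := by
    intro j
    induction j with
    | zero => simp
    | succ j ih =>
      rw [pow_succ, mul_assoc]
      have h1 : w * x = x * w⁻¹ := by
        rw [hwi, hw, mul_assoc]
      rw [h1, ← mul_assoc, ih, mul_assoc, ← _root_.mul_inv_rev, ← pow_succ']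
      rw [pow_succ]
  set m := orderOf w with hm
  have hm0 : 0 < m := orderOf_pos w
  rcases Nat.even_or_odd' m with ⟨k, hk | hk⟩
  · -- `m = 2k`
    right
    have hk0 : 0 < k := by omega
    refine ⟨k, M.pow_mem hwM k, ?_, ?_, ?_, ?_⟩
    · intro h1
      have := orderOf_dvd_of_pow_eq_one h1
      have := Nat.le_of_dvd hk0 this
      omega
    · rw [← pow_add, ← two_mul, ← hk, hm, pow_orderOf_eq_one]
    · have hzz : w ^ k * w ^ k = 1 := by
        rw [← pow_add, ← two_mul, ← hk, hm, pow_orderOf_eq_one]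
      rw [hconj k, inv_eq_of_mul_eq_one_left hzz]
    · have hzz : w ^ k * w ^ k = 1 := by
        rw [← pow_add, ← two_mul, ← hk, hm, pow_orderOf_eq_one]
      have hzx : w ^ k * x = x * w ^ k := by
        rw [hconj k, inv_eq_of_mul_eq_one_left hzz]
      have hyw : y = x * w := by rw [hw, ← mul_assoc, hx, one_mul]
      rw [hyw, ← mul_assoc, hzx, mul_assoc, mul_assoc, ← pow_succ, ← pow_succ']
  · -- `m = 2k+1`
    left
    refine ⟨w ^ k, M.pow_mem hwM k, ?_⟩
    have h1 : w ^ (2 * k) * w = 1 := by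
      rw [← pow_succ, ← hk, hm, pow_orderOf_eq_one]
    have h2 : (w ^ (2 * k))⁻¹ = w := (inv_eq_of_mul_eq_one_right h1)
    rw [hconj k, mul_assoc, ← _root_.mul_inv_rev, ← pow_add, ← two_mul, h2, hw, ← mul_assoc, hx, one_mul]

end dihedral

section plane
variable {K : Type*} [Field K] (σ : K →+* K) {n : ℕ}

/-- a plane contains a non-zero isotropic vector -/
theorem exists_sing_pair [Finite K] (hσ : σ ≠ RingHom.id K) (hσ2 : ∀ a, σ (σ a) = a)
    {x y : Fin n → K} (hx0 : x ≠ 0) (hind : ∀ α : K, y ≠ α • x) :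
    ∃ α β : K, α • x + β • y ≠ 0 ∧ hf σ (α • x + β • y) (α • x + β • y) = 0 := by
  by_cases hxx : hf σ x x = 0
  · exact ⟨1, 0, by simpa using hx0, by simpa using hxx⟩
  set μ := hf σ y x / hf σ x x with hμ
  have hy'x : hf σ (y - μ • x) x = 0 := by
    rw [hf_sub_left, hf_smul_left, hμ, div_mul_cancel₀ _ hxx, sub_self]
  have hxy' : hf σ x (y - μ • x) = 0 := hf_eq_zero_symm σ hσ2 hy'x
  have key : ∀ l : K, l • x + (y - μ • x) = (l - μ) • x + (1 : K) • y := by
    intro l; module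
  have hne : ∀ l : K, l • x + (y - μ • x) ≠ 0 := by
    intro l h0
    rw [key, one_smul] at h0
    apply hind (-(l - μ))
    rw [neg_smul]
    exact eq_neg_of_add_eq_zero_right h0
  by_cases hy'y' : hf σ (y - μ • x) (y - μ • x) = 0
  · refine ⟨0 - μ, 1, ?_, ?_⟩
    · rw [← key, zero_smul, zero_add]
      have := hne 0
      rwa [zero_smul, zero_add] at this
    · rw [← key, zero_smul, zero_add]
      exact hy'y'
  · obtain ⟨l, hl⟩ := Cfsg.Agent.Lib.Helper36.exists_mul_map_eq σ hσ hσ2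
      (-(hf σ (y - μ • x) (y - μ • x)) / hf σ x x) (by
        rw [map_div₀, map_neg, hf_self_fixed σ hσ2, hf_self_fixed σ hσ2])
    refine ⟨l - μ, 1, ?_, ?_⟩
    · rw [← key]; exact hne l
    · rw [← key]
      simp only [hf_add_left, hf_add_right, hf_smul_left, hf_smul_right, hy'x, hxy']
      have : l * σ l * hf σ x x = -(hf σ (y - μ • x) (y - μ • x)) := by
        rw [hl, div_mul_cancel₀ _ hxx]
      linear_combination this

end plane

section ratinvol
variable {F : Type*} [Field F] {n : ℕ} {σ : F →+* F} {F₀ : Subfield F} {σ₀ : F₀ →+* F₀}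
  {M : Subgroup (GL (Fin n) F)}

theorem map_mulVec_rat (B : Matrix (Fin n) (Fin n) F₀) (w : Fin n → F₀) :
    B.map F₀.subtype *ᵥ rat F₀ w = rat F₀ (B *ᵥ w) := (rat_mulVec F₀ B w).symm

theorem map_subtype_injective :
    Function.Injective (fun B : Matrix (Fin n) (Fin n) F₀ => B.map F₀.subtype) := by
  intro A B h
  ext i j
  have := congrFun (congrFun h i) j
  simpa using this

/-- an involution of the subfield group is rational, provided `μ² ∈ F₀` implies `μ ∈ F₀` -/
theorem rat_of_invol (hn : 1 ≤ n) (hsq : ∀ μ : F, μ * μ ∈ F₀ → μ ∈ F₀) {z : GL (Fin n) F}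
    (hz : z ∈ Cfsg.Geo.subfieldSubgroup F₀ (1 : GL (Fin n) F)) (hzz : z * z = 1) :
    ∃ B : Matrix (Fin n) (Fin n) F₀, (z : Matrix (Fin n) (Fin n) F) = B.map F₀.subtype ∧
      B * B = 1 := by
  rw [mem_subfieldSubgroup_iff] at hz
  obtain ⟨A, μ, hA⟩ := hz
  rw [Units.val_one, Matrix.mul_one, Matrix.one_mul] at hA
  have hZZ : (z : Matrix (Fin n) (Fin n) F) * (z : Matrix (Fin n) (Fin n) F) = 1 := by
    rw [← Units.val_mul, hzz, Units.val_one]
  set A' := (A : Matrix (Fin n) (Fin n) F₀) with hA'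
  have h1 : ((μ : F) * (μ : F)) • (A' * A').map F₀.subtype = 1 := by
    rw [← hZZ, hA, Matrix.smul_mul, Matrix.mul_smul, smul_smul, Matrix.map_mul]
  set i0 : Fin n := ⟨0, by omega⟩ with hi0
  have h2 := congrFun (congrFun h1 i0) i0
  rw [Matrix.smul_apply, Matrix.map_apply, Matrix.one_apply_eq, smul_eq_mul] at h2
  have hμμ : (μ : F) * (μ : F) ∈ F₀ := by
    have h3 : ((A' * A') i0 i0 : F) ≠ 0 := by
      intro h0
      rw [Subfield.coe_subtype, h0, mul_zero] at h2
      exact zero_ne_one h2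
    have : (μ : F) * (μ : F) = (((A' * A') i0 i0 : F₀) : F)⁻¹ := by
      rw [Subfield.coe_subtype] at h2
      exact eq_inv_of_mul_eq_one_left h2
    rw [this]
    exact F₀.inv_mem ((A' * A') i0 i0).2
  have hμ : (μ : F) ∈ F₀ := hsq _ hμμ
  refine ⟨(⟨(μ : F), hμ⟩ : F₀) • A', ?_, ?_⟩
  · rw [hA]
    ext i j
    simp
  · apply map_subtype_injective (F₀ := F₀)
    show (((⟨(μ : F), hμ⟩ : F₀) • A') * ((⟨(μ : F), hμ⟩ : F₀) • A')).map F₀.subtype =
      (1 : Matrix (Fin n) (Fin n) F₀).map F₀.subtype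
    rw [Matrix.map_mul, Matrix.map_one _ (map_zero _) (map_one _)]
    have e : ((⟨(μ : F), hμ⟩ : F₀) • A').map F₀.subtype = (μ : F) • A'.map F₀.subtype := by
      ext i j
      simp
    rw [e, ← hA, hZZ]

/-- a rational matrix of `M` is an isometry of the rational form -/
theorem rat_isometry (C : SCtx σ F₀ σ₀ M) {z : GL (Fin n) F} (hz : z ∈ M)
    {B : Matrix (Fin n) (Fin n) F₀} (hB : (z : Matrix (Fin n) (Fin n) F) = B.map F₀.subtype)
    (x y : Fin n → F₀) : hf σ₀ (B *ᵥ x) (B *ᵥ y) = hf σ₀ x y := by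
  have h := C.hMU hz (rat F₀ x) (rat F₀ y)
  rw [hB, map_mulVec_rat, map_mulVec_rat, hf_rat σ F₀ σ₀ C.hc, hf_rat σ F₀ σ₀ C.hc] at h
  exact Subtype.ext h

end ratinvol

end Cfsg.Agent.Lib.Helper94.SUSub
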