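/-
Helper94: over the field with four elements, the stabiliser in `SU_n(2)` of a tensor decomposition
`GU_2(2) ⊗ GU_{n₂}(2)` is not maximal: `GU_2(2)` is monomial on an orthonormal frame, so the
tensor product subgroup stabilises a decomposition into two non-degenerate subspaces.
-/
import Mathlib
import Cfsg.Prelude.Def_GeometricClasses
import Cfsg.Agent.Lib.Helper94.TensorMono
import Cfsg.Agent.Lib.Helper94.TensorOrth3
import Cfsg.Agent.Lib.Helper94.UnitFrame2
import Cfsg.Agent.Lib.Helper94.UnitBridge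
import Cfsg.Agent.Lib.Helper94.SympSLBridge

set_option autoImplicit false
set_option linter.unusedSimpArgs false
set_option linter.unusedSectionVars false
set_option linter.unusedVariables false

namespace Cfsg.Agent.Lib.Helper94

open scoped MatrixGroups Matrix Kronecker

variable {ι : Type} [Fintype ι] [DecidableEq ι] {F : Type*} [Field F] {n₁ n₂ : ℕ}

/-- a unitary form (for `x ↦ x ^ 2`) over the field with four elements is hermitian -/
lemma hermData_of_unitaryFormPow [Fintype F] (hF : Fintype.card F = 4) {n : ℕ}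
    {f : (Fin n → F) → (Fin n → F) → F} (hf : Cfsg.Geo.IsUnitaryFormPow 2 f) :
    HermData (fun a : F => a ^ 2) f := by
  have h2 : (2 : F) = 0 := HermData.two_eq_zero_of_card_four hF
  have hadd : ∀ a b : F, (a + b) ^ 2 = a ^ 2 + b ^ 2 := by
    intro a b
    linear_combination (a * b) * h2
  have h4 : ∀ a : F, a ^ 4 = a := by
    intro a
    have := FiniteField.pow_card a
    rwa [hF] at this
  refine ⟨hf.add_left, hf.smul_left, ?_, ?_, ?_, ?_⟩
  · intro x y z
    rw [hf.herm, hf.add_left, hadd, ← hf.herm, ← hf.herm]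
  · intro c x y
    rw [hf.herm, hf.smul_left, mul_pow, ← hf.herm]
  · intro x y
    exact hf.herm y x
  · intro a b
    ring

/-- a hermitian form is the form of its Gram matrix -/
lemma formOfGram_gramMatrix_herm {σ : F → F} {n : ℕ} {f : (Fin n → F) → (Fin n → F) → F}
    (hH : HermData σ f) (x y : Fin n → F) :
    Cfsg.Geo.formOfGram σ (Cfsg.Geo.gramMatrix f) x y = f x y := by
  have hsumL : ∀ (s : Finset (Fin n)) (g : Fin n → Fin n → F) (v : Fin n → F),
      f (∑ a ∈ s, g a) v = ∑ a ∈ s, f (g a) v := by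
    intro s g v
    induction s using Finset.induction_on with
    | empty => simp only [Finset.sum_empty]; exact hH.zero_left v
    | insert a s ha ih => rw [Finset.sum_insert ha, Finset.sum_insert ha, hH.add_left, ih]
  have hsumR : ∀ (s : Finset (Fin n)) (g : Fin n → Fin n → F) (v : Fin n → F),
      f v (∑ a ∈ s, g a) = ∑ a ∈ s, f v (g a) := by
    intro s g v
    induction s using Finset.induction_on with
    | empty => simp only [Finset.sum_empty]; exact hH.zero_right v
    | insert a s ha ih => rw [Finset.sum_insert ha, Finset.sum_insert ha, hH.add_right, ih]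
  have hx : x = ∑ a, x a • (Pi.single a 1 : Fin n → F) := by
    ext i
    simp [Finset.sum_apply, Pi.single_apply]
  have hy : y = ∑ a, y a • (Pi.single a 1 : Fin n → F) := by
    ext i
    simp [Finset.sum_apply, Pi.single_apply]
  conv_rhs => rw [hx, hsumL]
  unfold Cfsg.Geo.formOfGram Cfsg.Geo.gramMatrix
  apply Finset.sum_congr rfl
  intro a _
  rw [hH.smul_left]
  conv_rhs => rw [hy, hsumR]
  rw [Finset.mul_sum]
  apply Finset.sum_congr rfl
  intro b _
  rw [hH.smul_right]
  ring

/-- the value of the form on images of pure tensors, hermitian case -/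
lemma tens_form_herm {σ : F → F} {f : (ι → F) → (ι → F) → F}
    {f₁ : (Fin n₁ → F) → (Fin n₁ → F) → F}
    {f₂ : (Fin n₂ → F) → (Fin n₂ → F) → F} (hf₁ : HermData σ f₁)
    (hf₂ : HermData σ f₂) {e : ι ≃ Fin n₁ × Fin n₂} {P : GL ι F} {c : F}
    (hT : ∀ x y : Fin n₁ × Fin n₂ → F,
      f ((P : Matrix ι ι F) *ᵥ (x ∘ e)) ((P : Matrix ι ι F) *ᵥ (y ∘ e)) =
        c * Cfsg.Geo.formOfGram σ (Cfsg.Geo.gramMatrix f₁ ⊗ₖ Cfsg.Geo.gramMatrix f₂) x y)
    (u u' : Fin n₁ → F) (w w' : Fin n₂ → F) :
    f (tensPhi e P (pureT u w)) (tensPhi e P (pureT u' w')) = c * (f₁ u u' * f₂ w w') := by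
  rw [tensPhi_apply, tensPhi_apply, hT, formOfGram_kronecker_pureT σ hf₁.σ_mul,
    formOfGram_gramMatrix_herm hf₁, formOfGram_gramMatrix_herm hf₂]

namespace HermData

variable {K V : Type*} [Field K] [AddCommGroup V] [Module K V] {σ : K → K} {h : V → V → K}

/-- non-degenerate unitary planes over the field with four elements have an orthonormal frame, and
every vector of norm one is a multiple of a member of the frame -/
lemma exists_uframe2 [Fintype K] (hH : HermData σ h) (hK : Fintype.card K = 4)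
    (hσ : ∀ a, σ a = a ^ 2)
    (U : Submodule K V) (hfr : Module.finrank K U = 2)
    (hnd : ∀ x ∈ U, (∀ y ∈ U, h x y = 0) → x = 0) :
    ∃ x x' : V, x ∈ U ∧ x' ∈ U ∧ h x x = 1 ∧ h x' x' = 1 ∧ h x x' = 0 ∧ h x' x = 0 ∧
      ∀ v ∈ U, h v v = 1 → (∃ α : K, α ≠ 0 ∧ v = α • x) ∨ (∃ β : K, β ≠ 0 ∧ v = β • x') := by
  have h2 := two_eq_zero_of_card_four hK
  have hfd : FiniteDimensional K U := Module.finite_of_finrank_pos (by rw [hfr]; norm_num)
  have hσ0 : σ 0 = 0 := by rw [hσ]; ring
  -- a non-isotropic vector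
  have hex : ∃ x ∈ U, h x x ≠ 0 := by
    by_contra hcon
    push Not at hcon
    obtain ⟨ω, hω0, hω1⟩ := exists_ne_zero_ne_one_of_card_four hK
    have hzero : ∀ u ∈ U, ∀ v ∈ U, h u v = 0 := by
      have h01 : ∀ u ∈ U, ∀ v ∈ U, h u v = 0 ∨ h u v = 1 := by
        intro u hu v hv
        have e1 := hcon (u + v) (U.add_mem hu hv)
        rw [hH.add_left, hH.add_right, hH.add_right, hcon u hu, hcon v hv, hH.conj u v, hσ] at e1
        have : h u v * (h u v - 1) = 0 := by linear_combination e1 - (h u v) * h2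
        rcases mul_eq_zero.1 this with h | h
        · left; exact h
        · right; exact sub_eq_zero.1 h
      intro u hu v hv
      rcases h01 u hu v hv with h | h
      · exact h
      · exfalso
        have := h01 (ω • u) (U.smul_mem _ hu) v hv
        rw [hH.smul_left, h, mul_one] at this
        rcases this with h' | h'
        · exact hω0 h'
        · exact hω1 h'
    have hbot : U = ⊥ := by
      rw [eq_bot_iff]
      intro u hu
      rw [Submodule.mem_bot]
      exact hnd u hu (fun y hy => hzero u hu y hy)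
    rw [hbot, finrank_bot] at hfr
    omega
  obtain ⟨x, hxU, hx0⟩ := hex
  have nx : h x x = 1 := by
    rcases hH.norm_cases hσ x with h | h
    · exact absurd h hx0
    · exact h
  -- a non-zero vector of `U` orthogonal to `x`
  obtain ⟨x', hx'U, hx'0, hx'x⟩ : ∃ x' ∈ U, x' ≠ 0 ∧ h x' x = 0 := by
    have hker : LinearMap.ker ((hH.hfun x).comp U.subtype) ≠ ⊥ := by
      apply LinearMap.ker_ne_bot_of_finrank_lt
      rw [Module.finrank_self, hfr]; norm_num
    obtain ⟨u, hu, hu0⟩ := Submodule.exists_mem_ne_zero_of_ne_bot hker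
    refine ⟨u, u.2, fun h => hu0 (Subtype.ext h), ?_⟩
    have := LinearMap.mem_ker.1 hu
    simpa using this
  have hxx' : h x x' = 0 := by rw [hH.conj x' x, hx'x, hσ0]
  -- they span `U`
  have hle : Submodule.span K {x, x'} ≤ U := by
    rw [Submodule.span_le]
    intro v hv
    rcases hv with rfl | rfl
    · exact hxU
    · exact hx'U
  have hli : LinearIndependent K ![x, x'] := by
    rw [LinearIndependent.pair_iff]
    intro s t hst
    have h1 : h (s • x + t • x') x = s := by
      rw [hH.add_left, hH.smul_left, hH.smul_left, nx, hx'x, mul_one, mul_zero, add_zero]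
    rw [hst, hH.zero_left] at h1
    have hs : s = 0 := h1.symm
    rw [hs, zero_smul, zero_add] at hst
    rcases smul_eq_zero.1 hst with h | h
    · exact ⟨hs, h⟩
    · exact absurd h hx'0
  have hspanU : Submodule.span K {x, x'} = U := by
    apply Submodule.eq_of_le_of_finrank_eq hle
    have h1 := finrank_span_eq_card hli
    have h2' : Set.range ![x, x'] = {x, x'} := by
      simp [Matrix.range_cons, Matrix.range_empty, Set.pair_comm]
    rw [h2', Fintype.card_fin] at h1
    rw [h1, hfr]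
  have hspan : ∀ w ∈ U, ∃ α β : K, w = α • x + β • x' := by
    intro w hw
    rw [← hspanU] at hw
    obtain ⟨α, β, h⟩ := Submodule.mem_span_pair.1 hw
    exact ⟨α, β, h.symm⟩
  have nx' : h x' x' = 1 := by
    rcases hH.norm_cases hσ x' with h0 | h1
    · exfalso
      apply hx'0
      apply hnd x' hx'U
      intro w hw
      obtain ⟨α, β, rfl⟩ := hspan w hw
      rw [hH.add_right, hH.smul_right, hH.smul_right, hx'x, h0, mul_zero, mul_zero, add_zero]
    · exact h1
  refine ⟨x, x', hxU, hx'U, nx, nx', hxx', hx'x, ?_⟩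
  intro v hv hv1
  obtain ⟨α, β, rfl⟩ := hspan v hv
  have e1 : h (α • x + β • x') (α • x + β • x') = α ^ 3 + β ^ 3 := by
    simp only [hH.add_left, hH.add_right, hH.smul_left, hH.smul_right, nx, nx', hxx', hx'x, hσ,
      mul_zero, mul_one, add_zero, zero_add]
    ring
  rw [e1] at hv1
  by_cases hα : α = 0
  · right
    have hβ : β ≠ 0 := by
      intro hβ
      rw [hα, hβ] at hv1
      simp at hv1
    exact ⟨β, hβ, by rw [hα, zero_smul, zero_add]⟩
  · left
    have hα3 := cube_eq_one_of_card_four hK hα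
    have hβ : β = 0 := by
      by_contra hβ0
      have hβ3 := cube_eq_one_of_card_four hK hβ0
      rw [hα3, hβ3] at hv1
      have : (1 : K) = 0 := by linear_combination hv1
      exact one_ne_zero this
    exact ⟨α, hα, by rw [hβ, zero_smul, add_zero]⟩

/-- a non-zero isotropic vector in dimension at least two -/
lemma exists_isotropic_ne_zero [Fintype K] [FiniteDimensional K V] (hH : HermData σ h)
    (hK : Fintype.card K = 4) (hσ : ∀ a, σ a = a ^ 2) (hdim : 2 ≤ Module.finrank K V) :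
    ∃ w : V, w ≠ 0 ∧ h w w = 0 := by
  have h2 := two_eq_zero_of_card_four hK
  have hσ0 : σ 0 = 0 := by rw [hσ]; ring
  have hnt : Nontrivial V := Module.nontrivial_of_finrank_pos (R := K) (by omega)
  obtain ⟨w₁, hw₁⟩ := exists_ne (0 : V)
  rcases hH.norm_cases hσ w₁ with h0 | h1
  · exact ⟨w₁, hw₁, h0⟩
  have hker : LinearMap.ker (hH.hfun w₁) ≠ ⊥ := by
    apply LinearMap.ker_ne_bot_of_finrank_lt
    rw [Module.finrank_self]; omega
  obtain ⟨w₂, hw₂, hw₂0⟩ := Submodule.exists_mem_ne_zero_of_ne_bot hker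
  have h21 : h w₂ w₁ = 0 := by
    have := LinearMap.mem_ker.1 hw₂
    simpa using this
  have h12 : h w₁ w₂ = 0 := by rw [hH.conj w₂ w₁, h21, hσ0]
  rcases hH.norm_cases hσ w₂ with h0 | h1'
  · exact ⟨w₂, hw₂0, h0⟩
  refine ⟨w₁ + w₂, ?_, ?_⟩
  · intro hsum
    have : h (w₁ + w₂) w₁ = 1 := by rw [hH.add_left, h1, h21, add_zero]
    rw [hsum, hH.zero_left] at this
    exact zero_ne_one this
  · rw [hH.add_left, hH.add_right, hH.add_right, h1, h1', h12, h21]
    linear_combination h2

end HermData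

/-- **Non-maximality** of the stabiliser in `SU_n(2)` of a tensor decomposition with a
two-dimensional first factor. -/
theorem exists_between_tensor_unit2 [Fintype F] (hF : Fintype.card F = 4) (n : ℕ) {n₂ : ℕ}
    (hn₂ : 2 ≤ n₂) (e : Fin n ≃ Fin 2 × Fin n₂) (P : GL (Fin n) F)
    (f₁ : (Fin 2 → F) → (Fin 2 → F) → F) (f₂ : (Fin n₂ → F) → (Fin n₂ → F) → F)
    (hf₁ : Cfsg.Geo.IsUnitaryFormPow 2 f₁) (hf₂ : Cfsg.Geo.IsUnitaryFormPow 2 f₂)
    (hT : Cfsg.Geo.IsTensorFormStructure (fun x : F => x ^ 2) (Cfsg.hermForm n F 2) f₁ f₂ e P) :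
    ∃ K : Subgroup (GL (Fin n) F),
      Cfsg.Geo.tensorProductSubgroup 2 n₂ e P ⊓
        (Cfsg.GU n F 2 ⊓ Cfsg.Geo.specialLinear (Fin n) F) < K ∧
      K < Cfsg.GU n F 2 ⊓ Cfsg.Geo.specialLinear (Fin n) F := by
  classical
  have h2 : (2 : F) = 0 := HermData.two_eq_zero_of_card_four hF
  have hH := hermData_hermForm_four hF n
  have hH₁ := hermData_of_unitaryFormPow hF hf₁
  have hH₂ := hermData_of_unitaryFormPow hF hf₂
  obtain ⟨c, hc, hTc⟩ := hT
  have hB : ∀ u u' w w', Cfsg.hermForm n F 2 (tensPhi e P (pureT u w)) (tensPhi e P (pureT u' w')) =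
      c * (f₁ u u' * f₂ w w') := fun u u' w w' => tens_form_herm hH₁ hH₂ hTc u u' w w'
  -- the frame of `f₁`
  have hfr₁ : Module.finrank F (⊤ : Submodule F (Fin 2 → F)) = 2 := by
    rw [finrank_top, Module.finrank_fin_fun]
  have hnd₁ : ∀ x ∈ (⊤ : Submodule F (Fin 2 → F)),
      (∀ y ∈ (⊤ : Submodule F (Fin 2 → F)), f₁ x y = 0) → x = 0 := by
    intro x _ hx
    by_contra h0
    obtain ⟨y, hy⟩ := (hf₁.nondegenerate x h0).2
    exact hy (hx y trivial)
  obtain ⟨p0, p1, -, -, n0, n1, o01, o10, hprop⟩ :=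
    hH₁.exists_uframe2 hF (fun a => rfl) ⊤ hfr₁ hnd₁
  obtain ⟨b, hb⟩ : ∃ b : Fin 2 → (Fin 2 → F), b = ![p0, p1] := ⟨_, rfl⟩
  have hb0 : b 0 = p0 := by rw [hb]; rfl
  have hb1 : b 1 = p1 := by rw [hb]; rfl
  have hbn : ∀ i, f₁ (b i) (b i) = 1 := by
    intro i; fin_cases i
    · exact hb0 ▸ n0
    · exact hb1 ▸ n1
  have hbo : ∀ i j, i ≠ j → f₁ (b i) (b j) = 0 := by
    intro i j hij
    fin_cases i <;> fin_cases j
    all_goals first
      | exact absurd rfl hij
      | (simp only [Fin.zero_eta, Fin.mk_one, hb0, hb1]; assumption)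
  have hbprop : ∀ v : Fin 2 → F, f₁ v v = 1 → ∃ i : Fin 2, ∃ ε : F, ε ≠ 0 ∧ v = ε • b i := by
    intro v hv
    rcases hprop v trivial hv with ⟨α, hα, h⟩ | ⟨β, hβ, h⟩
    · exact ⟨0, α, hα, by rw [hb0, h]⟩
    · exact ⟨1, β, hβ, by rw [hb1, h]⟩
  have hbne : ∀ i, b i ≠ 0 := by
    intro i h0
    have := hbn i
    rw [h0, hH₁.zero_left] at this
    exact zero_ne_one this
  -- two vectors for `f₂`
  have hfd₂ : Module.finrank F (Fin n₂ → F) = n₂ := Module.finrank_fin_fun F
  obtain ⟨w₀, hw₀, hw₀₀⟩ := hH₂.exists_isotropic_ne_zero hF (fun a => rfl) (by rw [hfd₂]; exact hn₂)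
  obtain ⟨w₁, hw₁⟩ := (hf₂.nondegenerate w₀ hw₀).1
  have hw₀₁ : f₂ w₀ w₁ ≠ 0 := by
    rw [hH₂.conj w₁ w₀]
    exact pow_ne_zero 2 hw₁
  -- the decomposition
  obtain ⟨D, hD⟩ : ∃ D : Fin 2 → Submodule F (Fin n → F), D = fun j => tensD e P (b j) :=
    ⟨_, rfl⟩
  have hDmem : ∀ j v, tensPhi e P (pureT (b j) v) ∈ D j := by
    intro j v; rw [hD]; exact tens_mem_tensD _ _ _ _
  have hsep : ∀ (i j : Fin 2) (v : Fin n₂ → F), v ≠ 0 → tensPhi e P (pureT (b i) v) ∈ D j →
      i = j := by
    intro i j v hv hmem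
    by_contra hij
    rw [hD] at hmem
    obtain ⟨v', hv'⟩ := mem_tensD.1 hmem
    obtain ⟨y, hy⟩ := (hf₂.nondegenerate v hv).2
    have h1 := hB (b i) (b i) v y
    rw [← hv', hB, hbo j i (Ne.symm hij), hbn] at h1
    apply hy
    have : c * f₂ v y = 0 := by linear_combination -h1
    rcases mul_eq_zero.1 this with h | h
    · exact absurd h hc
    · exact h
  -- transvections along isotropic vectors of the first member
  have htv : ∀ (v : Fin n₂ → F) (a : F)
      (hv : Cfsg.hermForm n F 2 (tensPhi e P (pureT (b 0) v)) (tensPhi e P (pureT (b 0) v)) = 0)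
      (i : Fin 2), ∀ x ∈ D i, hH.utv (tensPhi e P (pureT (b 0) v)) a hv x ∈ D i := by
    intro v a hv i x hx
    rw [hD] at hx
    obtain ⟨v', rfl⟩ := mem_tensD.1 hx
    by_cases hi : i = 0
    · subst hi
      rw [hH.utv_apply, ← map_smul, ← map_add, ← pureT_smul_right, ← pureT_add_right]
      exact hDmem 0 _
    · rw [hH.utv_apply, hB, hbo i 0 hi]
      simp only [zero_mul, mul_zero, zero_smul, add_zero]
      exact hDmem i _
  have hone : (1 : F) + (fun a : F => a ^ 2) 1 = 0 := by
    show (1 : F) + 1 ^ 2 = 0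
    linear_combination h2
  apply exists_between_of_map (glEquiv (Fin n) F)
  rw [map_inf_equiv, map_inf_equiv, map_GU, map_specialLinear]
  refine ⟨SympData.stabDec D ⊓ (UG (Cfsg.hermForm n F 2) ⊓ SympData.SLe F (Fin n → F)), ?_, ?_⟩
  · rw [SetLike.lt_iff_le_and_exists]
    refine ⟨?_, ?_⟩
    · rintro g' ⟨hg1, hg2⟩
      refine ⟨?_, hg2⟩
      obtain ⟨g, hg, rfl⟩ := Subgroup.mem_map.1 hg1
      obtain ⟨A, B', hAB⟩ := exists_of_mem_tensorProductSubgroup hg
      have hg' : ∀ x, (glEquiv (Fin n) F g) (tensPhi e P x) = tensPhi e P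
          (((A : Matrix (Fin 2) (Fin 2) F) ⊗ₖ (B' : Matrix (Fin n₂) (Fin n₂) F)) *ᵥ x) := by
        intro x; rw [glEquiv_apply]; exact hAB x
      have key : ∀ u u' v v', f₁ ((A : Matrix (Fin 2) (Fin 2) F) *ᵥ u)
          ((A : Matrix (Fin 2) (Fin 2) F) *ᵥ u') *
          f₂ ((B' : Matrix (Fin n₂) (Fin n₂) F) *ᵥ v) ((B' : Matrix (Fin n₂) (Fin n₂) F) *ᵥ v') =
          f₁ u u' * f₂ v v' := by
        intro u u' v v'
        have h1 := mem_UG.1 hg2.1 (tensPhi e P (pureT u v)) (tensPhi e P (pureT u' v'))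
        change Cfsg.hermForm n F 2 ((glEquiv (Fin n) F g) _) ((glEquiv (Fin n) F g) _) = _ at h1
        rw [hg', hg', kronecker_mulVec_pureT, kronecker_mulVec_pureT, hB, hB] at h1
        exact mul_left_cancel₀ hc h1
      obtain ⟨μ, hμ⟩ := exists_similarity_left hf₂.nondegenerate (by omega)
        (A : Matrix (Fin 2) (Fin 2) F) B' key
      have hμ0 : μ ≠ 0 := by
        intro h0
        have := hμ (((A⁻¹ : GL (Fin 2) F) : Matrix (Fin 2) (Fin 2) F) *ᵥ b 0)
          (((A⁻¹ : GL (Fin 2) F) : Matrix (Fin 2) (Fin 2) F) *ᵥ b 0)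
        rw [Matrix.mulVec_mulVec, ← Units.val_mul, mul_inv_cancel, Units.val_one,
          Matrix.one_mulVec, hbn, h0, zero_mul] at this
        exact one_ne_zero this
      have hμ1 : μ = 1 := by
        have h1 := hμ (b 0) (b 0)
        rw [hbn, mul_one] at h1
        rcases hH₁.norm_cases (fun a => rfl) ((A : Matrix (Fin 2) (Fin 2) F) *ᵥ b 0) with h | h
        · exact absurd (h1.symm.trans h) hμ0
        · exact h1.symm.trans h
      have hiso : ∀ u u', f₁ ((A : Matrix (Fin 2) (Fin 2) F) *ᵥ u)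
          ((A : Matrix (Fin 2) (Fin 2) F) *ᵥ u') = f₁ u u' := by
        intro u u'; rw [hμ, hμ1, one_mul]
      have hmono : ∀ j : Fin 2, ∃ i : Fin 2, ∃ ε : F, ε ≠ 0 ∧
          (A : Matrix (Fin 2) (Fin 2) F) *ᵥ b j = ε • b i := by
        intro j
        apply hbprop
        rw [hiso, hbn]
      choose π ε hε hA using hmono
      have hπ : Function.Injective π := by
        intro j k hjk
        by_contra hne
        have h1 := hiso (b j) (b k)
        rw [hA j, hA k, hjk, hbo j k hne, hH₁.smul_left, hH₁.smul_right, hbn] at h1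
        have : ε j * ((ε k) ^ 2 * 1) ≠ 0 :=
          mul_ne_zero (hε j) (mul_ne_zero (pow_ne_zero 2 (hε k)) one_ne_zero)
        exact this h1
      have := mem_stabDec_of_monomial (e := e) (P := P) b hg' π hπ
        (fun j => ⟨ε j, hε j, hA j⟩)
      rw [hD]
      exact this
    · -- an element of the larger group outside the tensor product subgroup
      have ha : Cfsg.hermForm n F 2 (tensPhi e P (pureT (b 0) w₀))
          (tensPhi e P (pureT (b 0) w₀)) = 0 := by rw [hB, hw₀₀]; ring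
      refine ⟨hH.utv _ 1 ha, ⟨?_, hH.utv_mem_UG _ 1 ha hone, hH.utv_mem_SLe _ 1 ha⟩, ?_⟩
      · change _ ∈ SympData.stabDec D
        rw [SympData.mem_stabDec]
        refine ⟨Equiv.refl _, fun i => ?_⟩
        rw [Equiv.refl_apply]
        apply SympData.map_eq_of_maps
        · intro x hx
          exact htv w₀ 1 ha i x hx
        · intro x hx
          rw [hH.utv_inv]
          exact htv w₀ (-1) ha i x hx
      · rintro ⟨hk, -⟩
        obtain ⟨g, hg, hgk⟩ := Subgroup.mem_map.1 hk
        obtain ⟨A, B', hAB⟩ := exists_of_mem_tensorProductSubgroup hg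
        have hk' : ∀ x, (hH.utv _ 1 ha) (tensPhi e P x) = tensPhi e P
            (((A : Matrix (Fin 2) (Fin 2) F) ⊗ₖ (B' : Matrix (Fin n₂) (Fin n₂) F)) *ᵥ x) := by
          intro x
          rw [← hgk]
          change (glEquiv (Fin n) F g) (tensPhi e P x) = _
          rw [glEquiv_apply]; exact hAB x
        obtain ⟨s, hs⟩ : ∃ s : F, s = 1 * (c * (1 * f₂ w₁ w₀)) := ⟨_, rfl⟩
        have hs0 : s ≠ 0 := by
          rw [hs, one_mul, one_mul]; exact mul_ne_zero hc hw₁
        have E1 : (hH.utv _ 1 ha) (tensPhi e P (pureT (b 0) w₁)) =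
            tensPhi e P (pureT (b 0) (w₁ + s • w₀)) := by
          rw [hH.utv_apply, hB, hbn, ← hs, pureT_add_right, pureT_smul_right, map_add, map_smul]
        have E2 : (hH.utv _ 1 ha) (tensPhi e P (pureT (b 0) w₀)) =
            tensPhi e P (pureT (b 0) w₀) := by
          rw [hH.utv_apply, hB, hw₀₀]
          simp only [mul_zero, zero_smul, add_zero]
        have E3 : (hH.utv _ 1 ha) (tensPhi e P (pureT (b 1) w₁)) =
            tensPhi e P (pureT (b 1) w₁) := by
          rw [hH.utv_apply, hB, hbo 1 0 (by decide)]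
          simp only [zero_mul, mul_zero, zero_smul, add_zero]
        have E4 : (hH.utv _ 1 ha) (tensPhi e P (pureT (b 1) w₀)) =
            tensPhi e P (pureT (b 1) w₀) := by
          rw [hH.utv_apply, hB, hbo 1 0 (by decide)]
          simp only [zero_mul, mul_zero, zero_smul, add_zero]
        rw [hk', kronecker_mulVec_pureT] at E1 E2 E3 E4
        have F1 := (tensPhi e P).injective E1
        have F2 := (tensPhi e P).injective E2
        have F3 := (tensPhi e P).injective E3
        have F4 := (tensPhi e P).injective E4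
        obtain ⟨i₀, hi₀⟩ := exists_ne_zero_of_ne_zero (gl_mulVec_ne_zero A (hbne 0))
        obtain ⟨i₁, hi₁⟩ := exists_ne_zero_of_ne_zero (gl_mulVec_ne_zero A (hbne 1))
        have G1 := pureT_cancel_left F1 hi₀
        have G2 := pureT_cancel_left F2 hi₀
        have G3 := pureT_cancel_left F3 hi₁
        have G4 := pureT_cancel_left F4 hi₁
        obtain ⟨j₀, hj₀⟩ := exists_ne_zero_of_ne_zero hw₀
        set t₀ := b 0 i₀ / ((A : Matrix (Fin 2) (Fin 2) F) *ᵥ b 0) i₀ with ht₀
        set t₁ := b 1 i₁ / ((A : Matrix (Fin 2) (Fin 2) F) *ᵥ b 1) i₁ with ht₁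
        have e1 : t₀ = t₁ := by
          have := congrFun (G2.symm.trans G4) j₀
          simp only [Pi.smul_apply, smul_eq_mul] at this
          exact mul_right_cancel₀ hj₀ this
        have e2 : t₀ * s = 0 := by
          have := congrFun (G1.symm.trans G3) j₀
          simp only [Pi.smul_apply, smul_eq_mul, Pi.add_apply] at this
          have h' : (t₀ * s) * w₀ j₀ = 0 := by
            rw [← e1] at this
            linear_combination this
          rcases mul_eq_zero.1 h' with h | h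
          · exact h
          · exact absurd h hj₀
        have e3 : t₀ = 0 := by
          rcases mul_eq_zero.1 e2 with h | h
          · exact h
          · exact absurd h hs0
        rw [e3, zero_smul] at G2
        exact gl_mulVec_ne_zero B' hw₀ G2
  · rw [SetLike.lt_iff_le_and_exists]
    refine ⟨inf_le_right, ?_⟩
    have f00 : f₁ (b 0 + b 1) (b 0 + b 1) = 0 := by
      rw [hH₁.add_left, hH₁.add_right, hH₁.add_right, hbn, hbn, hbo 0 1 (by decide),
        hbo 1 0 (by decide)]
      linear_combination h2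
    have ha : Cfsg.hermForm n F 2 (tensPhi e P (pureT (b 0 + b 1) w₀))
        (tensPhi e P (pureT (b 0 + b 1) w₀)) = 0 := by rw [hB, hw₀₀]; ring
    refine ⟨hH.utv _ 1 ha, ⟨hH.utv_mem_UG _ 1 ha hone, hH.utv_mem_SLe _ 1 ha⟩, ?_⟩
    rintro ⟨hmem, -⟩
    obtain ⟨σ', hσ'⟩ := SympData.mem_stabDec.1 hmem
    obtain ⟨s, hs⟩ : ∃ s : F, s = 1 * (c * (1 * f₂ w₁ w₀)) := ⟨_, rfl⟩
    have hs0 : s ≠ 0 := by
      rw [hs, one_mul, one_mul]; exact mul_ne_zero hc hw₁
    have f1 : f₁ (b 1) (b 0 + b 1) = 1 := by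
      rw [hH₁.add_right, hbo 1 0 (by decide), hbn, zero_add]
    have g1 : (hH.utv _ 1 ha) (tensPhi e P (pureT (b 1) w₁)) =
        tensPhi e P (pureT (b 1) w₁) + s • tensPhi e P (pureT (b 0) w₀) +
          s • tensPhi e P (pureT (b 1) w₀) := by
      rw [hH.utv_apply, hB, f1, ← hs, pureT_add_left, map_add, smul_add, add_assoc]
    have g2 : (hH.utv _ 1 ha) (tensPhi e P (pureT (b 1) w₀)) =
        tensPhi e P (pureT (b 1) w₀) := by
      rw [hH.utv_apply, hB, hw₀₀]
      simp only [mul_zero, zero_smul, add_zero]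
    have m2 : tensPhi e P (pureT (b 1) w₀) ∈ D (σ' 1) := by
      rw [← hσ' 1]
      have := Submodule.mem_map_of_mem (f := ((hH.utv _ 1 ha :
        (Fin n → F) ≃ₗ[F] (Fin n → F)) : (Fin n → F) →ₗ[F] (Fin n → F))) (hDmem 1 w₀)
      rwa [LinearEquiv.coe_coe, g2] at this
    have s2 := hsep 1 (σ' 1) w₀ hw₀ m2
    have m1 : tensPhi e P (pureT (b 1) w₁) + s • tensPhi e P (pureT (b 0) w₀) +
          s • tensPhi e P (pureT (b 1) w₀) ∈ D (σ' 1) := by
      rw [← hσ' 1]
      have := Submodule.mem_map_of_mem (f := ((hH.utv _ 1 ha :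
        (Fin n → F) ≃ₗ[F] (Fin n → F)) : (Fin n → F) →ₗ[F] (Fin n → F))) (hDmem 1 w₁)
      rwa [LinearEquiv.coe_coe, g1] at this
    rw [← s2, hD] at m1
    obtain ⟨v', hv'⟩ := mem_tensD.1 m1
    have h1 : Cfsg.hermForm n F 2 (tensPhi e P (pureT (b 1) v')) (tensPhi e P (pureT (b 0) w₁)) = 0 := by
      rw [hB, hbo 1 0 (by decide)]; ring
    rw [hv'] at h1
    simp only [hH.add_left, hH.smul_left, hB, hbn, hbo 1 0 (by decide), hbo 0 1 (by decide),
      mul_zero, zero_mul, add_zero, zero_add, one_mul] at h1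
    have : s * (c * f₂ w₀ w₁) ≠ 0 := mul_ne_zero hs0 (mul_ne_zero hc hw₀₁)
    exact this h1

end Cfsg.Agent.Lib.Helper94
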