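import Cfsg.Agent.Lib.Helper99.KSL.Defs

/-!
# KSL-[NUM-LARGE] (helper94, hedge): the crude bound for `n ≥ 5` (sheet KSL of helper99, S2479)
-/

set_option autoImplicit false

universe u

namespace Cfsg.Agent.Lib.Helper99.KSL

open Polynomial Finset DirectSum
open Cfsg.Agent.Lib.Helper99.GLClass

/-- the gcd of the block sizes divides `n` -/
theorem numLarge_dgcd_dvd {n : ℕ} (d : Fin n → ℕ) (hd : d ∈ degSeq n) : dgcd d ∣ n := by
  have hsum : ∑ j : Fin n, ((j : ℕ) + 1) * d j = n := by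
    unfold degSeq at hd
    exact (Finset.mem_filter.1 hd).2
  have h : dgcd d ∣ ∑ j : Fin n, ((j : ℕ) + 1) * d j := by
    apply Finset.dvd_sum
    intro j _
    by_cases hj : d j = 0
    · rw [hj, mul_zero]; exact dvd_zero _
    · apply Dvd.dvd.mul_right
      unfold dgcd
      exact Finset.gcd_dvd (by simp [hj])
  rwa [hsum] at h

theorem numLarge_geom (q M : ℕ) (hq : 1 ≤ q) :
    (q - 1) * ∑ m ∈ Finset.Icc 1 M, q ^ m + q = q ^ (M + 1) := by
  induction M with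
  | zero => simp
  | succ M ih =>
    rw [Finset.sum_Icc_succ_top (by omega), mul_add, add_right_comm, ih]
    obtain ⟨r, rfl⟩ : ∃ r, q = r + 1 := ⟨q - 1, by omega⟩
    simp only [Nat.add_sub_cancel]
    ring

theorem numLarge_final (q n : ℕ) (hq : 2 ≤ q) (hn : 5 ≤ n) :
    q ^ n + (q - 1) * q ^ (n - 2) ≤ (q - 1) * (q ^ (n - 1) + 3 * q ^ (n - 2)) := by
  obtain ⟨k, rfl⟩ : ∃ k, n = k + 2 := ⟨n - 2, by omega⟩
  obtain ⟨s, rfl⟩ : ∃ s, q = s + 2 := ⟨q - 2, by omega⟩
  have e1 : s + 2 - 1 = s + 1 := by omega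
  have e2 : k + 2 - 1 = k + 1 := by omega
  have e3 : k + 2 - 2 = k := by omega
  rw [e1, e2, e3]
  have h1 : (s + 2) ^ (k + 2) = (s + 2) ^ k * ((s + 2) * (s + 2)) := by ring
  have h2 : (s + 2) ^ (k + 1) = (s + 2) ^ k * (s + 2) := by ring
  rw [h1, h2]
  generalize (s + 2) ^ k = Q
  nlinarith [Nat.zero_le (Q * s), Nat.zero_le Q]

/-- the arithmetic core of [NUM-LARGE], for a natural number `q ≥ 2` -/
theorem numLarge_core (q n : ℕ) (hq : 2 ≤ q) (hn : 5 ≤ n)
    (hsum : ∀ γ : ℕ, 1 ≤ γ → γ ∣ n →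
      ∑ d ∈ (degSeq n).filter (fun d => γ ∣ dgcd d), w q d ≤ q ^ (n / γ)) :
    ∑ d ∈ degSeq n, w q d * gd q d ^ 2 ≤ (q - 1) * (q ^ (n - 1) + 3 * q ^ (n - 2)) := by
  classical
  set Γ : Finset ℕ := n.divisors.filter (fun γ => 2 ≤ γ) with hΓ
  have hterm : ∀ d ∈ degSeq n, w q d * gd q d ^ 2 ≤
      w q d + (q - 1) ^ 2 * ∑ γ ∈ Γ, (if γ ∣ dgcd d then w q d else 0) := by
    intro d hd
    have hg1 : gd q d ∣ q - 1 := Nat.gcd_dvd_left _ _
    have hg2 : gd q d ∣ dgcd d := Nat.gcd_dvd_right _ _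
    have hgle : gd q d ≤ q - 1 := Nat.le_of_dvd (by omega) hg1
    have hgpos : 0 < gd q d := Nat.pos_of_dvd_of_pos hg1 (by omega)
    by_cases h1 : gd q d = 1
    · rw [h1]; simp
    · have h2 : 2 ≤ gd q d := by omega
      have hmem : gd q d ∈ Γ := by
        rw [hΓ, Finset.mem_filter, Nat.mem_divisors]
        exact ⟨⟨hg2.trans (numLarge_dgcd_dvd d hd), by omega⟩, h2⟩
      have hs : w q d ≤ ∑ γ ∈ Γ, (if γ ∣ dgcd d then w q d else 0) := by
        have := Finset.single_le_sum (f := fun γ => if γ ∣ dgcd d then w q d else 0)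
          (fun _ _ => Nat.zero_le _) hmem
        simpa [hg2] using this
      calc w q d * gd q d ^ 2 ≤ w q d * (q - 1) ^ 2 :=
            Nat.mul_le_mul_left _ (Nat.pow_le_pow_left hgle 2)
        _ = (q - 1) ^ 2 * w q d := mul_comm _ _
        _ ≤ (q - 1) ^ 2 * ∑ γ ∈ Γ, (if γ ∣ dgcd d then w q d else 0) := Nat.mul_le_mul_left _ hs
        _ ≤ _ := Nat.le_add_left _ _
  have hA : ∑ d ∈ degSeq n, w q d ≤ q ^ n := by
    have := hsum 1 le_rfl (one_dvd n)
    rw [Finset.filter_true_of_mem (fun d _ => one_dvd _), Nat.div_one] at this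
    exact this
  have hB : ∑ d ∈ degSeq n, ∑ γ ∈ Γ, (if γ ∣ dgcd d then w q d else 0) ≤
      ∑ m ∈ Finset.Icc 1 (n / 2), q ^ m := by
    rw [Finset.sum_comm]
    calc ∑ γ ∈ Γ, ∑ d ∈ degSeq n, (if γ ∣ dgcd d then w q d else 0)
        = ∑ γ ∈ Γ, ∑ d ∈ (degSeq n).filter (fun d => γ ∣ dgcd d), w q d := by
          apply Finset.sum_congr rfl
          intro γ _
          rw [Finset.sum_filter]
      _ ≤ ∑ γ ∈ Γ, q ^ (n / γ) := by
          apply Finset.sum_le_sum
          intro γ hγ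
          rw [hΓ, Finset.mem_filter, Nat.mem_divisors] at hγ
          exact hsum γ (by omega) hγ.1.1
      _ = ∑ m ∈ Γ.image (fun γ => n / γ), q ^ m := by
          rw [Finset.sum_image]
          intro γ hγ γ' hγ' h
          rw [Finset.mem_coe, hΓ, Finset.mem_filter, Nat.mem_divisors] at hγ hγ'
          have e1 : γ * (n / γ) = n := Nat.mul_div_cancel' hγ.1.1
          have e2 : γ' * (n / γ') = n := Nat.mul_div_cancel' hγ'.1.1
          have hpos : 0 < n / γ := Nat.div_pos (Nat.le_of_dvd (by omega) hγ.1.1) (by omega)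
          have h' : n / γ = n / γ' := h
          rw [← h'] at e2
          exact Nat.eq_of_mul_eq_mul_right hpos (e1.trans e2.symm)
      _ ≤ ∑ m ∈ Finset.Icc 1 (n / 2), q ^ m := by
          apply Finset.sum_le_sum_of_subset
          intro m hm
          rw [Finset.mem_image] at hm
          obtain ⟨γ, hγ, rfl⟩ := hm
          rw [hΓ, Finset.mem_filter, Nat.mem_divisors] at hγ
          rw [Finset.mem_Icc]
          exact ⟨Nat.div_pos (Nat.le_of_dvd (by omega) hγ.1.1) (by omega),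
            Nat.div_le_div_left hγ.2 (by omega)⟩
  have hgeo := numLarge_geom q (n / 2) (by omega)
  have hpow : q ^ (n / 2 + 1) ≤ q ^ (n - 2) := Nat.pow_le_pow_right (by omega) (by omega)
  calc ∑ d ∈ degSeq n, w q d * gd q d ^ 2
      ≤ ∑ d ∈ degSeq n, (w q d + (q - 1) ^ 2 * ∑ γ ∈ Γ, (if γ ∣ dgcd d then w q d else 0)) :=
        Finset.sum_le_sum hterm
    _ = ∑ d ∈ degSeq n, w q d +
        (q - 1) ^ 2 * ∑ d ∈ degSeq n, ∑ γ ∈ Γ, (if γ ∣ dgcd d then w q d else 0) := by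
        rw [Finset.sum_add_distrib, Finset.mul_sum]
    _ ≤ q ^ n + (q - 1) ^ 2 * ∑ m ∈ Finset.Icc 1 (n / 2), q ^ m :=
        Nat.add_le_add hA (Nat.mul_le_mul_left _ hB)
    _ = q ^ n + (q - 1) * ((q - 1) * ∑ m ∈ Finset.Icc 1 (n / 2), q ^ m) := by ring
    _ ≤ q ^ n + (q - 1) * q ^ (n / 2 + 1) := by
        apply Nat.add_le_add_left
        apply Nat.mul_le_mul_left
        omega
    _ ≤ q ^ n + (q - 1) * q ^ (n - 2) :=
        Nat.add_le_add_left (Nat.mul_le_mul_left _ hpow) _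
    _ ≤ _ := numLarge_final q n hq hn

section field

variable {F : Type u} [Field F] [Fintype F]

/-- **[NUM-LARGE]** relative to the Skel statement of [SUM-W] -/
theorem num_large_of
    (hsumw : ∀ (n γ : ℕ), 1 ≤ n → 1 ≤ γ → γ ∣ n →
      ∑ d ∈ (degSeq n).filter (fun d => γ ∣ dgcd d), w (Fintype.card F) d ≤
        Fintype.card F ^ (n / γ))
    (n : ℕ) (hn : 5 ≤ n) :
    ∑ d ∈ degSeq n, w (Fintype.card F) d * gd (Fintype.card F) d ^ 2 ≤
      (Fintype.card F - 1) * (Fintype.card F ^ (n - 1) + 3 * Fintype.card F ^ (n - 2)) :=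
  numLarge_core (Fintype.card F) n Fintype.one_lt_card hn
    (fun γ h1 h2 => hsumw n γ (by omega) h1 h2)

end field

end Cfsg.Agent.Lib.Helper99.KSL
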