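/-
Helper94: in odd characteristic the Dickson parity of an isometry is detected by the determinant.
-/
import Mathlib
import Cfsg.Agent.Lib.Helper94.MaxSingularBridge
import Cfsg.Agent.Lib.Helper13.Orth

set_option autoImplicit false
set_option linter.unusedSectionVars false
set_option linter.unusedVariables false

namespace Cfsg.Agent.Lib.Helper94

open scoped MatrixGroups Matrix
open Module Cfsg.Agent.Lib.Helper13

variable {ι : Type} [Fintype ι] [DecidableEq ι] {F : Type*} [Field F]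

/-- the determinant of a reflection, as a linear map -/
lemma det_of_mem_reflSet (Q : QuadraticForm F (ι → F)) (T : (ι → F) ≃ₗ[F] (ι → F))
    (hT : T ∈ reflSet Q) : LinearMap.det (T : (ι → F) →ₗ[F] (ι → F)) = -1 := by
  obtain ⟨v, hv, hTv⟩ := hT
  have h1 : (T : (ι → F) →ₗ[F] (ι → F)) = Matrix.toLin' (Cfsg.reflectionMatrix (⇑Q) v) := by
    apply LinearMap.ext
    intro z
    show T z = _
    rw [hTv, Matrix.toLin'_apply, reflectionMatrix_mulVec, reflLin_apply]
  rw [h1, LinearMap.det_toLin', reflectionMatrix_det Q v hv]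

/-- determinant and parity agree on the group generated by reflections -/
lemma det_par_of_mem_reflGroup (Q : QuadraticForm F (ι → F))
    (hQ : (QuadraticMap.polarBilin Q).Nondegenerate) (x : (ι → F) ≃ₗ[F] (ι → F))
    (hx : x ∈ reflGroup Q) :
    (LinearMap.det (x : (ι → F) →ₗ[F] (ι → F)) = 1 ∧ par x = 0) ∨
      (LinearMap.det (x : (ι → F) →ₗ[F] (ι → F)) = -1 ∧ par x = 1) := by
  have h11 : (1 : ZMod 2) + 1 = 0 := by decide
  unfold reflGroup at hx
  induction hx using Subgroup.closure_induction with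
  | mem T hT =>
    right
    exact ⟨det_of_mem_reflSet Q T hT, par_refl Q hQ T hT⟩
  | one =>
    left
    refine ⟨?_, par_one⟩
    show LinearMap.det (LinearMap.id : (ι → F) →ₗ[F] (ι → F)) = 1
    exact LinearMap.det_id
  | mul a b ha hb iha ihb =>
    have hb' : b ∈ isoGroup Q := reflGroup_le_isoGroup Q hb
    have hmul : ((a * b : (ι → F) ≃ₗ[F] (ι → F)) : (ι → F) →ₗ[F] (ι → F))
        = (a : (ι → F) →ₗ[F] (ι → F)) * (b : (ι → F) →ₗ[F] (ι → F)) := rfl
    rw [hmul, map_mul, par_mul Q hQ a ha b hb']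
    rcases iha with ⟨h1, h2⟩ | ⟨h1, h2⟩ <;> rcases ihb with ⟨h3, h4⟩ | ⟨h3, h4⟩ <;>
      rw [h1, h2, h3, h4]
    · left; exact ⟨by ring, by ring⟩
    · right; exact ⟨by ring, by ring⟩
    · right; exact ⟨by ring, by ring⟩
    · left; exact ⟨by ring, h11⟩
  | inv a ha iha =>
    have ha' : a ∈ isoGroup Q := reflGroup_le_isoGroup Q ha
    have hp := par_mul Q hQ a ha a⁻¹ (Subgroup.inv_mem _ ha')
    rw [mul_inv_cancel, par_one] at hp
    have hd : LinearMap.det (a : (ι → F) →ₗ[F] (ι → F))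
        * LinearMap.det ((a⁻¹ : (ι → F) ≃ₗ[F] (ι → F)) : (ι → F) →ₗ[F] (ι → F)) = 1 := by
      rw [← map_mul]
      have : (a : (ι → F) →ₗ[F] (ι → F)) * ((a⁻¹ : (ι → F) ≃ₗ[F] (ι → F)) : (ι → F) →ₗ[F] (ι → F))
          = LinearMap.id := by
        apply LinearMap.ext
        intro z
        show a (a⁻¹ z) = z
        exact a.apply_symm_apply z
      rw [this, LinearMap.det_id]
    rcases iha with ⟨h1, h2⟩ | ⟨h1, h2⟩
    · left
      rw [h1, one_mul] at hd
      rw [h2, zero_add] at hp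
      exact ⟨hd, hp.symm⟩
    · right
      rw [h1] at hd
      rw [h2] at hp
      refine ⟨by linear_combination -hd, ?_⟩
      linear_combination -hp - h11

/-- in odd characteristic, `par = 0` iff `det = 1` -/
lemma par_eq_zero_iff_det [FiniteDimensional F (ι → F)] (Q : QuadraticForm F (ι → F))
    (hQ : (QuadraticMap.polarBilin Q).Nondegenerate)
    (hF : (∀ a b : F, ∃ x : F, x ≠ a ∧ x ≠ b) ∨ Module.finrank F (ι → F) ≠ 4)
    (h2 : (2 : F) ≠ 0) (x : (ι → F) ≃ₗ[F] (ι → F)) (hx : x ∈ isoGroup Q) :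
    par x = 0 ↔ LinearMap.det (x : (ι → F) →ₗ[F] (ι → F)) = 1 := by
  have hne : (-1 : F) ≠ 1 := by
    intro h
    apply h2
    linear_combination -h
  rcases det_par_of_mem_reflGroup Q hQ x (isometry_mem_reflGroup Q hQ hF x hx) with ⟨h1, h3⟩ | ⟨h1, h3⟩
  · rw [h1, h3]
    simp
  · rw [h1, h3]
    constructor
    · intro h
      exact absurd h (by decide)
    · intro h
      exact absurd h hne

end Cfsg.Agent.Lib.Helper94
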