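/-
Helper94: the standard maximal totally singular subspace `U₀ = {y = 0}` of the hyperbolic form
`Σ x_i y_i` and the Dickson parity of isometries of `Cfsg.quadFormPlus`.
-/
import Mathlib
import Cfsg.Agent.Lib.Helper94.MaxSingularBridge

set_option autoImplicit false
set_option linter.unusedSectionVars false
set_option linter.unusedVariables false

namespace Cfsg.Agent.Lib.Helper94

open scoped MatrixGroups Matrix
open scoped commutatorElement
open Module

variable (m : ℕ) (F : Type*) [Field F]

/-- The polar form of the plus form. -/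
def plusBil : LinearMap.BilinForm F (Fin m ⊕ Fin m → F) :=
  LinearMap.mk₂ F (fun u v => ∑ i : Fin m, (u (Sum.inl i) * v (Sum.inr i) + v (Sum.inl i) * u (Sum.inr i)))
    (by
      intro u u' v
      rw [← Finset.sum_add_distrib]
      apply Finset.sum_congr rfl
      intro i _
      simp only [Pi.add_apply]
      ring)
    (by
      intro c u v
      rw [smul_eq_mul, Finset.mul_sum]
      apply Finset.sum_congr rfl
      intro i _
      simp only [Pi.smul_apply, smul_eq_mul]
      ring)
    (by
      intro u v v'
      rw [← Finset.sum_add_distrib]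
      apply Finset.sum_congr rfl
      intro i _
      simp only [Pi.add_apply]
      ring)
    (by
      intro c u v
      rw [smul_eq_mul, Finset.mul_sum]
      apply Finset.sum_congr rfl
      intro i _
      simp only [Pi.smul_apply, smul_eq_mul]
      ring)

theorem plusBil_apply (u v : Fin m ⊕ Fin m → F) :
    plusBil m F u v = ∑ i : Fin m, (u (Sum.inl i) * v (Sum.inr i) + v (Sum.inl i) * u (Sum.inr i)) :=
  rfl

/-- The plus form as a quadratic form. -/
def plusQF : QuadraticForm F (Fin m ⊕ Fin m → F) where
  toFun := Cfsg.quadFormPlus m F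
  toFun_smul := by
    intro a x
    unfold Cfsg.quadFormPlus
    rw [smul_eq_mul, Finset.mul_sum]
    apply Finset.sum_congr rfl
    intro i _
    simp only [Pi.smul_apply, smul_eq_mul]
    ring
  exists_companion' := ⟨plusBil m F, by
    intro x y
    rw [plusBil_apply]
    unfold Cfsg.quadFormPlus
    rw [← Finset.sum_add_distrib, ← Finset.sum_add_distrib]
    apply Finset.sum_congr rfl
    intro i _
    simp only [Pi.add_apply]
    ring⟩

theorem plusQF_polar (u v : Fin m ⊕ Fin m → F) :
    QuadraticMap.polar (⇑(plusQF m F)) u v = plusBil m F u v := by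
  show Cfsg.quadFormPlus m F (u + v) - Cfsg.quadFormPlus m F u - Cfsg.quadFormPlus m F v = _
  rw [plusBil_apply]
  unfold Cfsg.quadFormPlus
  rw [← Finset.sum_sub_distrib, ← Finset.sum_sub_distrib]
  apply Finset.sum_congr rfl
  intro i _
  simp only [Pi.add_apply]
  ring

theorem plusQF_nondeg : (QuadraticMap.polarBilin (plusQF m F)).Nondegenerate := by
  classical
  have hleft : ∀ x : Fin m ⊕ Fin m → F,
      (∀ y, QuadraticMap.polar (⇑(plusQF m F)) x y = 0) → x = 0 := by
    intro x hx
    funext j
    rcases j with j | j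
    · have h := hx (Pi.single (Sum.inr j) 1)
      rw [plusQF_polar, plusBil_apply, Finset.sum_eq_single j] at h
      · simpa using h
      · intro i _ hij
        simp [hij]
      · intro h'
        exact absurd (Finset.mem_univ j) h'
    · have h := hx (Pi.single (Sum.inl j) 1)
      rw [plusQF_polar, plusBil_apply, Finset.sum_eq_single j] at h
      · simpa using h
      · intro i _ hij
        simp [hij]
      · intro h'
        exact absurd (Finset.mem_univ j) h'
  constructor
  · intro x hx
    exact hleft x hx
  · intro y hy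
    apply hleft y
    intro x
    rw [QuadraticMap.polar_comm]
    exact hy x

/-- the subspace `{y = 0}` -/
def U0 : Submodule F (Fin m ⊕ Fin m → F) :=
  LinearMap.ker (LinearMap.funLeft F F (Sum.inr : Fin m → Fin m ⊕ Fin m))

lemma mem_U0 (v : Fin m ⊕ Fin m → F) : v ∈ U0 m F ↔ ∀ i, v (Sum.inr i) = 0 := by
  unfold U0
  rw [LinearMap.mem_ker]
  constructor
  · intro h i
    exact congrFun h i
  · intro h
    funext i
    exact h i

lemma U0_singular : ∀ u ∈ U0 m F, plusQF m F u = 0 := by
  intro u hu
  rw [mem_U0] at hu
  show Cfsg.quadFormPlus m F u = 0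
  unfold Cfsg.quadFormPlus
  apply Finset.sum_eq_zero
  intro i _
  rw [hu i, mul_zero]

lemma finrank_plusSpace : finrank F (Fin m ⊕ Fin m → F) = 2 * m := by
  rw [Module.finrank_fintype_fun_eq_card, Fintype.card_sum, Fintype.card_fin]
  ring

lemma finrank_U0 : finrank F (U0 m F) = m := by
  have h := LinearMap.finrank_range_add_finrank_ker
    (LinearMap.funLeft F F (Sum.inr : Fin m → Fin m ⊕ Fin m))
  have hsurj : Function.Surjective (LinearMap.funLeft F F (Sum.inr : Fin m → Fin m ⊕ Fin m)) :=
    LinearMap.funLeft_surjective_of_injective F F _ Sum.inr_injective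
  rw [LinearMap.range_eq_top.2 hsurj, finrank_top, Module.finrank_fintype_fun_eq_card,
    Fintype.card_fin, finrank_plusSpace] at h
  unfold U0
  omega

/-- the Dickson parity of an isometry of the hyperbolic form, via `U₀` -/
theorem par_glEquiv_eq (g : ↥(Cfsg.isometryGroup F (Cfsg.quadFormPlus m F))) :
    Cfsg.Agent.Lib.Helper13.par (glEquiv (Fin m ⊕ Fin m) F (g : GL (Fin m ⊕ Fin m) F))
      = ((m - finrank F (U0 m F ⊓ (U0 m F).map (Matrix.mulVecLin
          ((g : GL (Fin m ⊕ Fin m) F) : Matrix (Fin m ⊕ Fin m) (Fin m ⊕ Fin m) F)) :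
            Submodule F (Fin m ⊕ Fin m → F)) : ℕ) : ZMod 2) := by
  have hmem : glEquiv (Fin m ⊕ Fin m) F (g : GL (Fin m ⊕ Fin m) F)
      ∈ Cfsg.Agent.Lib.Helper13.isoGroup (plusQF m F) := by
    rw [← OG_eq_isoGroup]
    exact glEquiv_mem_OG _ g
  have h := par_eq_of_max_singular (plusQF m F) (plusQF_nondeg m F) (U0 m F) (U0_singular m F)
    (by rw [finrank_U0, finrank_plusSpace]) _ hmem
  rw [glEquiv_coe, finrank_U0] at h
  exact h

end Cfsg.Agent.Lib.Helper94
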