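/-
Helper94: overgroups of the rational orthogonal group (continuing helper95's `OSub` library),
part E1 (tight case, any characteristic): an element of `M` mapping one rational singular point
to a rational point is rational (propagation); the case of a quadratic extension.
-/
import Mathlib
import Cfsg.Agent.Lib.Helper95.OSubN

set_option autoImplicit false
set_option linter.unusedSimpArgs false
set_option linter.unusedSectionVars false
set_option linter.unusedVariables false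

namespace Cfsg.Agent.Lib.Helper94.OSubE

open LinearMap (BilinForm)
open Module
open Cfsg.Agent.Lib.Helper94 Cfsg.Agent.Lib.Helper94.QuadData Cfsg.Agent.Lib.Helper44
open Cfsg.Agent.Lib.Helper95.OSub
open scoped commutatorElement

variable {F : Type*} [Field F] {V : Type*} [AddCommGroup V] [Module F V]
variable {F₀ : Subfield F} {W : Type*} [AddCommGroup W] [Module F₀ W]
variable {B : BilinForm F V} {Q : V → F} {Q₀ : QuadraticForm F₀ W} {ρ : W → V}

local notation "pol" => QuadraticMap.polar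

/-- a singular point two of whose root elements are rational is a rational point -/
lemma point_of_rat1 (R : OSet B Q Q₀ ρ) {a e' f' : V} (ha : Q a = 0) (he : Q e' = 0)
    (hf : Q f' = 0) (hae : B a e' = 0) (hfa : B f' a = 0) (hfe : B f' e' = 1) (ha0 : a ≠ 0)
    (r₁ : Rat1 ρ (siegel B Q a e')) (r₂ : Rat1 ρ (siegel B Q f' a)) :
    ∃ (l : F) (p' : W), a = l • ρ p' := by
  have hBaa : B a a = 0 := sing_self R.hQ ha
  obtain ⟨w, hw⟩ : ∃ w : W, B a (ρ w) ≠ 0 := by
    by_contra hcon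
    push Not at hcon
    exact ha0 (R.sep hcon)
  obtain ⟨w₂, hw₂⟩ := r₂ w
  rw [siegel_apply R.hQ hf ha hfa] at hw₂
  obtain ⟨β, hβ⟩ : ∃ β : F, β = B (ρ w) a := ⟨_, rfl⟩
  obtain ⟨α, hα⟩ : ∃ α : F, α = B (ρ w) f' := ⟨_, rfl⟩
  have hβ0 : β ≠ 0 := by rw [hβ, R.hQ.symm]; exact hw
  rw [← hβ, ← hα] at hw₂
  have hu : ρ (w₂ - w) = α • a - β • f' := by
    rw [R.sub, ← hw₂]; abel
  obtain ⟨u₁, hu₁⟩ := r₁ (w₂ - w)
  rw [siegel_apply R.hQ ha he hae, hu] at hu₁
  have e1 : B (α • a - β • f') a = 0 := by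
    simp only [map_sub, map_smul, LinearMap.sub_apply, LinearMap.smul_apply, hBaa, hfa,
      smul_eq_mul, mul_zero, sub_zero]
  have e2 : B (α • a - β • f') e' = -β := by
    simp only [map_sub, map_smul, LinearMap.sub_apply, LinearMap.smul_apply, hae, hfe,
      smul_eq_mul, mul_zero, mul_one, zero_sub]
  rw [e1, e2, zero_smul, add_zero, ← hu] at hu₁
  have e3 : β • a = ρ (u₁ - (w₂ - w)) := by
    rw [R.sub u₁, ← hu₁]
    simp only [neg_smul]
    abel
  refine ⟨β⁻¹, u₁ - (w₂ - w), ?_⟩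
  rw [← e3, smul_smul, inv_mul_cancel₀ hβ0, one_smul]

/-- the image of a rational singular point, if a multiple of a rational vector, is a rational
singular point -/
lemma img_point_facts (R : OSet B Q Q₀ ρ) {g : V ≃ₗ[F] V} (hgO : g ∈ OG Q) {c c' : W} {l : F}
    (hc : Q₀ c = 0) (hc0 : c ≠ 0) (hgc : g (ρ c) = l • ρ c') : l ≠ 0 ∧ c' ≠ 0 ∧ Q₀ c' = 0 := by
  have hne : g (ρ c) ≠ 0 := by
    intro h0
    exact R.ne_zero hc0 (g.injective (h0.trans (map_zero g).symm))
  have hl : l ≠ 0 := by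
    rintro rfl
    rw [zero_smul] at hgc
    exact hne hgc
  have hc'0 : c' ≠ 0 := by
    rintro rfl
    rw [R.zero, smul_zero] at hgc
    exact hne hgc
  refine ⟨hl, hc'0, ?_⟩
  have := hgO (ρ c)
  rw [hgc, R.hQ.smul, R.sing hc, R.quad] at this
  have h3 : ((Q₀ c' : F₀) : F) = 0 := by
    rcases mul_eq_zero.1 this with h | h
    · exact absurd ((pow_eq_zero_iff two_ne_zero).1 h) hl
    · exact h
  exact_mod_cast h3

section Main

variable [Finite F₀] [FiniteDimensional F₀ W]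
variable (R : OSet B Q Q₀ ρ) (h13 : 13 ≤ finrank F₀ W) {M : Subgroup (V ≃ₗ[F] V)}
  (hM : Over Q ρ M) (hT : Tight B Q Q₀ ρ M)

include R h13 hM hT in
/-- the images of the rational singular lines through a good point are rational lines -/
lemma line_of_point {g : V ≃ₗ[F] V} (hg : g ∈ M) {c c' : W} {l : F} (hc : Q₀ c = 0)
    (hc0 : c ≠ 0) (hgc : g (ρ c) = l • ρ c') {t : W} (ht : Q₀ t = 0)
    (htc : pol (⇑Q₀) t c = 0) : ∃ (w : W) (κ : F), l • g (ρ t) = ρ w + κ • ρ c' := by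
  have hgO : g ∈ OG Q := commutator_le_OG (hM.le hg)
  obtain ⟨hl, hc'0, hc'⟩ := img_point_facts R hgO hc hc0 hgc
  have h1 : siegel B Q (g (ρ t)) (g (ρ c)) ∈ M := by
    rw [← conj_siegel R.hQ hgO (R.sing ht) (R.sing hc) (R.orth htc)]
    exact mul_mem (mul_mem hg (ratSiegel_mem R h13 hM ht hc htc)) (inv_mem hg)
  have hQt : Q (g (ρ t)) = 0 := by rw [hgO (ρ t)]; exact R.sing ht
  have hBtc : B (g (ρ t)) (ρ c') = 0 := by
    have e1 : B (g (ρ t)) (g (ρ c)) = 0 := by rw [R.hQ.B_map hgO]; exact R.orth htc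
    rw [hgc, map_smul, smul_eq_mul] at e1
    rcases mul_eq_zero.1 e1 with h | h
    · exact absurd h hl
    · exact h
  rw [hgc, ← siegel_smul R.hQ hQt (R.sing hc') hBtc l] at h1
  exact tight_radical R h13 hM hT hc' hc'0 (sing_smul R.hQ hQt l)
    (by rw [map_smul, LinearMap.smul_apply, hBtc, smul_zero]) h1

include R h13 hM hT in
/-- **propagation**: an element of `M` mapping a rational singular point to a rational point is
rational -/
theorem ratU_of_point {g : V ≃ₗ[F] V} (hg : g ∈ M) {c c' : W} {l : F} (hc : Q₀ c = 0)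
    (hc0 : c ≠ 0) (hgc : g (ρ c) = l • ρ c') : RatU ρ g := by
  have pc := QuadraticMap.polar_comm (⇑Q₀)
  have hgO : g ∈ OG Q := commutator_le_OG (hM.le hg)
  obtain ⟨hl, hc'0, hc'⟩ := img_point_facts R hgO hc hc0 hgc
  have hstep : ∀ t : W, Q₀ t = 0 → t ≠ 0 → pol (⇑Q₀) t c = 0 →
      ∃ (lt : F) (t' : W), g (ρ t) = lt • ρ t' := by
    intro t ht ht0 htc
    obtain ⟨e, f, -, -, h1, -⟩ := exists_hyp2 Q₀ R.nd₀ h13 (Submodule.span F₀ {c, t})
      ((finrank_span_pair_le c t).trans (by norm_num))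
    obtain ⟨he, hf, hef, hS⟩ := h1
    have hcS : c ∈ Submodule.span F₀ ({c, t} : Set W) := Submodule.subset_span (by simp)
    have htS : t ∈ Submodule.span F₀ ({c, t} : Set W) := Submodule.subset_span (by simp)
    obtain ⟨wt, κt, hwt⟩ := line_of_point R h13 hM hT hg hc hc0 hgc ht htc
    obtain ⟨we, κe, hwe⟩ := line_of_point R h13 hM hT hg hc hc0 hgc he
      (by rw [pc]; exact (hS c hcS).1)
    obtain ⟨wf, κf, hwf⟩ := line_of_point R h13 hM hT hg hc hc0 hgc hf
      (by rw [pc]; exact (hS c hcS).2)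
    obtain ⟨s, s', -, -, h2, -⟩ := exists_hyp2 Q₀ R.nd₀ h13
      (Submodule.span F₀ {c', wt} ⊔ Submodule.span F₀ {we, wf}) (finrank_span_four_le c' wt we wf)
    obtain ⟨hs, hs', hss', hS'⟩ := h2
    have hc'S : c' ∈ (Submodule.span F₀ {c', wt} ⊔ Submodule.span F₀ {we, wf} :
        Submodule F₀ W) := Submodule.mem_sup_left (Submodule.subset_span (by simp))
    have hwtS : wt ∈ (Submodule.span F₀ {c', wt} ⊔ Submodule.span F₀ {we, wf} :
        Submodule F₀ W) := Submodule.mem_sup_left (Submodule.subset_span (by simp))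
    have hweS : we ∈ (Submodule.span F₀ {c', wt} ⊔ Submodule.span F₀ {we, wf} :
        Submodule F₀ W) := Submodule.mem_sup_right (Submodule.subset_span (by simp))
    have hwfS : wf ∈ (Submodule.span F₀ {c', wt} ⊔ Submodule.span F₀ {we, wf} :
        Submodule F₀ W) := Submodule.mem_sup_right (Submodule.subset_span (by simp))
    have key : ∀ (x w y : W) (κ : F), l • g (ρ x) = ρ w + κ • ρ c' → pol (⇑Q₀) w y = 0 →
        pol (⇑Q₀) c' y = 0 → B (g (ρ x)) (ρ y) = 0 := by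
      intro x w y κ hx hwy hcy
      have e1 : B (l • g (ρ x)) (ρ y) = 0 := by
        rw [hx, map_add, map_smul, LinearMap.add_apply, LinearMap.smul_apply, R.orth hwy,
          R.orth hcy, smul_zero, add_zero]
      rw [map_smul, LinearMap.smul_apply, smul_eq_mul] at e1
      rcases mul_eq_zero.1 e1 with h | h
      · exact absurd h hl
      · exact h
    exact image_trick R h13 hM hT hg ht ht0 he hf hef (hS t htS).1 (hS t htS).2 hs hs' hss'
      (key _ _ _ _ hwt (hS' wt hwtS).1 (hS' c' hc'S).1)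
      (key _ _ _ _ hwt (hS' wt hwtS).2 (hS' c' hc'S).2)
      (key _ _ _ _ hwe (hS' we hweS).1 (hS' c' hc'S).1)
      (key _ _ _ _ hwe (hS' we hweS).2 (hS' c' hc'S).2)
      (key _ _ _ _ hwf (hS' wf hwfS).1 (hS' c' hc'S).1)
      (key _ _ _ _ hwf (hS' wf hwfS).2 (hS' c' hc'S).2)
  obtain ⟨s, s', -, -, h1, -⟩ := exists_hyp2 Q₀ R.nd₀ h13 (Submodule.span F₀ {c, c})
    ((finrank_span_pair_le c c).trans (by norm_num))
  obtain ⟨hs, hs', hss', hS⟩ := h1
  have hcS : c ∈ Submodule.span F₀ ({c, c} : Set W) := Submodule.subset_span (by simp)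
  have hs0 : s ≠ 0 := by
    rintro rfl
    rw [QuadraticMap.polar_zero_left] at hss'
    exact zero_ne_one hss'
  have hs'0 : s' ≠ 0 := by
    rintro rfl
    rw [QuadraticMap.polar_zero_right] at hss'
    exact zero_ne_one hss'
  obtain ⟨l₁, s₁, h₁⟩ := hstep s hs hs0 (by rw [pc]; exact (hS c hcS).1)
  obtain ⟨l₂, s₂, h₂⟩ := hstep s' hs' hs'0 (by rw [pc]; exact (hS c hcS).2)
  exact ratU_of_pair R h13 hM hT hg hs hs' hss' h₁ h₂

include R h13 hM hT in
/-- **the quadratic case**: if every vector is `ρ a + θ • ρ b`, the tight case gives `M` rational -/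
theorem tight_le_quad (θ : F) (hθ : ∀ v : V, ∃ a b : W, v = ρ a + θ • ρ b) {g : V ≃ₗ[F] V}
    (hg : g ∈ M) : RatU ρ g := by
  have pc := QuadraticMap.polar_comm (⇑Q₀)
  have hgO : g ∈ OG Q := commutator_le_OG (hM.le hg)
  -- all root elements of `M` are rational
  have hroot : ∀ u v : V, Q u = 0 → Q v = 0 → B u v = 0 → siegel B Q u v ∈ M →
      Rat1 ρ (siegel B Q u v) := by
    intro u v hu hv huv hy
    obtain ⟨a₁, b₁, h1⟩ := hθ u
    obtain ⟨a₂, b₂, h2⟩ := hθ v
    obtain ⟨s, s', -, -, h3, -⟩ := exists_hyp2 Q₀ R.nd₀ h13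
      (Submodule.span F₀ {a₁, b₁} ⊔ Submodule.span F₀ {a₂, b₂}) (finrank_span_four_le a₁ b₁ a₂ b₂)
    obtain ⟨hs, hs', hss', hS⟩ := h3
    have ha₁S : a₁ ∈ (Submodule.span F₀ {a₁, b₁} ⊔ Submodule.span F₀ {a₂, b₂} :
        Submodule F₀ W) := Submodule.mem_sup_left (Submodule.subset_span (by simp))
    have hb₁S : b₁ ∈ (Submodule.span F₀ {a₁, b₁} ⊔ Submodule.span F₀ {a₂, b₂} :
        Submodule F₀ W) := Submodule.mem_sup_left (Submodule.subset_span (by simp))
    have ha₂S : a₂ ∈ (Submodule.span F₀ {a₁, b₁} ⊔ Submodule.span F₀ {a₂, b₂} :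
        Submodule F₀ W) := Submodule.mem_sup_right (Submodule.subset_span (by simp))
    have hb₂S : b₂ ∈ (Submodule.span F₀ {a₁, b₁} ⊔ Submodule.span F₀ {a₂, b₂} :
        Submodule F₀ W) := Submodule.mem_sup_right (Submodule.subset_span (by simp))
    have key : ∀ (a b y : W), pol (⇑Q₀) a y = 0 → pol (⇑Q₀) b y = 0 →
        B (ρ a + θ • ρ b) (ρ y) = 0 := by
      intro a b y hay hby
      rw [map_add, map_smul, LinearMap.add_apply, LinearMap.smul_apply, R.orth hay, R.orth hby,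
        smul_zero, add_zero]
    apply star2 R h13 hM hT hu hv huv hs hs' hss' _ _ _ _ hy
    · rw [h1]; exact key _ _ _ (hS a₁ ha₁S).1 (hS b₁ hb₁S).1
    · rw [h1]; exact key _ _ _ (hS a₁ ha₁S).2 (hS b₁ hb₁S).2
    · rw [h2]; exact key _ _ _ (hS a₂ ha₂S).1 (hS b₂ hb₂S).1
    · rw [h2]; exact key _ _ _ (hS a₂ ha₂S).2 (hS b₂ hb₂S).2
  -- all rational singular points are mapped to rational points
  have hpt : ∀ p : W, Q₀ p = 0 → p ≠ 0 → ∃ (lp : F) (p' : W), g (ρ p) = lp • ρ p' := by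
    intro p hp hp0
    obtain ⟨e, f, -, -, h1, -⟩ := exists_hyp2 Q₀ R.nd₀ h13 (Submodule.span F₀ {p, p})
      ((finrank_span_pair_le p p).trans (by norm_num))
    obtain ⟨he, hf, hef, hS⟩ := h1
    have hpS : p ∈ Submodule.span F₀ ({p, p} : Set W) := Submodule.subset_span (by simp)
    have hpe : pol (⇑Q₀) p e = 0 := (hS p hpS).1
    have hpf : pol (⇑Q₀) p f = 0 := (hS p hpS).2
    have hQp : Q (g (ρ p)) = 0 := by rw [hgO (ρ p)]; exact R.sing hp
    have hQe : Q (g (ρ e)) = 0 := by rw [hgO (ρ e)]; exact R.sing he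
    have hQf : Q (g (ρ f)) = 0 := by rw [hgO (ρ f)]; exact R.sing hf
    have hBpe : B (g (ρ p)) (g (ρ e)) = 0 := by rw [R.hQ.B_map hgO]; exact R.orth hpe
    have hBfp : B (g (ρ f)) (g (ρ p)) = 0 := by
      rw [R.hQ.B_map hgO]; exact R.orth (by rw [pc]; exact hpf)
    have hBfe : B (g (ρ f)) (g (ρ e)) = 1 := by
      rw [R.hQ.B_map hgO]; exact R.one (by rw [pc]; exact hef)
    have hy₁ : siegel B Q (g (ρ p)) (g (ρ e)) ∈ M := by
      rw [← conj_siegel R.hQ hgO (R.sing hp) (R.sing he) (R.orth hpe)]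
      exact mul_mem (mul_mem hg (ratSiegel_mem R h13 hM hp he hpe)) (inv_mem hg)
    have hy₂ : siegel B Q (g (ρ f)) (g (ρ p)) ∈ M := by
      rw [← conj_siegel R.hQ hgO (R.sing hf) (R.sing hp) (R.orth (by rw [pc]; exact hpf))]
      exact mul_mem (mul_mem hg (ratSiegel_mem R h13 hM hf hp (by rw [pc]; exact hpf)))
        (inv_mem hg)
    have hne : g (ρ p) ≠ 0 := by
      intro h0
      exact R.ne_zero hp0 (g.injective (h0.trans (map_zero g).symm))
    exact point_of_rat1 R hQp hQe hQf hBpe hBfp hBfe hne (hroot _ _ hQp hQe hBpe hy₁)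
      (hroot _ _ hQf hQp hBfp hy₂)
  obtain ⟨s, s', -, -, h1, -⟩ := exists_hyp2 Q₀ R.nd₀ h13 ⊥ (by rw [finrank_bot]; norm_num)
  obtain ⟨hs, hs', hss', -⟩ := h1
  have hs0 : s ≠ 0 := by
    rintro rfl
    rw [QuadraticMap.polar_zero_left] at hss'
    exact zero_ne_one hss'
  have hs'0 : s' ≠ 0 := by
    rintro rfl
    rw [QuadraticMap.polar_zero_right] at hss'
    exact zero_ne_one hss'
  obtain ⟨l₁, s₁, h₁⟩ := hpt s hs hs0
  obtain ⟨l₂, s₂, h₂⟩ := hpt s' hs' hs'0
  exact ratU_of_pair R h13 hM hT hg hs hs' hss' h₁ h₂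

end Main

end Cfsg.Agent.Lib.Helper94.OSubE
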