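/-
Helper94: overgroups of the rational orthogonal group, part E2 (characteristic two): rational
Eichler transformations, the canonical vector of an involution, and centralisers.
-/
import Mathlib
import Cfsg.Agent.Lib.Helper94.OSubE1

set_option autoImplicit false
set_option linter.unusedSimpArgs false
set_option linter.unusedSectionVars false
set_option linter.unusedVariables false

namespace Cfsg.Agent.Lib.Helper94.OSubE

open LinearMap (BilinForm)
open Module
open Cfsg.Agent.Lib.Helper94 Cfsg.Agent.Lib.Helper94.QuadData Cfsg.Agent.Lib.Helper44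
open Cfsg.Agent.Lib.Helper95.OSub
open Cfsg.Agent.Lib.Helper13 (fixSub mem_fixSub)
open scoped commutatorElement

variable {F : Type*} [Field F] {V : Type*} [AddCommGroup V] [Module F V]
variable {F₀ : Subfield F} {W : Type*} [AddCommGroup W] [Module F₀ W]
variable {B : BilinForm F V} {Q : V → F} {Q₀ : QuadraticForm F₀ W} {ρ : W → V}

local notation "pol" => QuadraticMap.polar

/-- square roots in characteristic 2 -/
lemma sqrt_mem_char2 [Finite F] (h2 : (2 : F) = 0) (F₀ : Subfield F) {x : F}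
    (hx : x ^ 2 ∈ F₀) : x ∈ F₀ := by
  have h2' : (2 : F₀) = 0 := Subtype.ext (by push_cast; exact h2)
  have : CharP F₀ 2 := CharTwo.of_one_ne_zero_of_two_eq_zero one_ne_zero h2'
  have hsq : IsSquare (⟨x ^ 2, hx⟩ : F₀) :=
    FiniteField.isSquare_of_char_two (by exact ringChar.eq F₀ 2) _
  obtain ⟨s, hs⟩ := hsq
  have hs' : x ^ 2 = (s : F) * (s : F) := by
    have := congrArg (Subtype.val) hs
    simpa using this
  have : (x - (s : F)) ^ 2 = 0 := by
    have : (x - (s : F)) ^ 2 = x ^ 2 + (s : F) * s - 2 * (x * s) := by ring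
    rw [this, h2, hs']
    linear_combination ((s : F) * s) * h2
  have : x - (s : F) = 0 := by simpa using this
  rw [sub_eq_zero.1 this]
  exact s.2

/-- squaring is injective in characteristic 2 -/
lemma sq_inj_char2 (h2 : (2 : F) = 0) {a b : F} (h : a * a = b * b) : a = b := by
  have : (a - b) * (a - b) = 0 := by linear_combination h + (b * b - a * b) * h2
  exact sub_eq_zero.1 (mul_self_eq_zero.1 this)

/-- square roots in a finite subfield of characteristic 2 -/
lemma exists_sqrt_char2 [Finite F] (h2 : (2 : F) = 0) (F₀ : Subfield F) (x : F₀) :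
    ∃ s : F₀, s * s = x := by
  have h2' : (2 : F₀) = 0 := Subtype.ext (by push_cast; exact h2)
  have : CharP F₀ 2 := CharTwo.of_one_ne_zero_of_two_eq_zero one_ne_zero h2'
  obtain ⟨s, hs⟩ := FiniteField.isSquare_of_char_two (by exact ringChar.eq F₀ 2) x
  exact ⟨s, hs.symm⟩

/-- Eichler transformations lie in `Ω` -/
lemma eich_mem_comm [Finite F] [FiniteDimensional F V] (hQ : QuadData B Q)
    (hnd : ∀ x, (∀ y, B x y = 0) → x = 0) (h7 : 7 ≤ finrank F V) (p w : V)
    (hp : hQ.toQF p = 0) (hpw : pol (⇑hQ.toQF) p w = 0) :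
    eich hQ.toQF p w hp hpw ∈ ⁅OG Q, OG Q⁆ := by
  have hnd' := hQ.nondeg_toQF hnd
  have hKE := commutator_eq_KE hQ.toQF hnd' h7
  have hΩ : ⁅Cfsg.Agent.Lib.Helper36.isoGroup hQ.toQF, Cfsg.Agent.Lib.Helper36.isoGroup hQ.toQF⁆
      = (KE hQ.toQF).map (Cfsg.Agent.Lib.Helper36.isoGroup hQ.toQF).subtype := by
    rw [← hKE, Subgroup.map_subtype_commutator]
  have hOG : OG Q = Cfsg.Agent.Lib.Helper36.isoGroup hQ.toQF := by
    ext g; rfl
  rw [hOG, hΩ]
  exact ⟨eichG hQ.toQF p w hp hpw, eichG_mem_KE _ _ _ _ _, rfl⟩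

lemma pol_rat (R : OSet B Q Q₀ ρ) {a b : W} (hab : pol (⇑Q₀) a b = 0) :
    pol (⇑R.hQ.toQF) (ρ a) (ρ b) = 0 := by
  rw [R.hQ.polar_toQF]; exact R.orth hab

/-- the rational Eichler transformation `E(ρ a, ρ b)` -/
noncomputable def reich (R : OSet B Q Q₀ ρ) {a b : W} (ha : Q₀ a = 0)
    (hab : pol (⇑Q₀) a b = 0) : V ≃ₗ[F] V :=
  eich R.hQ.toQF (ρ a) (ρ b) (R.singF ha) (pol_rat R hab)

lemma reich_apply (R : OSet B Q Q₀ ρ) {a b : W} (ha : Q₀ a = 0) (hab : pol (⇑Q₀) a b = 0)
    (v : V) : reich R ha hab v =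
      v + (B (ρ b) v - Q (ρ b) * B (ρ a) v) • ρ a - B (ρ a) v • ρ b := by
  unfold reich
  rw [eich_apply, Cfsg.Agent.Lib.Helper13.siegelLin_apply, R.hQ.polar_toQF, R.hQ.polar_toQF,
    toQF_apply]

lemma reich_rat1 (R : OSet B Q Q₀ ρ) {a b : W} (ha : Q₀ a = 0) (hab : pol (⇑Q₀) a b = 0) :
    Rat1 ρ (reich R ha hab) := by
  intro w
  refine ⟨w + (pol (⇑Q₀) b w - Q₀ b * pol (⇑Q₀) a w) • a - pol (⇑Q₀) a w • b, ?_⟩
  rw [reich_apply, R.sub, R.add, R.smul, R.smul, R.form, R.form, R.quad]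
  push_cast
  rfl

lemma reich_mem_OG (R : OSet B Q Q₀ ρ) {a b : W} (ha : Q₀ a = 0) (hab : pol (⇑Q₀) a b = 0) :
    reich R ha hab ∈ OG Q :=
  eich_mem_isoGroup R.hQ.toQF _ _ _ _

/-- a rational Eichler transformation fixes the vectors orthogonal to its two vectors -/
lemma reich_fix (R : OSet B Q Q₀ ρ) {a b : W} (ha : Q₀ a = 0) (hab : pol (⇑Q₀) a b = 0)
    {u : V} (h1 : B (ρ a) u = 0) (h2 : B (ρ b) u = 0) : reich R ha hab u = u := by
  rw [reich_apply, h1, h2]
  simp

section fin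

variable [Finite F] [FiniteDimensional F V]

lemma reich_mem (R : OSet B Q Q₀ ρ) (h7 : 7 ≤ finrank F V) {M : Subgroup (V ≃ₗ[F] V)}
    (hM : Over Q ρ M) {a b : W} (ha : Q₀ a = 0) (hab : pol (⇑Q₀) a b = 0) :
    reich R ha hab ∈ M :=
  hM.ge _ (eich_mem_comm R.hQ R.nd h7 _ _ _ _) (reich_rat1 R ha hab).ratU

end fin

/-- in characteristic two the rational Eichler transformations are involutions -/
lemma reich_sq (R : OSet B Q Q₀ ρ) (h2 : (2 : F) = 0) {a b : W} (ha : Q₀ a = 0)
    (hab : pol (⇑Q₀) a b = 0) : reich R ha hab * reich R ha hab = 1 := by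
  apply LinearEquiv.ext
  intro v
  have haa : B (ρ a) (ρ a) = 0 := sing_self R.hQ (R.sing ha)
  have hab' : B (ρ a) (ρ b) = 0 := R.orth hab
  have hba : B (ρ b) (ρ a) = 0 := by rw [R.hQ.symm]; exact hab'
  have hbb : B (ρ b) (ρ b) = 2 * Q (ρ b) := R.hQ.self _
  have hzv := reich_apply R ha hab v
  have h1 : B (ρ a) (reich R ha hab v) = B (ρ a) v := by
    rw [hzv]
    simp only [map_add, map_sub, map_smul, haa, hab', smul_eq_mul, mul_zero, add_zero, sub_zero]
  have h3 : B (ρ b) (reich R ha hab v) = B (ρ b) v - 2 * Q (ρ b) * B (ρ a) v := by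
    rw [hzv]
    simp only [map_add, map_sub, map_smul, hba, hbb, smul_eq_mul, mul_zero, add_zero]
    ring
  rw [LinearEquiv.mul_apply, reich_apply R ha hab (reich R ha hab v), h1, h3, hzv]
  have e : v + (B (ρ b) v - Q (ρ b) * B (ρ a) v) • ρ a - B (ρ a) v • ρ b +
      (B (ρ b) v - 2 * Q (ρ b) * B (ρ a) v - Q (ρ b) * B (ρ a) v) • ρ a - B (ρ a) v • ρ b =
      v + (2 : F) • ((B (ρ b) v - 2 * Q (ρ b) * B (ρ a) v) • ρ a - B (ρ a) v • ρ b) := by
    module
  rw [e, h2, zero_smul, add_zero]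
  rfl

/-- the canonical vector of an involution: `B(v, x v) = B(v, d)²` -/
def Canon (B : BilinForm F V) (x : V ≃ₗ[F] V) (d : V) : Prop := ∀ v, B v (x v) = B v d * B v d

/-- the centraliser of an involution fixes its canonical vector -/
lemma cent_fix (hQ : QuadData B Q) (hnd : ∀ x, (∀ y, B x y = 0) → x = 0) (h2 : (2 : F) = 0)
    {k x : V ≃ₗ[F] V} (hk : k ∈ OG Q) (hkx : k * x = x * k) {d : V} (hc : Canon B x d) :
    k d = d := by
  have h1 : ∀ v, B (k v) d = B v d := by
    intro v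
    apply sq_inj_char2 h2
    rw [← hc (k v), ← hc v]
    have e1 : x (k v) = k (x v) := by
      have := congrArg (fun g : V ≃ₗ[F] V => g v) hkx
      simp only [LinearEquiv.mul_apply] at this
      exact this.symm
    rw [e1, hQ.B_map hk]
  have h3 : d - k d = 0 := by
    apply hnd
    intro y
    have e2 : y = k (k⁻¹ y) := by
      rw [← LinearEquiv.mul_apply, mul_inv_cancel]; rfl
    rw [hQ.symm, e2, map_sub, h1, hQ.B_map hk, sub_self]
  exact (sub_eq_zero.1 h3).symm

/-- the canonical vector of a rational Eichler transformation -/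
lemma canon_reich (R : OSet B Q Q₀ ρ) (h2 : (2 : F) = 0) {a b : W} (ha : Q₀ a = 0)
    (hab : pol (⇑Q₀) a b = 0) (hb : Q₀ b = 1) : Canon B (reich R ha hab) (ρ a) := by
  intro v
  rw [reich_apply, R.quad, hb]
  simp only [map_add, map_sub, map_smul, smul_eq_mul]
  rw [R.hQ.self v, R.hQ.symm (ρ a) v, R.hQ.symm (ρ b) v]
  push_cast
  linear_combination (Q v - B v (ρ a) * B v (ρ a)) * h2

/-- canonical vectors of products with orthogonal supports -/
lemma canon_mul (hQ : QuadData B Q) (h2 : (2 : F) = 0) {x y : V ≃ₗ[F] V} {d d' : V}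
    (hx : Canon B x d) (hy : Canon B y d') (hadd : ∀ v, x (y v) = x v + y v - v) :
    Canon B (x * y) (d + d') := by
  intro v
  rw [LinearEquiv.mul_apply, hadd, map_sub, map_add, hx v, hy v, hQ.self v, map_add]
  linear_combination (-(Q v) - B v d * B v d') * h2

end Cfsg.Agent.Lib.Helper94.OSubE
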