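/-
Helper94: overgroups of the rational orthogonal group, part E3 (characteristic two): two rational
involutions of `M` of different ranks with rational centralisers, and the dihedral argument.
-/
import Mathlib
import Cfsg.Agent.Lib.Helper94.OSubE2

set_option autoImplicit false
set_option linter.unusedSimpArgs false
set_option linter.unusedSectionVars false
set_option linter.unusedVariables false

namespace Cfsg.Agent.Lib.Helper94.OSubE

open LinearMap (BilinForm)
open Module
open Cfsg.Agent.Lib.Helper94 Cfsg.Agent.Lib.Helper94.QuadData Cfsg.Agent.Lib.Helper44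
open Cfsg.Agent.Lib.Helper95.OSub
open Cfsg.Agent.Lib.Helper13 (fixSub mem_fixSub)
open scoped commutatorElement

variable {F : Type*} [Field F] {V : Type*} [AddCommGroup V] [Module F V]
variable {F₀ : Subfield F} {W : Type*} [AddCommGroup W] [Module F₀ W]
variable {B : BilinForm F V} {Q : V → F} {Q₀ : QuadraticForm F₀ W} {ρ : W → V}

local notation "pol" => QuadraticMap.polar

/-- an isometry fixing the orthogonal complement of a `k`-dimensional subspace has a fixed space
of codimension at most `k` -/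
lemma finrank_fix_ge [FiniteDimensional F V] (hN : B.Nondegenerate) (S : Submodule F V) (k : ℕ)
    (hS : finrank F S ≤ k) (z : V ≃ₗ[F] V) (hz : ∀ u, (∀ s ∈ S, B s u = 0) → z u = u) :
    finrank F V ≤ finrank F (fixSub z) + k := by
  have h1 : B.orthogonal S ≤ fixSub z := by
    intro u hu
    rw [LinearMap.BilinForm.mem_orthogonal_iff] at hu
    exact (mem_fixSub z u).2 (hz u hu)
  have h2 := Submodule.finrank_mono h1
  have h3 := LinearMap.BilinForm.finrank_orthogonal hN S
  omega

/-- a subspace orthogonal to `k` vectors having dual vectors has codimension at least `k` -/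
lemma finrank_le_of_dual [FiniteDimensional F V] (hN : B.Nondegenerate) {k : ℕ}
    (x y : Fin k → V) (hxy : ∀ i j, B (x i) (y j) = if i = j then 1 else 0)
    (S : Submodule F V) (hS : ∀ v ∈ S, ∀ i, B (x i) v = 0) : finrank F S + k ≤ finrank F V := by
  classical
  have hli : LinearIndependent F x := by
    rw [Fintype.linearIndependent_iff]
    intro c hc j
    have h1 := congrArg (fun v => B v (y j)) hc
    simp only [map_sum, map_smul, LinearMap.sum_apply, LinearMap.smul_apply, smul_eq_mul,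
      map_zero, LinearMap.zero_apply, hxy] at h1
    simpa using h1
  have h1 := finrank_span_eq_card hli
  rw [Fintype.card_fin] at h1
  have h2 : S ≤ B.orthogonal (Submodule.span F (Set.range x)) := by
    intro v hv
    rw [LinearMap.BilinForm.mem_orthogonal_iff]
    intro n hn
    induction hn using Submodule.span_induction with
    | mem n hn =>
      obtain ⟨i, rfl⟩ := hn
      exact hS v hv i
    | zero => simp
    | add a b _ _ ha hb => rw [map_add, LinearMap.add_apply, ha, hb, add_zero]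
    | smul c a _ ha => rw [map_smul, LinearMap.smul_apply, ha, smul_zero]
  have h3 := Submodule.finrank_mono h2
  have h4 := LinearMap.BilinForm.finrank_orthogonal hN (Submodule.span F (Set.range x))
  have h5 := Submodule.finrank_le (Submodule.span F (Set.range x))
  omega

lemma nondegB (R : OSet B Q Q₀ ρ) : B.Nondegenerate := by
  have := R.hQ.nondeg_toQF R.nd
  rwa [polarBilin_toQF] at this

/-- products of rational Eichler transformations with orthogonal supports -/
lemma reich_hadd (R : OSet B Q Q₀ ρ) {a b a' b' : W} (ha : Q₀ a = 0)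
    (hab : pol (⇑Q₀) a b = 0) (ha' : Q₀ a' = 0) (hab' : pol (⇑Q₀) a' b' = 0)
    (h1 : pol (⇑Q₀) a a' = 0) (h2 : pol (⇑Q₀) a b' = 0) (h3 : pol (⇑Q₀) b a' = 0)
    (h4 : pol (⇑Q₀) b b' = 0) (v : V) :
    reich R ha hab (reich R ha' hab' v) = reich R ha hab v + reich R ha' hab' v - v := by
  have e1 : reich R ha' hab' v = v + (reich R ha' hab' v - v) := by abel
  have e2 : reich R ha hab (reich R ha' hab' v - v) = reich R ha' hab' v - v := by
    apply reich_fix
    · rw [reich_apply R ha' hab' v]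
      simp only [map_add, map_sub, map_smul, R.orth h1, R.orth h2, smul_eq_mul, mul_zero,
        add_zero, sub_zero, add_sub_cancel_left, sub_self]
    · rw [reich_apply R ha' hab' v]
      simp only [map_add, map_sub, map_smul, R.orth h3, R.orth h4, smul_eq_mul, mul_zero,
        add_zero, sub_zero, add_sub_cancel_left, sub_self]
  conv_lhs => rw [e1, map_add, e2]
  abel

lemma reich_comm (R : OSet B Q Q₀ ρ) {a b a' b' : W} (ha : Q₀ a = 0)
    (hab : pol (⇑Q₀) a b = 0) (ha' : Q₀ a' = 0) (hab' : pol (⇑Q₀) a' b' = 0)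
    (h1 : pol (⇑Q₀) a a' = 0) (h2 : pol (⇑Q₀) a b' = 0) (h3 : pol (⇑Q₀) b a' = 0)
    (h4 : pol (⇑Q₀) b b' = 0) :
    reich R ha hab * reich R ha' hab' = reich R ha' hab' * reich R ha hab := by
  have pc := QuadraticMap.polar_comm (⇑Q₀)
  apply LinearEquiv.ext
  intro v
  rw [LinearEquiv.mul_apply, LinearEquiv.mul_apply, reich_hadd R ha hab ha' hab' h1 h2 h3 h4,
    reich_hadd R ha' hab' ha hab (by rw [pc]; exact h1) (by rw [pc]; exact h3)
      (by rw [pc]; exact h2) (by rw [pc]; exact h4)]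
  abel

/-- the data of a rational involution of `M` with rational centraliser -/
structure InvData2 (ρ : W → V) (M : Subgroup (V ≃ₗ[F] V)) (z : V ≃ₗ[F] V) (k : ℕ) : Prop where
  mem : z ∈ M
  sq : z * z = 1
  cent : ∀ c ∈ M, c * z = z * c → RatU ρ c
  fix_ge : finrank F V ≤ finrank F (fixSub z) + k

section Main

variable [Finite F] [Finite F₀] [FiniteDimensional F₀ W] [FiniteDimensional F V]
variable (R : OSet B Q Q₀ ρ) (h13 : 13 ≤ finrank F₀ W) {M : Subgroup (V ≃ₗ[F] V)}
  (hM : Over Q ρ M) (hT : Tight B Q Q₀ ρ M) (h2 : (2 : F) = 0)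
  (hdim : finrank F V = finrank F₀ W)

include R h13 hM hT h2 hdim in
/-- an involution of rank two -/
lemma exists_inv_c2 {e f : Fin 4 → W} (h : HypSys Q₀ e f) :
    ∃ z, InvData2 ρ M z 2 := by
  have i02 : (0 : Fin 4) ≠ 2 := by decide
  have ha : Q₀ (e 0) = 0 := (h.1 0).1
  have hab : pol (⇑Q₀) (e 0) (e 2 + f 2) = 0 := by
    rw [QuadraticMap.polar_add_right, (h.2.2 0 2).1, hyp_ef h, if_neg i02, add_zero]
  have hb : Q₀ (e 2 + f 2) = 1 := hyp_Q_p h 2
  have ha0 : e 0 ≠ 0 := by
    intro h0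
    have := hyp_ef h 0 0
    rw [h0, QuadraticMap.polar_zero_left, if_pos rfl] at this
    exact zero_ne_one this
  refine ⟨reich R ha hab, reich_mem R (by omega) hM ha hab, reich_sq R h2 ha hab, ?_, ?_⟩
  · intro c hc hcz
    have hcO : c ∈ OG Q := commutator_le_OG (hM.le hc)
    have h1 := cent_fix R.hQ R.nd h2 hcO hcz (canon_reich R h2 ha hab hb)
    exact ratU_of_point R h13 hM hT hc ha ha0 (l := 1) (by rw [h1, one_smul])
  · apply finrank_fix_ge (nondegB R) (Submodule.span F {ρ (e 0), ρ (e 2 + f 2)}) 2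
      (finrank_span_pair_le _ _)
    intro u hu
    exact reich_fix R ha hab (hu _ (Submodule.subset_span (by simp)))
      (hu _ (Submodule.subset_span (by simp)))

include R h13 hM hT h2 hdim in
/-- an involution of rank four -/
lemma exists_inv_c4 {e f : Fin 4 → W} (h : HypSys Q₀ e f) :
    ∃ z, InvData2 ρ M z 4 ∧ finrank F (fixSub z) + 3 ≤ finrank F V := by
  have pc := QuadraticMap.polar_comm (⇑Q₀)
  have i02 : (0 : Fin 4) ≠ 2 := by decide
  have i13 : (1 : Fin 4) ≠ 3 := by decide
  have i01 : (0 : Fin 4) ≠ 1 := by decide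
  have i03 : (0 : Fin 4) ≠ 3 := by decide
  have i21 : (2 : Fin 4) ≠ 1 := by decide
  have i23 : (2 : Fin 4) ≠ 3 := by decide
  have i12 : (1 : Fin 4) ≠ 2 := by decide
  have i10 : (1 : Fin 4) ≠ 0 := by decide
  have i20 : (2 : Fin 4) ≠ 0 := by decide
  have i30 : (3 : Fin 4) ≠ 0 := by decide
  have i31 : (3 : Fin 4) ≠ 1 := by decide
  have i32 : (3 : Fin 4) ≠ 2 := by decide
  have ha : Q₀ (e 0) = 0 := (h.1 0).1
  have hab : pol (⇑Q₀) (e 0) (e 2 + f 2) = 0 := by
    rw [QuadraticMap.polar_add_right, (h.2.2 0 2).1, hyp_ef h, if_neg i02, add_zero]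
  have hb : Q₀ (e 2 + f 2) = 1 := hyp_Q_p h 2
  have ha' : Q₀ (e 1) = 0 := (h.1 1).1
  have hab' : pol (⇑Q₀) (e 1) (e 3 + f 3) = 0 := by
    rw [QuadraticMap.polar_add_right, (h.2.2 1 3).1, hyp_ef h, if_neg i13, add_zero]
  have hb' : Q₀ (e 3 + f 3) = 1 := hyp_Q_p h 3
  have o1 : pol (⇑Q₀) (e 0) (e 1) = 0 := (h.2.2 0 1).1
  have o2 : pol (⇑Q₀) (e 0) (e 3 + f 3) = 0 := by
    rw [QuadraticMap.polar_add_right, (h.2.2 0 3).1, hyp_ef h, if_neg i03, add_zero]
  have o3 : pol (⇑Q₀) (e 2 + f 2) (e 1) = 0 := by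
    rw [QuadraticMap.polar_add_left, (h.2.2 2 1).1, hyp_fe h, if_neg i21, add_zero]
  have o4 : pol (⇑Q₀) (e 2 + f 2) (e 3 + f 3) = 0 := hyp_pol_pp h i23
  set x := reich R ha hab with hx
  set y := reich R ha' hab' with hy
  have hadd := reich_hadd R ha hab ha' hab' o1 o2 o3 o4
  have hcomm : x * y = y * x := reich_comm R ha hab ha' hab' o1 o2 o3 o4
  have hd : Q₀ (e 0 + e 1) = 0 := by
    rw [QuadraticMap.map_add (⇑Q₀), ha, ha', o1]; simp
  have hd0 : e 0 + e 1 ≠ 0 := by
    intro h0
    have := hyp_ef h 0 0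
    have e1 : e 0 = -e 1 := eq_neg_of_add_eq_zero_left h0
    rw [e1, QuadraticMap.polar_neg_left, hyp_ef h, if_neg i10, if_pos rfl, neg_zero] at this
    exact zero_ne_one this
  have hcan : Canon B (x * y) (ρ (e 0 + e 1)) := by
    rw [R.add]
    exact canon_mul R.hQ h2 (canon_reich R h2 ha hab hb) (canon_reich R h2 ha' hab' hb') hadd
  refine ⟨x * y, ⟨mul_mem (reich_mem R (by omega) hM ha hab) (reich_mem R (by omega) hM ha' hab'),
    ?_, ?_, ?_⟩, ?_⟩
  · calc x * y * (x * y) = x * (y * x) * y := by group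
      _ = x * (x * y) * y := by rw [hcomm]
      _ = (x * x) * (y * y) := by group
      _ = 1 := by rw [hx, hy, reich_sq R h2 ha hab, reich_sq R h2 ha' hab', mul_one]
  · intro c hc hcz
    have hcO : c ∈ OG Q := commutator_le_OG (hM.le hc)
    have h1 := cent_fix R.hQ R.nd h2 hcO hcz hcan
    exact ratU_of_point R h13 hM hT hc hd hd0 (l := 1) (by rw [h1, one_smul])
  · apply finrank_fix_ge (nondegB R) (Submodule.span F {ρ (e 0), ρ (e 2 + f 2)} ⊔
      Submodule.span F {ρ (e 1), ρ (e 3 + f 3)}) 4 (finrank_span_four_le _ _ _ _)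
    intro u hu
    rw [LinearEquiv.mul_apply, hy,
      reich_fix R ha' hab' (hu _ (Submodule.mem_sup_right (Submodule.subset_span (by simp))))
        (hu _ (Submodule.mem_sup_right (Submodule.subset_span (by simp)))), hx]
    exact reich_fix R ha hab (hu _ (Submodule.mem_sup_left (Submodule.subset_span (by simp))))
      (hu _ (Submodule.mem_sup_left (Submodule.subset_span (by simp))))
  · -- the upper bound
    apply finrank_le_of_dual (nondegB R) ![ρ (e 0), ρ (e 1), ρ (e 2 + f 2)]
      ![ρ (f 0), ρ (f 1), ρ (f 2)]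
    · intro i j
      fin_cases i <;> fin_cases j <;>
        simp [R.form, hyp_ef h, hyp_fe h, QuadraticMap.polar_add_left, (h.2.2 _ _).2]
    · intro v hv
      rw [mem_fixSub, LinearEquiv.mul_apply, hadd] at hv
      have hv' : (x v - v) + (y v - v) = 0 := by
        have : x v + y v - v - v = 0 := sub_eq_zero.2 hv
        rw [← this]; abel
      rw [hx, hy, reich_apply R ha hab v, reich_apply R ha' hab' v, R.quad, R.quad, hb, hb'] at hv'
      have k1 := congrArg (fun t => B t (ρ (f 2))) hv'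
      have k2 := congrArg (fun t => B t (ρ (f 3))) hv'
      have k3 := congrArg (fun t => B t (ρ (f 0))) hv'
      simp only [map_add, map_sub, map_smul, LinearMap.add_apply, LinearMap.sub_apply,
        LinearMap.smul_apply, R.form, hyp_ef h, hyp_fe h, QuadraticMap.polar_add_left,
        (h.2.2 _ _).2, smul_eq_mul, map_zero, LinearMap.zero_apply, i02, i12, i32, i03, i23, i13,
        i20, i10, i30, if_true, if_false, add_zero, Subfield.coe_zero, Subfield.coe_one, mul_zero,
        mul_one, sub_zero, add_sub_cancel_left, one_mul, add_sub_cancel_right] at k1 k2 k3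
      have m1 : B (ρ (e 0)) v = 0 := by linear_combination -k1
      have m2 : B (ρ (e 1)) v = 0 := by linear_combination -k2
      have m3 : B (ρ (e 2 + f 2)) v = 0 := by linear_combination k3 + m1
      intro i
      fin_cases i
      · exact m1
      · exact m2
      · exact m3

include R h13 h2 in
/-- rational involutions map rational vectors to rational vectors (characteristic two) -/
lemma rat1_of_ratU_inv {z : V ≃ₗ[F] V} (hsq : z * z = 1) (hr : RatU ρ z) : Rat1 ρ z := by
  obtain ⟨μ, hμ⟩ := hr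
  obtain ⟨s, s', -, -, h1, -⟩ := exists_hyp2 Q₀ R.nd₀ h13 ⊥ (by rw [finrank_bot]; norm_num)
  obtain ⟨hs, hs', hss', -⟩ := h1
  have hs0 : s ≠ 0 := by
    rintro rfl
    rw [QuadraticMap.polar_zero_left] at hss'
    exact zero_ne_one hss'
  obtain ⟨w₁, hw₁⟩ := hμ s
  obtain ⟨w₂, hw₂⟩ := hμ w₁
  have e : (μ * μ) • ρ w₂ = ρ s := by
    have : z (z (ρ s)) = ρ s := by
      rw [← LinearEquiv.mul_apply, hsq]; rfl
    rw [hw₁, map_smul, hw₂, smul_smul] at this
    exact this
  have hw₂0 : w₂ ≠ 0 := by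
    rintro rfl
    rw [R.zero, smul_zero] at e
    exact R.ne_zero hs0 e.symm
  obtain ⟨k, hk⟩ := R.coeff_mem hw₂0 e
  have hμ' : μ ∈ F₀ := sqrt_mem_char2 h2 F₀ (by rw [pow_two, hk]; exact k.2)
  intro w
  obtain ⟨w', hw'⟩ := hμ w
  exact ⟨(⟨μ, hμ'⟩ : F₀) • w', by rw [hw', R.smul]⟩

variable [Finite (V ≃ₗ[F] V)]

include R h13 hM hT h2 hdim in
/-- **the dihedral argument**: a rational involution of `M` of small rank whose conjugate under
`g⁻¹` is rational too -/
lemma level2 {g : V ≃ₗ[F] V} (hg : g ∈ M) :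
    ∃ z ∈ M, z * z = 1 ∧ z ≠ 1 ∧ Rat1 ρ z ∧ Rat1 ρ (g⁻¹ * z * g) ∧
      finrank F V ≤ finrank F (fixSub z) + 6 := by
  obtain ⟨e, f, h4, -⟩ := exists_frame Q₀ R.nd₀ 4 ⊥ 0 inf_le_left (by rw [finrank_bot])
    (by omega)
  obtain ⟨z₁, D₁⟩ := exists_inv_c2 R h13 hM hT h2 hdim h4
  obtain ⟨ζ, D₂, hle⟩ := exists_inv_c4 R h13 hM hT h2 hdim h4
  have hnc : finrank F (fixSub z₁) ≠ finrank F (fixSub ζ) := by
    have := D₁.fix_ge
    omega
  obtain ⟨z, hzM, hsq, hz1, k₁, k₂, hfix⟩ := dihedral M hg D₁.mem D₂.mem D₁.sq D₂.sq hnc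
  have hhM : g⁻¹ * z * g ∈ M := mul_mem (mul_mem (inv_mem hg) hzM) hg
  have r1 : Rat1 ρ z := rat1_of_ratU_inv R h13 h2 hsq (D₁.cent z hzM k₁)
  have r2 : Rat1 ρ (g⁻¹ * z * g) :=
    rat1_of_ratU_inv R h13 h2 (conj_sq hsq) (D₂.cent _ hhM k₂)
  refine ⟨z, hzM, hsq, hz1, r1, r2, ?_⟩
  have hle' : fixSub z₁ ⊓ fixSub (g * ζ * g⁻¹) ≤ fixSub z := by
    intro v hv
    rw [Submodule.mem_inf, mem_fixSub, mem_fixSub] at hv
    rw [mem_fixSub]
    exact hfix v hv.1 hv.2
  have e1 := Submodule.finrank_sup_add_finrank_inf_eq (fixSub z₁) (fixSub (g * ζ * g⁻¹))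
  have e2 := Submodule.finrank_le (fixSub z₁ ⊔ fixSub (g * ζ * g⁻¹))
  have e3 := finrank_fixSub_conj (F := F) g ζ
  have e4 := Submodule.finrank_mono hle'
  have e5 := D₁.fix_ge
  have e6 := D₂.fix_ge
  omega

end Main

end Cfsg.Agent.Lib.Helper94.OSubE
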