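/-
Helper94: overgroups of the rational orthogonal group, part E4 (characteristic two): a rational
involution of `M` whose conjugate under `g⁻¹` is rational forces `g` to be rational.
-/
import Mathlib
import Cfsg.Agent.Lib.Helper94.OSubE3

set_option autoImplicit false
set_option linter.unusedSimpArgs false
set_option linter.unusedSectionVars false
set_option linter.unusedVariables false

namespace Cfsg.Agent.Lib.Helper94.OSubE

open LinearMap (BilinForm)
open Module
open Cfsg.Agent.Lib.Helper94 Cfsg.Agent.Lib.Helper94.QuadData Cfsg.Agent.Lib.Helper44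
open Cfsg.Agent.Lib.Helper95.OSub
open Cfsg.Agent.Lib.Helper13 (fixSub mem_fixSub)
open scoped commutatorElement

variable {F : Type*} [Field F] {V : Type*} [AddCommGroup V] [Module F V]
variable {F₀ : Subfield F} {W : Type*} [AddCommGroup W] [Module F₀ W]
variable {B : BilinForm F V} {Q : V → F} {Q₀ : QuadraticForm F₀ W} {ρ : W → V}

local notation "pol" => QuadraticMap.polar

/-! ### involutory isometries -/

lemma invol_adj (hQ : QuadData B Q) {y : V ≃ₗ[F] V} (hy : y ∈ OG Q) (hsq : y * y = 1) (u v : V) :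
    B (y u - u) v = B u (y v - v) := by
  have hyy : ∀ x, y (y x) = x := by
    intro x
    rw [← LinearEquiv.mul_apply, hsq]; rfl
  have e1 : B (y u) v = B u (y v) := by
    have := hQ.B_map hy u (y v)
    rw [hyy] at this
    exact this
  rw [map_sub, LinearMap.sub_apply, map_sub, e1]

lemma invol_iso (hQ : QuadData B Q) (h2 : (2 : F) = 0) {y : V ≃ₗ[F] V} (hy : y ∈ OG Q)
    (hsq : y * y = 1) (u v : V) : B (y u - u) (y v - v) = 0 := by
  have hyy : ∀ x, y (y x) = x := by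
    intro x
    rw [← LinearEquiv.mul_apply, hsq]; rfl
  have e : y (y v - v) - (y v - v) = (2 : F) • (v - y v) := by
    rw [map_sub, hyy, two_smul]; abel
  rw [invol_adj hQ hy hsq, e, h2, zero_smul, map_zero]

lemma fix_perp (hQ : QuadData B Q) {y : V ≃ₗ[F] V} (hy : y ∈ OG Q) {v : V} (hv : y v = v)
    (u : V) : B v (y u - u) = 0 := by
  have := hQ.B_map hy v u
  rw [hv] at this
  rw [map_sub, this, sub_self]

/-- the rational vectors in the range of `y - 1` -/
def IW (R : OSet B Q Q₀ ρ) (y : V ≃ₗ[F] V) : Submodule F₀ W where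
  carrier := {w | ρ w ∈ LinearMap.range ((y : V →ₗ[F] V) - LinearMap.id)}
  add_mem' := by
    intro a b ha hb
    show ρ (a + b) ∈ LinearMap.range ((y : V →ₗ[F] V) - LinearMap.id)
    rw [R.add]
    exact Submodule.add_mem _ ha hb
  zero_mem' := by
    show ρ 0 ∈ LinearMap.range ((y : V →ₗ[F] V) - LinearMap.id)
    rw [R.zero]
    exact Submodule.zero_mem _
  smul_mem' := by
    intro c a ha
    show ρ (c • a) ∈ LinearMap.range ((y : V →ₗ[F] V) - LinearMap.id)
    rw [R.smul]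
    exact Submodule.smul_mem _ _ ha

lemma mem_IW (R : OSet B Q Q₀ ρ) (y : V ≃ₗ[F] V) (w : W) :
    w ∈ IW R y ↔ ∃ u, y u - u = ρ w := by
  show ρ w ∈ LinearMap.range ((y : V →ₗ[F] V) - LinearMap.id) ↔ _
  rw [LinearMap.mem_range]
  constructor
  · rintro ⟨u, hu⟩
    exact ⟨u, by simpa using hu⟩
  · rintro ⟨u, hu⟩
    exact ⟨u, by simpa using hu⟩

/-- the rational vectors orthogonal to `IW` -/
def PW (R : OSet B Q Q₀ ρ) (y : V ≃ₗ[F] V) : Submodule F₀ W :=
  LinearMap.BilinForm.orthogonal (QuadraticMap.polarBilin Q₀) (IW R y)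

lemma mem_PW (R : OSet B Q Q₀ ρ) (y : V ≃ₗ[F] V) (b : W) :
    b ∈ PW R y ↔ ∀ i ∈ IW R y, pol (⇑Q₀) i b = 0 := by
  unfold PW
  rw [LinearMap.BilinForm.mem_orthogonal_iff]
  rfl

/-- the rational vectors orthogonal to `IW` are fixed -/
lemma PW_fix (R : OSet B Q Q₀ ρ) {y : V ≃ₗ[F] V} (hy : y ∈ OG Q) (hsq : y * y = 1)
    (hr : Rat1 ρ y) {b : W} (hb : b ∈ PW R y) : y (ρ b) = ρ b := by
  have h0 : y (ρ b) - ρ b = 0 := by
    apply R.sep
    intro w
    rw [invol_adj R.hQ hy hsq]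
    obtain ⟨w', hw'⟩ := hr w
    have hmem : w' - w ∈ IW R y := (mem_IW R y _).2 ⟨ρ w, by rw [hw', R.sub]⟩
    rw [hw', ← R.sub, R.form']
    rw [(mem_PW R y b).1 hb _ hmem]
    rfl
  exact sub_eq_zero.1 h0

lemma finrank_IW_le [FiniteDimensional F₀ W] [FiniteDimensional F V] (R : OSet B Q Q₀ ρ)
    (y : V ≃ₗ[F] V) : finrank F₀ (IW R y) + finrank F (fixSub y) ≤ finrank F V := by
  have h1 := finrank_le_of_maps R (IW R y)
    (LinearMap.range ((y : V →ₗ[F] V) - LinearMap.id)) (fun w hw => hw)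
  have h2 := LinearMap.finrank_range_add_finrank_ker ((y : V →ₗ[F] V) - LinearMap.id)
  have h3 : LinearMap.ker ((y : V →ₗ[F] V) - LinearMap.id) = fixSub y := rfl
  rw [h3] at h2
  omega

lemma finrank_PW [FiniteDimensional F₀ W] (R : OSet B Q Q₀ ρ) (y : V ≃ₗ[F] V) :
    finrank F₀ (PW R y) = finrank F₀ W - finrank F₀ (IW R y) :=
  LinearMap.BilinForm.finrank_orthogonal R.nd₀ (IW R y)

/-- a non-zero singular vector in an isotropic rational subspace of dimension at least two -/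
lemma exists_sing_of_iso [Finite F] [FiniteDimensional F₀ W] (h2 : (2 : F) = 0)
    (A : Submodule F₀ W)
    (hiso : ∀ a ∈ A, ∀ b ∈ A, pol (⇑Q₀) a b = 0) (hA : 2 ≤ finrank F₀ A) :
    ∃ a ∈ A, a ≠ 0 ∧ Q₀ a = 0 := by
  have h2' : (2 : F₀) = 0 := Subtype.ext (by push_cast; exact h2)
  obtain ⟨x, hx⟩ : ∃ x : A, x ≠ 0 :=
    (Module.finrank_pos_iff_exists_ne_zero (R := F₀) (M := A)).1 (by omega)
  obtain ⟨y, hy⟩ := exists_linearIndependent_pair_of_one_lt_finrank (R := F₀) (M := A) (by omega) hx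
  by_cases hQx : Q₀ (x : W) = 0
  · exact ⟨x, x.2, fun h => hx (Subtype.ext h), hQx⟩
  obtain ⟨s, hs⟩ := exists_sqrt_char2 h2 F₀ (Q₀ (y : W) * (Q₀ (x : W))⁻¹)
  refine ⟨s • (x : W) + (y : W), A.add_mem (A.smul_mem _ x.2) y.2, ?_, ?_⟩
  · intro h0
    have h1 : s • x + (1 : F₀) • y = 0 := by
      apply Subtype.ext
      simpa using h0
    have := (LinearIndependent.pair_iff.1 hy) s 1 h1
    exact one_ne_zero this.2
  · rw [QuadraticMap.map_add (⇑Q₀), QuadraticMap.map_smul, QuadraticMap.polar_smul_left,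
      hiso _ x.2 _ y.2, smul_zero, add_zero, smul_eq_mul, hs]
    have : Q₀ (y : W) * (Q₀ (x : W))⁻¹ * Q₀ (x : W) = Q₀ (y : W) := by
      field_simp
    rw [this]
    linear_combination (Q₀ (y : W)) * h2'

/-- two large rational subspaces cannot be orthogonal -/
lemma exists_pair_ne [FiniteDimensional F₀ W] [FiniteDimensional F V] (R : OSet B Q Q₀ ρ)
    (g : V ≃ₗ[F] V) (A A' : Submodule F₀ W)
    (h : finrank F V < finrank F₀ A + finrank F₀ A') :
    ∃ b ∈ A, ∃ b' ∈ A', B (ρ b) (g (ρ b')) ≠ 0 := by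
  by_contra hcon
  push Not at hcon
  set X : Submodule F V := Submodule.span F (ρ '' (A : Set W)) with hX
  set Y0 : Submodule F V := Submodule.span F (ρ '' (A' : Set W)) with hY0
  set Y : Submodule F V := Y0.map (g : V →ₗ[F] V) with hY
  have d1 : finrank F₀ A ≤ finrank F X :=
    finrank_le_of_maps R A X (fun w hw => Submodule.subset_span ⟨w, hw, rfl⟩)
  have d2 : finrank F₀ A' ≤ finrank F Y0 :=
    finrank_le_of_maps R A' Y0 (fun w hw => Submodule.subset_span ⟨w, hw, rfl⟩)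
  have d3 : finrank F Y = finrank F Y0 := LinearEquiv.finrank_map_eq g Y0
  have key : ∀ m ∈ Y0, ∀ v ∈ X, B (g m) v = 0 := by
    intro m hm v hv
    induction hv using Submodule.span_induction with
    | mem v hv =>
      obtain ⟨b, hb, rfl⟩ := hv
      induction hm using Submodule.span_induction with
      | mem m hm =>
        obtain ⟨b', hb', rfl⟩ := hm
        rw [R.hQ.symm]
        exact hcon b hb b' hb'
      | zero => simp
      | add x y _ _ hx hy => rw [map_add, map_add, LinearMap.add_apply, hx, hy, add_zero]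
      | smul c x _ hx => rw [map_smul, map_smul, LinearMap.smul_apply, hx, smul_zero]
    | zero => simp
    | add x y _ _ hx hy => rw [map_add, hx, hy, add_zero]
    | smul c x _ hx => rw [map_smul, hx, smul_zero]
  have hXY : X ≤ B.orthogonal Y := by
    intro v hv
    rw [LinearMap.BilinForm.mem_orthogonal_iff]
    intro n hn
    obtain ⟨m, hm, rfl⟩ := Submodule.mem_map.1 hn
    exact key m hm v hv
  have d4 := Submodule.finrank_mono hXY
  have d5 := LinearMap.BilinForm.finrank_orthogonal (nondegB R) Y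
  have d6 := Submodule.finrank_le Y
  omega

section Main

variable [Finite F] [Finite F₀] [FiniteDimensional F₀ W] [FiniteDimensional F V]
variable (R : OSet B Q Q₀ ρ) (h13 : 13 ≤ finrank F₀ W) {M : Subgroup (V ≃ₗ[F] V)}
  (hM : Over Q ρ M) (hT : Tight B Q Q₀ ρ M)

include R h13 hM hT in
/-- the commutator of a rational Eichler transformation and a conjugate of one is a root element
through a rational point -/
lemma eich_pair (h7 : 7 ≤ finrank F V) {g : V ≃ₗ[F] V} (hg : g ∈ M) {a b a' b' : W}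
    (ha : Q₀ a = 0) (ha0 : a ≠ 0) (hab : pol (⇑Q₀) a b = 0) (ha' : Q₀ a' = 0)
    (hab' : pol (⇑Q₀) a' b' = 0) (o1 : B (ρ a) (g (ρ a')) = 0) (o2 : B (ρ a) (g (ρ b')) = 0)
    (o3 : B (ρ b) (g (ρ a')) = 0) :
    ∃ (w : W) (κ : F), B (ρ b) (g (ρ b')) • g (ρ a') = ρ w + κ • ρ a := by
  have hgO : g ∈ OG Q := commutator_le_OG (hM.le hg)
  have hgiso : g ∈ Cfsg.Agent.Lib.Helper36.isoGroup R.hQ.toQF := hgO
  have hxM : reich R ha hab ∈ M := reich_mem R h7 hM ha hab
  have hyM : reich R ha' hab' ∈ M := reich_mem R h7 hM ha' hab'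
  have hxiso : reich R ha hab ∈ Cfsg.Agent.Lib.Helper36.isoGroup R.hQ.toQF :=
    reich_mem_OG R ha hab
  obtain ⟨p', hp'def⟩ : ∃ p' : V, p' = g (ρ a') := ⟨_, rfl⟩
  obtain ⟨n', hn'def⟩ : ∃ n' : V, n' = g (ρ b') := ⟨_, rfl⟩
  obtain ⟨β, hβdef⟩ : ∃ β : F, β = B (ρ b) n' := ⟨_, rfl⟩
  rw [← hp'def] at o1 o3
  rw [← hn'def] at o2
  rw [← hp'def, ← hn'def, ← hβdef]
  have hp' : R.hQ.toQF p' = 0 := by
    show Q p' = 0
    rw [hp'def, hgO (ρ a')]; exact R.sing ha'
  have hQp' : Q p' = 0 := hp'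
  have hp'n' : pol (⇑R.hQ.toQF) p' n' = 0 := by
    rw [R.hQ.polar_toQF, hp'def, hn'def, R.hQ.B_map hgO]; exact R.orth hab'
  have hx' : g * reich R ha' hab' * g⁻¹ = eich R.hQ.toQF p' n' hp' hp'n' := by
    unfold reich
    rw [conj_eich' R.hQ.toQF hgiso (ρ a') (ρ b') (R.singF ha') (pol_rat R hab')
      (by rw [← hp'def]; exact hp') (by rw [← hp'def, ← hn'def]; exact hp'n')]
    exact eich_congr R.hQ.toQF _ _ _ _ hp'def.symm hn'def.symm
  have hx'M : eich R.hQ.toQF p' n' hp' hp'n' ∈ M := by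
    rw [← hx']
    exact mul_mem (mul_mem hg hyM) (inv_mem hg)
  have e1 : reich R ha hab p' = p' := reich_fix R ha hab o1 o3
  have e2 : reich R ha hab n' = n' + β • ρ a := by
    rw [reich_apply, o2, ← hβdef]
    simp
  have hp'a : B p' (ρ a) = 0 := by rw [R.hQ.symm]; exact o1
  have hpβ : pol (⇑R.hQ.toQF) p' (β • ρ a) = 0 := by
    rw [R.hQ.polar_toQF, map_smul, hp'a, smul_zero]
  have hsum : pol (⇑R.hQ.toQF) p' (n' + β • ρ a) = 0 := by
    rw [QuadraticMap.polar_add_right, hp'n', hpβ, add_zero]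
  have e3 : reich R ha hab * eich R.hQ.toQF p' n' hp' hp'n' * (reich R ha hab)⁻¹ =
      eich R.hQ.toQF p' (n' + β • ρ a) hp' hsum := by
    rw [conj_eich' R.hQ.toQF hxiso p' n' hp' hp'n' (by rw [e1]; exact hp')
      (by rw [e1, e2]; exact hsum)]
    exact eich_congr R.hQ.toQF _ _ _ _ e1 e2
  have e4 : eich R.hQ.toQF p' (n' + β • ρ a) hp' hsum =
      eich R.hQ.toQF p' n' hp' hp'n' * eich R.hQ.toQF p' (β • ρ a) hp' hpβ :=
    eich_add' R.hQ.toQF p' n' (β • ρ a) hp' hp'n' hpβ hsum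
  have hQβa : Q (β • ρ a) = 0 := sing_smul R.hQ (R.sing ha) β
  have e5 : eich R.hQ.toQF p' (β • ρ a) hp' hpβ = siegel B Q (β • ρ a) p' :=
    eich_eq_siegel R.hQ hp' hpβ hQβa
  have hsM : siegel B Q (β • ρ a) p' ∈ M := by
    have : siegel B Q (β • ρ a) p' = (eich R.hQ.toQF p' n' hp' hp'n')⁻¹ *
        (reich R ha hab * eich R.hQ.toQF p' n' hp' hp'n' * (reich R ha hab)⁻¹) := by
      rw [e3, e4, e5]; group
    rw [this]
    exact mul_mem (inv_mem hx'M) (mul_mem (mul_mem hxM hx'M) (inv_mem hxM))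
  rw [siegel_smul R.hQ (R.sing ha) hQp' o1 β] at hsM
  have hQβp : Q (β • p') = 0 := sing_smul R.hQ hQp' β
  have hBaβp : B (ρ a) (β • p') = 0 := by rw [map_smul, o1, smul_zero]
  have hsM' : siegel B Q (β • p') (ρ a) ∈ M := by
    rw [← siegel_inv R.hQ (R.sing ha) hQβp hBaβp]
    exact inv_mem hsM
  exact tight_radical R h13 hM hT ha ha0 hQβp
    (by rw [map_smul, LinearMap.smul_apply, hp'a, smul_zero]) hsM'

end Main

end Cfsg.Agent.Lib.Helper94.OSubE
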