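/-
Helper94: overgroups of the rational orthogonal group, part E5: the tight case in characteristic
two, and the abstract dichotomy in all cases.
-/
import Mathlib
import Cfsg.Agent.Lib.Helper94.OSubE4

set_option autoImplicit false
set_option linter.unusedSimpArgs false
set_option linter.unusedSectionVars false
set_option linter.unusedVariables false

namespace Cfsg.Agent.Lib.Helper94.OSubE

open LinearMap (BilinForm)
open Module
open Cfsg.Agent.Lib.Helper94 Cfsg.Agent.Lib.Helper94.QuadData Cfsg.Agent.Lib.Helper44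
open Cfsg.Agent.Lib.Helper95.OSub
open Cfsg.Agent.Lib.Helper13 (fixSub mem_fixSub)
open scoped commutatorElement

variable {F : Type*} [Field F] {V : Type*} [AddCommGroup V] [Module F V]
variable {F₀ : Subfield F} {W : Type*} [AddCommGroup W] [Module F₀ W]
variable {B : BilinForm F V} {Q : V → F} {Q₀ : QuadraticForm F₀ W} {ρ : W → V}

local notation "pol" => QuadraticMap.polar

section Main

variable [Finite F] [Finite F₀] [FiniteDimensional F₀ W] [FiniteDimensional F V]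
  [Finite (V ≃ₗ[F] V)]
variable (R : OSet B Q Q₀ ρ) (h13 : 13 ≤ finrank F₀ W) {M : Subgroup (V ≃ₗ[F] V)}
  (hM : Over Q ρ M) (hT : Tight B Q Q₀ ρ M) (h2 : (2 : F) = 0)
  (hdim : finrank F V = finrank F₀ W)

include R h13 hM hT h2 hdim in
/-- the last step in characteristic two -/
theorem final2 {g z : V ≃ₗ[F] V} (hg : g ∈ M) (hz : z ∈ M) (hsq : z * z = 1) (hz1 : z ≠ 1)
    (hr : Rat1 ρ z) (hr' : Rat1 ρ (g⁻¹ * z * g))
    (hfix : finrank F V ≤ finrank F (fixSub z) + 6) : RatU ρ g := by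
  have pc := QuadraticMap.polar_comm (⇑Q₀)
  have hzO : z ∈ OG Q := commutator_le_OG (hM.le hz)
  have hgO : g ∈ OG Q := commutator_le_OG (hM.le hg)
  obtain ⟨h, hh⟩ : ∃ h, h = g⁻¹ * z * g := ⟨_, rfl⟩
  rw [← hh] at hr'
  have hhM : h ∈ M := by rw [hh]; exact mul_mem (mul_mem (inv_mem hg) hz) hg
  have hhO : h ∈ OG Q := commutator_le_OG (hM.le hhM)
  have hhsq : h * h = 1 := by rw [hh]; exact conj_sq hsq
  have hfixh : finrank F (fixSub h) = finrank F (fixSub z) := by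
    have := finrank_fixSub_conj (F := F) g⁻¹ z
    rw [inv_inv] at this
    rw [hh]
    exact this
  have hzg : ∀ v, z (g v) = g (h v) := by
    intro v
    rw [hh]
    simp only [LinearEquiv.mul_apply]
    rw [← LinearEquiv.mul_apply g g⁻¹, mul_inv_cancel]
    rfl
  -- parity
  have hpar := par_eq_zero_of_mem R.hQ R.nd (Or.inr (by omega)) (hM.le hz)
  unfold Cfsg.Agent.Lib.Helper13.par at hpar
  rw [← Nat.cast_add, ZMod.natCast_eq_zero_iff_even] at hpar
  have hne : finrank F (fixSub z) ≠ finrank F V := by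
    intro h'
    apply hz1
    have htop := Submodule.eq_top_of_finrank_eq h'
    apply LinearEquiv.ext
    intro v
    have : v ∈ fixSub z := by rw [htop]; trivial
    exact (mem_fixSub z v).1 this
  have hle := Submodule.finrank_le (fixSub z)
  have hfix2 : finrank F (fixSub z) + 2 ≤ finrank F V := by
    obtain ⟨k, hk⟩ := hpar
    omega
  -- dimensions
  have dIz := finrank_IW_le R z
  have dIh := finrank_IW_le R h
  have dPz := finrank_PW R z
  have dPh := finrank_PW R h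
  have dIz' := Submodule.finrank_le (IW R z)
  have dIh' := Submodule.finrank_le (IW R h)
  have dPz2 : finrank F₀ (PW R z) ≤ finrank F (fixSub z) :=
    finrank_le_of_maps R (PW R z) (fixSub z)
      (fun w hw => (mem_fixSub z _).2 (PW_fix R hzO hsq hr hw))
  have dPh2 : finrank F₀ (PW R h) ≤ finrank F (fixSub h) :=
    finrank_le_of_maps R (PW R h) (fixSub h)
      (fun w hw => (mem_fixSub h _).2 (PW_fix R hhO hhsq hr' hw))
  have hIz2 : 2 ≤ finrank F₀ (IW R z) := by omega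
  have hIh2 : 2 ≤ finrank F₀ (IW R h) := by omega
  -- isotropy
  have isoz : ∀ a ∈ IW R z, ∀ b ∈ IW R z, pol (⇑Q₀) a b = 0 := by
    intro a ha b hb
    obtain ⟨u, hu⟩ := (mem_IW R z a).1 ha
    obtain ⟨u', hu'⟩ := (mem_IW R z b).1 hb
    have := invol_iso R.hQ h2 hzO hsq u u'
    rw [hu, hu', R.form] at this
    exact_mod_cast this
  have isoh : ∀ a ∈ IW R h, ∀ b ∈ IW R h, pol (⇑Q₀) a b = 0 := by
    intro a ha b hb
    obtain ⟨u, hu⟩ := (mem_IW R h a).1 ha
    obtain ⟨u', hu'⟩ := (mem_IW R h b).1 hb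
    have := invol_iso R.hQ h2 hhO hhsq u u'
    rw [hu, hu', R.form] at this
    exact_mod_cast this
  obtain ⟨a₁, ha₁I, ha₁0, ha₁⟩ := exists_sing_of_iso h2 (IW R z) isoz hIz2
  obtain ⟨a', ha'I, ha'0, ha'⟩ := exists_sing_of_iso h2 (IW R h) isoh hIh2
  obtain ⟨b, hb, b', hb', hβ⟩ := exists_pair_ne R g (PW R z) (PW R h) (by omega)
  obtain ⟨β, hβdef⟩ : ∃ β : F, β = B (ρ b) (g (ρ b')) := ⟨_, rfl⟩
  rw [← hβdef] at hβ
  obtain ⟨u₀, hu₀⟩ := (mem_IW R h a').1 ha'I
  have hp'r : z (g u₀) - g u₀ = g (ρ a') := by rw [hzg, ← map_sub, hu₀]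
  have hfb : z (ρ b) = ρ b := PW_fix R hzO hsq hr hb
  have hfb' : z (g (ρ b')) = g (ρ b') := by rw [hzg, PW_fix R hhO hhsq hr' hb']
  have horth : ∀ a ∈ IW R z, B (ρ a) (g (ρ a')) = 0 := by
    intro a haI
    obtain ⟨u, hu⟩ := (mem_IW R z a).1 haI
    rw [← hu, ← hp'r]
    exact invol_iso R.hQ h2 hzO hsq u (g u₀)
  have hX : ∀ a ∈ IW R z, Q₀ a = 0 → a ≠ 0 →
      ∃ (w : W) (κ : F), β • g (ρ a') = ρ w + κ • ρ a := by
    intro a haI ha ha0
    obtain ⟨u, hu⟩ := (mem_IW R z a).1 haI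
    rw [hβdef]
    apply eich_pair R h13 hM hT (by omega) hg ha ha0 ((mem_PW R z b).1 hb a haI) ha'
      ((mem_PW R h b').1 hb' a' ha'I) (horth a haI)
    · rw [R.hQ.symm, ← hu]
      exact fix_perp R.hQ hzO hfb' u
    · rw [← hp'r]
      exact fix_perp R.hQ hzO hfb (g u₀)
  have hgood : ∃ (l : F) (c' : W), g (ρ a') = l • ρ c' := by
    obtain ⟨w₁, κ₁, e₁⟩ := hX a₁ ha₁I ha₁ ha₁0
    by_cases hcase : ∃ a₂ ∈ IW R z, Q₀ a₂ = 0 ∧ ∀ c : F₀, a₂ ≠ c • a₁
    · obtain ⟨a₂, ha₂I, ha₂, hind⟩ := hcase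
      have ha₂0 : a₂ ≠ 0 := by
        intro h0
        exact hind 0 (by rw [h0, zero_smul])
      obtain ⟨w₂, κ₂, e₂⟩ := hX a₂ ha₂I ha₂ ha₂0
      obtain ⟨y, hy1, hy2⟩ := dual2 Q₀ R.nd₀ a₁ a₂ ha₁0 hind 1 0
      have e3 : ρ w₁ + κ₁ • ρ a₁ = ρ w₂ + κ₂ • ρ a₂ := by rw [← e₁, ← e₂]
      have e4 := congrArg (fun t => B t (ρ y)) e3
      simp only [map_add, map_smul, LinearMap.add_apply, LinearMap.smul_apply, R.form, hy1, hy2,
        smul_eq_mul, Subfield.coe_one, Subfield.coe_zero, mul_one, mul_zero, add_zero] at e4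
      have hκ : κ₁ ∈ F₀ := by
        have : κ₁ = ((pol (⇑Q₀) w₂ y - pol (⇑Q₀) w₁ y : F₀) : F) := by
          push_cast
          linear_combination e4
        rw [this]
        exact (pol (⇑Q₀) w₂ y - pol (⇑Q₀) w₁ y).2
      refine ⟨β⁻¹, w₁ + (⟨κ₁, hκ⟩ : F₀) • a₁, ?_⟩
      rw [R.add, R.smul, ← e₁, smul_smul, inv_mul_cancel₀ hβ, one_smul]
    · push Not at hcase
      obtain ⟨u₁, hu₁⟩ := (mem_IW R z a₁).1 ha₁I
      have e5 : ρ w₁ = β • g (ρ a') - κ₁ • ρ a₁ := by rw [e₁]; abel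
      have hw₁I : w₁ ∈ IW R z := by
        rw [mem_IW]
        refine ⟨β • g u₀ - κ₁ • u₁, ?_⟩
        rw [e5, ← hp'r, ← hu₁, map_sub, map_smul, map_smul]
        module
      have hQw₁ : Q₀ w₁ = 0 := by
        have h0 : Q (ρ w₁) = 0 := by
          have hQp : Q (g (ρ a')) = 0 := by rw [hgO (ρ a')]; exact R.sing ha'
          rw [e5, R.hQ.sub, sing_smul R.hQ hQp, sing_smul R.hQ (R.sing ha₁), map_smul, map_smul,
            LinearMap.smul_apply, R.hQ.symm, horth a₁ ha₁I]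
          simp
        rw [R.quad] at h0
        exact_mod_cast h0
      obtain ⟨c, hc⟩ := hcase w₁ hw₁I hQw₁
      have e6 : β • g (ρ a') = ((c : F) + κ₁) • ρ a₁ := by
        rw [e₁, hc, R.smul, add_smul]
      refine ⟨β⁻¹ * ((c : F) + κ₁), a₁, ?_⟩
      rw [mul_smul, ← e6, smul_smul, inv_mul_cancel₀ hβ, one_smul]
  obtain ⟨l, c', hl⟩ := hgood
  exact ratU_of_point R h13 hM hT hg ha' ha'0 hl

include R h13 hM hT h2 hdim in
/-- **the tight case in characteristic two** -/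
theorem tight_le2 {g : V ≃ₗ[F] V} (hg : g ∈ M) : RatU ρ g := by
  obtain ⟨z, hzM, hsq, hz1, r1, r2, hfix⟩ := level2 R h13 hM hT h2 hdim hg
  exact final2 R h13 hM hT h2 hdim hg hzM hsq hz1 r1 r2 hfix

end Main

end Cfsg.Agent.Lib.Helper94.OSubE
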