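/-
Helper94: identities between the root elements of a symplectic group: the transvections
`tv v c : x ↦ x + c B(x,v) v` (long root elements) and the elements
`sg a b c : x ↦ x + c B(x,a) b + c B(x,b) a`, `B a b = 0` (short root elements).
-/
import Mathlib
import Cfsg.Agent.Lib.Helper94.SympMax

set_option autoImplicit false
set_option linter.unusedSimpArgs false

namespace Cfsg.Agent.Lib.Helper94

open LinearMap (BilinForm)

variable {K V : Type*} [Field K] [AddCommGroup V] [Module K V]

namespace SympData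

variable {B : BilinForm K V}

lemma sg_smul_left (h : SympData B) {a b : V} (hab : B a b = 0) (l c : K) :
    h.sg (l • a) b c = h.sg a b (l * c) := by
  have hab' : B (l • a) b = 0 := by rw [map_smul, LinearMap.smul_apply, hab, smul_zero]
  ext x
  rw [h.sg_apply hab', h.sg_apply hab]
  simp only [map_smul, smul_eq_mul]
  module

lemma sg_smul_right (h : SympData B) {a b : V} (hab : B a b = 0) (l c : K) :
    h.sg a (l • b) c = h.sg a b (l * c) := by
  have hab' : B a (l • b) = 0 := by rw [map_smul, hab, smul_zero]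
  ext x
  rw [h.sg_apply hab', h.sg_apply hab]
  simp only [map_smul, smul_eq_mul]
  module

lemma sg_comm (h : SympData B) {a b : V} (hab : B a b = 0) (c : K) :
    h.sg a b c = h.sg b a c := by
  have hba : B b a = 0 := h.eq_zero_comm.1 hab
  ext x
  rw [h.sg_apply hab, h.sg_apply hba]
  module

lemma sg_zero_param (h : SympData B) {a b : V} (hab : B a b = 0) : h.sg a b 0 = 1 := by
  ext x
  rw [h.sg_apply hab]
  simp

lemma sg_add_param (h : SympData B) {a b : V} (hab : B a b = 0) (c d : K) :
    h.sg a b (c + d) = h.sg a b c * h.sg a b d := by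
  have hba : B b a = 0 := h.eq_zero_comm.1 hab
  ext x
  rw [LinearEquiv.mul_apply, h.sg_apply hab, h.sg_apply hab, h.sg_apply hab]
  simp only [map_add, map_smul, LinearMap.add_apply, LinearMap.smul_apply, smul_eq_mul, h.alt,
    hab, hba, mul_zero, add_zero]
  module

lemma sg_add_left (h : SympData B) {a a' b : V} (hab : B a b = 0) (hab' : B a' b = 0)
    (haa : B a a' = 0) (c : K) : h.sg (a + a') b c = h.sg a b c * h.sg a' b c := by
  have hba : B b a = 0 := h.eq_zero_comm.1 hab
  have hba' : B b a' = 0 := h.eq_zero_comm.1 hab'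
  have haa' : B a' a = 0 := h.eq_zero_comm.1 haa
  have h3 : B (a + a') b = 0 := by rw [map_add, LinearMap.add_apply, hab, hab', add_zero]
  ext x
  rw [LinearEquiv.mul_apply, h.sg_apply h3, h.sg_apply hab, h.sg_apply hab']
  simp only [map_add, map_smul, LinearMap.add_apply, LinearMap.smul_apply, smul_eq_mul, h.alt,
    hab, hba, hab', hba', haa, haa', mul_zero, add_zero]
  module

lemma conj_sg (h : SympData B) {g : V ≃ₗ[K] V} (hg : g ∈ Sp B) (a b : V) (c : K) :
    g * h.sg a b c * g⁻¹ = h.sg (g a) (g b) c := by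
  have e : g * h.sg a b c * g⁻¹ =
      (g * h.tv (a + b) c * g⁻¹) * (g * h.tv a (-c) * g⁻¹) * (g * h.tv b (-c) * g⁻¹) := by
    simp only [sg]; group
  rw [e, h.conj_tv hg, h.conj_tv hg, h.conj_tv hg, map_add]
  rfl

/-- a transvection along `a + b`, `a ⊥ b` -/
lemma tv_add_orth (h : SympData B) (a b : V) (c : K) :
    h.tv (a + b) c = h.sg a b c * h.tv b c * h.tv a c := by
  have e1 : h.tv a c = (h.tv a (-c))⁻¹ := by rw [h.tv_inv, neg_neg]
  have e2 : h.tv b c = (h.tv b (-c))⁻¹ := by rw [h.tv_inv, neg_neg]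
  rw [e1, e2, sg]; group

/-- four transvections along mutually orthogonal vectors -/
lemma four_tv (h : SympData B) {w z z' : V} (hwz : B w z = 0) (hwz' : B w z' = 0)
    (hzz : B z z' = 0) (c : K) :
    h.tv w c * h.tv (w + z + z') c * h.tv (w + z) (-c) * h.tv (w + z') (-c) = h.sg z z' c := by
  have hzw : B z w = 0 := h.eq_zero_comm.1 hwz
  have hzw' : B z' w = 0 := h.eq_zero_comm.1 hwz'
  have hzz' : B z' z = 0 := h.eq_zero_comm.1 hzz
  ext x
  rw [h.sg_apply hzz]
  simp only [LinearEquiv.mul_apply, tv_apply, map_add, map_smul, LinearMap.add_apply,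
    LinearMap.smul_apply, smul_eq_mul, h.alt, hwz, hwz', hzz, hzw, hzw', hzz', mul_zero, add_zero,
    zero_add]
  module

/-- commutator of two short root elements with a common long root -/
lemma comm_sg_heis (h : SympData B) {a b b' : V} (hab : B a b = 0) (hab' : B a b' = 0)
    (s s' : K) :
    h.sg a b s * h.sg a b' s' * (h.sg a b s)⁻¹ * (h.sg a b' s')⁻¹ =
      h.tv a (2 * s * s' * B b' b) := by
  have hba : B b a = 0 := h.eq_zero_comm.1 hab
  have hba' : B b' a = 0 := h.eq_zero_comm.1 hab'
  rw [h.sg_inv hab, h.sg_inv hab']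
  ext x
  simp only [LinearEquiv.mul_apply, h.sg_apply hab, h.sg_apply hab', tv_apply, map_add, map_smul,
    LinearMap.add_apply, LinearMap.smul_apply, smul_eq_mul, h.alt, hab, hba, hab', hba', mul_zero,
    add_zero, zero_add]
  rw [h.skew b b']
  module

/-- commutator of two short root elements whose sum is a short root -/
lemma comm_sg_short (h : SympData B) {z y y' z' : V} (hzy : B z y = 0) (hyz' : B y' z' = 0)
    (hzy' : B z y' = 0) (hzz : B z z' = 0) (hyz : B y z' = 0) (hyy : B y y' = 1) (s s' : K) :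
    h.sg z y s * h.sg y' z' s' * (h.sg z y s)⁻¹ * (h.sg y' z' s')⁻¹ = h.sg z z' (-(s * s')) := by
  have h1 : B y z = 0 := h.eq_zero_comm.1 hzy
  have h2 : B z' y' = 0 := h.eq_zero_comm.1 hyz'
  have h3 : B y' z = 0 := h.eq_zero_comm.1 hzy'
  have h4 : B z' z = 0 := h.eq_zero_comm.1 hzz
  have h5 : B z' y = 0 := h.eq_zero_comm.1 hyz
  have h6 : B y' y = -1 := by rw [h.skew, hyy]
  rw [h.sg_inv hzy, h.sg_inv hyz']
  ext x
  simp only [LinearEquiv.mul_apply, h.sg_apply hzy, h.sg_apply hyz', h.sg_apply hzz, map_add,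
    map_smul, LinearMap.add_apply, LinearMap.smul_apply, smul_eq_mul, h.alt, hzy, hyz', hzy', hzz,
    hyz, hyy, h1, h2, h3, h4, h5, h6, mul_zero, add_zero, zero_add]
  module

lemma sg_add_right (h : SympData B) {a b b' : V} (hab : B a b = 0) (hab' : B a b' = 0)
    (hbb : B b b' = 0) (c : K) : h.sg a (b + b') c = h.sg a b c * h.sg a b' c := by
  have h1 : B b a = 0 := h.eq_zero_comm.1 hab
  have h2 : B b' a = 0 := h.eq_zero_comm.1 hab'
  have h3 : B a (b + b') = 0 := by rw [map_add, hab, hab', add_zero]
  rw [h.sg_comm h3, h.sg_add_left h1 h2 hbb, h.sg_comm h1, h.sg_comm h2]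

lemma tv_add_param (h : SympData B) (v : V) (c d : K) :
    h.tv v (c + d) = h.tv v c * h.tv v d := by
  ext x
  simp only [LinearEquiv.mul_apply, tv_apply, map_add, map_smul, LinearMap.add_apply,
    LinearMap.smul_apply, smul_eq_mul, h.alt, mul_zero, add_zero]
  module

lemma tv_neg_left (h : SympData B) (v : V) (c : K) : h.tv (-v) c = h.tv v c := by
  have := h.tv_smul v (-1) c
  rw [neg_one_smul] at this
  rw [this]
  congr 1
  ring

/-- the quotient of the transvections along `a + b` and `a - b`, `a ⊥ b` -/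
lemma tv_mul_tv_sub (h : SympData B) {a b : V} (hab : B a b = 0) (c : K) :
    h.tv (a + b) c * (h.tv (a - b) c)⁻¹ = h.sg a b (2 * c) := by
  have hba : B b a = 0 := h.eq_zero_comm.1 hab
  rw [h.tv_inv]
  ext x
  rw [h.sg_apply hab]
  simp only [LinearEquiv.mul_apply, tv_apply, map_add, map_sub, map_smul, LinearMap.add_apply,
    LinearMap.sub_apply, LinearMap.smul_apply, smul_eq_mul, h.alt, hab, hba, mul_zero, add_zero,
    sub_zero, zero_sub]
  module

/-- The element acting as `-1` on the hyperbolic plane `⟨e, f⟩` and trivially on its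
orthogonal complement, as a product of six transvections. -/
def negHyp (h : SympData B) (e f : V) : V ≃ₗ[K] V :=
  (h.tv e (-1) * h.tv f (-1) * h.tv e (-1)) * (h.tv e (-1) * h.tv f (-1) * h.tv e (-1))

lemma negHyp_apply (h : SympData B) {e f : V} (hef : B e f = 1) (x : V) :
    h.negHyp e f x = x - (2 * B x f) • e + (2 * B x e) • f := by
  have hfe : B f e = -1 := by rw [h.skew, hef]
  simp only [negHyp, LinearEquiv.mul_apply, tv_apply, map_add, map_smul, LinearMap.add_apply,
    LinearMap.smul_apply, smul_eq_mul, h.alt, hef, hfe, mul_zero, add_zero, zero_add]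
  module

lemma negHyp_mem_Sp (h : SympData B) (e f : V) : h.negHyp e f ∈ Sp B := by
  unfold negHyp
  exact mul_mem (mul_mem (mul_mem (h.tv_mem_Sp _ _) (h.tv_mem_Sp _ _)) (h.tv_mem_Sp _ _))
    (mul_mem (mul_mem (h.tv_mem_Sp _ _) (h.tv_mem_Sp _ _)) (h.tv_mem_Sp _ _))

section Exist

variable [FiniteDimensional K V]

/-- a vector orthogonal to `S` outside `S'`, by dimensions -/
lemma exists_orth_not_mem (h : SympData B) (S S' : Submodule K V)
    (hd : Module.finrank K S + Module.finrank K S' < Module.finrank K V) :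
    ∃ x ∈ B.orthogonal S, x ∉ S' := by
  by_contra hcon
  push Not at hcon
  have hle : B.orthogonal S ≤ S' := fun x hx => hcon x hx
  have h1 := Submodule.finrank_mono hle
  rw [LinearMap.BilinForm.finrank_orthogonal h.nondegenerate] at h1
  omega

/-- a dual vector inside `S^⊥` -/
lemma exists_dual_in_orth (h : SympData B) (S : Submodule K V) {y : V}
    (hyS : y ∉ S) : ∃ y' ∈ B.orthogonal S, B y y' = 1 := by
  by_contra hcon
  push Not at hcon
  apply hyS
  rw [← h.orth_orth S, h.mem_orthogonal]
  intro u hu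
  by_contra hne
  apply hcon ((B y u)⁻¹ • u) (Submodule.smul_mem _ _ hu)
  rw [map_smul, smul_eq_mul, inv_mul_cancel₀ hne]

/-- a vector orthogonal to the family `v` outside the span of the family `v'` -/
lemma exists_orth_fam (h : SympData B) {k k' : ℕ} (v : Fin k → V) (v' : Fin k' → V)
    (hd : k + k' < Module.finrank K V) :
    ∃ x, (∀ i, B x (v i) = 0) ∧ x ∉ Submodule.span K (Set.range v') := by
  have h1 : Module.finrank K (Submodule.span K (Set.range v)) ≤ k := by
    have := finrank_range_le_card (R := K) v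
    simpa [Set.finrank] using this
  have h2 : Module.finrank K (Submodule.span K (Set.range v')) ≤ k' := by
    have := finrank_range_le_card (R := K) v'
    simpa [Set.finrank] using this
  obtain ⟨x, hx, hx'⟩ := h.exists_orth_not_mem (Submodule.span K (Set.range v))
    (Submodule.span K (Set.range v')) (by omega)
  exact ⟨x, fun i => (h.mem_orthogonal.1 hx) _ (Submodule.subset_span ⟨i, rfl⟩), hx'⟩

/-- a dual vector orthogonal to the family `v` -/
lemma exists_dual_fam (h : SympData B) {k : ℕ} (v : Fin k → V) {y : V}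
    (hy : y ∉ Submodule.span K (Set.range v)) :
    ∃ y', (∀ i, B y' (v i) = 0) ∧ B y y' = 1 := by
  obtain ⟨y', hy', hyy⟩ := h.exists_dual_in_orth (Submodule.span K (Set.range v)) hy
  exact ⟨y', fun i => (h.mem_orthogonal.1 hy') _ (Submodule.subset_span ⟨i, rfl⟩), hyy⟩

end Exist

end SympData

end Cfsg.Agent.Lib.Helper94
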