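/-
Helper94: overgroups of the rational symplectic group.  `V` is a symplectic space over `F`,
`W` a symplectic space over the subfield `F₀` with a semilinear isometric embedding `ρ : W → V`
(the rational vectors).  `M` is a subgroup of `Sp(V)` containing the rational transvections.
Part 1: lifting, Witt transfer, the set `S` of parameters of the short root elements of `M`.
-/
import Mathlib
import Cfsg.Agent.Lib.Helper94.SpRoot
import Cfsg.Agent.Lib.Helper13.AltForm

set_option autoImplicit false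
set_option linter.unusedSimpArgs false

namespace Cfsg.Agent.Lib.Helper94

open LinearMap (BilinForm)

variable {F : Type*} [Field F] {V : Type*} [AddCommGroup V] [Module F V] {B : BilinForm F V}
variable {F₀ : Subfield F} {W : Type*} [AddCommGroup W] [Module F₀ W] {B₀ : BilinForm F₀ W}

/-- A rational structure: an `F₀`-semilinear isometric map `ρ : W → V` detecting rationality. -/
structure RatStr (B : BilinForm F V) (B₀ : BilinForm F₀ W) (ρ : W → V) : Prop where
  add : ∀ a b, ρ (a + b) = ρ a + ρ b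
  smul : ∀ (c : F₀) (a : W), ρ (c • a) = (c : F) • ρ a
  form : ∀ a b, B (ρ a) (ρ b) = ((B₀ a b : F₀) : F)
  detect : ∀ w : V, (∀ a, ∃ t : F₀, B w (ρ a) = (t : F)) → ∃ b, w = ρ b

namespace RatStr

variable {ρ : W → V}

lemma zero (R : RatStr B B₀ ρ) : ρ 0 = 0 := by
  have := R.add 0 0
  rw [add_zero] at this
  exact (add_eq_left.1 this.symm)

lemma neg (R : RatStr B B₀ ρ) (a : W) : ρ (-a) = -ρ a := by
  have := R.add a (-a)
  rw [add_neg_cancel, R.zero] at this
  exact (neg_eq_of_add_eq_zero_right this.symm).symm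

lemma sub (R : RatStr B B₀ ρ) (a b : W) : ρ (a - b) = ρ a - ρ b := by
  rw [sub_eq_add_neg, R.add, R.neg, sub_eq_add_neg]

lemma form_zero (R : RatStr B B₀ ρ) {a b : W} (hab : B₀ a b = 0) : B (ρ a) (ρ b) = 0 := by
  rw [R.form, hab]; rfl

lemma form_one (R : RatStr B B₀ ρ) {a b : W} (hab : B₀ a b = 1) : B (ρ a) (ρ b) = 1 := by
  rw [R.form, hab]; rfl

/-- rational vectors separate -/
lemma sep (R : RatStr B B₀ ρ) (h₀ : SympData B₀) {x : V} (hx : ∀ a, B x (ρ a) = 0) : x = 0 := by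
  obtain ⟨b, rfl⟩ := R.detect x fun a => ⟨0, by rw [hx a]; rfl⟩
  have : b = 0 := by
    apply h₀.nondeg
    intro y
    have := hx y
    rw [R.form] at this
    exact_mod_cast this
  rw [this, R.zero]

end RatStr

section Main

variable {ρ : W → V} (R : RatStr B B₀ ρ) (h : SympData B) (h₀ : SympData B₀)
  (M : Subgroup (V ≃ₗ[F] V))

/-- `M` contains the rational transvections. -/
def RatIn (F₀ : Subfield F) {W : Type*} [AddCommGroup W] [Module F₀ W] (h : SympData B)
    (ρ : W → V) (M : Subgroup (V ≃ₗ[F] V)) : Prop :=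
  ∀ (a : W) (c : F₀), h.tv (ρ a) (c : F) ∈ M

variable {M}

include R in
lemma ratIn_sg (hM : RatIn F₀ h ρ M) (a b : W) (c : F₀) : h.sg (ρ a) (ρ b) (c : F) ∈ M := by
  unfold SympData.sg
  have h1 := hM (a + b) c
  have h2 := hM a (-c)
  have h3 := hM b (-c)
  rw [R.add] at h1
  have e : ((-c : F₀) : F) = -(c : F) := by push_cast; rfl
  rw [e] at h2 h3
  exact mul_mem (mul_mem h1 h2) h3

include R in
lemma ratIn_negHyp (hM : RatIn F₀ h ρ M) (a b : W) : h.negHyp (ρ a) (ρ b) ∈ M := by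
  unfold SympData.negHyp
  have h2 := hM a (-1)
  have h3 := hM b (-1)
  have e : ((-1 : F₀) : F) = -1 := by push_cast; rfl
  rw [e] at h2 h3
  exact mul_mem (mul_mem (mul_mem h2 h3) h2) (mul_mem (mul_mem h2 h3) h2)

include R h₀ in
/-- products of rational transvections of `W` lift to `M` -/
lemma exists_lift (hM : RatIn F₀ h ρ M) {T : W ≃ₗ[F₀] W}
    (hT : T ∈ Cfsg.Agent.Lib.Helper13.tvGroupL B₀ h₀.isAlt) :
    ∃ g ∈ M, g ∈ SympData.Sp B ∧ ∀ a, g (ρ a) = ρ (T a) := by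
  unfold Cfsg.Agent.Lib.Helper13.tvGroupL at hT
  induction hT using Subgroup.closure_induction with
  | mem T hT =>
    obtain ⟨u, c, rfl⟩ := hT
    refine ⟨h.tv (ρ u) (c : F), hM u c, h.tv_mem_Sp _ _, fun a => ?_⟩
    rw [SympData.tv_apply, Cfsg.Agent.Lib.Helper13.transv_apply, R.add, R.smul, R.form]
    push_cast
    rfl
  | one => exact ⟨1, one_mem _, one_mem _, fun a => rfl⟩
  | mul T T' _ _ ih ih' =>
    obtain ⟨g, hg, hgS, hga⟩ := ih
    obtain ⟨g', hg', hgS', hga'⟩ := ih'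
    refine ⟨g * g', mul_mem hg hg', mul_mem hgS hgS', fun a => ?_⟩
    rw [LinearEquiv.mul_apply, hga', hga]
    rfl
  | inv T _ ih =>
    obtain ⟨g, hg, hgS, hga⟩ := ih
    refine ⟨g⁻¹, inv_mem hg, inv_mem hgS, fun a => ?_⟩
    have h1 : g (ρ (T⁻¹ a)) = ρ a := by
      rw [hga]
      congr 1
      change (T * T⁻¹) a = a
      rw [mul_inv_cancel]; rfl
    rw [← h1]
    change (g⁻¹ * g) (ρ (T⁻¹ a)) = _
    rw [inv_mul_cancel]; rfl

/-- admissible pairs: orthogonal and linearly independent -/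
def Adm (B₀ : BilinForm F₀ W) (u u' : W) : Prop := B₀ u u' = 0 ∧ LinearIndependent F₀ ![u, u']

variable [FiniteDimensional F₀ W]

include R h₀ in
/-- Witt transfer between admissible pairs -/
lemma exists_move2 (hM : RatIn F₀ h ρ M) {u u' v v' : W} (hu : Adm B₀ u u') (hv : Adm B₀ v v') :
    ∃ g ∈ M, g ∈ SympData.Sp B ∧ g (ρ u) = ρ v ∧ g (ρ u') = ρ v' := by
  obtain ⟨T, hT, hTb⟩ := Cfsg.Agent.Lib.Helper13.witt_families B₀ h₀.nondegenerate h₀.isAlt 2
    ![u, u'] ![v, v'] hu.2 hv.2 (by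
      intro i j
      have hu' : B₀ u' u = 0 := h₀.eq_zero_comm.1 hu.1
      have hv' : B₀ v' v = 0 := h₀.eq_zero_comm.1 hv.1
      fin_cases i <;> fin_cases j <;> simp [h₀.alt, hu.1, hv.1, hu', hv'])
  obtain ⟨g, hg, hgS, hga⟩ := exists_lift R h h₀ hM hT
  refine ⟨g, hg, hgS, ?_, ?_⟩
  · rw [hga]; congr 1; exact hTb 0
  · rw [hga]; congr 1; exact hTb 1

/-- `s` is the parameter of short root elements of `M` -/
def ShortIn (h : SympData B) (B₀ : BilinForm F₀ W) (ρ : W → V) (M : Subgroup (V ≃ₗ[F] V))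
    (s : F) : Prop :=
  ∀ u u', Adm B₀ u u' → h.sg (ρ u) (ρ u') s ∈ M

include R h₀ in
lemma shortIn_of_one (hM : RatIn F₀ h ρ M) {u u' : W} (hu : Adm B₀ u u') {s : F}
    (hs : h.sg (ρ u) (ρ u') s ∈ M) : ShortIn h B₀ ρ M s := by
  intro v v' hv
  obtain ⟨g, hg, hgS, h1, h2⟩ := exists_move2 R h h₀ hM hu hv
  have := mul_mem (mul_mem hg hs) (inv_mem hg)
  rwa [h.conj_sg hgS, h1, h2] at this

include R in
lemma shortIn_coe (hM : RatIn F₀ h ρ M) (c : F₀) : ShortIn h B₀ ρ M (c : F) :=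
  fun u u' _ => ratIn_sg R h hM u u' c

include R in
lemma shortIn_add {s s' : F} (hs : ShortIn h B₀ ρ M s) (hs' : ShortIn h B₀ ρ M s') :
    ShortIn h B₀ ρ M (s + s') := by
  intro u u' hu
  rw [h.sg_add_param (R.form_zero hu.1)]
  exact mul_mem (hs u u' hu) (hs' u u' hu)

include R in
lemma shortIn_neg {s : F} (hs : ShortIn h B₀ ρ M s) : ShortIn h B₀ ρ M (-s) := by
  intro u u' hu
  rw [← h.sg_inv (R.form_zero hu.1)]
  exact inv_mem (hs u u' hu)

omit [FiniteDimensional F₀ W] in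
lemma adm_of_not_mem {u u' : W} (h0 : B₀ u u' = 0) (hu : u ≠ 0)
    (hn : u' ∉ Submodule.span F₀ (Set.range ![u])) : Adm B₀ u u' := by
  refine ⟨h0, (LinearIndependent.pair_iff' hu).2 fun a ha => hn ?_⟩
  rw [← ha]
  exact Submodule.smul_mem _ _ (Submodule.subset_span ⟨0, rfl⟩)

/-- a configuration of four rational vectors for the commutator relation -/
lemma exists_config (h₀ : SympData B₀) (hdim : 5 ≤ Module.finrank F₀ W) :
    ∃ z y y' z' : W, B₀ z y = 0 ∧ B₀ y' z' = 0 ∧ B₀ z y' = 0 ∧ B₀ z z' = 0 ∧ B₀ y z' = 0 ∧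
      B₀ y y' = 1 ∧ Adm B₀ z y ∧ Adm B₀ y' z' ∧ Adm B₀ z z' := by
  obtain ⟨z, hz⟩ : ∃ z : W, z ≠ 0 := by
    have : 0 < Module.finrank F₀ W := by omega
    exact (Module.finrank_pos_iff_exists_ne_zero).1 this
  obtain ⟨z', hz'o, hz'n⟩ := h₀.exists_orth_fam ![z] ![z] (by omega)
  obtain ⟨y, hyo, hyn⟩ := h₀.exists_orth_fam ![z, z'] ![z, z'] (by omega)
  obtain ⟨y', hy'o, hyy'⟩ := h₀.exists_dual_fam ![z, z'] hyn
  have e1 : B₀ z' z = 0 := hz'o 0
  have e2 : B₀ y z = 0 := hyo 0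
  have e3 : B₀ y z' = 0 := hyo 1
  have e4 : B₀ y' z = 0 := hy'o 0
  have e5 : B₀ y' z' = 0 := hy'o 1
  have hzS : z ∈ Submodule.span F₀ (Set.range ![z, z']) := Submodule.subset_span ⟨0, rfl⟩
  have hz'0 : z' ≠ 0 := fun h0 => hz'n (h0 ▸ Submodule.zero_mem _)
  have hy'0 : y' ≠ 0 := by
    intro h0
    rw [h0, map_zero] at hyy'
    exact zero_ne_one hyy'
  refine ⟨z, y, y', z', h₀.eq_zero_comm.1 e2, e5, h₀.eq_zero_comm.1 e4, h₀.eq_zero_comm.1 e1, e3,
    hyy', ?_, ?_, ?_⟩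
  · refine ⟨h₀.eq_zero_comm.1 e2, (LinearIndependent.pair_iff' hz).2 fun a ha => hyn ?_⟩
    rw [← ha]
    exact Submodule.smul_mem _ _ hzS
  · refine ⟨e5, (LinearIndependent.pair_iff' hy'0).2 fun a ha => ?_⟩
    have : B₀ y z' = a := by
      rw [← ha, map_smul, hyy', smul_eq_mul, mul_one]
    rw [e3] at this
    rw [← this, zero_smul] at ha
    exact hz'0 ha.symm
  · exact adm_of_not_mem (h₀.eq_zero_comm.1 e1) hz hz'n

include R h₀ in
lemma shortIn_mul (hM : RatIn F₀ h ρ M) (hdim : 5 ≤ Module.finrank F₀ W) {s s' : F}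
    (hs : ShortIn h B₀ ρ M s) (hs' : ShortIn h B₀ ρ M s') : ShortIn h B₀ ρ M (s * s') := by
  obtain ⟨z, y, y', z', a1, a2, a3, a4, a5, a6, b1, b2, b3⟩ := exists_config h₀ hdim
  have h1 := hs z y b1
  have h2 := hs' y' z' b2
  have hc := mul_mem (mul_mem (mul_mem h1 h2) (inv_mem h1)) (inv_mem h2)
  rw [h.comm_sg_short (R.form_zero a1) (R.form_zero a2) (R.form_zero a3) (R.form_zero a4)
    (R.form_zero a5) (R.form_one a6)] at hc
  have := shortIn_neg R h (shortIn_of_one R h h₀ hM b3 hc)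
  rwa [neg_neg] at this

include R h₀ in
/-- the dichotomy: an irrational short root parameter gives all parameters -/
lemma shortIn_all (hprime : (Module.finrank F₀ F).Prime) (hM : RatIn F₀ h ρ M)
    (hdim : 5 ≤ Module.finrank F₀ W) {s : F} (hs : ShortIn h B₀ ρ M s) (hs0 : s ∉ F₀) :
    ∀ t, ShortIn h B₀ ρ M t := by
  let A : Subalgebra F₀ F :=
    { carrier := {t | ShortIn h B₀ ρ M t}
      mul_mem' := fun ha hb => shortIn_mul R h h₀ hM hdim ha hb
      add_mem' := fun ha hb => shortIn_add R h ha hb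
      algebraMap_mem' := fun c => shortIn_coe R h hM c }
  have : IsSimpleOrder (Subalgebra F₀ F) := Subalgebra.isSimpleOrder_of_finrank_prime F₀ F hprime
  rcases eq_bot_or_eq_top A with hA | hA
  · exfalso
    have : s ∈ A := hs
    rw [hA, Algebra.mem_bot] at this
    obtain ⟨c, rfl⟩ := this
    exact hs0 c.2
  · intro t
    have : t ∈ A := by rw [hA]; exact Algebra.mem_top
    exact this

end Main

end Cfsg.Agent.Lib.Helper94
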