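/-
Helper94: overgroups of the rational symplectic group, part 2: from a transvection with a
non-rational centre to short root elements with irrational parameters.
-/
import Mathlib
import Cfsg.Agent.Lib.Helper94.SpSubfield1

set_option autoImplicit false
set_option linter.unusedSimpArgs false
set_option linter.unusedVariables false

namespace Cfsg.Agent.Lib.Helper94

open LinearMap (BilinForm)

variable {F : Type*} [Field F] {V : Type*} [AddCommGroup V] [Module F V] {B : BilinForm F V}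
variable {F₀ : Subfield F} {W : Type*} [AddCommGroup W] [Module F₀ W] {B₀ : BilinForm F₀ W}
variable {ρ : W → V} (R : RatStr B B₀ ρ) (h : SympData B) (h₀ : SympData B₀)
  {M : Subgroup (V ≃ₗ[F] V)}

include R in
lemma ratIn_sg_one (hM : RatIn F₀ h ρ M) (a b : W) : h.sg (ρ a) (ρ b) 1 ∈ M := by
  have := ratIn_sg R h hM a b 1
  simpa using this

include R in
lemma ratIn_tv_one (hM : RatIn F₀ h ρ M) (a : W) : h.tv (ρ a) 1 ∈ M := by
  have := hM a 1
  simpa using this

include R h₀ in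
/-- The basic step: short root elements from a transvection of `M`. -/
lemma step1 (hM : RatIn F₀ h ρ M) {w : V} {c : F} (hwc : h.tv w c ∈ M)
    {u₁ u₂ u₁' u₂' : W} (o12 : B₀ u₁ u₂ = 0) (o11 : B₀ u₁ u₁' = 0) (o12' : B₀ u₁ u₂' = 0)
    (o21 : B₀ u₂ u₁' = 0) (o22 : B₀ u₂ u₂' = 0) (o1'2' : B₀ u₁' u₂' = 0)
    (hφ : 2 * B w (ρ u₁) * B w (ρ u₂) = 0) (hφ' : 2 * B w (ρ u₁') * B w (ρ u₂') = 0) :
    h.sg (B w (ρ u₁) • ρ u₂ + B w (ρ u₂) • ρ u₁) (B w (ρ u₁') • ρ u₂' + B w (ρ u₂') • ρ u₁') c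
      ∈ M := by
  set z : V := B w (ρ u₁) • ρ u₂ + B w (ρ u₂) • ρ u₁ with hz
  set z' : V := B w (ρ u₁') • ρ u₂' + B w (ρ u₂') • ρ u₁' with hz'
  have f12 := R.form_zero o12
  have f11 := R.form_zero o11
  have f12' := R.form_zero o12'
  have f21 := R.form_zero o21
  have f22 := R.form_zero o22
  have f1'2' := R.form_zero o1'2'
  have g12 := h.eq_zero_comm.1 f12
  have g11 := h.eq_zero_comm.1 f11
  have g12' := h.eq_zero_comm.1 f12'
  have g21 := h.eq_zero_comm.1 f21
  have g22 := h.eq_zero_comm.1 f22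
  have g1'2' := h.eq_zero_comm.1 f1'2'
  have hh := ratIn_sg_one R h hM u₁ u₂
  have hh' := ratIn_sg_one R h hM u₁' u₂'
  have hhS := h.sg_mem_Sp (ρ u₁) (ρ u₂) 1
  have hhS' := h.sg_mem_Sp (ρ u₁') (ρ u₂') 1
  have hw1 : h.sg (ρ u₁) (ρ u₂) 1 w = w + z := by
    rw [h.sg_apply f12, hz]; simp only [one_mul]; abel
  have hw2 : h.sg (ρ u₁') (ρ u₂') 1 w = w + z' := by
    rw [h.sg_apply f1'2', hz']; simp only [one_mul]; abel
  have hz2 : h.sg (ρ u₁') (ρ u₂') 1 z = z := by
    rw [h.sg_apply f1'2', hz]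
    simp only [map_add, map_smul, LinearMap.add_apply, LinearMap.smul_apply, smul_eq_mul, f11,
      f12', f21, f22, mul_zero, add_zero, zero_smul]
  have hwz : B w z = 0 := by
    rw [hz, map_add, map_smul, map_smul, smul_eq_mul, smul_eq_mul]
    linear_combination hφ
  have hwz' : B w z' = 0 := by
    rw [hz', map_add, map_smul, map_smul, smul_eq_mul, smul_eq_mul]
    linear_combination hφ'
  have hzz : B z z' = 0 := by
    rw [hz, hz']
    simp only [map_add, map_smul, LinearMap.add_apply, LinearMap.smul_apply, smul_eq_mul, f11,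
      f12', f21, f22, mul_zero, add_zero]
  have t1 : h.tv (w + z) c ∈ M := by
    have := mul_mem (mul_mem hh hwc) (inv_mem hh)
    rwa [h.conj_tv hhS, hw1] at this
  have t2 : h.tv (w + z') c ∈ M := by
    have := mul_mem (mul_mem hh' hwc) (inv_mem hh')
    rwa [h.conj_tv hhS', hw2] at this
  have t3 : h.tv (w + z + z') c ∈ M := by
    have := mul_mem (mul_mem hh' t1) (inv_mem hh')
    rw [h.conj_tv hhS', map_add, hw2, hz2] at this
    rwa [add_right_comm]
  rw [← h.four_tv hwz hwz' hzz c, ← h.tv_inv, ← h.tv_inv]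
  exact mul_mem (mul_mem (mul_mem hwc t3) (inv_mem t1)) (inv_mem t2)

variable [FiniteDimensional F₀ W]

include R h₀ in
/-- if all short root parameters occur then so do all long root parameters -/
lemma mem_Xset_of_shortIn_all [Finite F] (hM : RatIn F₀ h ρ M)
    (hdim : 3 ≤ Module.finrank F₀ W)
    (hall : ∀ t, ShortIn h B₀ ρ M t) (z : W) : ρ z ∈ h.Xset M := by
  by_cases hz : z = 0
  · rw [hz, R.zero]; exact h.zero_mem_Xset M
  obtain ⟨y, hyo, hyn⟩ := h₀.exists_orth_fam ![z] ![z] (by omega)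
  obtain ⟨y', hy'o, hyy'⟩ := h₀.exists_dual_fam ![z] hyn
  have e1 : B₀ y z = 0 := hyo 0
  have e2 : B₀ y' z = 0 := hy'o 0
  have hy'0 : y' ≠ 0 := by
    intro h0
    rw [h0, map_zero] at hyy'
    exact zero_ne_one hyy'
  have adm1 : Adm B₀ z y := adm_of_not_mem (h₀.eq_zero_comm.1 e1) hz hyn
  have adm2 : Adm B₀ y' z := by
    refine ⟨e2, (LinearIndependent.pair_iff' hy'0).2 fun a ha => ?_⟩
    have : B₀ y z = a := by rw [← ha, map_smul, hyy', smul_eq_mul, mul_one]
    rw [e1] at this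
    rw [← this, zero_smul] at ha
    exact hz ha.symm
  have fyz : B (ρ y) (ρ z) = 0 := R.form_zero e1
  have fzy : B (ρ z) (ρ y) = 0 := h.eq_zero_comm.1 fyz
  have fy'z : B (ρ y') (ρ z) = 0 := R.form_zero e2
  have fyy' : B (ρ y) (ρ y') = 1 := R.form_one hyy'
  -- squares are long root parameters
  have key : ∀ s : F, h.tv (ρ z) (s ^ 2) ∈ M := by
    intro s
    have hg := hall s y' z adm2
    have hgS := h.sg_mem_Sp (ρ y') (ρ z) s
    have hgy : h.sg (ρ y') (ρ z) s (ρ y) = ρ y + s • ρ z := by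
      rw [h.sg_apply fy'z, fyy', fyz, mul_one, mul_zero, zero_smul, add_zero]
    have t1 : h.tv (ρ y + s • ρ z) 1 ∈ M := by
      have := mul_mem (mul_mem hg (ratIn_tv_one R h hM y)) (inv_mem hg)
      rwa [h.conj_tv hgS, hgy] at this
    rw [h.tv_add_orth] at t1
    have t2 : h.sg (ρ y) (s • ρ z) 1 ∈ M := by
      rw [h.sg_smul_right fyz, mul_one, h.sg_comm fyz]
      exact hall s z y adm1
    have t3 := ratIn_tv_one R h hM y
    have t4 : h.tv (s • ρ z) 1 ∈ M := by
      have := mul_mem (mul_mem (inv_mem t2) t1) (inv_mem t3)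
      simpa [mul_assoc] using this
    rwa [h.tv_smul, mul_one] at t4
  intro c
  by_cases h2 : (2 : F) = 0
  · have : CharP F 2 := by
      refine CharTwo.of_one_ne_zero_of_two_eq_zero one_ne_zero h2
    have hc : IsSquare c := FiniteField.isSquare_of_char_two (by exact ringChar.eq F 2) c
    obtain ⟨s, rfl⟩ := hc
    have := key s
    rwa [sq] at this
  · have e : c = ((c + 1) / 2) ^ 2 + -(((c - 1) / 2) ^ 2) := by
      field_simp
      ring
    rw [e, h.tv_add_param, ← h.tv_inv]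
    exact mul_mem (key _) (inv_mem (key _))

include R h₀ in
/-- characteristic 2: all components of a transvection of `M` along orthogonal rational pairs -/
lemma char2_short (h2 : (2 : F) = 0) (hM : RatIn F₀ h ρ M) (hdim : 7 ≤ Module.finrank F₀ W)
    {w : V} {c : F} (hwc : h.tv w c ∈ M) {u u' : W} (hu : Adm B₀ u u') :
    h.sg (ρ u) (ρ u') (c * B w (ρ u) * B w (ρ u')) ∈ M := by
  obtain ⟨v', hv'o, hv'n⟩ := h₀.exists_orth_fam ![u, u'] ![u, u'] (by omega)
  obtain ⟨v, hvo, hvn⟩ := h₀.exists_orth_fam ![u, u', v'] ![u, u', v'] (by omega)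
  obtain ⟨y, hyo, hvy⟩ := h₀.exists_dual_fam ![u, u', v'] hvn
  obtain ⟨y', hy'o, hvy'⟩ := h₀.exists_dual_fam ![u, u'] hv'n
  have uu' : B₀ u u' = 0 := hu.1
  have u'u : B₀ u' u = 0 := h₀.eq_zero_comm.1 uu'
  have a1 : B₀ v' u = 0 := hv'o 0
  have a2 : B₀ v' u' = 0 := hv'o 1
  have a1' : B₀ u v' = 0 := h₀.eq_zero_comm.1 a1
  have a2' : B₀ u' v' = 0 := h₀.eq_zero_comm.1 a2
  have b1 : B₀ v u = 0 := hvo 0
  have b2 : B₀ v u' = 0 := hvo 1
  have b3 : B₀ v v' = 0 := hvo 2
  have b1' : B₀ u v = 0 := h₀.eq_zero_comm.1 b1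
  have b2' : B₀ u' v = 0 := h₀.eq_zero_comm.1 b2
  have b3' : B₀ v' v = 0 := h₀.eq_zero_comm.1 b3
  have c1 : B₀ y u = 0 := hyo 0
  have c2 : B₀ y u' = 0 := hyo 1
  have c3 : B₀ y v' = 0 := hyo 2
  have c1' : B₀ u y = 0 := h₀.eq_zero_comm.1 c1
  have c2' : B₀ u' y = 0 := h₀.eq_zero_comm.1 c2
  have c3' : B₀ v' y = 0 := h₀.eq_zero_comm.1 c3
  have d1 : B₀ y' u = 0 := hy'o 0
  have d2 : B₀ y' u' = 0 := hy'o 1
  have d1' : B₀ u y' = 0 := h₀.eq_zero_comm.1 d1
  have d2' : B₀ u' y' = 0 := h₀.eq_zero_comm.1 d2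
  have E1 := step1 R h h₀ hM hwc (u₁ := u) (u₂ := v) (u₁' := u') (u₂' := v') b1' uu' a1' b2 b3 a2'
    (by rw [h2]; ring) (by rw [h2]; ring)
  set p := B w (ρ u) with hp
  set p' := B w (ρ u') with hp'
  set q := B w (ρ v) with hq
  set q' := B w (ρ v') with hq'
  set z : V := p • ρ v + q • ρ u with hz
  set z' : V := p' • ρ v' + q' • ρ u' with hz'
  have c0 : ((0 : F₀) : F) = 0 := rfl
  have c01 : ((1 : F₀) : F) = 1 := rfl
  have hzz : B z z' = 0 := by
    rw [hz, hz']
    simp only [map_add, map_smul, LinearMap.add_apply, LinearMap.smul_apply, smul_eq_mul, R.form,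
      uu', a1', b2, b3, c0, mul_zero, add_zero]
  have hzu : B z (ρ u) = 0 := by
    rw [hz]
    simp only [map_add, map_smul, LinearMap.add_apply, LinearMap.smul_apply, smul_eq_mul, R.form,
      b1, h₀.alt, c0, mul_zero, add_zero]
  have huz : B (ρ u) z = 0 := h.eq_zero_comm.1 hzu
  have hzy : B z (ρ y) = p := by
    rw [hz]
    simp only [map_add, map_smul, LinearMap.add_apply, LinearMap.smul_apply, smul_eq_mul, R.form,
      hvy, c1', c0, c01, mul_zero, add_zero, mul_one]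
  have hz'u : B z' (ρ u) = 0 := by
    rw [hz']
    simp only [map_add, map_smul, LinearMap.add_apply, LinearMap.smul_apply, smul_eq_mul, R.form,
      a1, u'u, c0, mul_zero, add_zero]
  have huz' : B (ρ u) z' = 0 := h.eq_zero_comm.1 hz'u
  have hz'y : B z' (ρ y) = 0 := by
    rw [hz']
    simp only [map_add, map_smul, LinearMap.add_apply, LinearMap.smul_apply, smul_eq_mul, R.form,
      c3', c2', c0, mul_zero, add_zero]
  have hz'u' : B z' (ρ u') = 0 := by
    rw [hz']
    simp only [map_add, map_smul, LinearMap.add_apply, LinearMap.smul_apply, smul_eq_mul, R.form,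
      a2, h₀.alt, c0, mul_zero, add_zero]
  have hz'y' : B z' (ρ y') = p' := by
    rw [hz']
    simp only [map_add, map_smul, LinearMap.add_apply, LinearMap.smul_apply, smul_eq_mul, R.form,
      hvy', d2', c0, c01, mul_zero, add_zero, mul_one]
  -- first conjugation
  have hg1 := ratIn_sg_one R h hM u y
  have hg1S := h.sg_mem_Sp (ρ u) (ρ y) 1
  have fuy : B (ρ u) (ρ y) = 0 := R.form_zero c1'
  have g1z : h.sg (ρ u) (ρ y) 1 z = z + p • ρ u := by
    rw [h.sg_apply fuy, hzu, hzy, mul_zero, zero_smul, add_zero, one_mul]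
  have g1z' : h.sg (ρ u) (ρ y) 1 z' = z' := by
    rw [h.sg_apply fuy, hz'u, hz'y, mul_zero, zero_smul, add_zero, zero_smul, add_zero]
  have E2 : h.sg (ρ u) z' (p * c) ∈ M := by
    have := mul_mem (mul_mem hg1 E1) (inv_mem hg1)
    rw [h.conj_sg hg1S, g1z, g1z', h.sg_add_left hzz
      (by rw [map_smul, LinearMap.smul_apply, huz', smul_zero])
      (by rw [map_smul, hzu, smul_zero])] at this
    have h3 := mul_mem (inv_mem E1) this
    rw [inv_mul_cancel_left, h.sg_smul_left huz'] at h3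
    exact h3
  -- second conjugation
  have hg2 := ratIn_sg_one R h hM u' y'
  have hg2S := h.sg_mem_Sp (ρ u') (ρ y') 1
  have fu'y' : B (ρ u') (ρ y') = 0 := R.form_zero d2'
  have g2u : h.sg (ρ u') (ρ y') 1 (ρ u) = ρ u := by
    rw [h.sg_apply fu'y', R.form_zero uu', R.form_zero d1', mul_zero, zero_smul, add_zero,
      zero_smul, add_zero]
  have g2z' : h.sg (ρ u') (ρ y') 1 z' = z' + p' • ρ u' := by
    rw [h.sg_apply fu'y', hz'u', hz'y', mul_zero, zero_smul, add_zero, one_mul]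
  have fuu' : B (ρ u) (ρ u') = 0 := R.form_zero uu'
  have E3 : h.sg (ρ u) (ρ u') (p' * (p * c)) ∈ M := by
    have := mul_mem (mul_mem hg2 E2) (inv_mem hg2)
    rw [h.conj_sg hg2S, g2u, g2z', h.sg_add_right huz'
      (by rw [map_smul, fuu', smul_zero])
      (by rw [map_smul, hz'u', smul_zero])] at this
    have h3 := mul_mem (inv_mem E2) this
    rw [inv_mul_cancel_left, h.sg_smul_right fuu'] at h3
    exact h3
  have e : c * p * p' = p' * (p * c) := by ring
  rw [e]
  exact E3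

omit [FiniteDimensional F₀ W] in
/-- square roots in characteristic 2 -/
lemma mem_of_sq_mem_char2 [Finite F] (h2 : (2 : F) = 0) (F₀ : Subfield F) {x : F}
    (hx : x ^ 2 ∈ F₀) : x ∈ F₀ := by
  have h2' : (2 : F₀) = 0 := Subtype.ext (by push_cast; exact h2)
  have : CharP F₀ 2 := CharTwo.of_one_ne_zero_of_two_eq_zero one_ne_zero h2'
  have hsq : IsSquare (⟨x ^ 2, hx⟩ : F₀) :=
    FiniteField.isSquare_of_char_two (by exact ringChar.eq F₀ 2) _
  obtain ⟨s, hs⟩ := hsq
  have hs' : x ^ 2 = (s : F) * (s : F) := by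
    have := congrArg (Subtype.val) hs
    simpa using this
  have : (x - (s : F)) ^ 2 = 0 := by
    have : (x - (s : F)) ^ 2 = x ^ 2 + (s : F) * s - 2 * (x * s) := by ring
    rw [this, h2, hs']
    linear_combination ((s : F) * s) * h2
  have : x - (s : F) = 0 := by simpa using this
  rw [sub_eq_zero.1 this]
  exact s.2

include R h₀ in
/-- characteristic 2: if all short root parameters of `M` are rational, the centres of the
transvections of `M` are rational points -/
lemma char2_rational [Finite F] (h2 : (2 : F) = 0) (hM : RatIn F₀ h ρ M)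
    (hdim : 7 ≤ Module.finrank F₀ W) (hS : ∀ t, ShortIn h B₀ ρ M t → t ∈ F₀)
    {w : V} {c : F} (hc : c ≠ 0) (hwc : h.tv w c ∈ M) : ∃ (l : F) (b : W), w = l • ρ b := by
  have key1 : ∀ u u', Adm B₀ u u' → c * B w (ρ u) * B w (ρ u') ∈ F₀ := fun u u' hu =>
    hS _ (shortIn_of_one R h h₀ hM hu (char2_short R h h₀ h2 hM hdim hwc hu))
  have key2 : ∀ u, c * B w (ρ u) ^ 2 ∈ F₀ := by
    intro u
    by_cases hu : u = 0
    · rw [hu, R.zero, map_zero]; simp
    obtain ⟨u', hu'o, hu'n⟩ := h₀.exists_orth_fam ![u] ![u] (by omega)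
    have e1 : B₀ u' u = 0 := hu'o 0
    have e1' : B₀ u u' = 0 := h₀.eq_zero_comm.1 e1
    have adm1 : Adm B₀ u u' := adm_of_not_mem e1' hu hu'n
    have adm2 : Adm B₀ u (u + u') := by
      refine ⟨by rw [map_add, h₀.alt, e1', add_zero], (LinearIndependent.pair_iff' hu).2 ?_⟩
      intro a ha
      apply hu'n
      have : u' = (a - 1) • u := by rw [sub_smul, one_smul, ha]; abel
      rw [this]
      exact Submodule.smul_mem _ _ (Submodule.subset_span ⟨0, rfl⟩)
    have k1 := key1 u u' adm1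
    have k2 := key1 u (u + u') adm2
    rw [R.add, map_add] at k2
    have := F₀.sub_mem k2 k1
    have e : c * B w (ρ u) * (B w (ρ u) + B w (ρ u')) - c * B w (ρ u) * B w (ρ u') =
        c * B w (ρ u) ^ 2 := by ring
    rwa [e] at this
  by_cases hw0 : ∀ a, B w (ρ a) = 0
  · exact ⟨0, 0, by rw [R.sep h₀ hw0, zero_smul]⟩
  push Not at hw0
  obtain ⟨u₀, hu₀⟩ := hw0
  set β₀ := B w (ρ u₀) with hβ₀
  have key3 : ∀ a, ∃ t : F₀, B (β₀⁻¹ • w) (ρ a) = (t : F) := by
    intro a
    have hx : (β₀⁻¹ * B w (ρ a)) ^ 2 ∈ F₀ := by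
      have h1 := key2 a
      have h2 := key2 u₀
      have h3 := F₀.div_mem h1 h2
      have e : c * B w (ρ a) ^ 2 / (c * B w (ρ u₀) ^ 2) = (β₀⁻¹ * B w (ρ a)) ^ 2 := by
        rw [← hβ₀]
        field_simp
      rwa [e] at h3
    have := mem_of_sq_mem_char2 h2 F₀ hx
    exact ⟨⟨_, this⟩, by rw [map_smul, LinearMap.smul_apply, smul_eq_mul]⟩
  obtain ⟨b, hb⟩ := R.detect _ key3
  refine ⟨β₀, b, ?_⟩
  rw [← hb, smul_smul, mul_inv_cancel₀ hu₀, one_smul]

end Cfsg.Agent.Lib.Helper94
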