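/-
Helper94: overgroups of the rational symplectic group, part 3: odd characteristic, and the
abstract main theorem.
-/
import Mathlib
import Cfsg.Agent.Lib.Helper94.SpSubfield2

set_option autoImplicit false
set_option linter.unusedSimpArgs false
set_option linter.unusedVariables false

namespace Cfsg.Agent.Lib.Helper94

open LinearMap (BilinForm)

variable {F : Type*} [Field F] {V : Type*} [AddCommGroup V] [Module F V] {B : BilinForm F V}
variable {F₀ : Subfield F} {W : Type*} [AddCommGroup W] [Module F₀ W] {B₀ : BilinForm F₀ W}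
variable {ρ : W → V} (R : RatStr B B₀ ρ) (h : SympData B) (h₀ : SympData B₀)
  {M : Subgroup (V ≃ₗ[F] V)}

include R h₀ in
/-- odd characteristic: the projection of the centre of a transvection of `M` to a rational
hyperbolic plane is again the centre of a transvection of `M` -/
lemma odd_plane (h2 : (2 : F) ≠ 0) (hM : RatIn F₀ h ρ M) {w : V} {c : F} (hc : c ≠ 0)
    (hwc : h.tv w c ∈ M) {ε ε' : W} (hεε' : B₀ ε ε' = 1) :
    ∃ κ : F, κ ≠ 0 ∧ h.tv (B w (ρ ε') • ρ ε - B w (ρ ε) • ρ ε') κ ∈ M := by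
  have hε'ε : B₀ ε' ε = -1 := by rw [h₀.skew, hεε']
  have f1 : B (ρ ε) (ρ ε') = 1 := R.form_one hεε'
  have f2 : B (ρ ε') (ρ ε) = -1 := by rw [h.skew, f1]
  obtain ⟨p, hp⟩ : ∃ p, p = B w (ρ ε) := ⟨_, rfl⟩
  obtain ⟨p', hp'⟩ : ∃ p', p' = B w (ρ ε') := ⟨_, rfl⟩
  rw [← hp, ← hp']
  obtain ⟨a, ha⟩ : ∃ a : V, a = p' • ρ ε - p • ρ ε' := ⟨_, rfl⟩
  rw [← ha]
  obtain ⟨b, hb⟩ : ∃ b : V, b = w - a := ⟨_, rfl⟩
  have hwa : B w a = 0 := by
    rw [ha, map_sub, map_smul, map_smul, smul_eq_mul, smul_eq_mul, ← hp, ← hp']; ring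
  have haa : B a a = 0 := h.alt a
  have haw : B a w = 0 := h.eq_zero_comm.1 hwa
  have hba : B b a = 0 := by rw [hb, map_sub, LinearMap.sub_apply, hwa, haa, sub_zero]
  have hab : B a b = 0 := h.eq_zero_comm.1 hba
  have hn := ratIn_negHyp R h hM ε ε'
  have hnS := h.negHyp_mem_Sp (ρ ε) (ρ ε')
  have hnw : h.negHyp (ρ ε) (ρ ε') w = b - a := by
    rw [h.negHyp_apply f1, hb, ha, ← hp, ← hp']
    module
  have t1 : h.tv (b - a) c ∈ M := by
    have := mul_mem (mul_mem hn hwc) (inv_mem hn)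
    rwa [h.conj_tv hnS, hnw] at this
  have t0 : h.tv (b + a) c ∈ M := by
    have : b + a = w := by rw [hb]; abel
    rwa [this]
  have σ : h.sg a b (2 * c) ∈ M := by
    have := mul_mem t0 (inv_mem t1)
    rwa [h.tv_mul_tv_sub hba, h.sg_comm hba] at this
  by_cases hbz : ∀ u, B₀ u ε = 0 → B₀ u ε' = 0 → B w (ρ u) = 0
  · -- then `b = 0`
    have hb0 : b = 0 := by
      apply R.sep h₀
      intro x
      have hx := hbz (x - B₀ x ε' • ε + B₀ x ε • ε')
        (by simp only [map_add, map_sub, map_smul, LinearMap.add_apply, LinearMap.sub_apply,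
              LinearMap.smul_apply, smul_eq_mul, h₀.alt, hε'ε]; ring)
        (by simp only [map_add, map_sub, map_smul, LinearMap.add_apply, LinearMap.sub_apply,
              LinearMap.smul_apply, smul_eq_mul, h₀.alt, hεε']; ring)
      rw [R.add, R.sub, R.smul, R.smul, map_add, map_sub, map_smul, map_smul, smul_eq_mul,
        smul_eq_mul, ← hp, ← hp'] at hx
      rw [hb, ha]
      simp only [map_sub, map_smul, LinearMap.sub_apply, LinearMap.smul_apply, smul_eq_mul]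
      have e1 : B (ρ ε) (ρ x) = -((B₀ x ε : F₀) : F) := by
        rw [h.skew, R.form]
      have e2 : B (ρ ε') (ρ x) = -((B₀ x ε' : F₀) : F) := by
        rw [h.skew, R.form]
      rw [e1, e2]
      linear_combination hx
    refine ⟨c, hc, ?_⟩
    have : a = w := by
      have : b + a = w := by rw [hb]; abel
      rw [← this, hb0, zero_add]
    rwa [this]
  · push Not at hbz
    obtain ⟨u, hu1, hu2, hu3⟩ := hbz
    have g1 : B (ρ ε) (ρ u) = 0 := h.eq_zero_comm.1 (R.form_zero hu1)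
    have g2 : B (ρ ε') (ρ u) = 0 := h.eq_zero_comm.1 (R.form_zero hu2)
    obtain ⟨φ, hφ⟩ : ∃ φ, φ = B w (ρ u) := ⟨_, rfl⟩
    rw [← hφ] at hu3
    have hau : B a (ρ u) = 0 := by
      rw [ha, map_sub, map_smul, map_smul, LinearMap.sub_apply, LinearMap.smul_apply,
        LinearMap.smul_apply, g1, g2, smul_zero, smul_zero, sub_zero]
    have hbu : B b (ρ u) = φ := by
      rw [hb, map_sub, LinearMap.sub_apply, hau, sub_zero, hφ]
    have ht := ratIn_tv_one R h hM u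
    have htS := h.tv_mem_Sp (ρ u) 1
    have hta : h.tv (ρ u) 1 a = a := by
      rw [SympData.tv_apply, hau, mul_zero, zero_smul, add_zero]
    have htb : h.tv (ρ u) 1 b = b + φ • ρ u := by
      rw [SympData.tv_apply, hbu, one_mul]
    have σ' : h.sg a (b + φ • ρ u) (2 * c) ∈ M := by
      have := mul_mem (mul_mem ht σ) (inv_mem ht)
      rwa [h.conj_sg htS, hta, htb] at this
    have hab' : B a (b + φ • ρ u) = 0 := by
      rw [map_add, map_smul, hab, hau, smul_zero, add_zero]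
    have hcomm := mul_mem (mul_mem (mul_mem σ σ') (inv_mem σ)) (inv_mem σ')
    rw [h.comm_sg_heis hab hab'] at hcomm
    have hub : B (ρ u) b = -φ := by rw [h.skew, hbu]
    have e : 2 * (2 * c) * (2 * c) * B (b + φ • ρ u) b = -(2 * (2 * c) * (2 * c) * φ ^ 2) := by
      rw [map_add, LinearMap.add_apply, h.alt, map_smul, LinearMap.smul_apply, hub, smul_eq_mul]
      ring
    rw [e] at hcomm
    refine ⟨_, ?_, hcomm⟩
    simp only [neg_ne_zero, ne_eq, mul_eq_zero, not_or, pow_eq_zero_iff, OfNat.ofNat_ne_zero,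
      not_false_eq_true]
    exact ⟨⟨⟨h2, h2, hc⟩, h2, hc⟩, hu3⟩

variable [FiniteDimensional F₀ W]

include R h₀ in
lemma odd_sq (hM : RatIn F₀ h ρ M) (hS : ∀ t, ShortIn h B₀ ρ M t → t ∈ F₀) {w' : V} {κ : F}
    (hk : h.tv w' κ ∈ M) {v v' : W} (hv : Adm B₀ v v') (hwv : B w' (ρ v) = 0)
    (hwv' : B w' (ρ v') = 0) {x : W} (hxv : B₀ x v = 0) (hxv' : B₀ x v' = 0) :
    κ * B w' (ρ x) ^ 2 ∈ F₀ := by
  have E := step1 R h h₀ hM hk (u₁ := x) (u₂ := v) (u₁' := x) (u₂' := v') hxv (h₀.alt x) hxv'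
    (h₀.eq_zero_comm.1 hxv) hv.1 hxv' (by rw [hwv, mul_zero]) (by rw [hwv', mul_zero])
  rw [hwv, hwv', zero_smul, add_zero, add_zero] at E
  have fvv' : B (ρ v) (ρ v') = 0 := R.form_zero hv.1
  rw [h.sg_smul_left (by rw [map_smul, fvv', smul_zero]), h.sg_smul_right fvv'] at E
  have := hS _ (shortIn_of_one R h h₀ hM hv E)
  have e : B w' (ρ x) * (B w' (ρ x) * κ) = κ * B w' (ρ x) ^ 2 := by ring
  rwa [e] at this

include R h₀ in
/-- odd characteristic: on a rational hyperbolic pair the coordinates of the centre of a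
transvection of `M` are proportional over `F₀` -/
lemma odd_ratio (h2 : (2 : F) ≠ 0) (hM : RatIn F₀ h ρ M) (hdim : 5 ≤ Module.finrank F₀ W)
    (hS : ∀ t, ShortIn h B₀ ρ M t → t ∈ F₀) {w : V} {c : F} (hc : c ≠ 0)
    (hwc : h.tv w c ∈ M) {ε ε' : W} (hεε' : B₀ ε ε' = 1) (hp0 : B w (ρ ε) ≠ 0) :
    ∃ t : F₀, B w (ρ ε') = (t : F) * B w (ρ ε) := by
  obtain ⟨κ, hκ, hk⟩ := odd_plane R h h₀ h2 hM hc hwc hεε'
  obtain ⟨p, hp⟩ : ∃ p, p = B w (ρ ε) := ⟨_, rfl⟩
  obtain ⟨p', hp'⟩ : ∃ p', p' = B w (ρ ε') := ⟨_, rfl⟩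
  rw [← hp, ← hp'] at hk
  rw [← hp] at hp0
  rw [← hp, ← hp']
  obtain ⟨w', hw'⟩ : ∃ w' : V, w' = p' • ρ ε - p • ρ ε' := ⟨_, rfl⟩
  rw [← hw'] at hk
  obtain ⟨v, hvo, hvn⟩ := h₀.exists_orth_fam ![ε, ε'] ![ε] (by omega)
  have hv0 : v ≠ 0 := fun h0 => hvn (h0 ▸ Submodule.zero_mem _)
  obtain ⟨v', hv'o, hv'n⟩ := h₀.exists_orth_fam ![ε, ε', v] ![v] (by omega)
  have a1 : B₀ v ε = 0 := hvo 0
  have a2 : B₀ v ε' = 0 := hvo 1
  have b1 : B₀ v' ε = 0 := hv'o 0
  have b2 : B₀ v' ε' = 0 := hv'o 1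
  have b3 : B₀ v' v = 0 := hv'o 2
  have a1' := h₀.eq_zero_comm.1 a1
  have a2' := h₀.eq_zero_comm.1 a2
  have b1' := h₀.eq_zero_comm.1 b1
  have b2' := h₀.eq_zero_comm.1 b2
  have hv : Adm B₀ v v' := adm_of_not_mem (h₀.eq_zero_comm.1 b3) hv0 hv'n
  have f1 : B (ρ ε) (ρ ε') = 1 := R.form_one hεε'
  have f2 : B (ρ ε') (ρ ε) = -1 := by rw [h.skew, f1]
  have hwv : B w' (ρ v) = 0 := by
    rw [hw', map_sub, map_smul, map_smul, LinearMap.sub_apply, LinearMap.smul_apply,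
      LinearMap.smul_apply, R.form_zero a1', R.form_zero a2', smul_zero, smul_zero, sub_zero]
  have hwv' : B w' (ρ v') = 0 := by
    rw [hw', map_sub, map_smul, map_smul, LinearMap.sub_apply, LinearMap.smul_apply,
      LinearMap.smul_apply, R.form_zero b1', R.form_zero b2', smul_zero, smul_zero, sub_zero]
  have e1 : B w' (ρ ε) = p := by
    rw [hw', map_sub, map_smul, map_smul, LinearMap.sub_apply, LinearMap.smul_apply,
      LinearMap.smul_apply, h.alt, f2, smul_zero, smul_eq_mul]; ring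
  have e2 : B w' (ρ ε') = p' := by
    rw [hw', map_sub, map_smul, map_smul, LinearMap.sub_apply, LinearMap.smul_apply,
      LinearMap.smul_apply, h.alt, f1, smul_zero, smul_eq_mul]; ring
  have k1 := odd_sq R h h₀ hM hS hk hv hwv hwv' (x := ε) a1' b1'
  have k2 := odd_sq R h h₀ hM hS hk hv hwv hwv' (x := ε') a2' b2'
  have k3 := odd_sq R h h₀ hM hS hk hv hwv hwv' (x := ε + ε')
    (by rw [map_add, LinearMap.add_apply, a1', a2', add_zero])
    (by rw [map_add, LinearMap.add_apply, b1', b2', add_zero])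
  rw [e1] at k1
  rw [e2] at k2
  rw [R.add, map_add, e1, e2] at k3
  have k4 : 2 * κ * p * p' ∈ F₀ := by
    have := F₀.sub_mem (F₀.sub_mem k3 k1) k2
    have e : κ * (p + p') ^ 2 - κ * p ^ 2 - κ * p' ^ 2 = 2 * κ * p * p' := by ring
    rwa [e] at this
  have k5 : 2 * κ * p ^ 2 ∈ F₀ := by
    have h2m : (2 : F) ∈ F₀ := by
      have := F₀.add_mem F₀.one_mem F₀.one_mem
      rwa [one_add_one_eq_two] at this
    have := F₀.mul_mem h2m k1
    rwa [← mul_assoc] at this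
  have k6 := F₀.div_mem k4 k5
  refine ⟨⟨_, k6⟩, ?_⟩
  show p' = 2 * κ * p * p' / (2 * κ * p ^ 2) * p
  field_simp

include R h₀ in
/-- odd characteristic: if all short root parameters of `M` are rational, the centres of the
transvections of `M` are rational points -/
lemma odd_rational (h2 : (2 : F) ≠ 0) (hM : RatIn F₀ h ρ M) (hdim : 5 ≤ Module.finrank F₀ W)
    (hS : ∀ t, ShortIn h B₀ ρ M t → t ∈ F₀) {w : V} {c : F} (hc : c ≠ 0)
    (hwc : h.tv w c ∈ M) : ∃ (l : F) (b : W), w = l • ρ b := by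
  by_cases hw0 : ∀ a, B w (ρ a) = 0
  · exact ⟨0, 0, by rw [R.sep h₀ hw0, zero_smul]⟩
  push Not at hw0
  obtain ⟨u₀, hu₀⟩ := hw0
  obtain ⟨β₀, hβ₀⟩ : ∃ β₀, β₀ = B w (ρ u₀) := ⟨_, rfl⟩
  rw [← hβ₀] at hu₀
  have aux : ∀ u, B₀ u₀ u ≠ 0 → ∃ t : F₀, B w (ρ u) = (t : F) * β₀ := by
    intro u hu
    have hyp : B₀ u₀ ((B₀ u₀ u)⁻¹ • u) = 1 := by
      rw [map_smul, smul_eq_mul, inv_mul_cancel₀ hu]
    obtain ⟨t, ht⟩ := odd_ratio R h h₀ h2 hM hdim hS hc hwc hyp (by rw [← hβ₀]; exact hu₀)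
    rw [R.smul, map_smul, smul_eq_mul, ← hβ₀] at ht
    refine ⟨B₀ u₀ u * t, ?_⟩
    have hne : ((B₀ u₀ u : F₀) : F) ≠ 0 := by
      intro h0
      apply hu
      exact_mod_cast h0
    push_cast at ht ⊢
    field_simp at ht
    linear_combination ht
  have key : ∀ u, ∃ t : F₀, B w (ρ u) = (t : F) * β₀ := by
    intro u
    by_cases hu : B₀ u₀ u = 0
    · have hu₀0 : u₀ ≠ 0 := by
        intro h0
        rw [h0, R.zero, map_zero] at hβ₀
        exact hu₀ hβ₀
      obtain ⟨x, hx⟩ : ∃ x, B₀ u₀ x ≠ 0 := by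
        by_contra hcon
        push Not at hcon
        exact hu₀0 (h₀.nondeg u₀ hcon)
      obtain ⟨t1, ht1⟩ := aux x hx
      obtain ⟨t2, ht2⟩ := aux (u + x) (by rw [map_add, hu, zero_add]; exact hx)
      rw [R.add, map_add, ht1] at ht2
      refine ⟨t2 - t1, ?_⟩
      push_cast
      linear_combination ht2
    · exact aux u hu
  have key3 : ∀ a, ∃ t : F₀, B (β₀⁻¹ • w) (ρ a) = (t : F) := by
    intro a
    obtain ⟨t, ht⟩ := key a
    refine ⟨t, ?_⟩
    rw [map_smul, LinearMap.smul_apply, smul_eq_mul, ht]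
    field_simp
  obtain ⟨b, hb⟩ := R.detect _ key3
  refine ⟨β₀, b, ?_⟩
  rw [← hb, smul_smul, mul_inv_cancel₀ hu₀, one_smul]

include R h₀ in
/-- **Main abstract theorem.**  A subgroup of the symplectic group containing the rational
transvections and a transvection whose centre is not a rational point contains all transvections
with rational centres. -/
theorem rat_mem_Xset [Finite F] (hprime : (Module.finrank F₀ F).Prime)
    (hdim : 7 ≤ Module.finrank F₀ W) (hM : RatIn F₀ h ρ M) {w : V} {c : F} (hc : c ≠ 0)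
    (hwc : h.tv w c ∈ M) (hw : ∀ (l : F) (b : W), w ≠ l • ρ b) : ∀ a, ρ a ∈ h.Xset M := by
  by_cases hall : ∀ t, ShortIn h B₀ ρ M t
  · exact mem_Xset_of_shortIn_all R h h₀ hM (by omega) hall
  exfalso
  have hS : ∀ t, ShortIn h B₀ ρ M t → t ∈ F₀ := by
    intro t ht
    by_contra hn
    exact hall (shortIn_all R h h₀ hprime hM (by omega) ht hn)
  by_cases h2 : (2 : F) = 0
  · obtain ⟨l, b, hlb⟩ := char2_rational R h h₀ h2 hM hdim hS hc hwc
    exact hw l b hlb
  · obtain ⟨l, b, hlb⟩ := odd_rational R h h₀ h2 hM (by omega) hS hc hwc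
    exact hw l b hlb

end Cfsg.Agent.Lib.Helper94
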