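/-
Helper94: the standard rational structure on `F^(2m)` with the standard symplectic form, and the
generation step: a subgroup containing all transvections with rational centres contains `Sp`.
-/
import Mathlib
import Cfsg.Agent.Lib.Helper94.SpSubfield3
import Cfsg.Agent.Lib.Helper94.SympBridge

set_option autoImplicit false
set_option linter.unusedSimpArgs false
set_option linter.unusedVariables false

namespace Cfsg.Agent.Lib.Helper94

open LinearMap (BilinForm)

variable {F : Type*} [Field F] (F₀ : Subfield F)

/-- the rational vector with given coordinates -/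
def ratV {ι : Type*} (a : ι → F₀) : ι → F := fun i => (a i : F)

lemma ratV_apply {ι : Type*} (a : ι → F₀) (i : ι) : ratV F₀ a i = (a i : F) := rfl

lemma ratV_single {ι : Type*} [DecidableEq ι] (j : ι) :
    ratV F₀ (Pi.single j 1) = Pi.single j 1 := by
  funext i
  by_cases h : i = j
  · subst h; simp [ratV]
  · simp [ratV, Pi.single_apply, h]

lemma ratV_add {ι : Type*} (a b : ι → F₀) : ratV F₀ (a + b) = ratV F₀ a + ratV F₀ b := by
  funext i; simp [ratV]

lemma ratV_smul {ι : Type*} (c : F₀) (a : ι → F₀) : ratV F₀ (c • a) = (c : F) • ratV F₀ a := by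
  funext i; simp [ratV]

variable (m : ℕ)

lemma sympBilin_single_inl (w : Fin m ⊕ Fin m → F) (i : Fin m) :
    sympBilin m F w (Pi.single (Sum.inl i) 1) = w (Sum.inr i) := by
  rw [sympBilin_apply, sympForm_eq_sum]
  simp [Pi.single_apply]

lemma sympBilin_single_inr (w : Fin m ⊕ Fin m → F) (i : Fin m) :
    sympBilin m F w (Pi.single (Sum.inr i) 1) = -w (Sum.inl i) := by
  rw [sympBilin_apply, sympForm_eq_sum]
  simp [Pi.single_apply]

/-- the standard rational structure -/
lemma ratStr_std : RatStr (sympBilin m F) (sympBilin m F₀) (ratV F₀) where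
  add := ratV_add F₀
  smul := ratV_smul F₀
  form := by
    intro a b
    rw [sympBilin_apply, sympBilin_apply, sympForm_eq_sum, sympForm_eq_sum]
    push_cast
    rfl
  detect := by
    intro w hw
    have h1 : ∀ k, w k ∈ F₀ := by
      intro k
      rcases k with i | i
      · obtain ⟨t, ht⟩ := hw (Pi.single (Sum.inr i) 1)
        rw [ratV_single, sympBilin_single_inr] at ht
        have : w (Sum.inl i) = -(t : F) := by rw [← ht, neg_neg]
        rw [this]
        exact F₀.neg_mem t.2
      · obtain ⟨t, ht⟩ := hw (Pi.single (Sum.inl i) 1)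
        rw [ratV_single, sympBilin_single_inl] at ht
        rw [ht]
        exact t.2
    exact ⟨fun k => ⟨w k, h1 k⟩, rfl⟩

section StepD

variable {F₀} {m}

/-- clearing the coordinates one hyperbolic plane at a time -/
lemma mem_Xset_all (M : Subgroup ((Fin m ⊕ Fin m → F) ≃ₗ[F] (Fin m ⊕ Fin m → F)))
    (hX : ∀ a : Fin m ⊕ Fin m → F₀, ratV F₀ a ∈ (sympData_sympBilin (F := F) m).Xset M) :
    ∀ (k : ℕ) (v : Fin m ⊕ Fin m → F),
      (∀ i : Fin m, k ≤ i.val → v (Sum.inl i) ∈ F₀ ∧ v (Sum.inr i) ∈ F₀) →
      v ∈ (sympData_sympBilin (F := F) m).Xset M := by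
  set h := sympData_sympBilin (F := F) m with hh
  intro k
  induction k with
  | zero =>
    intro v hv
    have h1 : ∀ j, v j ∈ F₀ := by
      intro j
      rcases j with i | i
      · exact (hv i (Nat.zero_le _)).1
      · exact (hv i (Nat.zero_le _)).2
    have : v = ratV F₀ (fun j => ⟨v j, h1 j⟩) := rfl
    rw [this]
    exact hX _
  | succ k ih =>
    intro v hv
    by_cases hk : k < m
    · obtain ⟨i₀, hi₀⟩ : ∃ i₀ : Fin m, i₀ = ⟨k, hk⟩ := ⟨_, rfl⟩
      by_cases hαβ : v (Sum.inl i₀) ∈ F₀ ∧ v (Sum.inr i₀) ∈ F₀
      · apply ih v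
        intro i hi
        by_cases hik : i = i₀
        · rw [hik]; exact hαβ
        · apply hv i
          have : i.val ≠ k := by
            intro h0
            apply hik
            rw [hi₀]
            exact Fin.ext h0
          omega
      · obtain ⟨e, he⟩ : ∃ e : Fin m ⊕ Fin m → F, e = Pi.single (Sum.inl i₀) 1 := ⟨_, rfl⟩
        obtain ⟨f, hf⟩ : ∃ f : Fin m ⊕ Fin m → F, f = Pi.single (Sum.inr i₀) 1 := ⟨_, rfl⟩
        obtain ⟨α, hα⟩ : ∃ α, α = v (Sum.inl i₀) := ⟨_, rfl⟩
        obtain ⟨β, hβ⟩ : ∃ β, β = v (Sum.inr i₀) := ⟨_, rfl⟩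
        rw [← hα, ← hβ] at hαβ
        have heX : e ∈ h.Xset M := by rw [he, ← ratV_single F₀]; exact hX _
        have hfX : f ∈ h.Xset M := by rw [hf, ← ratV_single F₀]; exact hX _
        have Bef : sympBilin m F e f = -1 := by
          rw [hf, sympBilin_single_inr, he]; simp
        have Bfe : sympBilin m F f e = 1 := by
          rw [he, sympBilin_single_inl, hf]; simp
        have Bee : sympBilin m F e e = 0 := h.alt e
        have Bff : sympBilin m F f f = 0 := h.alt f
        obtain ⟨U, hU⟩ : ∃ U : Submodule F (Fin m ⊕ Fin m → F), U = Submodule.span F {e, f} :=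
          ⟨_, rfl⟩
        have heU : e ∈ U := by rw [hU]; exact Submodule.subset_span (by simp)
        have hfU : f ∈ U := by rw [hU]; exact Submodule.subset_span (by simp)
        have hUX : ∀ u ∈ U, u ∈ h.Xset M := by
          intro u hu
          rw [hU, Submodule.mem_span_pair] at hu
          obtain ⟨a, b, rfl⟩ := hu
          by_cases ha : a = 0
          · rw [ha, zero_smul, zero_add]; exact h.smul_mem_Xset hfX b
          by_cases hb : b = 0
          · rw [hb, zero_smul, add_zero]; exact h.smul_mem_Xset heX a
          apply h.add_mem_Xset (h.smul_mem_Xset heX a) (h.smul_mem_Xset hfX b)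
          rw [map_smul, map_smul, LinearMap.smul_apply, Bef]
          simp [ha, hb]
        have hTN : h.TN U ≤ M := by
          rw [SympData.TN, Subgroup.closure_le]
          rintro g ⟨u, hu, c, rfl⟩
          exact hUX u hu c
        obtain ⟨vP, hvP⟩ : ∃ vP : Fin m ⊕ Fin m → F, vP = α • e + β • f := ⟨_, rfl⟩
        have hvPU : vP ∈ U := by
          rw [hvP]; exact U.add_mem (U.smul_mem _ heU) (U.smul_mem _ hfU)
        have hvPe : sympBilin m F vP e = β := by
          rw [hvP, map_add, map_smul, map_smul, LinearMap.add_apply, LinearMap.smul_apply,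
            LinearMap.smul_apply, Bee, Bfe]; simp
        have hvPf : sympBilin m F vP f = -α := by
          rw [hvP, map_add, map_smul, map_smul, LinearMap.add_apply, LinearMap.smul_apply,
            LinearMap.smul_apply, Bef, Bff]; simp
        have hne : ∃ u ∈ U, sympBilin m F vP u ≠ 0 := by
          by_cases hβ0 : β = 0
          · refine ⟨f, hfU, ?_⟩
            rw [hvPf, neg_ne_zero]
            intro hα0
            apply hαβ
            rw [hα0, hβ0]
            exact ⟨F₀.zero_mem, F₀.zero_mem⟩
          · exact ⟨e, heU, by rw [hvPe]; exact hβ0⟩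
        obtain ⟨g, hg, hgv⟩ := h.TN_trans hvPU heU hne
          ⟨f, hfU, by rw [Bef]; simp⟩
        obtain ⟨rest, hrest⟩ : ∃ rest : Fin m ⊕ Fin m → F, rest = v - vP := ⟨_, rfl⟩
        have hre : sympBilin m F rest e = 0 := by
          rw [he, sympBilin_single_inl, hrest, hvP, hf, he]
          simp [← hβ]
        have hrf : sympBilin m F rest f = 0 := by
          rw [hf, sympBilin_single_inr, hrest, hvP, hf, he]
          simp [← hα]
        have hrU : ∀ u ∈ U, sympBilin m F rest u = 0 := by
          intro u hu
          rw [hU, Submodule.mem_span_pair] at hu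
          obtain ⟨a, b, rfl⟩ := hu
          rw [map_add, map_smul, map_smul, hre, hrf, smul_zero, smul_zero, add_zero]
        have hgr : g rest = rest := h.TN_fix hg hrU
        have hgv' : g v = e + rest := by
          have : v = vP + rest := by rw [hrest]; abel
          rw [this, map_add, hgv, hgr]
        have hv1 : e + rest ∈ h.Xset M := by
          apply ih
          intro i hi
          by_cases hik : i = i₀
          · rw [hik, hrest, hvP, he, hf]
            simp only [Pi.add_apply, Pi.sub_apply, Pi.smul_apply, Pi.single_eq_same, smul_eq_mul,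
              mul_one, ne_eq, reduceCtorEq, not_false_eq_true, Pi.single_eq_of_ne, mul_zero,
              add_zero, zero_add, ← hα, ← hβ, sub_self]
            exact ⟨F₀.one_mem, F₀.zero_mem⟩
          · have hne1 : (Sum.inl i : Fin m ⊕ Fin m) ≠ Sum.inl i₀ := by
              intro h0; exact hik (Sum.inl.inj h0)
            have hne2 : (Sum.inr i : Fin m ⊕ Fin m) ≠ Sum.inr i₀ := by
              intro h0; exact hik (Sum.inr.inj h0)
            have hik' : k + 1 ≤ i.val := by
              have : i.val ≠ k := by
                intro h0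
                apply hik
                rw [hi₀]
                exact Fin.ext h0
              omega
            rw [hrest, hvP, he, hf]
            simp only [Pi.add_apply, Pi.sub_apply, Pi.smul_apply, smul_eq_mul, ne_eq,
              reduceCtorEq, not_false_eq_true, Pi.single_eq_of_ne, hne1, hne2, mul_zero, add_zero,
              zero_add, sub_zero]
            exact hv i hik'
        have hgM : g ∈ M := hTN hg
        have hgS : g ∈ SympData.Sp (sympBilin m F) := h.TN_le_Sp U hg
        have := h.map_mem_Xset hv1 (inv_mem hgM) (inv_mem hgS)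
        rw [← hgv'] at this
        have e2 : g⁻¹ (g v) = v := by
          rw [← LinearEquiv.mul_apply, inv_mul_cancel]; rfl
        rwa [e2] at this
    · apply ih v
      intro i hi
      exfalso
      have := i.2
      omega

/-- a subgroup containing all the transvections with rational centres contains `Sp` -/
lemma sp_le_of_rat_mem_Xset (M : Subgroup ((Fin m ⊕ Fin m → F) ≃ₗ[F] (Fin m ⊕ Fin m → F)))
    (hX : ∀ a : Fin m ⊕ Fin m → F₀, ratV F₀ a ∈ (sympData_sympBilin (F := F) m).Xset M) :
    SympData.Sp (sympBilin m F) ≤ M := by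
  rw [(sympData_sympBilin (F := F) m).Sp_eq_TN_top]
  apply (sympData_sympBilin (F := F) m).TN_top_le_of_Xset
  intro v
  apply mem_Xset_all M hX m v
  intro i hi
  exfalso
  have := i.2
  omega

end StepD

end Cfsg.Agent.Lib.Helper94
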