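/-
Helper94: the standard subfield group `GL(ι, F₀) · F^×` inside `GL(ι, F)`: membership, action on
rational vectors, and the frame lemma (after helper13's `mem_subfield_of_proprat`, for an
arbitrary index type and a finite field extension of any degree).
-/
import Mathlib
import Cfsg.Prelude.Def_GeometricClasses
import Cfsg.Agent.Lib.Helper94.SpSubfieldStd

set_option autoImplicit false
set_option linter.unusedSimpArgs false
set_option linter.unusedVariables false

namespace Cfsg.Agent.Lib.Helper94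

open Matrix
open scoped MatrixGroups

section General

variable {ι : Type} [Fintype ι] [DecidableEq ι] {F : Type*} [Field F] (F₀ : Subfield F)

lemma ratV_mulVec (A : Matrix ι ι F₀) (a : ι → F₀) :
    ratV F₀ (A *ᵥ a) = A.map F₀.subtype *ᵥ ratV F₀ a := by
  funext i
  exact RingHom.map_mulVec F₀.subtype A a i

/-- the standard subfield group -/
lemma subfieldSubgroup_one :
    Cfsg.Geo.subfieldSubgroup F₀ (1 : GL ι F) =
      (Matrix.GeneralLinearGroup.map (F₀.subtype : F₀ →+* F)).range ⊔ Cfsg.Geo.scalars ι F := by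
  unfold Cfsg.Geo.subfieldSubgroup
  ext x
  rw [Subgroup.mem_map]
  constructor
  · rintro ⟨y, hy, rfl⟩
    simpa using hy
  · intro hx
    exact ⟨x, hx, by simp⟩

/-- conjugating the standard subfield group -/
lemma subfieldSubgroup_eq_map (P : GL ι F) :
    Cfsg.Geo.subfieldSubgroup F₀ P =
      (Cfsg.Geo.subfieldSubgroup F₀ (1 : GL ι F)).map (MulAut.conj P).toMonoidHom := by
  rw [subfieldSubgroup_one]
  rfl

/-- membership in the standard subfield group, matrix form -/
lemma mem_std_iff (g : GL ι F) :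
    g ∈ Cfsg.Geo.subfieldSubgroup F₀ (1 : GL ι F) ↔ ∃ (A : GL ι F₀) (μ : Fˣ),
      (g : Matrix ι ι F) = (μ : F) • (A : Matrix ι ι F₀).map F₀.subtype := by
  rw [subfieldSubgroup_one]
  constructor
  · intro hx
    rw [Subgroup.mem_sup_of_normal_right] at hx
    obtain ⟨y, ⟨A, rfl⟩, z, hz, rfl⟩ := hx
    rw [Cfsg.Geo.mem_scalars_iff] at hz
    obtain ⟨μ, hμ⟩ := hz
    refine ⟨A, μ, ?_⟩
    rw [Units.val_mul, hμ, Matrix.mul_smul, Matrix.mul_one]
    rfl
  · rintro ⟨A, μ, h⟩
    have : g = Matrix.GeneralLinearGroup.map F₀.subtype A *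
        Units.map (Matrix.scalar ι : F →+* Matrix ι ι F).toMonoidHom μ := by
      apply Units.ext
      rw [Units.val_mul, h]
      show _ = (A : Matrix ι ι F₀).map F₀.subtype * Matrix.scalar ι (μ : F)
      rw [Matrix.scalar_apply, ← Matrix.smul_one_eq_diagonal, Matrix.mul_smul, Matrix.mul_one]
    rw [this]
    exact Subgroup.mul_mem_sup ⟨A, rfl⟩ ⟨μ, rfl⟩

/-- the action on rational vectors of a member of the standard subfield group -/
lemma action_of_mem_std (g : GL ι F) (hg : g ∈ Cfsg.Geo.subfieldSubgroup F₀ (1 : GL ι F)) :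
    ∃ (A : GL ι F₀) (μ : Fˣ), ∀ a : ι → F₀, (g : Matrix ι ι F) *ᵥ ratV F₀ a =
      (μ : F) • ratV F₀ ((A : Matrix ι ι F₀) *ᵥ a) := by
  rw [mem_std_iff] at hg
  obtain ⟨A, μ, h⟩ := hg
  refine ⟨A, μ, fun a => ?_⟩
  rw [h, smul_mulVec, ratV_mulVec]

/-- membership from the action on rational vectors -/
lemma mem_std_of_action (g : GL ι F) (A : GL ι F₀) (μ : Fˣ)
    (h : ∀ a : ι → F₀, (g : Matrix ι ι F) *ᵥ ratV F₀ a =
      (μ : F) • ratV F₀ ((A : Matrix ι ι F₀) *ᵥ a)) :
    g ∈ Cfsg.Geo.subfieldSubgroup F₀ (1 : GL ι F) := by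
  rw [mem_std_iff]
  refine ⟨A, μ, ?_⟩
  apply Matrix.toLin'.injective
  apply (Pi.basisFun F ι).ext
  intro j
  have := h (Pi.single j 1)
  rw [ratV_single, ratV_mulVec, ratV_single] at this
  rw [Pi.basisFun_apply, Matrix.toLin'_apply, Matrix.toLin'_apply, this, smul_mulVec]

lemma gl_mulVec_inj (g : GL ι F) {x y : ι → F}
    (h : (g : Matrix ι ι F) *ᵥ x = (g : Matrix ι ι F) *ᵥ y) : x = y := by
  have := congrArg (fun v => ((g⁻¹ : GL ι F) : Matrix ι ι F) *ᵥ v) h
  simpa [mulVec_mulVec, ← Units.val_mul] using this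

end General

section Frob

variable {F : Type*} [Field F] [Finite F] (F₀ : Subfield F)

open Polynomial in
/-- a finite subfield is the set of fixed points of the corresponding power map -/
lemma mem_iff_pow_card [Fintype F₀] (x : F) : x ∈ F₀ ↔ x ^ Fintype.card F₀ = x := by
  constructor
  · intro hx
    have := FiniteField.pow_card (⟨x, hx⟩ : F₀)
    have := congrArg (Subtype.val) this
    simpa using this
  · intro hx
    classical
    have hq : 1 < Fintype.card F₀ := Fintype.one_lt_card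
    set p : F[X] := X ^ Fintype.card F₀ - X with hp
    have hp0 : p ≠ 0 := FiniteField.X_pow_card_sub_X_ne_zero F hq
    have hdeg : p.natDegree = Fintype.card F₀ := FiniteField.X_pow_card_sub_X_natDegree_eq F hq
    let T : Finset F := Finset.univ.map ⟨(Subtype.val : F₀ → F), Subtype.val_injective⟩
    have hTS : T ⊆ p.roots.toFinset := by
      intro y hy
      obtain ⟨z, _, rfl⟩ := Finset.mem_map.1 hy
      rw [Multiset.mem_toFinset, mem_roots hp0, IsRoot.def, hp]
      have := FiniteField.pow_card z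
      have := congrArg (Subtype.val) this
      simp only [eval_sub, eval_pow, eval_X, Function.Embedding.coeFn_mk]
      rw [sub_eq_zero]
      simpa using this
    have hcard : p.roots.toFinset.card ≤ T.card := by
      calc p.roots.toFinset.card ≤ Multiset.card p.roots := Multiset.toFinset_card_le _
        _ ≤ p.natDegree := card_roots' p
        _ = Fintype.card F₀ := hdeg
        _ = T.card := by rw [Finset.card_map, Finset.card_univ]
    have hTeq := Finset.eq_of_subset_of_card_le hTS hcard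
    have hxS : x ∈ p.roots.toFinset := by
      rw [Multiset.mem_toFinset, mem_roots hp0, IsRoot.def, hp]
      simp only [eval_sub, eval_pow, eval_X]
      rw [hx, sub_self]
    rw [← hTeq] at hxS
    obtain ⟨z, _, rfl⟩ := Finset.mem_map.1 hxS
    exact z.2

end Frob

section Frame

variable {ι : Type} [Fintype ι] [DecidableEq ι] {F : Type*} [Field F] (F₀ : Subfield F)

/-- **Frame lemma** (with a field endomorphism fixing exactly `F₀`). -/
theorem mem_std_of_proprat_aux (σ : F →+* F) (hfix : ∀ x, x ∈ F₀ ↔ σ x = x) [Nonempty ι]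
    (g : GL ι F)
    (h : ∀ a : ι → F₀, ∃ (l : F) (c : ι → F₀),
      (g : Matrix ι ι F) *ᵥ ratV F₀ a = l • ratV F₀ c) :
    g ∈ Cfsg.Geo.subfieldSubgroup F₀ (1 : GL ι F) := by
  have hσrat : ∀ a : ι → F₀, σ ∘ ratV F₀ a = ratV F₀ a :=
    fun a => funext fun i => (hfix _).mp (a i).2
  have hN2 : ∀ a : ι → F₀, ∃ κ : F, ((g : Matrix ι ι F).map σ) *ᵥ ratV F₀ a =
      κ • ((g : Matrix ι ι F) *ᵥ ratV F₀ a) := by
    intro a
    obtain ⟨l, c, hlc⟩ := h a
    have h1 : ((g : Matrix ι ι F).map σ) *ᵥ ratV F₀ a = σ l • ratV F₀ c := by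
      funext i
      have := RingHom.map_mulVec σ (g : Matrix ι ι F) (ratV F₀ a) i
      rw [hσrat] at this
      rw [← this, hlc, Pi.smul_apply, Pi.smul_apply, smul_eq_mul, smul_eq_mul, map_mul]
      congr 1
      exact (hfix _).mp (c i).2
    by_cases hl : l = 0
    · refine ⟨0, ?_⟩
      rw [h1, hl, map_zero, zero_smul, zero_smul]
    · refine ⟨σ l * l⁻¹, ?_⟩
      rw [h1, hlc, smul_smul, mul_assoc, inv_mul_cancel₀ hl, mul_one]
  choose κ hκ using fun j : ι => hN2 (Pi.single j 1)
  simp only [ratV_single] at hκ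
  have hκeq : ∀ j k : ι, κ j = κ k := by
    intro j k
    by_cases hjk : j = k
    · rw [hjk]
    obtain ⟨κ', hκ'⟩ := hN2 (Pi.single j 1 + Pi.single k 1)
    rw [ratV_add, ratV_single, ratV_single, mulVec_add, mulVec_add, hκ j, hκ k] at hκ'
    have hz : (g : Matrix ι ι F) *ᵥ
        ((κ j - κ') • Pi.single j 1 + (κ k - κ') • Pi.single k 1) = 0 := by
      rw [mulVec_add, mulVec_smul, mulVec_smul]
      have : ∀ x y : ι → F, (κ j - κ') • x + (κ k - κ') • y =
          (κ j • x + κ k • y) - κ' • (x + y) := by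
        intro x y; module
      rw [this, hκ', sub_self]
    have hz2 := gl_mulVec_inj g (hz.trans (mulVec_zero _).symm)
    have e1 := congrFun hz2 j
    have e2 := congrFun hz2 k
    simp only [Pi.add_apply, Pi.smul_apply, Pi.single_eq_same, Pi.single_eq_of_ne hjk,
      Pi.single_eq_of_ne (Ne.symm hjk), smul_eq_mul, mul_one, mul_zero, add_zero, zero_add,
      Pi.zero_apply] at e1 e2
    rw [sub_eq_zero.mp e1, sub_eq_zero.mp e2]
  obtain ⟨j0⟩ := ‹Nonempty ι›
  have hent : ∀ i j, σ ((g : Matrix ι ι F) i j) = κ j0 * (g : Matrix ι ι F) i j := by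
    intro i j
    have := congrFun (hκ j) i
    rw [Matrix.mulVec_single_one, Matrix.mulVec_single_one, Pi.smul_apply, Matrix.col_apply,
      Matrix.col_apply, Matrix.map_apply, smul_eq_mul, hκeq j j0] at this
    exact this
  obtain ⟨i0, hi0⟩ : ∃ i0, (g : Matrix ι ι F) i0 j0 ≠ 0 := by
    by_contra hcon
    push Not at hcon
    have hz : (g : Matrix ι ι F) *ᵥ Pi.single j0 1 = 0 := by
      rw [Matrix.mulVec_single_one]
      funext i
      exact hcon i
    have hz2 := gl_mulVec_inj g (hz.trans (mulVec_zero _).symm)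
    have := congrFun hz2 j0
    simp at this
  obtain ⟨l, hl⟩ : ∃ l : F, l = (g : Matrix ι ι F) i0 j0 := ⟨_, rfl⟩
  have hl0 : l ≠ 0 := by rw [hl]; exact hi0
  have hσl : σ l = κ j0 * l := by rw [hl]; exact hent i0 j0
  have hκ0 : κ j0 ≠ 0 := by
    intro h0
    rw [h0, zero_mul] at hσl
    exact hl0 ((map_eq_zero σ).mp hσl)
  have hA : ∀ i j, (g : Matrix ι ι F) i j * l⁻¹ ∈ F₀ := by
    intro i j
    rw [hfix, map_mul, map_inv₀, hent, hσl]
    field_simp
  obtain ⟨A, hAdef⟩ : ∃ A : Matrix ι ι F₀,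
      A = Matrix.of fun i j => (⟨(g : Matrix ι ι F) i j * l⁻¹, hA i j⟩ : F₀) :=
    ⟨_, rfl⟩
  have hNA : (g : Matrix ι ι F) = l • A.map F₀.subtype := by
    ext i j
    rw [hAdef, Matrix.smul_apply, Matrix.map_apply, Matrix.of_apply, smul_eq_mul]
    show _ = l * ((g : Matrix ι ι F) i j * l⁻¹)
    field_simp
  have hdet : A.det ≠ 0 := by
    intro h0
    have h1 : (g : Matrix ι ι F).det = 0 := by
      rw [hNA, Matrix.det_smul, ← RingHom.mapMatrix_apply, ← RingHom.map_det, h0, map_zero,
        mul_zero]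
    have h2 : IsUnit (g : Matrix ι ι F).det :=
      (Matrix.isUnit_iff_isUnit_det _).mp g.isUnit
    rw [h1] at h2
    exact not_isUnit_zero h2
  rw [mem_std_iff]
  exact ⟨Matrix.GeneralLinearGroup.mkOfDetNeZero A hdet, Units.mk0 l hl0, hNA⟩

/-- **Frame lemma**: an invertible matrix over a finite field sending every rational vector to a
multiple of a rational vector lies in the standard subfield group. -/
theorem mem_std_of_proprat [Finite F] [Nonempty ι] (g : GL ι F)
    (h : ∀ a : ι → F₀, ∃ (l : F) (c : ι → F₀),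
      (g : Matrix ι ι F) *ᵥ ratV F₀ a = l • ratV F₀ c) :
    g ∈ Cfsg.Geo.subfieldSubgroup F₀ (1 : GL ι F) := by
  haveI : Fintype F₀ := Fintype.ofFinite F₀
  refine mem_std_of_proprat_aux F₀ (FiniteField.frobeniusAlgHom F₀ F : F →ₐ[F₀] F).toRingHom
    (fun x => ?_) g h
  rw [mem_iff_pow_card]
  rfl

/-- conversely, members of the standard subfield group map rational vectors to multiples of
rational vectors -/
theorem proprat_of_mem_std (g : GL ι F)
    (hg : g ∈ Cfsg.Geo.subfieldSubgroup F₀ (1 : GL ι F)) (a : ι → F₀) :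
    ∃ (l : F) (c : ι → F₀), (g : Matrix ι ι F) *ᵥ ratV F₀ a = l • ratV F₀ c := by
  obtain ⟨A, μ, h⟩ := action_of_mem_std F₀ g hg
  exact ⟨μ, _, h a⟩

end Frame

end Cfsg.Agent.Lib.Helper94
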