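/-
Helper94: the subfield subgroups of `Ω_n(q)`, `n ≥ 13`, are maximal, for all `q` and all prime
degrees (the abstract dichotomy in all cases, and the bridge to the Prelude).
-/
import Mathlib
import Cfsg.Agent.Lib.Helper94.OSubE5
import Cfsg.Agent.Lib.Helper95.OSubQ

set_option autoImplicit false
set_option linter.unusedSimpArgs false
set_option linter.unusedSectionVars false
set_option linter.unusedVariables false

namespace Cfsg.Agent.Lib.Helper94.OSubE

open LinearMap (BilinForm)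
open Module Matrix
open Cfsg.Agent.Lib.Helper94 Cfsg.Agent.Lib.Helper94.QuadData Cfsg.Agent.Lib.Helper44
open Cfsg.Agent.Lib.Helper95.OSub
open Cfsg.Agent.Lib.Helper13 (fixSub mem_fixSub)
open scoped commutatorElement MatrixGroups

section abs

variable {F : Type*} [Field F] {V : Type*} [AddCommGroup V] [Module F V]
variable {F₀ : Subfield F} {W : Type*} [AddCommGroup W] [Module F₀ W]
variable {B : BilinForm F V} {Q : V → F} {Q₀ : QuadraticForm F₀ W} {ρ : W → V}

local notation "pol" => QuadraticMap.polar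

/-- rational involutions map rational vectors to rational vectors if the subfield is closed under
square roots -/
lemma rat1_of_ratU_sq [Finite F₀] [FiniteDimensional F₀ W] (R : OSet B Q Q₀ ρ)
    (h13 : 13 ≤ finrank F₀ W) (hsqm : ∀ μ : F, μ * μ ∈ F₀ → μ ∈ F₀) {z : V ≃ₗ[F] V}
    (hsq : z * z = 1) (hr : RatU ρ z) : Rat1 ρ z := by
  obtain ⟨μ, hμ⟩ := hr
  obtain ⟨s, s', -, -, h1, -⟩ := exists_hyp2 Q₀ R.nd₀ h13 ⊥ (by rw [finrank_bot]; norm_num)
  obtain ⟨hs, hs', hss', -⟩ := h1
  have hs0 : s ≠ 0 := by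
    rintro rfl
    rw [QuadraticMap.polar_zero_left] at hss'
    exact zero_ne_one hss'
  obtain ⟨w₁, hw₁⟩ := hμ s
  obtain ⟨w₂, hw₂⟩ := hμ w₁
  have e : (μ * μ) • ρ w₂ = ρ s := by
    have : z (z (ρ s)) = ρ s := by
      rw [← LinearEquiv.mul_apply, hsq]; rfl
    rw [hw₁, map_smul, hw₂, smul_smul] at this
    exact this
  have hw₂0 : w₂ ≠ 0 := by
    rintro rfl
    rw [R.zero, smul_zero] at e
    exact R.ne_zero hs0 e.symm
  obtain ⟨k, hk⟩ := R.coeff_mem hw₂0 e
  have hμ' : μ ∈ F₀ := hsqm μ (by rw [hk]; exact k.2)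
  intro w
  obtain ⟨w', hw'⟩ := hμ w
  exact ⟨(⟨μ, hμ'⟩ : F₀) • w', by rw [hw', R.smul]⟩

/-- **the dichotomy for overgroups of the rational group, all cases** -/
theorem overgroup_dichotomy_all [Finite F] [Finite F₀] [FiniteDimensional F₀ W]
    [FiniteDimensional F V] [Finite (V ≃ₗ[F] V)] (R : OSet B Q Q₀ ρ) (h13 : 13 ≤ finrank F₀ W)
    {M : Subgroup (V ≃ₗ[F] V)} (hM : Over Q ρ M) (hdim : finrank F V = finrank F₀ W)
    (hprime : ∀ S : Subfield F, F₀ ≤ S → S = F₀ ∨ S = ⊤)
    (hcase : (2 : F) = 0 ∨ (∃ θ : F, ∀ v : V, ∃ a b : W, v = ρ a + θ • ρ b) ∨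
      ((2 : F) ≠ 0 ∧ ∀ μ : F, μ * μ ∈ F₀ → μ ∈ F₀)) :
    (∀ g ∈ M, RatU ρ g) ∨ ⁅OG Q, OG Q⁆ ≤ M := by
  rcases tight_or_full R h13 hM hprime with hT | hF
  · left
    intro g hg
    rcases hcase with h2 | ⟨θ, hθ⟩ | ⟨h2, hsqm⟩
    · exact tight_le2 R h13 hM hT h2 hdim hg
    · exact tight_le_quad R h13 hM hT θ hθ hg
    · exact tight_le R h13 hM hT h2 hdim
        (fun z _ hr hsq => rat1_of_ratU_sq R h13 hsqm hsq hr) hg
  · right
    exact full_le R h13 hM hF (by omega)

end abs

section conc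

variable {ι : Type} [Fintype ι] [DecidableEq ι] {F : Type*} [Field F]
variable {Q : (ι → F) → F}

/-- square roots of elements of a subfield of odd degree lie in the subfield -/
theorem sq_mem_subfield' [Fintype F] (F₀ : Subfield F) {r : ℕ} (hro : Odd r)
    (hcard : Fintype.card F = Nat.card F₀ ^ r) (μ : F) (h : μ * μ ∈ F₀) : μ ∈ F₀ := by
  have : Fintype F₀ := Fintype.ofFinite F₀
  rw [Nat.card_eq_fintype_card] at hcard
  have h1 : (μ * μ) ^ Fintype.card F₀ = μ * μ := (mem_iff_pow_card F₀ _).mp h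
  have h2 : (μ ^ Fintype.card F₀ - μ) * (μ ^ Fintype.card F₀ + μ) = 0 := by
    rw [mul_pow] at h1
    linear_combination h1
  rcases mul_eq_zero.mp h2 with h3 | h3
  · exact (mem_iff_pow_card F₀ μ).mpr (sub_eq_zero.mp h3)
  · have h4 : μ ^ Fintype.card F₀ = -μ := eq_neg_of_add_eq_zero_left h3
    set φ : F →ₐ[F₀] F := FiniteField.frobeniusAlgHom F₀ F with hφ
    have hφa : ∀ x, φ x = x ^ Fintype.card F₀ := fun x => rfl
    have h5 : ∀ k : ℕ, (⇑φ)^[k] μ = (-1) ^ k * μ := by
      intro k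
      induction k with
      | zero => simp
      | succ k ih =>
        rw [Function.iterate_succ_apply', ih, map_mul, map_pow, map_neg, map_one, hφa μ, h4]
        ring
    have h6 : (⇑φ)^[r] μ = μ := by
      have : (⇑φ) = (· ^ Fintype.card F₀) := rfl
      rw [this, pow_iterate, ← hcard]
      exact FiniteField.pow_card μ
    rw [h5 r, hro.neg_one_pow] at h6
    apply (mem_iff_pow_card F₀ μ).mpr
    rw [h4]
    linear_combination h6

/-- a quadratic extension is spanned by `1` and any element outside the subfield -/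
lemma exists_quad_decomp [Fintype F] (F₀ : Subfield F)
    (hcard : Fintype.card F = Nat.card F₀ ^ 2) :
    ∃ θ : F, ∀ x : F, ∃ a b : F₀, x = (a : F) + θ * (b : F) := by
  classical
  have : Fintype F₀ := Fintype.ofFinite F₀
  rw [Nat.card_eq_fintype_card] at hcard
  obtain ⟨θ, hθ⟩ : ∃ θ : F, θ ∉ F₀ := by
    by_contra hcon
    push Not at hcon
    have h1 : Fintype.card F₀ = Fintype.card F :=
      Fintype.card_of_bijective (f := fun x : F₀ => (x : F))
        ⟨Subtype.val_injective, fun c => ⟨⟨c, hcon c⟩, rfl⟩⟩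
    rw [h1] at hcard
    have h3 : 2 ≤ Fintype.card F := Fintype.one_lt_card
    nlinarith
  refine ⟨θ, ?_⟩
  have hinj : Function.Injective (fun p : F₀ × F₀ => (p.1 : F) + θ * (p.2 : F)) := by
    rintro ⟨a, b⟩ ⟨a', b'⟩ h
    simp only at h
    have hb : b = b' := by
      by_contra hne
      have hne' : (b : F) - (b' : F) ≠ 0 := by
        intro h0
        exact hne (Subtype.ext (sub_eq_zero.1 h0))
      have : θ = ((a' : F) - a) / ((b : F) - b') := by
        field_simp
        linear_combination h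
      apply hθ
      rw [this]
      exact F₀.div_mem (F₀.sub_mem a'.2 a.2) (F₀.sub_mem b.2 b'.2)
    subst hb
    have ha : (a : F) = a' := by linear_combination h
    rw [Subtype.ext ha]
  have hc : Fintype.card (F₀ × F₀) = Fintype.card F := by
    rw [Fintype.card_prod, hcard, pow_two]
  have hbij := (Fintype.bijective_iff_injective_and_card _).2 ⟨hinj, hc⟩
  intro x
  obtain ⟨⟨a, b⟩, hab⟩ := hbij.2 x
  exact ⟨a, b, hab.symm⟩

/-- **Maximality of the subfield subgroups of `Ω_n(q)`, `n ≥ 13`, all `q`, all prime degrees.** -/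
theorem subfield_isMaximalIn_all [Fintype F] (hQ : Cfsg.Geo.IsNondegenerateQuadraticForm Q)
    (h13 : 13 ≤ Fintype.card ι) (F₀ : Subfield F) (r : ℕ) (hr : r.Prime)
    (hcard : Fintype.card F = Nat.card F₀ ^ r) (P : GL ι F)
    (hP : Cfsg.Geo.IsQuadFormRationalStructure Q F₀ P) :
    Cfsg.Geo.IsMaximalIn (Cfsg.Geo.omegaGL Q)
      (Cfsg.Geo.subfieldSubgroup F₀ P ⊓ Cfsg.Geo.omegaGL Q) := by
  classical
  have : Nonempty ι := by
    rw [← Fintype.card_pos_iff]; omega
  have : Fintype F₀ := Fintype.ofFinite F₀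
  have R := oset_ratP hQ hP
  apply isMaximalIn_of_map (glEquiv ι F)
  rw [map_inf_equiv, map_omegaGL]
  have hHs : ∀ g : (ι → F) ≃ₗ[F] (ι → F),
      g ∈ (Cfsg.Geo.subfieldSubgroup F₀ P).map (glEquiv ι F).toMonoidHom ↔
        RatU (ratP F₀ P) g := by
    intro g
    rw [Subgroup.mem_map_equiv]
    exact mem_subfield_iff g
  have : Finite ((ι → F) ≃ₗ[F] (ι → F)) :=
    Finite.of_injective (fun g : (ι → F) ≃ₗ[F] (ι → F) => (g : (ι → F) → (ι → F)))
      DFunLike.coe_injective
  have h13' : 13 ≤ finrank F₀ (ι → F₀) := by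
    rw [Module.finrank_fintype_fun_eq_card]; exact h13
  have hdim : finrank F (ι → F) = finrank F₀ (ι → F₀) := by
    rw [Module.finrank_fintype_fun_eq_card, Module.finrank_fintype_fun_eq_card]
  -- the degree of the extension
  have hfr : Module.finrank F₀ F = r := by
    have h1 : Fintype.card F = Fintype.card F₀ ^ Module.finrank F₀ F := Module.card_eq_pow_finrank
    rw [Nat.card_eq_fintype_card] at hcard
    rw [hcard] at h1
    have h2' : 2 ≤ Fintype.card F₀ := Fintype.one_lt_card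
    exact (Nat.pow_right_injective h2' h1).symm
  have : IsSimpleOrder (IntermediateField F₀ F) :=
    IntermediateField.isSimpleOrder_of_finrank_prime F₀ F (by rw [hfr]; exact hr)
  have hprime : ∀ S : Subfield F, F₀ ≤ S → S = F₀ ∨ S = ⊤ := by
    intro S hS
    let SI : IntermediateField F₀ F := Subfield.toIntermediateField S (fun x => hS x.2)
    rcases eq_bot_or_eq_top SI with h | h
    · left
      apply le_antisymm _ hS
      intro c hc
      have : c ∈ SI := hc
      rw [h, IntermediateField.mem_bot] at this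
      obtain ⟨x, rfl⟩ := this
      exact x.2
    · right
      rw [eq_top_iff]
      intro c _
      have : c ∈ SI := by rw [h]; trivial
      exact this
  have hne : ∃ c : F, c ∉ F₀ := by
    by_contra hcon
    push Not at hcon
    have h1 : Fintype.card F₀ = Fintype.card F :=
      Fintype.card_of_bijective (f := fun x : F₀ => (x : F))
        ⟨Subtype.val_injective, fun c => ⟨⟨c, hcon c⟩, rfl⟩⟩
    rw [Nat.card_eq_fintype_card, h1] at hcard
    have h3 : 2 ≤ Fintype.card F := Fintype.one_lt_card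
    have h4 : Fintype.card F ^ 1 = Fintype.card F ^ r := by rw [pow_one]; exact hcard
    have h5 := Nat.pow_right_injective h3 h4
    rw [← h5] at hr
    exact Nat.not_prime_one hr
  -- the three cases
  have hcase : (2 : F) = 0 ∨
      (∃ θ : F, ∀ v : ι → F, ∃ a b : ι → F₀, v = ratP F₀ P a + θ • ratP F₀ P b) ∨
      ((2 : F) ≠ 0 ∧ ∀ μ : F, μ * μ ∈ F₀ → μ ∈ F₀) := by
    by_cases h2 : (2 : F) = 0
    · exact Or.inl h2
    right
    rcases hr.eq_two_or_odd' with hr2 | hro
    · left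
      subst hr2
      obtain ⟨θ, hθ⟩ := exists_quad_decomp F₀ hcard
      refine ⟨θ, fun v => ?_⟩
      obtain ⟨u, hu⟩ : ∃ u : ι → F, u = ((P⁻¹ : GL ι F) : Matrix ι ι F) *ᵥ v := ⟨_, rfl⟩
      choose a b hab using fun i => hθ (u i)
      refine ⟨a, b, ?_⟩
      have e1 : u = ratV F₀ a + θ • ratV F₀ b := by
        funext i
        rw [hab i]
        simp [ratV]
      have e2 : v = (P : Matrix ι ι F) *ᵥ u := by
        rw [hu, mulVec_mulVec, ← Units.val_mul, mul_inv_cancel, Units.val_one, one_mulVec]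
      unfold ratP
      rw [e2, e1, mulVec_add, mulVec_smul]
    · right
      exact ⟨h2, sq_mem_subfield' F₀ hro hcard⟩
  constructor
  · refine lt_of_le_of_ne inf_le_right ?_
    intro heq
    obtain ⟨g, hg, hng⟩ := exists_not_ratU R h13' hne
    rw [← heq] at hg
    exact hng ((hHs g).1 hg.1)
  · intro M hHM hMΩ
    have hOver : Over Q (ratP F₀ P) M := ⟨hMΩ, fun g hg hr' => hHM ⟨(hHs g).2 hr', hg⟩⟩
    rcases overgroup_dichotomy_all R h13' hOver hdim hprime hcase with h | h
    · left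
      exact le_antisymm (fun g hg => ⟨(hHs g).2 (h g hg), hMΩ hg⟩) hHM
    · right
      exact le_antisymm hMΩ h

/-- scaling a quadratic form by a non-zero scalar keeps it non-degenerate -/
lemma nondeg_smul (hQ : Cfsg.Geo.IsNondegenerateQuadraticForm Q) {ζ : F} (hζ : ζ ≠ 0) :
    Cfsg.Geo.IsNondegenerateQuadraticForm (fun v => ζ * Q v) := by
  have hpol : ∀ u v, QuadraticMap.polar (fun v => ζ * Q v) u v = ζ * QuadraticMap.polar Q u v := by
    intro u v
    unfold QuadraticMap.polar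
    ring
  refine ⟨?_, ⟨?_, ?_, ?_, ?_⟩, ?_⟩
  · intro c v
    show ζ * Q (c • v) = c ^ 2 * (ζ * Q v)
    rw [hQ.smul]; ring
  · intro x y v
    rw [hpol, hpol, hpol, hQ.polar_bilinear.add_left]; ring
  · intro c x v
    rw [hpol, hpol, hQ.polar_bilinear.smul_left]; ring
  · intro v x y
    rw [hpol, hpol, hpol, hQ.polar_bilinear.add_right]; ring
  · intro c v x
    rw [hpol, hpol, hQ.polar_bilinear.smul_right]; ring
  · intro v hv
    obtain ⟨⟨x, hx⟩, ⟨y, hy⟩⟩ := hQ.nondegenerate v hv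
    exact ⟨⟨x, by rw [hpol]; exact mul_ne_zero hζ hx⟩, ⟨y, by rw [hpol]; exact mul_ne_zero hζ hy⟩⟩

/-- scaling a quadratic form by a non-zero scalar does not change its isometry group -/
lemma isometryGroup_smul (Q : (ι → F) → F) {ζ : F} (hζ : ζ ≠ 0) :
    Cfsg.isometryGroup F (fun v => ζ * Q v) = Cfsg.isometryGroup F Q := by
  ext g
  simp only [Cfsg.isometryGroup, Cfsg.preserving, Subgroup.mem_mk, Submonoid.mem_mk,
    Subsemigroup.mem_mk, Set.mem_ofPred_eq]
  constructor
  · intro h u v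
    exact mul_left_cancel₀ hζ (h u v)
  · intro h u v
    rw [h u v]

lemma omegaGL_smul (Q : (ι → F) → F) {ζ : F} (hζ : ζ ≠ 0) :
    Cfsg.Geo.omegaGL (fun v => ζ * Q v) = Cfsg.Geo.omegaGL Q := by
  rw [omegaGL_eq, omegaGL_eq, isometryGroup_smul Q hζ]

/-- **Maximality of the subfield subgroups of `Ω_n(q)`, `n ≥ 13`, with a rational structure for a
scalar multiple of the form.** -/
theorem subfield_isMaximalIn_scaled [Fintype F] (hQ : Cfsg.Geo.IsNondegenerateQuadraticForm Q)
    (h13 : 13 ≤ Fintype.card ι) (F₀ : Subfield F) (r : ℕ) (hr : r.Prime)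
    (hcard : Fintype.card F = Nat.card F₀ ^ r) (P : GL ι F) (ζ : F) (hζ : ζ ≠ 0)
    (hP : Cfsg.Geo.IsQuadFormRationalStructure (fun v : ι → F => ζ * Q v) F₀ P) :
    Cfsg.Geo.IsMaximalIn (Cfsg.Geo.omegaGL Q)
      (Cfsg.Geo.subfieldSubgroup F₀ P ⊓ Cfsg.Geo.omegaGL Q) := by
  have := subfield_isMaximalIn_all (nondeg_smul hQ hζ) h13 F₀ r hr hcard P hP
  rwa [omegaGL_smul Q hζ] at this

end conc

end Cfsg.Agent.Lib.Helper94.OSubE
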