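/-
Helper94: in characteristic two (perfect field), the stabiliser in `Ω` of a non-singular vector is a
maximal subgroup of `Ω`.  The proof studies, for an overgroup `M`, the equivalence relation
`r_a r_b ∈ M` on the vectors of a fixed norm.
-/
import Mathlib
import Cfsg.Prelude.Def_GeometricClasses
import Cfsg.Agent.Lib.Helper94.OmegaRefl
import Cfsg.Agent.Lib.Helper94.SympMax
import Cfsg.Agent.Lib.Helper94.OrthPlane2

set_option autoImplicit false
set_option linter.unusedSimpArgs false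
set_option linter.unusedSectionVars false
set_option linter.unusedVariables false

namespace Cfsg.Agent.Lib.Helper94

open LinearMap (BilinForm)
open scoped commutatorElement
open Module

variable {K V : Type*} [Field K] [AddCommGroup V] [Module K V]

namespace QuadData

variable {B : BilinForm K V} {Q : V → K}

/-- a vector of norm `c₀` with prescribed product `c` with `v₀`, orthogonal to `a`, outside the line
of `v₀` -/
lemma exists_partner_vec [CharP K 2] [FiniteDimensional K V] (hQ : QuadData B Q)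
    (hnd : ∀ x, (∀ y, B x y = 0) → x = 0) (hsq : ∀ a : K, IsSquare a)
    (hdim : 5 ≤ finrank K V) {a v₀ : V} (hav : B a v₀ ≠ 0) (c : K) {c₀ : K} (hc₀ : c₀ ≠ 0) :
    ∃ u, Q u = c₀ ∧ B v₀ u = c ∧ B a u = 0 ∧ u ∉ Submodule.span K {v₀} := by
  have h2 : (2 : K) = 0 := CharTwo.two_eq_zero
  have hva : B v₀ a ≠ 0 := by rw [hQ.symm]; exact hav
  obtain ⟨α, hα⟩ : ∃ α : K, α = c / B v₀ a := ⟨_, rfl⟩
  obtain ⟨b, hb, hba, hbv⟩ := hQ.exists_norm_orth hnd hsq hdim a v₀ (c₀ - α ^ 2 * Q a)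
  have hab : B a b = 0 := by rw [hQ.symm]; exact hba
  have hvb : B v₀ b = 0 := by rw [hQ.symm]; exact hbv
  have haa : B a a = 0 := by rw [hQ.self, h2, zero_mul]
  have hQu : Q (α • a + b) = c₀ := by
    rw [hQ.polar, hQ.smul, hb, map_smul, LinearMap.smul_apply, hab]
    simp
  have hBa : B a (α • a + b) = 0 := by
    rw [map_add, map_smul, haa, hab]; simp
  refine ⟨α • a + b, hQu, ?_, hBa, ?_⟩
  · rw [map_add, map_smul, hvb, hα, smul_eq_mul]
    field_simp
    ring
  · intro hmem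
    obtain ⟨μ, hμ⟩ := Submodule.mem_span_singleton.1 hmem
    rw [← hμ, map_smul, smul_eq_mul] at hBa
    rcases mul_eq_zero.1 hBa with h | h
    · rw [h, zero_smul] at hμ
      rw [← hμ, hQ.zero] at hQu
      exact hc₀ hQu.symm
    · exact hav h

/-- an isometry stabilising the line of a non-singular vector fixes the vector (characteristic
two) -/
lemma apply_eq_of_mem_stabSub [CharP K 2] (hQ : QuadData B Q) {v₀ : V} (hv₀ : Q v₀ ≠ 0)
    {g : V ≃ₗ[K] V} (hg : g ∈ OG Q) (hgs : g ∈ stabSub (Submodule.span K {v₀})) : g v₀ = v₀ := by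
  have h2 : (2 : K) = 0 := CharTwo.two_eq_zero
  have h1 := (mem_stabSub.1 hgs v₀).1 (Submodule.mem_span_singleton_self v₀)
  obtain ⟨μ, hμ⟩ := Submodule.mem_span_singleton.1 h1
  have h3 := hg v₀
  rw [← hμ, hQ.smul] at h3
  have h4 : (μ - 1) ^ 2 * Q v₀ = 0 := by linear_combination h3 + (Q v₀ - μ * Q v₀) * h2
  rcases mul_eq_zero.1 h4 with h | h
  · have : μ = 1 := by
      have := (pow_eq_zero_iff (by norm_num : (2 : ℕ) ≠ 0)).1 h
      linear_combination this
    rw [← hμ, this, one_smul]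
  · exact absurd h hv₀

lemma mem_stabSub_of_apply_eq {v₀ : V} {g : V ≃ₗ[K] V} (hg : g v₀ = v₀) :
    g ∈ stabSub (Submodule.span K {v₀}) := by
  rw [mem_stabSub]
  intro x
  constructor
  · intro hx
    obtain ⟨μ, rfl⟩ := Submodule.mem_span_singleton.1 hx
    rw [map_smul, hg]
    exact Submodule.mem_span_singleton.2 ⟨μ, rfl⟩
  · intro hx
    obtain ⟨μ, hμ⟩ := Submodule.mem_span_singleton.1 hx
    have : g (μ • v₀) = g x := by rw [map_smul, hg, hμ]
    rw [← g.injective this]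
    exact Submodule.mem_span_singleton.2 ⟨μ, rfl⟩


/-- a scalar multiple of a non-singular vector with the same norm is the vector itself
(characteristic two) -/
lemma smul_eq_of_norm_eq [CharP K 2] (hQ : QuadData B Q) {v₀ : V} (hv₀ : Q v₀ ≠ 0) {μ : K}
    (h : Q (μ • v₀) = Q v₀) : μ • v₀ = v₀ := by
  have h2 : (2 : K) = 0 := CharTwo.two_eq_zero
  rw [hQ.smul] at h
  have h4 : (μ - 1) ^ 2 * Q v₀ = 0 := by linear_combination h + (Q v₀ - μ * Q v₀) * h2
  rcases mul_eq_zero.1 h4 with h | h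
  · have : μ = 1 := by
      have := (pow_eq_zero_iff (by norm_num : (2 : ℕ) ≠ 0)).1 h
      linear_combination this
    rw [this, one_smul]
  · exact absurd h hv₀

/-- **Maximality** of the stabiliser of a non-singular vector in `Ω` (characteristic two). -/
theorem stab_nonsingular_isMaximalIn [CharP K 2] [FiniteDimensional K V] (hQ : QuadData B Q)
    (hnd : ∀ x, (∀ y, B x y = 0) → x = 0) (hsq : ∀ a : K, IsSquare a)
    (hdim : 5 ≤ finrank K V) {v₀ : V} (hv₀ : Q v₀ ≠ 0) :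
    Cfsg.Geo.IsMaximalIn ⁅OG Q, OG Q⁆
      (stabSub (Submodule.span K {v₀}) ⊓ ⁅OG Q, OG Q⁆) := by
  have h2 : (2 : K) = 0 := CharTwo.two_eq_zero
  have hF : (∀ a b : K, ∃ x : K, x ≠ a ∧ x ≠ b) ∨ Module.finrank K V ≠ 4 := Or.inr (by omega)
  obtain ⟨c₀, hc₀⟩ : ∃ c₀, c₀ = Q v₀ := ⟨_, rfl⟩
  have hc₀0 : c₀ ≠ 0 := by rw [hc₀]; exact hv₀
  have hself : ∀ x, B x x = 0 := fun x => by rw [hQ.self, h2, zero_mul]
  have hv₀0 : v₀ ≠ 0 := by
    rintro rfl
    exact hv₀ hQ.zero
  -- Witt's lemma inside `Ω`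
  have hwitt : ∀ (H : Submodule K V) (w u : V), w ∉ H → u ∉ H → Q w = Q u →
      (∀ h ∈ H, B h (u - w) = 0) → (∃ b, Q b ≠ 0 ∧ (∀ h ∈ H, B h b = 0) ∧ B w b = 0) →
      ∃ h ∈ ⁅OG Q, OG Q⁆, (∀ x ∈ H, h x = x) ∧ h w = u := by
    intro H w u hw hu hQwu hH ⟨b, hb, hbH, hbw⟩
    obtain ⟨T, hTO, hTfix, hTw⟩ := hQ.exists_isometry_fixing hnd H hw hu hQwu hH
    rcases hQ.mem_commutator_or_mul_refl hnd hF hsq hTO b hb with h | h
    · exact ⟨T, h, hTfix, hTw⟩
    · refine ⟨T * hQ.refl b hb, h, ?_, ?_⟩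
      · intro x hx
        rw [LinearEquiv.mul_apply, hQ.refl_apply_of_orth b hb (hbH x hx), hTfix x hx]
      · rw [LinearEquiv.mul_apply, hQ.refl_apply_of_orth b hb hbw, hTw]
  refine ⟨?_, ?_⟩
  · -- strictness
    rw [SetLike.lt_iff_le_and_exists]
    refine ⟨inf_le_right, ?_⟩
    obtain ⟨y, hy⟩ : ∃ y, B v₀ y ≠ 0 := by
      by_contra hcon
      push Not at hcon
      exact hv₀0 (hnd v₀ hcon)
    have hyv : B y v₀ ≠ 0 := by rw [hQ.symm]; exact hy
    obtain ⟨u, hQu, -, -, huspan⟩ := hQ.exists_partner_vec hnd hsq hdim hyv 0 hc₀0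
    have hu0 : u ≠ 0 := by
      rintro rfl
      exact huspan (Submodule.zero_mem _)
    obtain ⟨b, hb, hbv, -⟩ := hQ.exists_nonsingular_orth hnd hdim v₀ v₀
    obtain ⟨h, hhΩ, -, hhv⟩ := hwitt ⊥ v₀ u (by rw [Submodule.mem_bot]; exact hv₀0)
      (by rw [Submodule.mem_bot]; exact hu0) (by rw [hQu, hc₀])
      (by
        intro x hx
        rw [Submodule.mem_bot] at hx
        rw [hx, map_zero, LinearMap.zero_apply])
      ⟨b, hb, by
        intro x hx
        rw [Submodule.mem_bot] at hx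
        rw [hx, map_zero, LinearMap.zero_apply], by rw [hQ.symm]; exact hbv⟩
    refine ⟨h, hhΩ, ?_⟩
    rintro ⟨hs, -⟩
    have := hQ.apply_eq_of_mem_stabSub hv₀ (commutator_le_OG hhΩ) hs
    rw [hhv] at this
    rw [this] at huspan
    exact huspan (Submodule.mem_span_singleton_self v₀)
  · intro M hHM hMΩ
    by_cases hMH : M = stabSub (Submodule.span K {v₀}) ⊓ ⁅OG Q, OG Q⁆
    · left; exact hMH
    right
    apply le_antisymm hMΩ
    obtain ⟨g, hgM, hgH⟩ : ∃ g ∈ M, g ∉ stabSub (Submodule.span K {v₀}) ⊓ ⁅OG Q, OG Q⁆ := by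
      by_contra hcon
      push Not at hcon
      exact hMH (le_antisymm (fun g hg => hcon g hg) hHM)
    have hMO : ∀ k ∈ M, k ∈ OG Q := fun k hk => commutator_le_OG (hMΩ hk)
    have hgΩ := hMΩ hgM
    have hgO : g ∈ OG Q := hMO g hgM
    have hgs : g ∉ stabSub (Submodule.span K {v₀}) := fun h => hgH ⟨h, hgΩ⟩
    obtain ⟨w, hw⟩ : ∃ w, w = g v₀ := ⟨_, rfl⟩
    have hQw : Q w = c₀ := by rw [hw, hgO v₀, hc₀]
    have hwspan : w ∉ Submodule.span K {v₀} := by
      intro hmem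
      apply hgs
      obtain ⟨μ, hμ⟩ := Submodule.mem_span_singleton.1 hmem
      have h1 : Q (μ • v₀) = Q v₀ := by rw [hμ, hQw, hc₀]
      have h3 := hQ.smul_eq_of_norm_eq hv₀ h1
      apply mem_stabSub_of_apply_eq
      rw [← hw, ← hμ, h3]
    -- the relation `r_a r_b ∈ M`
    have hsymm : ∀ (a b : V) (ha : Q a ≠ 0) (hb : Q b ≠ 0), hQ.refl a ha * hQ.refl b hb ∈ M →
        hQ.refl b hb * hQ.refl a ha ∈ M := by
      intro a b ha hb h
      have := inv_mem h
      rwa [mul_inv_rev, refl_inv, refl_inv] at this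
    have htrans : ∀ (a b c : V) (ha : Q a ≠ 0) (hb : Q b ≠ 0) (hc : Q c ≠ 0),
        hQ.refl a ha * hQ.refl b hb ∈ M → hQ.refl b hb * hQ.refl c hc ∈ M →
        hQ.refl a ha * hQ.refl c hc ∈ M := by
      intro a b c ha hb hc h1 h2'
      have := mul_mem h1 h2'
      rwa [mul_assoc, ← mul_assoc (hQ.refl b hb), hQ.refl_mul_self, one_mul] at this
    have hconj : ∀ k ∈ M, ∀ (a b : V) (ha : Q a ≠ 0) (hb : Q b ≠ 0),
        hQ.refl a ha * hQ.refl b hb ∈ M → ∀ (a₂ b₂ : V) (ha₂ : Q a₂ ≠ 0) (hb₂ : Q b₂ ≠ 0),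
        a₂ = k a → b₂ = k b → hQ.refl a₂ ha₂ * hQ.refl b₂ hb₂ ∈ M := by
      intro k hk a b ha hb h a₂ b₂ ha₂ hb₂ e1 e2
      subst e1 e2
      have hkO := hMO k hk
      have h1 := hQ.conj_refl hkO a ha
      have h2' := hQ.conj_refl hkO b hb
      have h3 : hQ.refl (k a) ha₂ * hQ.refl (k b) hb₂ =
          k * (hQ.refl a ha * hQ.refl b hb) * k⁻¹ := by
        rw [← h1, ← h2']
        group
      rw [h3]
      exact mul_mem (mul_mem hk h) (inv_mem hk)
    -- vectors orthogonal to a member of the orbit of `v₀`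
    have hP3 : ∀ k ∈ M, ∀ (a b : V) (ha : Q a ≠ 0) (hb : Q b ≠ 0), Q a = c₀ → Q b = c₀ →
        B a (k v₀) = 0 → B b (k v₀) = 0 → hQ.refl a ha * hQ.refl b hb ∈ M := by
      intro k hk a b ha hb hQa hQb hak hbk
      have hkO := hMO k hk
      have hkiO : k⁻¹ ∈ OG Q := inv_mem hkO
      have hkk : ∀ x, k (k⁻¹ x) = x := fun x => by
        rw [← LinearEquiv.mul_apply, mul_inv_cancel]; rfl
      have ha' : Q (k⁻¹ a) ≠ 0 := by rw [hkiO a]; exact ha
      have hb' : Q (k⁻¹ b) ≠ 0 := by rw [hkiO b]; exact hb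
      have hav : B (k⁻¹ a) v₀ = 0 := by
        rw [← hQ.B_map hkO, hkk]; exact hak
      have hbv : B (k⁻¹ b) v₀ = 0 := by
        rw [← hQ.B_map hkO, hkk]; exact hbk
      have hva : B v₀ (k⁻¹ a) = 0 := by rw [hQ.symm]; exact hav
      have hvb : B v₀ (k⁻¹ b) = 0 := by rw [hQ.symm]; exact hbv
      have h1 : hQ.refl (k⁻¹ a) ha' * hQ.refl (k⁻¹ b) hb' ∈ M := by
        apply hHM
        refine ⟨?_, hQ.refl_mul_refl_mem' hnd ha' hb' (by rw [hkiO a, hkiO b, hQa, hQb])⟩
        apply mem_stabSub_of_apply_eq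
        rw [LinearEquiv.mul_apply, hQ.refl_apply_of_orth _ hb' hvb,
          hQ.refl_apply_of_orth _ ha' hva]
      exact hconj k hk _ _ ha' hb' h1 a b ha hb (hkk a).symm (hkk b).symm
    have hP4 : ∀ k ∈ M, ∀ k' ∈ M, ∀ (hu : Q (k v₀) ≠ 0) (hu' : Q (k' v₀) ≠ 0),
        hQ.refl (k v₀) hu * hQ.refl (k' v₀) hu' ∈ M := by
      intro k hk k' hk' hu hu'
      have hQu : Q (k v₀) = c₀ := by rw [hMO k hk v₀, hc₀]
      have hQu' : Q (k' v₀) = c₀ := by rw [hMO k' hk' v₀, hc₀]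
      obtain ⟨b, hQb, hbu, hbu'⟩ := hQ.exists_norm_orth hnd hsq hdim (k v₀) (k' v₀) c₀
      have hb : Q b ≠ 0 := by rw [hQb]; exact hc₀0
      have h1 := hP3 k hk (k v₀) b hu hb hQu hQb (hself _) hbu
      have h2' := hP3 k' hk' b (k' v₀) hb hu' hQb hQu' hbu' (hself _)
      exact htrans _ _ _ hu hb hu' h1 h2'
    have hP5 : ∀ (a : V) (ha : Q a ≠ 0), Q a = c₀ → hQ.refl v₀ hv₀ * hQ.refl a ha ∈ M := by
      intro a ha hQa
      by_cases hav : B a v₀ = 0
      · have := hP3 1 (one_mem M) v₀ a hv₀ ha hc₀.symm hQa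
        simp only [LinearEquiv.coe_one, id_eq] at this
        exact this (hself v₀) hav
      · obtain ⟨u, hQu, hvu, hau, huspan⟩ :=
          hQ.exists_partner_vec hnd hsq hdim hav (B v₀ w) hc₀0
        obtain ⟨b, hb, hbv, hbw⟩ := hQ.exists_nonsingular_orth hnd hdim v₀ w
        obtain ⟨h, hhΩ, hhfix, hhw⟩ := hwitt (Submodule.span K {v₀}) w u hwspan huspan
          (by rw [hQw, hQu])
          (by
            intro x hx
            obtain ⟨μ, rfl⟩ := Submodule.mem_span_singleton.1 hx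
            rw [map_smul, LinearMap.smul_apply, map_sub, hvu, sub_self, smul_zero])
          ⟨b, hb, by
            intro x hx
            obtain ⟨μ, rfl⟩ := Submodule.mem_span_singleton.1 hx
            rw [map_smul, LinearMap.smul_apply, hQ.symm, hbv, smul_zero],
            by rw [hQ.symm]; exact hbw⟩
        have hhv : h v₀ = v₀ := hhfix v₀ (Submodule.mem_span_singleton_self v₀)
        have hhM : h ∈ M := hHM ⟨mem_stabSub_of_apply_eq hhv, hhΩ⟩
        have hkM : h * g ∈ M := mul_mem hhM hgM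
        have hku : (h * g) v₀ = u := by rw [LinearEquiv.mul_apply, ← hw, hhw]
        have hu : Q u ≠ 0 := by rw [hQu]; exact hc₀0
        have h1 := hP4 1 (one_mem M) (h * g) hkM (by simpa using hv₀) (by rw [hku]; exact hu)
        have h3 := hP3 (h * g) hkM u a hu ha hQu hQa (by rw [hku]; exact hself u)
          (by rw [hku]; exact hau)
        have h4 : hQ.refl v₀ hv₀ * hQ.refl u hu ∈ M := by
          have e1 : hQ.refl ((1 : V ≃ₗ[K] V) v₀) (by simpa using hv₀) = hQ.refl v₀ hv₀ :=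
            hQ.refl_congr (by simp) _
          have e2 : hQ.refl ((h * g) v₀) (by rw [hku]; exact hu) = hQ.refl u hu :=
            hQ.refl_congr hku _
          rw [← e1, ← e2]
          exact h1
        exact htrans _ _ _ hv₀ hu ha h4 h3
    apply hQ.commutator_le_of_refl_pairs hnd hF hsq hc₀0 hc₀.symm M
    intro a b ha hb hQa hQb
    exact htrans _ _ _ ha hv₀ hb (hsymm _ _ hv₀ ha (hP5 a ha hQa)) (hP5 b hb hQb)

end QuadData

end Cfsg.Agent.Lib.Helper94
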