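import Mathlib
import Cfsg.Agent.Lib.Helper94.OmegaClass2
import Cfsg.Agent.Lib.Helper94.OmegaSubOdd2
import Cfsg.Agent.Lib.Helper94.SympSL

set_option autoImplicit false
set_option linter.unusedSimpArgs false
set_option linter.unusedSectionVars false

namespace Cfsg.Agent.Lib.Helper94

open LinearMap (BilinForm)
open Module (finrank)

variable {K V : Type*} [Field K] [AddCommGroup V] [Module K V]

lemma inv_apply_apply' (g : V ≃ₗ[K] V) (x : V) : g⁻¹ (g x) = x := by
  rw [← LinearEquiv.mul_apply, inv_mul_cancel, LinearEquiv.coe_one, id_eq]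

lemma apply_inv_apply' (g : V ≃ₗ[K] V) (x : V) : g (g⁻¹ x) = x := by
  rw [← LinearEquiv.mul_apply, mul_inv_cancel, LinearEquiv.coe_one, id_eq]

lemma reflection_congr' {x x' : V} {f f' : Module.Dual K V} (hx : x = x') (hf : f = f')
    (h : f x = 2) :
    Module.reflection h = Module.reflection (x := x') (f := f') (by rw [← hx, ← hf]; exact h) := by
  subst hx; subst hf; rfl

lemma reflection_inv' {x : V} {f : Module.Dual K V} (h : f x = 2) :
    (Module.reflection h)⁻¹ = Module.reflection h := rfl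

lemma conj_reflection (g : V ≃ₗ[K] V) {x : V} {f : Module.Dual K V} (h : f x = 2) :
    g * Module.reflection h * g⁻¹ =
      Module.reflection (x := g x) (f := f.comp ((g⁻¹ : V ≃ₗ[K] V) : V →ₗ[K] V))
        (by
          rw [LinearMap.comp_apply, LinearEquiv.coe_coe, inv_apply_apply']
          exact h) := by
  ext y
  rw [LinearEquiv.mul_apply, LinearEquiv.mul_apply, Module.reflection_apply,
    Module.reflection_apply, map_sub, map_smul, apply_inv_apply']
  rfl

/-- two reflections commute when each functional kills the other centre -/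
lemma reflection_comm {x d : V} {f k : Module.Dual K V} (h : f x = 2) (h' : k d = 2)
    (h1 : f d = 0) (h2 : k x = 0) :
    Module.reflection h * Module.reflection h' = Module.reflection h' * Module.reflection h := by
  ext y
  simp only [LinearEquiv.mul_apply, Module.reflection_apply, map_sub, map_smul, smul_eq_mul,
    h1, h2, mul_zero, sub_zero]
  module

/-- the square of the product of two reflections, when one functional kills the other centre,
is a transvection -/
lemma reflection_mul_sq {a b : V} {f k : Module.Dual K V} (h : f a = 2) (h' : k b = 2)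
    (h1 : f b = 0) (y : V) :
    (Module.reflection h' * Module.reflection h) ((Module.reflection h' * Module.reflection h) y)
      = y - (k a * f y) • b := by
  simp only [LinearEquiv.mul_apply, Module.reflection_apply, map_sub, map_smul, smul_eq_mul,
    h1, h, h', mul_zero, sub_zero]
  module

namespace QuadData

variable {B : BilinForm K V} {Q : V → K}

/-- a non-singular vector with prescribed values of finitely many functionals -/
lemma exists_nonsingular_of_functionals [FiniteDimensional K V] (hQ : QuadData B Q)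
    (hnd : ∀ x, (∀ y, B x y = 0) → x = 0) {m : ℕ} (φ : Fin m → (V →ₗ[K] K))
    (hdim : 2 * (m + 1) < finrank K V) (e₀ : V) :
    ∃ e : V, (∀ i, φ i e = φ i e₀) ∧ Q e ≠ 0 := by
  by_cases h : Q e₀ ≠ 0
  · exact ⟨e₀, fun i => rfl, h⟩
  push Not at h
  obtain ⟨z, hz, hfz⟩ := hQ.exists_nonsingular_ker hnd
    (LinearMap.pi (Fin.cons (α := fun _ => V →ₗ[K] K) (B.flip e₀) φ)) hdim
  have h0 : B z e₀ = 0 := by
    have := congrFun hfz 0
    simpa using this
  have hi : ∀ i, φ i z = 0 := by
    intro i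
    have := congrFun hfz i.succ
    simpa using this
  refine ⟨e₀ + z, fun i => ?_, ?_⟩
  · rw [map_add, hi, add_zero]
  · rw [hQ.polar, h, hQ.symm, h0, zero_add, add_zero]
    exact hz

/-- a non-singular vector exists -/
lemma exists_nonsingular [FiniteDimensional K V] (hQ : QuadData B Q)
    (hnd : ∀ x, (∀ y, B x y = 0) → x = 0) (hdim : 1 ≤ finrank K V) : ∃ a : V, Q a ≠ 0 := by
  obtain ⟨a, ha, -⟩ := hQ.exists_nonsingular_ker hnd (m := 0) 0 (by omega)
  exact ⟨a, ha⟩

/-- **An automorphism preserving orthogonality to non-singular vectors is a similarity.** -/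
lemma exists_orth_not_preserved [FiniteDimensional K V] (hQ : QuadData B Q)
    (hnd : ∀ x, (∀ y, B x y = 0) → x = 0) (h2 : (2 : K) ≠ 0) (hdim : 7 ≤ finrank K V)
    {g : V ≃ₗ[K] V} (hns : ¬ ∃ c : K, ∀ x, Q (g x) = c * Q x) :
    ∃ a y, Q a ≠ 0 ∧ B y a = 0 ∧ B (g y) (g a) ≠ 0 := by
  by_contra hcon
  push Not at hcon
  apply hns
  have key : ∀ a, Q a ≠ 0 → ∀ y, B (g y) (g a) = (Q (g a) / Q a) * B y a := by
    intro a ha y
    have h2a : 2 * Q a ≠ 0 := mul_ne_zero h2 ha
    have h1 := hcon a (y - (B y a / (2 * Q a)) • a) ha (by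
      rw [map_sub, LinearMap.sub_apply, map_smul, LinearMap.smul_apply, hQ.self, smul_eq_mul]
      field_simp
      ring)
    rw [map_sub, map_smul, map_sub, LinearMap.sub_apply, map_smul, LinearMap.smul_apply, hQ.self,
      smul_eq_mul] at h1
    field_simp
    field_simp at h1
    linear_combination h1
  have hconst1 : ∀ a b, Q a ≠ 0 → Q b ≠ 0 → B a b ≠ 0 → Q (g a) / Q a = Q (g b) / Q b := by
    intro a b ha hb hab
    have h1 := key a ha b
    have h3 := key b hb a
    rw [hQ.symm (g b) (g a), h3, hQ.symm b a] at h1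
    exact (mul_right_cancel₀ hab h1).symm
  have hconst : ∀ a b, Q a ≠ 0 → Q b ≠ 0 → Q (g a) / Q a = Q (g b) / Q b := by
    intro a b ha hb
    have ha0 : a ≠ 0 := by rintro rfl; exact ha hQ.zero
    have hb0 : b ≠ 0 := by rintro rfl; exact hb hQ.zero
    obtain ⟨e₀, -, h1, h3⟩ := hQ.exists_two_prod_ne_zero_in ⊤
      (fun p _ hp => hnd p (fun y => hp y Submodule.mem_top)) (Submodule.mem_top (x := a)) ha0
      (Submodule.mem_top (x := b)) hb0
    obtain ⟨d, hd, hQd⟩ := hQ.exists_nonsingular_of_functionals hnd ![B.flip a, B.flip b]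
      (by omega) e₀
    have hda : B d a ≠ 0 := by
      have : B d a = B e₀ a := hd 0
      rw [this]; exact h1
    have hdb : B d b ≠ 0 := by
      have : B d b = B e₀ b := hd 1
      rw [this]; exact h3
    rw [hconst1 a d ha hQd (by rw [hQ.symm]; exact hda), hconst1 d b hQd hb hdb]
  obtain ⟨a₀, ha₀⟩ := hQ.exists_nonsingular hnd (by omega)
  refine ⟨Q (g a₀) / Q a₀, fun x => ?_⟩
  by_cases hx : Q x ≠ 0
  · rw [hconst a₀ x ha₀ hx]
    field_simp
  push Not at hx
  rw [hx, mul_zero]
  obtain ⟨z, hz, hfz⟩ := hQ.exists_nonsingular_ker hnd (LinearMap.pi ![B.flip x]) (by omega)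
  have hzx : B z x = 0 := by
    have := congrFun hfz 0
    simpa using this
  have hxz : Q (x + z) ≠ 0 := by
    rw [hQ.polar, hx, hQ.symm, hzx, zero_add, add_zero]; exact hz
  have h1 := key (x + z) hxz x
  have h3 := key z hz x
  rw [hconst (x + z) a₀ hxz ha₀] at h1
  rw [hconst z a₀ hz ha₀, hQ.symm x z, hzx, mul_zero] at h3
  rw [map_add, map_add (B x), map_add (B (g x)), h3, add_zero, hQ.self, hQ.self, hx, hQ.symm x z,
    hzx, add_zero, mul_zero, mul_zero] at h1
  exact (mul_eq_zero.1 h1).resolve_left h2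

/-- the functional of the conjugate by `g` of the reflection along `x` -/
noncomputable def cfun (B : BilinForm K V) (Q : V → K) (g : V ≃ₗ[K] V) (x : V) : Module.Dual K V :=
  ((Q x)⁻¹ • B.flip x).comp ((g⁻¹ : V ≃ₗ[K] V) : V →ₗ[K] V)

lemma cfun_apply (g : V ≃ₗ[K] V) (x y : V) : cfun B Q g x y = (Q x)⁻¹ * B (g⁻¹ y) x := rfl

lemma cfun_self (hQ : QuadData B Q) (g : V ≃ₗ[K] V) {x : V} (hx : Q x ≠ 0) :
    cfun B Q g x (g x) = 2 := by
  rw [cfun_apply, inv_apply_apply', hQ.self]
  field_simp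

/-- the conjugate by `g` of the reflection along `x` -/
noncomputable def crefl (hQ : QuadData B Q) (g : V ≃ₗ[K] V) (x : V) (hx : Q x ≠ 0) : V ≃ₗ[K] V :=
  Module.reflection (hQ.cfun_self g hx)

lemma crefl_eq (hQ : QuadData B Q) (g : V ≃ₗ[K] V) (x : V) (hx : Q x ≠ 0) :
    g * hQ.refl x hx * g⁻¹ = hQ.crefl g x hx :=
  conj_reflection g _

lemma crefl_apply (hQ : QuadData B Q) (g : V ≃ₗ[K] V) (x : V) (hx : Q x ≠ 0) (y : V) :
    hQ.crefl g x hx y = y - (cfun B Q g x y) • g x := by
  rw [crefl, Module.reflection_apply]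

lemma crefl_inv (hQ : QuadData B Q) (g : V ≃ₗ[K] V) (x : V) (hx : Q x ≠ 0) :
    (hQ.crefl g x hx)⁻¹ = hQ.crefl g x hx := rfl

/-- the functional of the reflection along `u` -/
noncomputable def rfun (B : BilinForm K V) (Q : V → K) (u : V) : Module.Dual K V :=
  (Q u)⁻¹ • B.flip u

lemma rfun_apply (u y : V) : rfun B Q u y = (Q u)⁻¹ * B y u := rfl

lemma rfun_self (hQ : QuadData B Q) {u : V} (hu : Q u ≠ 0) : rfun B Q u u = 2 := by
  rw [rfun_apply, hQ.self]
  field_simp

lemma refl_eq_reflection (hQ : QuadData B Q) (u : V) (hu : Q u ≠ 0) :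
    hQ.refl u hu = Module.reflection (hQ.rfun_self hu) := rfl

/-- the conjugated reflection along `x` commutes with the reflection along `u` -/
lemma crefl_comm (hQ : QuadData B Q) (g : V ≃ₗ[K] V) {x u : V} (hx : Q x ≠ 0) (hu : Q u ≠ 0)
    (h1 : B (g⁻¹ u) x = 0) (h3 : B u (g x) = 0) :
    hQ.crefl g x hx * hQ.refl u hu = hQ.refl u hu * hQ.crefl g x hx := by
  rw [refl_eq_reflection, crefl]
  apply reflection_comm
  · rw [cfun_apply, h1, mul_zero]
  · rw [rfun_apply, hQ.symm, h3, mul_zero]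

/-- **From a non-similarity to a transvection**: a subgroup containing all products of two
reflections and an automorphism which is not a similarity contains a non-trivial transvection
with non-singular centre. -/
theorem exists_transvection_of_not_sim [FiniteDimensional K V] (hQ : QuadData B Q)
    (hnd : ∀ x, (∀ y, B x y = 0) → x = 0) (h2 : (2 : K) ≠ 0) (hdim : 9 ≤ finrank K V)
    (M : Subgroup (V ≃ₗ[K] V))
    (hM : ∀ (a b : V) (ha : Q a ≠ 0) (hb : Q b ≠ 0), hQ.refl a ha * hQ.refl b hb ∈ M)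
    {g : V ≃ₗ[K] V} (hg : g ∈ M) (hns : ¬ ∃ c : K, ∀ x, Q (g x) = c * Q x) :
    ∃ (b : V) (f : Module.Dual K V) (hfb : f b = 0), Q b ≠ 0 ∧ f ≠ 0 ∧
      LinearEquiv.transvection hfb ∈ M := by
  obtain ⟨a, y₀, ha, hy₀, hne⟩ := hQ.exists_orth_not_preserved hnd h2 (by omega) hns
  -- the vector `u`
  obtain ⟨u, hu, hQu⟩ := hQ.exists_nonsingular_of_functionals hnd
    ![cfun B Q g a, B.flip (g a)] (by omega) (g y₀)
  have hu1 : cfun B Q g a u = 0 := by
    have h : cfun B Q g a u = cfun B Q g a (g y₀) := hu 0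
    rw [h, cfun_apply, inv_apply_apply', hy₀, mul_zero]
  have hu2 : B u (g a) ≠ 0 := by
    have h : B u (g a) = B (g y₀) (g a) := hu 1
    rw [h]; exact hne
  -- the vector `a'`
  obtain ⟨a', ha', hfa'⟩ := hQ.exists_nonsingular_ker hnd
    (LinearMap.pi ![(B u).comp (g : V →ₗ[K] V), B (g⁻¹ u)]) (by omega)
  have ha'1 : B u (g a') = 0 := by
    have := congrFun hfa' 0
    simpa using this
  have ha'2 : B (g⁻¹ u) a' = 0 := by
    have := congrFun hfa' 1
    simpa using this
  -- the vector `u''`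
  obtain ⟨u'', hu'', hfu''⟩ := hQ.exists_nonsingular_ker hnd
    (LinearMap.pi ![(B.flip a).comp ((g⁻¹ : V ≃ₗ[K] V) : V →ₗ[K] V),
      (B.flip a').comp ((g⁻¹ : V ≃ₗ[K] V) : V →ₗ[K] V), B.flip (g a), B.flip (g a')]) (by omega)
  have hu''1 : B (g⁻¹ u'') a = 0 := by
    have := congrFun hfu'' 0
    simpa using this
  have hu''2 : B (g⁻¹ u'') a' = 0 := by
    have := congrFun hfu'' 1
    simpa using this
  have hu''3 : B u'' (g a) = 0 := by
    have := congrFun hfu'' 2
    simpa using this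
  have hu''4 : B u'' (g a') = 0 := by
    have := congrFun hfu'' 3
    simpa using this
  set Pa := hQ.crefl g a ha with hPa
  set Pa' := hQ.crefl g a' ha' with hPa'
  set ru := hQ.refl u hQu with hru
  set ru'' := hQ.refl u'' hu'' with hru''
  have hy : Pa * Pa' ∈ M := by
    have : Pa * Pa' = g * (hQ.refl a ha * hQ.refl a' ha') * g⁻¹ := by
      rw [hPa, hPa', ← crefl_eq, ← crefl_eq]
      group
    rw [this]
    exact M.mul_mem (M.mul_mem hg (hM a a' ha ha')) (M.inv_mem hg)
  have c1 : Pa' * ru = ru * Pa' := hQ.crefl_comm g ha' hQu ha'2 ha'1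
  have c2 : Pa' * ru'' = ru'' * Pa' := hQ.crefl_comm g ha' hu'' hu''2 hu''4
  have c3 : Pa * ru'' = ru'' * Pa := hQ.crefl_comm g ha hu'' hu''1 hu''3
  have e1 : Pa' * (ru * ru'') * Pa'⁻¹ = ru * ru'' := by
    rw [← mul_assoc, c1, mul_assoc ru, c2, ← mul_assoc, mul_assoc, mul_inv_cancel, mul_one]
  have e2 : Pa * ru'' * Pa⁻¹ = ru'' := by rw [c3, mul_assoc, mul_inv_cancel, mul_one]
  have e3 : (Pa * Pa') * (ru * ru'') * (Pa * Pa')⁻¹ = Pa * ru * Pa⁻¹ * ru'' := by
    calc (Pa * Pa') * (ru * ru'') * (Pa * Pa')⁻¹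
        = Pa * (Pa' * (ru * ru'') * Pa'⁻¹) * Pa⁻¹ := by group
      _ = Pa * (ru * ru'') * Pa⁻¹ := by rw [e1]
      _ = (Pa * ru * Pa⁻¹) * (Pa * ru'' * Pa⁻¹) := by group
      _ = _ := by rw [e2]
  have hP1 : ∀ (u' : V) (hu' : Q u' ≠ 0), Pa * ru * Pa⁻¹ * hQ.refl u' hu' ∈ M := by
    intro u' hu'
    have h1 : Pa * ru * Pa⁻¹ * ru'' ∈ M := by
      rw [← e3]
      exact M.mul_mem (M.mul_mem hy (hM u u'' hQu hu'')) (M.inv_mem hy)
    have h3 : Pa * ru * Pa⁻¹ * hQ.refl u' hu' =
        (Pa * ru * Pa⁻¹ * ru'') * (ru'' * hQ.refl u' hu') := by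
      rw [mul_assoc _ ru'', ← mul_assoc ru'', hru'', hQ.refl_mul_self, one_mul]
    rw [h3]
    exact M.mul_mem h1 (hM u'' u' hu'' hu')
  -- the pseudo-reflection `P₁`
  have hPau : Pa u = u := by
    rw [hPa, crefl_apply, hu1, zero_smul, sub_zero]
  set f₁ : Module.Dual K V := (rfun B Q u).comp ((Pa⁻¹ : V ≃ₗ[K] V) : V →ₗ[K] V) with hf₁
  have hf₁_apply : ∀ y, f₁ y = (Q u)⁻¹ * (B y u - cfun B Q g a y * B (g a) u) := by
    intro y
    rw [hf₁, LinearMap.comp_apply, LinearEquiv.coe_coe, hPa, crefl_inv, crefl_apply, rfun_apply,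
      map_sub, LinearMap.sub_apply, map_smul, LinearMap.smul_apply, smul_eq_mul]
  have hf₁u : f₁ u = 2 := by
    rw [hf₁_apply, hu1, zero_mul, sub_zero, hQ.self]
    field_simp
  have hP1eq : Pa * ru * Pa⁻¹ = Module.reflection hf₁u := by
    rw [hru, refl_eq_reflection, conj_reflection]
    exact reflection_congr' hPau rfl _
  -- the vector `b`
  have h2u : 2 * Q u ≠ 0 := mul_ne_zero h2 hQu
  obtain ⟨b, hb, hQb⟩ := hQ.exists_nonsingular_of_functionals hnd
    ![f₁, B.flip u] (by omega) (g a + (B (g a) u / (2 * Q u)) • u)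
  have hc : cfun B Q g a (g a + (B (g a) u / (2 * Q u)) • u) = 2 := by
    rw [map_add, map_smul, hu1, smul_zero, add_zero, hQ.cfun_self g ha]
  have hB : B (g a + (B (g a) u / (2 * Q u)) • u) u = 2 * B (g a) u := by
    rw [map_add, LinearMap.add_apply, map_smul, LinearMap.smul_apply, hQ.self, smul_eq_mul]
    field_simp
    ring
  have hb1 : f₁ b = 0 := by
    have h : f₁ b = f₁ (g a + (B (g a) u / (2 * Q u)) • u) := hb 0
    rw [h, hf₁_apply, hc, hB]
    ring
  have hb2 : B b u ≠ 0 := by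
    have h : B b u = B (g a + (B (g a) u / (2 * Q u)) • u) u := hb 1
    rw [h, hB]
    have : B (g a) u ≠ 0 := by rw [hQ.symm]; exact hu2
    exact mul_ne_zero h2 this
  set rb := hQ.refl b hQb with hrb
  have hmem : rb * Module.reflection hf₁u ∈ M := by
    have h1 := M.inv_mem (hP1 b hQb)
    rw [hP1eq, mul_inv_rev, reflection_inv', hQ.refl_inv] at h1
    exact h1
  have hT := M.mul_mem hmem hmem
  have hfb : (-(rfun B Q b u) • f₁) b = 0 := by
    rw [LinearMap.smul_apply, hb1, smul_zero]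
  refine ⟨b, -(rfun B Q b u) • f₁, hfb, hQb, ?_, ?_⟩
  · intro h
    have h1 := LinearMap.congr_fun h u
    rw [LinearMap.smul_apply, hf₁u, LinearMap.zero_apply, rfun_apply, smul_eq_mul] at h1
    have h3 : B u b ≠ 0 := by rw [hQ.symm]; exact hb2
    rcases mul_eq_zero.1 h1 with h4 | h4
    · rw [neg_eq_zero] at h4
      rcases mul_eq_zero.1 h4 with h5 | h5
      · exact hQb (inv_eq_zero.1 h5)
      · exact h3 h5
    · exact h2 h4
  · have : LinearEquiv.transvection hfb = rb * Module.reflection hf₁u *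
        (rb * Module.reflection hf₁u) := by
      ext y
      rw [LinearEquiv.mul_apply (rb * Module.reflection hf₁u), hrb, refl_eq_reflection,
        reflection_mul_sq hf₁u (hQ.rfun_self hQb) hb1, LinearEquiv.transvection.apply,
        LinearMap.smul_apply, smul_eq_mul]
      module
    rw [this]
    exact hT

end QuadData

end Cfsg.Agent.Lib.Helper94
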