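/-
Helper94: a subgroup containing all products of two reflections of a non-degenerate quadratic
space (odd characteristic, dimension at least nine) and one non-trivial transvection with
non-singular centre contains every transvection.
-/
import Mathlib
import Cfsg.Agent.Lib.Helper94.QSimSL1

set_option autoImplicit false
set_option linter.unusedSimpArgs false
set_option linter.unusedSectionVars false
set_option linter.unusedVariables false

namespace Cfsg.Agent.Lib.Helper94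

open LinearMap (BilinForm)
open Module (finrank)

variable {K V : Type*} [Field K] [AddCommGroup V] [Module K V]

namespace QuadData

variable {B : BilinForm K V} {Q : V → K}

/-- **Pairs of reflections of a good subspace are transitive on its non-zero vectors of a given
norm.** -/
lemma trans_pair (hQ : QuadData B Q) (Z : Submodule K V) (hZ : GoodSub hQ Z) (S : Set V)
    (hS : ∀ c ∈ Z, ∀ d ∈ Z, ∀ (hc : Q c ≠ 0) (hd : Q d ≠ 0), ∀ w ∈ S,
      hQ.refl c hc (hQ.refl d hd w) ∈ S)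
    {w w' : V} (hw : w ∈ Z) (hw0 : w ≠ 0) (hw' : w' ∈ Z) (hw'0 : w' ≠ 0) (hn : Q w = Q w')
    (hwS : w ∈ S) : w' ∈ S := by
  have hone : ∀ y y' : V, y ∈ Z → y' ∈ Z → Q y = Q y' → Q (y - y') ≠ 0 → y ∈ S → y' ∈ S := by
    intro y y' hy hy' hyy' hd hyS
    obtain ⟨c, hc, hcy', -, hQc⟩ := hZ.m1 y' y' 0 Z.zero_mem 1
    rw [map_zero, LinearMap.zero_apply] at hcy'
    have hQc0 : Q c ≠ 0 := by rw [hQc]; exact one_ne_zero
    have h1 := hS c hc (y - y') (Z.sub_mem hy hy') hQc0 hd y hyS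
    rw [hQ.refl_swap hyy' hd, hQ.refl_apply_of_orth c hQc0 (by rw [hQ.symm]; exact hcy')] at h1
    exact h1
  by_cases hd : Q (w - w') ≠ 0
  · exact hone w w' hw hw' hn hd hwS
  obtain ⟨e₀, he₀, h01, h02⟩ : ∃ e₀ ∈ Z, B e₀ w ≠ 2 * Q w ∧ B e₀ w' ≠ 2 * Q w := by
    by_cases hc : 2 * Q w = 0
    · obtain ⟨e, he, h1, h2'⟩ := hQ.exists_two_prod_ne_zero_in Z hZ.nondeg hw hw0 hw' hw'0
      exact ⟨e, he, by rw [hc]; exact h1, by rw [hc]; exact h2'⟩
    · refine ⟨0, Z.zero_mem, ?_, ?_⟩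
      · rw [map_zero, LinearMap.zero_apply]; exact fun h => hc h.symm
      · rw [map_zero, LinearMap.zero_apply]; exact fun h => hc h.symm
  obtain ⟨m, hm, hm1, hm2, hQm⟩ := hZ.m1 w w' e₀ he₀ (Q w)
  have hd1 : Q (w - m) ≠ 0 := by
    rw [hQ.sub, hQm, hQ.symm, hm1]
    intro h
    apply h01
    linear_combination -h
  have hd2 : Q (m - w') ≠ 0 := by
    rw [hQ.sub, hQm, ← hn, hm2]
    intro h
    apply h02
    linear_combination -h
  have h3 := hone w m hw hm hQm.symm hd1 hwS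
  exact hone m w' hm hw' (hQm.trans hn) hd2 h3

lemma OG_le_Sp (hQ : QuadData B Q) : OG Q ≤ SympData.Sp B := fun g hg x y => hQ.B_map hg x y

lemma refl_mul_refl_mem_Sp (hQ : QuadData B Q) (c d : V) (hc : Q c ≠ 0) (hd : Q d ≠ 0) :
    hQ.refl c hc * hQ.refl d hd ∈ SympData.Sp B :=
  hQ.OG_le_Sp (mul_mem (hQ.refl_mem_OG c hc) (hQ.refl_mem_OG d hd))

/-- additivity of general transvections in the centre -/
lemma gtv_add_left (u u' w : V) (hu : B u w = 0) (hu' : B u' w = 0) :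
    SympData.gtv B (u + u') w (by simp [hu, hu']) =
      SympData.gtv B u w hu * SympData.gtv B u' w hu' := by
  ext x
  simp only [SympData.gtv_apply, LinearEquiv.mul_apply, map_add, LinearMap.add_apply, map_smul,
    LinearMap.smul_apply, smul_eq_mul, hu', mul_zero, add_zero]
  module

/-- the orthogonal complement of a non-singular vector is a good subspace -/
lemma goodSub_orth_singleton [Finite K] [FiniteDimensional K V] (hQ : QuadData B Q)
    (hnd : ∀ x, (∀ y, B x y = 0) → x = 0) (h2 : (2 : K) ≠ 0) (hdim : 8 ≤ finrank K V) {b : V}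
    (hb : Q b ≠ 0) : GoodSub hQ (B.orthogonal (Submodule.span K {b})) := by
  have hW : ∀ p ∈ Submodule.span K {b}, (∀ p' ∈ Submodule.span K {b}, B p p' = 0) → p = 0 := by
    intro p hp h
    obtain ⟨l, rfl⟩ := Submodule.mem_span_singleton.1 hp
    have h1 := h b (Submodule.mem_span_singleton_self b)
    rw [map_smul, LinearMap.smul_apply, hQ.self, smul_eq_mul] at h1
    have : l = 0 := by
      rcases mul_eq_zero.1 h1 with h | h
      · exact h
      · exact absurd h (mul_ne_zero h2 hb)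
    rw [this, zero_smul]
  apply hQ.goodSub_of_odd h2 _ (hQ.orth_nondeg hnd _ hW)
  have hb0 : b ≠ 0 := by rintro rfl; exact hb hQ.zero
  have := LinearMap.BilinForm.finrank_orthogonal (hQ.nondegenerate_of hnd) (Submodule.span K {b})
  rw [finrank_span_singleton hb0] at this
  omega

lemma mem_orth_singleton (hQ : QuadData B Q) (b x : V) :
    x ∈ B.orthogonal (Submodule.span K {b}) ↔ B b x = 0 := by
  rw [mem_orth_iff]
  constructor
  · intro h
    exact h b (Submodule.mem_span_singleton_self b)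
  · intro h w hw
    obtain ⟨l, rfl⟩ := Submodule.mem_span_singleton.1 hw
    rw [map_smul, LinearMap.smul_apply, h, smul_zero]

/-- **Step A**: one non-trivial transvection with non-singular centre `b` gives all of them. -/
lemma gtv_mem_of_center [Finite K] [FiniteDimensional K V] (hQ : QuadData B Q)
    (hnd : ∀ x, (∀ y, B x y = 0) → x = 0) (h2 : (2 : K) ≠ 0) (hdim : 8 ≤ finrank K V)
    (M : Subgroup (V ≃ₗ[K] V))
    (hM : ∀ (a b : V) (ha : Q a ≠ 0) (hb : Q b ≠ 0), hQ.refl a ha * hQ.refl b hb ∈ M)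
    {b w₀ : V} (hb : Q b ≠ 0) (hw₀ : w₀ ≠ 0) (hbw₀ : B b w₀ = 0)
    (hT : SympData.gtv B b w₀ hbw₀ ∈ M) :
    ∀ (w : V) (hw : B b w = 0), SympData.gtv B b w hw ∈ M := by
  set Z := B.orthogonal (Submodule.span K {b}) with hZdef
  have hZ : GoodSub hQ Z := hQ.goodSub_orth_singleton hnd h2 hdim hb
  have hmemZ : ∀ x, x ∈ Z ↔ B b x = 0 := fun x => hQ.mem_orth_singleton b x
  set S : Set V := {w | ∃ hw : B b w = 0, SympData.gtv B b w hw ∈ M} with hSdef
  have hS : ∀ c ∈ Z, ∀ d ∈ Z, ∀ (hc : Q c ≠ 0) (hd : Q d ≠ 0), ∀ w ∈ S,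
      hQ.refl c hc (hQ.refl d hd w) ∈ S := by
    intro c hc d hd hQc hQd w hw
    obtain ⟨hbw, hwM⟩ := hw
    have hbc : B b c = 0 := (hmemZ c).1 hc
    have hbd : B b d = 0 := (hmemZ d).1 hd
    have hfix : (hQ.refl c hQc * hQ.refl d hQd) b = b := by
      rw [LinearEquiv.mul_apply, hQ.refl_apply_of_orth d hQd hbd, hQ.refl_apply_of_orth c hQc hbc]
    have hSp := hQ.refl_mul_refl_mem_Sp c d hQc hQd
    have h1 := M.mul_mem (M.mul_mem (hM c d hQc hQd) hwM) (M.inv_mem (hM c d hQc hQd))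
    rw [SympData.conj_gtv hSp] at h1
    have e := SympData.gtv_congr (B := B) hfix
      (show (hQ.refl c hQc * hQ.refl d hQd) w = hQ.refl c hQc (hQ.refl d hQd w) from rfl)
      (by rw [hSp]; exact hbw)
    rw [e] at h1
    exact ⟨_, h1⟩
  have hw₀Z : w₀ ∈ Z := (hmemZ w₀).2 hbw₀
  have hnorm : ∀ w ∈ Z, w ≠ 0 → Q w = Q w₀ → w ∈ S := by
    intro w hw hw0 hQw
    exact hQ.trans_pair Z hZ S hS hw₀Z hw₀ hw hw0 hQw.symm ⟨hbw₀, hT⟩
  intro z hz
  by_cases hz0 : z = 0
  · subst hz0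
    rw [SympData.gtv_zero]
    exact M.one_mem
  have hzZ : z ∈ Z := (hmemZ z).2 hz
  obtain ⟨w₁, hw₁, h11, h12, h13, h14⟩ := hZ.exists_norm_prod_avoid (Z.neg_mem hzZ)
    (neg_ne_zero.2 hz0) (-(Q z)) (Q w₀)
  have hw₂ : z - w₁ ∈ Z := Z.sub_mem hzZ hw₁
  have hw₂0 : z - w₁ ≠ 0 := by
    intro h
    apply h14
    rw [← neg_eq_zero, ← h]
    abel
  have hQw₂ : Q (z - w₁) = Q w₀ := by
    rw [hQ.sub, h12, hQ.symm z w₁]
    rw [map_neg] at h11
    linear_combination h11
  obtain ⟨hb1, hM1⟩ := hnorm w₁ hw₁ h13 h12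
  obtain ⟨hb2, hM2⟩ := hnorm (z - w₁) hw₂ hw₂0 hQw₂
  have e := SympData.gtv_add (B := B) b w₁ (z - w₁) hb1 hb2
  have e' := SympData.gtv_congr (B := B) (rfl : b = b) (show w₁ + (z - w₁) = z by abel)
    (by rw [map_add, hb1, hb2, add_zero])
  rw [← e', e]
  exact M.mul_mem hM1 hM2

/-- the whole space is a good subspace -/
lemma goodSub_top [Finite K] [FiniteDimensional K V] (hQ : QuadData B Q)
    (hnd : ∀ x, (∀ y, B x y = 0) → x = 0) (h2 : (2 : K) ≠ 0) (hdim : 7 ≤ finrank K V) :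
    GoodSub hQ (⊤ : Submodule K V) := by
  apply hQ.goodSub_of_odd h2 _ (fun p _ hp => hnd p (fun y => hp y Submodule.mem_top))
  rw [finrank_top]
  exact hdim

/-- **Step B**: the same for every centre of the same norm. -/
lemma gtv_mem_of_norm [Finite K] [FiniteDimensional K V] (hQ : QuadData B Q)
    (hnd : ∀ x, (∀ y, B x y = 0) → x = 0) (h2 : (2 : K) ≠ 0) (hdim : 7 ≤ finrank K V)
    (M : Subgroup (V ≃ₗ[K] V))
    (hM : ∀ (a b : V) (ha : Q a ≠ 0) (hb : Q b ≠ 0), hQ.refl a ha * hQ.refl b hb ∈ M)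
    {b : V} (hb : Q b ≠ 0)
    (hall : ∀ (w : V) (hw : B b w = 0), SympData.gtv B b w hw ∈ M) :
    ∀ b' : V, Q b' = Q b → ∀ (w : V) (hw : B b' w = 0), SympData.gtv B b' w hw ∈ M := by
  intro b' hb'
  set S : Set V := {b' | ∀ (w : V) (hw : B b' w = 0), SympData.gtv B b' w hw ∈ M} with hSdef
  have hS : ∀ c ∈ (⊤ : Submodule K V), ∀ d ∈ (⊤ : Submodule K V), ∀ (hc : Q c ≠ 0)
      (hd : Q d ≠ 0), ∀ w ∈ S, hQ.refl c hc (hQ.refl d hd w) ∈ S := by
    intro c _ d _ hQc hQd x hx w hw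
    set h := hQ.refl c hQc * hQ.refl d hQd with hh
    have hSp : h ∈ SympData.Sp B := hQ.refl_mul_refl_mem_Sp c d hQc hQd
    have hhM : h ∈ M := hM c d hQc hQd
    have hw' : B x (h⁻¹ w) = 0 := by
      have := hSp x (h⁻¹ w)
      rw [apply_inv_apply'] at this
      rw [← this]
      exact hw
    have h1 := M.mul_mem (M.mul_mem hhM (hx (h⁻¹ w) hw')) (M.inv_mem hhM)
    rw [SympData.conj_gtv hSp] at h1
    have e := SympData.gtv_congr (B := B) (rfl : h x = h x) (apply_inv_apply' h w)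
      (by rw [hSp]; exact hw')
    rw [e] at h1
    exact h1
  have hb0 : b ≠ 0 := by rintro rfl; exact hb hQ.zero
  have hb'0 : b' ≠ 0 := by rintro rfl; rw [hQ.zero] at hb'; exact hb hb'.symm
  exact hQ.trans_pair ⊤ (hQ.goodSub_top hnd h2 hdim) S hS Submodule.mem_top hb0
    Submodule.mem_top hb'0 hb'.symm hall

/-- every functional is represented by a vector -/
lemma exists_repr [FiniteDimensional K V] (hQ : QuadData B Q)
    (hnd : ∀ x, (∀ y, B x y = 0) → x = 0) (φ : Module.Dual K V) : ∃ w, ∀ x, φ x = B x w := by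
  have hB := hQ.nondegenerate_of hnd
  refine ⟨(B.toDual hB).symm φ, fun x => ?_⟩
  rw [hQ.symm]
  exact (LinearMap.BilinForm.apply_toDual_symm_apply (B := B) (hB := hB) φ x).symm

/-- **A subgroup containing all products of two reflections and one non-trivial transvection with
non-singular centre contains every transvection.** -/
theorem all_transvections_mem [Finite K] [FiniteDimensional K V] (hQ : QuadData B Q)
    (hnd : ∀ x, (∀ y, B x y = 0) → x = 0) (h2 : (2 : K) ≠ 0) (hdim : 8 ≤ finrank K V)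
    (M : Subgroup (V ≃ₗ[K] V))
    (hM : ∀ (a b : V) (ha : Q a ≠ 0) (hb : Q b ≠ 0), hQ.refl a ha * hQ.refl b hb ∈ M)
    {b : V} {f : Module.Dual K V} (hfb : f b = 0) (hQb : Q b ≠ 0) (hf : f ≠ 0)
    (hT : LinearEquiv.transvection hfb ∈ M) :
    ∀ (f' : Module.Dual K V) (v : V) (hfv : f' v = 0), LinearEquiv.transvection hfv ∈ M := by
  obtain ⟨w₀, hw₀⟩ := hQ.exists_repr hnd f
  have hbw₀ : B b w₀ = 0 := by rw [← hw₀]; exact hfb
  have hw₀0 : w₀ ≠ 0 := by
    rintro rfl
    apply hf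
    ext x
    rw [hw₀, map_zero, LinearMap.zero_apply]
  have hT' : SympData.gtv B b w₀ hbw₀ ∈ M := by
    have : SympData.gtv B b w₀ hbw₀ = LinearEquiv.transvection hfb := by
      ext x
      rw [SympData.gtv_apply, LinearEquiv.transvection.apply, hw₀]
    rw [this]; exact hT
  have hA := hQ.gtv_mem_of_center hnd h2 hdim M hM hQb hw₀0 hbw₀ hT'
  have hBst := hQ.gtv_mem_of_norm hnd h2 (by omega) M hM hQb hA
  -- Step C
  have hC : ∀ (u w : V) (huw : B u w = 0), SympData.gtv B u w huw ∈ M := by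
    intro u w huw
    obtain ⟨b₁, h11, h12, h13⟩ := hQ.exists_norm_of_functionals hnd h2 (by omega) (B.flip w)
      (B.flip u) ((2 : K)⁻¹ • u) (Q b)
    have hb₁w : B b₁ w = 0 := by
      have : B b₁ w = B ((2 : K)⁻¹ • u) w := h11
      rw [this, map_smul, LinearMap.smul_apply, huw, smul_zero]
    have hb₁u : B b₁ u = Q u := by
      have : B b₁ u = B ((2 : K)⁻¹ • u) u := h12
      rw [this, map_smul, LinearMap.smul_apply, hQ.self, smul_eq_mul, ← mul_assoc,
        inv_mul_cancel₀ h2, one_mul]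
    have hb₂w : B (u - b₁) w = 0 := by
      rw [map_sub, LinearMap.sub_apply, huw, hb₁w, sub_zero]
    have hQb₂ : Q (u - b₁) = Q b := by
      rw [hQ.sub, h13, hQ.symm, hb₁u]
      ring
    have e := gtv_add_left (B := B) b₁ (u - b₁) w hb₁w hb₂w
    have e' := SympData.gtv_congr (B := B) (show b₁ + (u - b₁) = u by abel) (rfl : w = w)
      (by rw [map_add, LinearMap.add_apply, hb₁w, hb₂w, add_zero])
    rw [← e', e]
    exact M.mul_mem (hBst b₁ h13 w hb₁w) (hBst (u - b₁) hQb₂ w hb₂w)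
  intro f' v hfv
  obtain ⟨w, hw⟩ := hQ.exists_repr hnd f'
  have hvw : B v w = 0 := by rw [← hw]; exact hfv
  have : LinearEquiv.transvection hfv = SympData.gtv B v w hvw := by
    ext x
    rw [SympData.gtv_apply, LinearEquiv.transvection.apply, hw]
  rw [this]
  exact hC v w hvw

end QuadData

end Cfsg.Agent.Lib.Helper94
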