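/-
Helper94: the similarity group of a non-degenerate quadratic form over a finite field of odd
order is maximal in the special linear group (automorphism form and bridge to the Prelude).
-/
import Mathlib
import Cfsg.Prelude.Def_GeometricClasses
import Cfsg.Agent.Lib.Helper94.QSimSL2
import Cfsg.Agent.Lib.Helper94.SympSLBridge
import Cfsg.Agent.Lib.Helper94.OrthBridge
import Cfsg.Agent.Lib.Helper94.OmegaSubBridge

set_option autoImplicit false
set_option linter.unusedSimpArgs false
set_option linter.unusedSectionVars false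
set_option linter.unusedVariables false

namespace Cfsg.Agent.Lib.Helper94

open scoped MatrixGroups Matrix
open LinearMap (BilinForm)
open Module (finrank)

section Abstract

variable {K V : Type*} [Field K] [AddCommGroup V] [Module K V]

/-- The similarity group of a function `Q`. -/
def QSimE (Q : V → K) : Subgroup (V ≃ₗ[K] V) where
  carrier := {g | ∃ c : Kˣ, ∀ x, Q (g x) = (c : K) * Q x}
  mul_mem' {a b} ha hb := by
    obtain ⟨c, hc⟩ := ha
    obtain ⟨d, hd⟩ := hb
    refine ⟨c * d, fun x => ?_⟩
    rw [LinearEquiv.mul_apply, hc, hd, Units.val_mul, mul_assoc]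
  one_mem' := ⟨1, fun x => by simp⟩
  inv_mem' {a} ha := by
    obtain ⟨c, hc⟩ := ha
    refine ⟨c⁻¹, fun x => ?_⟩
    have h1 := hc (a⁻¹ x)
    rw [apply_inv_apply'] at h1
    rw [h1, ← mul_assoc, Units.val_inv_eq_inv_val, inv_mul_cancel₀ c.ne_zero, one_mul]

lemma mem_QSimE {Q : V → K} {g : V ≃ₗ[K] V} :
    g ∈ QSimE Q ↔ ∃ c : Kˣ, ∀ x, Q (g x) = (c : K) * Q x := Iff.rfl

lemma OG_le_QSimE (Q : V → K) : OG Q ≤ QSimE Q := fun g hg => ⟨1, fun x => by simp [hg x]⟩

/-- the determinant of a reflection -/
lemma det_reflection [FiniteDimensional K V] {x : V} {f : Module.Dual K V} (h : f x = 2) :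
    LinearEquiv.det (Module.reflection h) = -1 := by
  rw [← Units.val_inj, LinearEquiv.coe_det]
  have : ((Module.reflection h : V ≃ₗ[K] V) : V →ₗ[K] V) = LinearMap.transvection (-f) x := by
    ext y
    rw [LinearEquiv.coe_coe, Module.reflection_apply, LinearMap.transvection.apply,
      LinearMap.neg_apply, neg_smul, sub_eq_add_neg]
  rw [this, LinearMap.transvection.det, LinearMap.neg_apply, h]
  simp only [Units.val_neg, Units.val_one]
  ring

namespace QuadData

variable {B : BilinForm K V} {Q : V → K}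

lemma refl_mul_refl_mem_SLe [FiniteDimensional K V] (hQ : QuadData B Q) (a b : V) (ha : Q a ≠ 0)
    (hb : Q b ≠ 0) : hQ.refl a ha * hQ.refl b hb ∈ SympData.SLe K V := by
  rw [SympData.mem_SLe, map_mul, refl_eq_reflection, refl_eq_reflection, det_reflection,
    det_reflection]
  simp

/-- a transvection with non-singular centre is not a similarity -/
lemma gtv_not_mem_QSimE (hQ : QuadData B Q) (hnd : ∀ x, (∀ y, B x y = 0) → x = 0)
    (h2 : (2 : K) ≠ 0) {b w : V} (hb : Q b ≠ 0) (hw : w ≠ 0) (hbw : B b w = 0) :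
    SympData.gtv B b w hbw ∉ QSimE Q := by
  rintro ⟨c, hc⟩
  have hc1 : (c : K) = 1 := by
    have h1 := hc b
    rw [SympData.gtv_apply, hbw, zero_smul, add_zero] at h1
    have h3 : (1 - (c : K)) * Q b = 0 := by linear_combination h1
    rcases mul_eq_zero.1 h3 with h | h
    · linear_combination -h
    · exact absurd h hb
  obtain ⟨x₀, hx₀⟩ : ∃ x₀, B x₀ w ≠ 0 := by
    by_contra hcon
    push Not at hcon
    exact hw (hnd w (fun y => by rw [hQ.symm]; exact hcon y))
  have h2b : 2 * Q b ≠ 0 := mul_ne_zero h2 hb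
  set x := x₀ - (B x₀ b / (2 * Q b)) • b with hx
  have hxw : B x w = B x₀ w := by
    rw [hx, map_sub, LinearMap.sub_apply, map_smul, LinearMap.smul_apply, hbw, smul_zero, sub_zero]
  have hxb : B x b = 0 := by
    rw [hx, map_sub, LinearMap.sub_apply, map_smul, LinearMap.smul_apply, hQ.self, smul_eq_mul]
    field_simp
    ring
  have h1 := hc x
  rw [SympData.gtv_apply, hQ.polar, hQ.smul, map_smul, smul_eq_mul, hxb, mul_zero, add_zero, hc1,
    one_mul, hxw] at h1
  have h3 : B x₀ w ^ 2 * Q b = 0 := by linear_combination h1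
  rcases mul_eq_zero.1 h3 with h | h
  · exact hx₀ (pow_eq_zero_iff (two_ne_zero) |>.1 h)
  · exact hb h

/-- **The similarities of determinant one form a maximal subgroup of the automorphisms of
determinant one** (function-space form). -/
theorem qsim_isMaximalIn_SLe {F : Type*} [Field F] [Finite F] {n : ℕ} (hn : 9 ≤ n)
    {B : BilinForm F (Fin n → F)} {Q : (Fin n → F) → F} (hQ : QuadData B Q)
    (hnd : ∀ x, (∀ y, B x y = 0) → x = 0) (h2 : (2 : F) ≠ 0) :
    Cfsg.Geo.IsMaximalIn (SympData.SLe F (Fin n → F))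
      (QSimE Q ⊓ SympData.SLe F (Fin n → F)) := by
  have hfr : finrank F (Fin n → F) = n := by
    rw [Module.finrank_fintype_fun_eq_card]; simp
  constructor
  · rw [SetLike.lt_iff_le_and_exists]
    refine ⟨inf_le_right, ?_⟩
    obtain ⟨b, hb⟩ := hQ.exists_nonsingular hnd (by omega)
    obtain ⟨w, hw, hfw⟩ := hQ.exists_nonsingular_ker hnd (LinearMap.pi ![B.flip b]) (by omega)
    have hwb : B w b = 0 := by
      have := congrFun hfw 0
      simpa using this
    have hbw : B b w = 0 := by rw [hQ.symm]; exact hwb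
    have hw0 : w ≠ 0 := by rintro rfl; exact hw hQ.zero
    exact ⟨SympData.gtv B b w hbw, SympData.gtv_mem_SLe b w hbw,
      fun hmem => hQ.gtv_not_mem_QSimE hnd h2 hb hw0 hbw hmem.1⟩
  · intro M hNM hMS
    by_cases hM : M ≤ QSimE Q
    · left
      exact le_antisymm (le_inf hM hMS) hNM
    right
    apply le_antisymm hMS
    obtain ⟨g, hgM, hg⟩ := SetLike.not_le_iff_exists.1 hM
    have hpairs : ∀ (a b : Fin n → F) (ha : Q a ≠ 0) (hb : Q b ≠ 0),
        hQ.refl a ha * hQ.refl b hb ∈ M := fun a b ha hb =>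
      hNM ⟨OG_le_QSimE Q (mul_mem (hQ.refl_mem_OG a ha) (hQ.refl_mem_OG b hb)),
        hQ.refl_mul_refl_mem_SLe a b ha hb⟩
    have hns : ¬ ∃ c : F, ∀ x, Q (g x) = c * Q x := by
      rintro ⟨c, hc⟩
      apply hg
      have hc0 : c ≠ 0 := by
        rintro rfl
        obtain ⟨a, ha⟩ := hQ.exists_nonsingular hnd (by omega)
        apply ha
        have := hc (g⁻¹ a)
        rw [apply_inv_apply', zero_mul] at this
        exact this
      exact ⟨Units.mk0 c hc0, fun x => hc x⟩
    obtain ⟨b, f, hfb, hQb, hf, hT⟩ :=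
      hQ.exists_transvection_of_not_sim hnd h2 (by omega) M hpairs hgM hns
    have hall := hQ.all_transvections_mem hnd h2 (by omega) M hpairs hfb hQb hf hT
    have hnt : Nontrivial (Fin n) := Fin.nontrivial_iff_two_le.2 (by omega)
    have hle := specialLinear_le_of_transvections (ι := Fin n) (F := F)
      (M.comap (glEquiv (Fin n) F).toMonoidHom) (by
        intro f v hfv
        rw [Subgroup.mem_comap]
        change (glEquiv (Fin n) F) ((glEquiv (Fin n) F).symm (LinearEquiv.transvection hfv)) ∈ M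
        rw [MulEquiv.apply_symm_apply]
        exact hall f v hfv)
    rw [← map_specialLinear]
    intro e he
    obtain ⟨g', hg', rfl⟩ := he
    exact hle hg'

end QuadData

end Abstract

variable {F : Type*} [Field F]

/-- the image of the similarity group of a quadratic form -/
lemma map_quadSimilarityGroup {n : ℕ} (Q : (Fin n → F) → F) :
    (Cfsg.Geo.quadSimilarityGroup Q).map (glEquiv (Fin n) F).toMonoidHom = QSimE Q := by
  ext e
  rw [Subgroup.mem_map_equiv, mem_QSimE]
  change (∃ c : Fˣ, ∀ v, Q ((((glEquiv (Fin n) F).symm e : GL (Fin n) F) :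
    Matrix (Fin n) (Fin n) F) *ᵥ v) = (c : F) * Q v) ↔ _
  simp only [glEquiv_symm_mulVec]

/-- **Maximality of the similarity group of a non-degenerate quadratic form in the special linear
group** (Prelude vocabulary). -/
theorem quadSimilarity_isMaximalIn [Fintype F] {n : ℕ} (hn : 9 ≤ n)
    (hodd : Odd (Fintype.card F)) (Q : (Fin n → F) → F)
    (hQ : Cfsg.Geo.IsNondegenerateQuadraticForm Q) :
    Cfsg.Geo.IsMaximalIn (Cfsg.Geo.specialLinear (Fin n) F)
      (Cfsg.Geo.quadSimilarityGroup Q ⊓ Cfsg.Geo.specialLinear (Fin n) F) := by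
  classical
  apply isMaximalIn_of_map (glEquiv (Fin n) F)
  rw [map_inf_equiv, map_quadSimilarityGroup, map_specialLinear]
  exact (quadData_polarBilin hQ).qsim_isMaximalIn_SLe hn (nondeg_polarBilin hQ)
    (two_ne_zero_of_odd_card hodd)

end Cfsg.Agent.Lib.Helper94
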