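import Mathlib
import Cfsg.Agent.Lib.Helper53.SL2Pres.Defs

/-!
# S2286-[CLOS3] (helper94, hedge): closure lemma, even case
-/

set_option autoImplicit false

namespace Cfsg.Agent.Lib.Helper94.SL2Pres

open Cfsg.Agent.Lib.Helper53 Cfsg.Agent.Lib.Helper53.Steinberg Cfsg.Agent.Lib.Helper53.SL2Pres

variable {G : Type*} [Group G] {K : Type*} [Field K]

theorem comm_of_three (h u : G) (k : ℕ) (hu : u * u = 1)
    (rel : uc h u k = u * uc h u 1) :
    ∀ i j : ℕ, Commute (uc h u i) (uc h u j) := by
  set v : ℤ → G := fun z => h ^ z * u * (h ^ z)⁻¹ with hv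
  have huc : ∀ i : ℕ, uc h u i = v i := by
    intro i; simp [uc, hv]
  have hshift : ∀ a d : ℤ, v (a + d) = h ^ d * v a * (h ^ d)⁻¹ := by
    intro a d
    simp only [hv]
    rw [add_comm, zpow_add]
    group
  have hv0 : v 0 = u := by simp [hv]
  have hinv : ∀ z, v z * v z = 1 := by
    intro z
    simp only [hv]
    calc h ^ z * u * (h ^ z)⁻¹ * (h ^ z * u * (h ^ z)⁻¹)
        = h ^ z * (u * u) * (h ^ z)⁻¹ := by group
      _ = 1 := by rw [hu]; group
  have hvinv : ∀ z, (v z)⁻¹ = v z := by
    intro z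
    exact inv_eq_of_mul_eq_one_left (hinv z)
  have hcs : ∀ a b d : ℤ, Commute (v a) (v b) → Commute (v (a + d)) (v (b + d)) := by
    intro a b d hab
    rw [hshift a d, hshift b d]
    have e : v a * v b = v b * v a := hab
    show h ^ d * v a * (h ^ d)⁻¹ * (h ^ d * v b * (h ^ d)⁻¹) =
      h ^ d * v b * (h ^ d)⁻¹ * (h ^ d * v a * (h ^ d)⁻¹)
    calc h ^ d * v a * (h ^ d)⁻¹ * (h ^ d * v b * (h ^ d)⁻¹)
        = h ^ d * (v a * v b) * (h ^ d)⁻¹ := by group
      _ = h ^ d * (v b * v a) * (h ^ d)⁻¹ := by rw [e]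
      _ = _ := by group
  have hD : ∀ a b : ℤ, Commute (v 0) (v (b - a)) → Commute (v a) (v b) := by
    intro a b hh
    have := hcs 0 (b - a) a hh
    simpa using this
  have hD' : ∀ a b : ℤ, Commute (v a) (v b) → Commute (v 0) (v (b - a)) := by
    intro a b hh
    have := hcs a b (-a) hh
    simpa [sub_eq_add_neg] using this
  have hneg : ∀ m : ℤ, Commute (v 0) (v m) → Commute (v 0) (v (-m)) := by
    intro m hm
    have := hD' m 0 hm.symm
    simpa using this
  have hrel0 : v k = v 0 * v 1 := by
    have := rel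
    rw [huc, huc] at this
    rw [hv0]
    simpa using this
  -- Dm 1
  have hD1 : Commute (v 0) (v 1) := by
    have h1 : (v 0 * v 1) * (v 0 * v 1) = 1 := by rw [← hrel0]; exact hinv _
    have h2 : v 0 * v 1 = (v 0 * v 1)⁻¹ := (inv_eq_of_mul_eq_one_left h1).symm
    rw [mul_inv_rev, hvinv, hvinv] at h2
    exact h2
  -- Rule A'
  have ruleA : ∀ j : ℤ, Commute (v 0) (v j) → Commute (v 0) (v (j - 1)) →
      Commute (v 0) (v (k - j)) := by
    intro j h0 h1
    have h1' : Commute (v 1) (v j) := hD 1 j h1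
    have hk : Commute (v k) (v j) := by
      rw [hrel0]; exact h0.mul_left h1'
    have := hD' _ _ hk
    have := hneg _ this
    simpa using this
  -- Rule B'
  have ruleB : ∀ j : ℤ, Commute (v 0) (v (j - k)) → Commute (v 0) (v (j - 1)) →
      Commute (v 0) (v j) := by
    intro j hk h1
    have h1' : Commute (v 1) (v j) := hD 1 j h1
    have hk' : Commute (v k) (v j) := hD k j hk
    have e0 : v 0 = v k * (v 1)⁻¹ := by rw [hrel0]; group
    rw [e0]
    exact hk'.mul_left h1'.inv_left
  -- Rule D'
  have ruleD : ∀ j : ℤ, Commute (v 0) (v j) → Commute (v 0) (v (j - k)) →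
      Commute (v 0) (v (j - 1)) := by
    intro j h0 hk
    have hk' : Commute (v k) (v j) := hD k j hk
    have e1 : v 1 = (v 0)⁻¹ * v k := by rw [hrel0]; group
    have h1 : Commute (v 1) (v j) := by
      rw [e1]; exact h0.inv_left.mul_left hk'
    exact hD' 1 j h1
  have hD0 : Commute (v 0) (v 0) := Commute.refl _
  -- induction
  have hP : ∀ m : ℕ, (∀ i : ℕ, i ≤ m + 1 → Commute (v 0) (v (i : ℤ))) ∧
      (∀ i : ℕ, i ≤ m + 1 → Commute (v 0) (v ((k : ℤ) - i))) := by
    intro m
    induction m with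
    | zero =>
      refine ⟨?_, ?_⟩
      · intro i hi
        interval_cases i
        · simp
        · simpa using hD1
      · intro i hi
        interval_cases i
        · have := ruleA 0 hD0 (by simpa using hneg 1 hD1)
          simpa using this
        · have := ruleA 1 hD1 (by simp)
          simpa using this
    | succ m ih =>
      obtain ⟨ih1, ih2⟩ := ih
      -- Dm (k - (m+2))
      have hA : Commute (v 0) (v ((k : ℤ) - ((m + 2 : ℕ) : ℤ))) := by
        have h1 := ih2 (m + 1) le_rfl
        have h2 : Commute (v 0) (v ((k : ℤ) - ((m + 1 : ℕ) : ℤ) - k)) := by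
          have := hneg _ (ih1 (m + 1) le_rfl)
          have e : ((k : ℤ) - ((m + 1 : ℕ) : ℤ) - k) = -((m + 1 : ℕ) : ℤ) := by ring
          rw [e]; exact this
        have := ruleD _ h1 h2
        have e : ((k : ℤ) - ((m + 1 : ℕ) : ℤ) - 1) = (k : ℤ) - ((m + 2 : ℕ) : ℤ) := by
          push_cast; ring
        rw [e] at this; exact this
      have hB : Commute (v 0) (v ((m + 2 : ℕ) : ℤ)) := by
        apply ruleB
        · have := hneg _ hA
          have e : -((k : ℤ) - ((m + 2 : ℕ) : ℤ)) = ((m + 2 : ℕ) : ℤ) - k := by ring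
          rw [e] at this; exact this
        · have := ih1 (m + 1) le_rfl
          have e : (((m + 2 : ℕ) : ℤ) - 1) = ((m + 1 : ℕ) : ℤ) := by push_cast; ring
          rw [e]; exact this
      refine ⟨?_, ?_⟩
      · intro i hi
        rcases Nat.lt_or_ge i (m + 2) with h | h
        · exact ih1 i (by omega)
        · have : i = m + 2 := by omega
          subst this; exact hB
      · intro i hi
        rcases Nat.lt_or_ge i (m + 2) with h | h
        · exact ih2 i (by omega)
        · have : i = m + 2 := by omega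
          subst this; exact hA
  have hall : ∀ m : ℕ, Commute (v 0) (v (m : ℤ)) := fun m => (hP m).1 m (by omega)
  have hallZ : ∀ z : ℤ, Commute (v 0) (v z) := by
    intro z
    rcases Int.eq_nat_or_neg z with ⟨n, rfl | rfl⟩
    · exact hall n
    · exact hneg _ (hall n)
  intro i j
  rw [huc, huc]
  exact hD _ _ (hallZ _)

end Cfsg.Agent.Lib.Helper94.SL2Pres
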