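/-
Helper94: existence lemmas for a non-degenerate symmetric bilinear form over a finite field of
odd characteristic: singular vectors orthogonal to a given family, hyperbolic partners, sums of two
singular vectors, non-singular vectors orthogonal to a family.
-/
import Mathlib
import Cfsg.Agent.Lib.Helper44.Witt

set_option autoImplicit false
set_option linter.unusedSimpArgs false
set_option linter.unusedVariables false
set_option linter.unusedSectionVars false

namespace Cfsg.Agent.Lib.Helper94

open LinearMap (BilinForm)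

variable {K V : Type*} [Field K] [AddCommGroup V] [Module K V]

/-- A symmetric non-degenerate bilinear form, with elementary hypotheses. -/
structure SymData (B : BilinForm K V) : Prop where
  symm : ∀ x y, B x y = B y x
  nondeg : ∀ x, (∀ y, B x y = 0) → x = 0

namespace SymData

variable {B : BilinForm K V}

lemma isSymm (h : SymData B) : B.IsSymm := ⟨fun x y => by simpa using h.symm x y⟩

lemma isRefl (h : SymData B) : B.IsRefl := h.isSymm.isRefl

lemma nondegenerate (h : SymData B) : B.Nondegenerate := by
  refine ⟨fun x hx => h.nondeg x hx, fun y hy => h.nondeg y fun x => ?_⟩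
  rw [h.symm, hy x]

lemma mem_orthogonal (h : SymData B) {U : Submodule K V} {x : V} :
    x ∈ B.orthogonal U ↔ ∀ u ∈ U, B x u = 0 := by
  rw [LinearMap.BilinForm.mem_orthogonal_iff]
  constructor
  · intro hx u hu
    rw [h.symm]; exact hx u hu
  · intro hx u hu
    show B u x = 0
    rw [h.symm]; exact hx u hu

lemma orth_orth [FiniteDimensional K V] (h : SymData B) (U : Submodule K V) :
    B.orthogonal (B.orthogonal U) = U :=
  LinearMap.BilinForm.orthogonal_orthogonal h.nondegenerate h.isRefl U

section Exist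

variable [FiniteDimensional K V]

/-- a vector orthogonal to `S` outside `S'`, by dimensions -/
lemma exists_orth_not_mem (h : SymData B) (S S' : Submodule K V)
    (hd : Module.finrank K S + Module.finrank K S' < Module.finrank K V) :
    ∃ x ∈ B.orthogonal S, x ∉ S' := by
  by_contra hcon
  push Not at hcon
  have hle : B.orthogonal S ≤ S' := fun x hx => hcon x hx
  have h1 := Submodule.finrank_mono hle
  rw [LinearMap.BilinForm.finrank_orthogonal h.nondegenerate] at h1
  omega

/-- a dual vector inside `S^⊥` -/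
lemma exists_dual_in_orth (h : SymData B) (S : Submodule K V) {y : V}
    (hyS : y ∉ S) : ∃ y' ∈ B.orthogonal S, B y y' = 1 := by
  by_contra hcon
  push Not at hcon
  apply hyS
  rw [← h.orth_orth S, h.mem_orthogonal]
  intro u hu
  by_contra hne
  apply hcon ((B y u)⁻¹ • u) (Submodule.smul_mem _ _ hu)
  rw [map_smul, smul_eq_mul, inv_mul_cancel₀ hne]

lemma finrank_span_range_le {k : ℕ} (v : Fin k → V) :
    Module.finrank K (Submodule.span K (Set.range v)) ≤ k := by
  have := finrank_range_le_card (R := K) v
  simpa [Set.finrank] using this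

/-- a vector orthogonal to the family `v` outside the span of the family `v'` -/
lemma exists_orth_fam (h : SymData B) {k k' : ℕ} (v : Fin k → V) (v' : Fin k' → V)
    (hd : k + k' < Module.finrank K V) :
    ∃ x, (∀ i, B x (v i) = 0) ∧ x ∉ Submodule.span K (Set.range v') := by
  have h1 := finrank_span_range_le (K := K) v
  have h2 := finrank_span_range_le (K := K) v'
  obtain ⟨x, hx, hx'⟩ := h.exists_orth_not_mem (Submodule.span K (Set.range v))
    (Submodule.span K (Set.range v')) (by omega)
  exact ⟨x, fun i => (h.mem_orthogonal.1 hx) _ (Submodule.subset_span ⟨i, rfl⟩), hx'⟩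

/-- a dual vector orthogonal to the family `v` -/
lemma exists_dual_fam (h : SymData B) {k : ℕ} (v : Fin k → V) {y : V}
    (hy : y ∉ Submodule.span K (Set.range v)) :
    ∃ y', (∀ i, B y' (v i) = 0) ∧ B y y' = 1 := by
  obtain ⟨y', hy', hyy⟩ := h.exists_dual_in_orth (Submodule.span K (Set.range v)) hy
  exact ⟨y', fun i => (h.mem_orthogonal.1 hy') _ (Submodule.subset_span ⟨i, rfl⟩), hyy⟩

/-- the quadratic form `x ↦ B x x` -/
noncomputable def qf (B : BilinForm K V) : QuadraticForm K V := LinearMap.BilinMap.toQuadraticMap B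

lemma qf_apply (x : V) : qf B x = B x x := LinearMap.BilinMap.toQuadraticMap_apply B x

/-- a non-zero singular vector orthogonal to a family (Chevalley–Warning) -/
lemma exists_singular_orth [Finite K] (h : SymData B) {k : ℕ} (v : Fin k → V)
    (hd : k + 3 ≤ Module.finrank K V) :
    ∃ x, x ≠ 0 ∧ B x x = 0 ∧ ∀ i, B x (v i) = 0 := by
  set W : Submodule K V := B.orthogonal (Submodule.span K (Set.range v)) with hW
  have h1 := finrank_span_range_le (K := K) v
  have h2 : Module.finrank K W = Module.finrank K V -
      Module.finrank K (Submodule.span K (Set.range v)) := by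
    rw [hW, LinearMap.BilinForm.finrank_orthogonal h.nondegenerate]
  have h3 : 3 ≤ Module.finrank K W := by omega
  obtain ⟨w, hw0, hw⟩ := Cfsg.Agent.Lib.Helper44.exists_isotropic ((qf B).comp W.subtype) h3
  refine ⟨(w : V), fun h0 => hw0 (Subtype.ext h0), ?_, fun i => ?_⟩
  · have : (qf B).comp W.subtype w = B (w : V) (w : V) := by
      rw [QuadraticMap.comp_apply, qf_apply]; rfl
    rw [← this, hw]
  · exact (h.mem_orthogonal.1 w.2) _ (Submodule.subset_span ⟨i, rfl⟩)

/-- `x ∉ span v` if `x ≠ 0` is orthogonal to the non-degenerate family `v` -/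
lemma not_mem_span_of_orth (h : SymData B) {k : ℕ} (v : Fin k → V)
    (hv : ∀ x ∈ Submodule.span K (Set.range v), (∀ i, B x (v i) = 0) → x = 0)
    {x : V} (hx0 : x ≠ 0) (hx : ∀ i, B x (v i) = 0) : x ∉ Submodule.span K (Set.range v) :=
  fun hmem => hx0 (hv x hmem hx)

/-- a singular partner of a singular vector, orthogonal to a family -/
lemma exists_partner_orth (h : SymData B) (h2 : (2 : K) ≠ 0) {k : ℕ} (v : Fin k → V) {u : V}
    (hu : B u u = 0) (huv : u ∉ Submodule.span K (Set.range v)) (huo : ∀ i, B u (v i) = 0) :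
    ∃ u', B u' u' = 0 ∧ B u u' = 1 ∧ ∀ i, B u' (v i) = 0 := by
  obtain ⟨y, hy, hyu⟩ := h.exists_dual_fam v huv
  refine ⟨y - (B y y / 2) • u, ?_, ?_, fun i => ?_⟩
  · have e : B y u = 1 := by rw [h.symm]; exact hyu
    simp only [map_sub, map_smul, LinearMap.sub_apply, LinearMap.smul_apply, smul_eq_mul, hu,
      hyu, e]
    field_simp
    ring
  · rw [map_sub, map_smul, hu, hyu, smul_eq_mul, mul_zero, sub_zero]
  · rw [map_sub, map_smul, LinearMap.sub_apply, LinearMap.smul_apply, hy i, huo i, smul_eq_mul,
      mul_zero, sub_zero]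

/-- a singular partner of a non-zero singular vector -/
lemma exists_partner (h : SymData B) (h2 : (2 : K) ≠ 0) {u : V} (hu0 : u ≠ 0) (hu : B u u = 0) :
    ∃ u', B u' u' = 0 ∧ B u u' = 1 := by
  have huv : u ∉ Submodule.span K (Set.range (Fin.elim0 : Fin 0 → V)) := by
    have : Set.range (Fin.elim0 : Fin 0 → V) = ∅ := Set.range_eq_empty _
    rw [this, Submodule.span_empty]
    exact hu0
  obtain ⟨u', h1, h2', -⟩ := h.exists_partner_orth h2 (Fin.elim0 : Fin 0 → V) hu huv
    (fun i => i.elim0)
  exact ⟨u', h1, h2'⟩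

/-- every vector orthogonal to a non-degenerate family is the sum of two singular vectors
orthogonal to the family -/
lemma exists_two_singular [Finite K] (h : SymData B) (h2 : (2 : K) ≠ 0) {k : ℕ} (v : Fin k → V)
    (hv : ∀ x ∈ Submodule.span K (Set.range v), (∀ i, B x (v i) = 0) → x = 0)
    (hd : k + 3 ≤ Module.finrank K V) {a : V} (ha : ∀ i, B a (v i) = 0) :
    ∃ e₁ e₂, B e₁ e₁ = 0 ∧ B e₂ e₂ = 0 ∧ (∀ i, B e₁ (v i) = 0) ∧ (∀ i, B e₂ (v i) = 0) ∧
      a = e₁ + e₂ := by
  by_cases haa : B a a = 0
  · exact ⟨a, 0, haa, by simp, ha, by simp, by simp⟩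
  -- a singular vector `u`, orthogonal to the family, with `B a u ≠ 0`
  obtain ⟨u, hu, huo, hau⟩ : ∃ u, B u u = 0 ∧ (∀ i, B u (v i) = 0) ∧ B a u ≠ 0 := by
    obtain ⟨u₁, hu₁0, hu₁, hu₁o⟩ := h.exists_singular_orth v hd
    by_cases h1 : B a u₁ = 0
    · have hn := h.not_mem_span_of_orth v hv hu₁0 hu₁o
      obtain ⟨u₁', hu₁', huu', hu₁'o⟩ := h.exists_partner_orth h2 v hu₁ hn hu₁o
      by_cases h3 : B a u₁' = 0
      · have e1 : B u₁ a = 0 := by rw [h.symm]; exact h1
        have e3 : B u₁' a = 0 := by rw [h.symm]; exact h3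
        have e4 : B u₁' u₁ = 1 := by rw [h.symm]; exact huu'
        refine ⟨a + u₁ - (B a a / 2) • u₁', ?_, fun i => ?_, ?_⟩
        · simp only [map_add, map_sub, map_smul, LinearMap.add_apply, LinearMap.sub_apply,
            LinearMap.smul_apply, smul_eq_mul, hu₁, hu₁', huu', h1, h3, e1, e3, e4]
          field_simp
          ring
        · rw [map_sub, map_add, map_smul, LinearMap.sub_apply, LinearMap.add_apply,
            LinearMap.smul_apply, ha i, hu₁o i, hu₁'o i, smul_eq_mul, mul_zero, add_zero, sub_zero]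
        · rw [map_sub, map_add, map_smul, h1, h3, smul_eq_mul, mul_zero, add_zero, sub_zero]
          exact haa
      · exact ⟨u₁', hu₁', hu₁'o, h3⟩
    · exact ⟨u₁, hu₁, hu₁o, h1⟩
  have hua : B u a = B a u := h.symm u a
  refine ⟨(B a a / (2 * B a u)) • u, a - (B a a / (2 * B a u)) • u, ?_, ?_, fun i => ?_,
    fun i => ?_, by abel⟩
  · rw [map_smul, map_smul, LinearMap.smul_apply, hu, smul_eq_mul, smul_eq_mul, mul_zero, mul_zero]
  · simp only [map_sub, map_smul, LinearMap.sub_apply, LinearMap.smul_apply, smul_eq_mul, hu, hua]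
    field_simp
    ring
  · rw [map_smul, LinearMap.smul_apply, huo i, smul_eq_mul, mul_zero]
  · rw [map_sub, map_smul, LinearMap.sub_apply, LinearMap.smul_apply, ha i, huo i, smul_eq_mul,
      mul_zero, sub_zero]

/-- a non-singular vector orthogonal to a family -/
lemma exists_nonsingular_orth [Finite K] (h : SymData B) (h2 : (2 : K) ≠ 0) {k : ℕ}
    (v : Fin k → V) (hd : 2 * k + 3 ≤ Module.finrank K V) :
    ∃ x, B x x ≠ 0 ∧ ∀ i, B x (v i) = 0 := by
  obtain ⟨u, hu0, hu, huo⟩ := h.exists_singular_orth v (by omega)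
  -- a vector orthogonal to the family, not orthogonal to `u`
  have hspan : Module.finrank K (Submodule.span K (Set.range v)) ≤ k :=
    finrank_span_range_le (K := K) v
  by_cases hmem : u ∈ Submodule.span K (Set.range v)
  · -- then use dimensions: `v^⊥` is not contained in `span v`
    obtain ⟨x, hx, hxn⟩ := h.exists_orth_not_mem (Submodule.span K (Set.range v))
      (Submodule.span K (Set.range v)) (by omega)
    have hxo : ∀ i, B x (v i) = 0 := fun i =>
      (h.mem_orthogonal.1 hx) _ (Submodule.subset_span ⟨i, rfl⟩)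
    by_cases hxx : B x x = 0
    · -- `x` singular, orthogonal to the family, outside its span: take a partner
      obtain ⟨x', hx', hxx', hx'o⟩ := h.exists_partner_orth h2 v hxx hxn hxo
      have e : B x' x = 1 := by rw [h.symm]; exact hxx'
      refine ⟨x + x', ?_, fun i => ?_⟩
      · simp only [map_add, LinearMap.add_apply, hxx, hx', hxx', e]
        norm_num
        exact h2
      · rw [map_add, LinearMap.add_apply, hxo i, hx'o i, add_zero]
    · exact ⟨x, hxx, hxo⟩
  · obtain ⟨u', hu', huu', hu'o⟩ := h.exists_partner_orth h2 v hu hmem huo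
    have e : B u' u = 1 := by rw [h.symm]; exact huu'
    refine ⟨u + u', ?_, fun i => ?_⟩
    · simp only [map_add, LinearMap.add_apply, hu, hu', huu', e]
      norm_num
      exact h2
    · rw [map_add, LinearMap.add_apply, huo i, hu'o i, add_zero]

end Exist

end SymData

end Cfsg.Agent.Lib.Helper94
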