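/-
Helper94: existence lemmas for singular vectors with prescribed pairings in a non-degenerate
quadratic space over a finite field (any characteristic), in the abstract setting of helper44's
Eichler transformations.
-/
import Mathlib
import Cfsg.Agent.Lib.Helper44.TSMax2
import Cfsg.Agent.Lib.Helper94.SymExist

set_option autoImplicit false
set_option linter.unusedSimpArgs false
set_option linter.unusedVariables false
set_option linter.unusedSectionVars false

namespace Cfsg.Agent.Lib.Helper94

open Cfsg.Agent.Lib.Helper13 hiding isoGroup mem_isoGroup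
open Cfsg.Agent.Lib.Helper36 Cfsg.Agent.Lib.Helper44 Module

section uf1
variable {F V : Type*} [Field F] [AddCommGroup V] [Module F V]

local notation "pol" => QuadraticMap.polar

/-- the polar form as a `BilinForm` -/
abbrev pB (Q : QuadraticForm F V) : LinearMap.BilinForm F V := QuadraticMap.polarBilin Q

/-- the polar form of a non-degenerate quadratic form as `SymData` -/
lemma symData_polar (Q : QuadraticForm F V) (hQ : (QuadraticMap.polarBilin Q).Nondegenerate) :
    SymData (pB Q) where
  symm := fun x y => by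
    rw [polarBilin_app, polarBilin_app, QuadraticMap.polar_comm]
  nondeg := fun x hx => hQ.1 x hx

lemma mem_orth_iff (Q : QuadraticForm F V) (hQ : (QuadraticMap.polarBilin Q).Nondegenerate)
    (U : Submodule F V) (x : V) :
    x ∈ (pB Q).orthogonal U ↔ ∀ u ∈ U, pol (⇑Q) x u = 0 :=
  (symData_polar Q hQ).mem_orthogonal

/-- a hyperbolic pair orthogonal to a small subspace -/
theorem exists_hyp_orth [Finite F] [FiniteDimensional F V] (Q : QuadraticForm F V)
    (hQ : (QuadraticMap.polarBilin Q).Nondegenerate) (U : Submodule F V)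
    (hU : 2 * finrank F U + 3 ≤ finrank F V) :
    ∃ e f : V, Q e = 0 ∧ Q f = 0 ∧ pol (⇑Q) e f = 1 ∧ (∀ u ∈ U, pol (⇑Q) e u = 0) ∧
      (∀ u ∈ U, pol (⇑Q) f u = 0) := by
  have h := symData_polar Q hQ
  obtain ⟨U', hU'⟩ := Submodule.exists_isCompl U
  set O := (pB Q).orthogonal U with hO
  have h1 : finrank F U + finrank F U' = finrank F V := Submodule.finrank_add_eq_of_isCompl hU'
  have h2 : finrank F O = finrank F V - finrank F U := by
    rw [hO, LinearMap.BilinForm.finrank_orthogonal h.nondegenerate]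
  have h3 := Submodule.finrank_sup_add_finrank_inf_eq U' O
  have h4 : finrank F ↥(U' ⊔ O) ≤ finrank F V := Submodule.finrank_le _
  have h5 : 3 ≤ finrank F ↥(U' ⊓ O) := by omega
  obtain ⟨e0, he0, hQe0⟩ := exists_isotropic (Q.comp (U' ⊓ O).subtype) h5
  obtain ⟨e, he⟩ : ∃ e : V, e = (e0 : V) := ⟨_, rfl⟩
  have hene : e ≠ 0 := by
    intro h0
    apply he0
    apply Subtype.ext
    rw [← he]; exact h0
  have hQe : Q e = 0 := by rw [he]; exact hQe0
  have heU' : e ∈ U' := by rw [he]; exact (Submodule.mem_inf.1 e0.2).1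
  have heO : e ∈ O := by rw [he]; exact (Submodule.mem_inf.1 e0.2).2
  have heU : e ∉ U := by
    intro hmem
    have : e ∈ U ⊓ U' := Submodule.mem_inf.2 ⟨hmem, heU'⟩
    rw [hU'.inf_eq_bot, Submodule.mem_bot] at this
    exact hene this
  obtain ⟨f0, hf0, hef0⟩ := h.exists_dual_in_orth U heU
  have hef0' : pol (⇑Q) e f0 = 1 := hef0
  have hee : pol (⇑Q) e e = 0 := pol_self_of_sing Q e hQe
  have heu : ∀ u ∈ U, pol (⇑Q) e u = 0 := (mem_orth_iff Q hQ U e).1 heO
  have hf0u : ∀ u ∈ U, pol (⇑Q) f0 u = 0 := (mem_orth_iff Q hQ U f0).1 hf0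
  refine ⟨e, f0 - Q f0 • e, hQe, Q_sub_smul_one Q f0 e hQe hef0', ?_, heu, ?_⟩
  · rw [QuadraticMap.polar_sub_right, QuadraticMap.polar_smul_right, hee, hef0']
    simp
  · intro u hu
    rw [QuadraticMap.polar_sub_left, QuadraticMap.polar_smul_left, heu u hu, hf0u u hu]
    simp

/-- a singular vector with the same pairings as `x₀` against a small subspace -/
theorem exists_sing_cong [Finite F] [FiniteDimensional F V] (Q : QuadraticForm F V)
    (hQ : (QuadraticMap.polarBilin Q).Nondegenerate) (U : Submodule F V)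
    (hU : 2 * finrank F U + 3 ≤ finrank F V) (x₀ : V) :
    ∃ x, Q x = 0 ∧ ∀ u ∈ U, pol (⇑Q) x u = pol (⇑Q) x₀ u := by
  obtain ⟨e, f, hQe, hQf, hef, heu, hfu⟩ := exists_hyp_orth Q hQ U hU
  set a := pol (⇑Q) x₀ e with ha
  set b := pol (⇑Q) x₀ f with hb
  refine ⟨x₀ + (1 - b) • e + (a * b - Q x₀ - a) • f, ?_, ?_⟩
  · rw [qexp, hQe, hQf, hef, ← ha, ← hb]
    ring
  · intro u hu
    rw [QuadraticMap.polar_add_left, QuadraticMap.polar_add_left, QuadraticMap.polar_smul_left,
      QuadraticMap.polar_smul_left, heu u hu, hfu u hu]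
    simp

/-- finrank of a span of a pair etc.: `finrank (U ⊔ span {x}) ≤ finrank U + 1` -/
lemma finrank_sup_span_le [FiniteDimensional F V] (U : Submodule F V) (x : V) :
    finrank F ↥(U ⊔ Submodule.span F {x}) ≤ finrank F U + 1 := by
  have h := Submodule.finrank_add_le_finrank_add_finrank U (Submodule.span F {x})
  have h1 : finrank F ↥(Submodule.span F {x}) ≤ 1 := by
    have := finrank_span_le_card (R := F) ({x} : Set V)
    simpa using this
  omega

/-- every vector is a sum of two singular vectors (dimension at least 5) -/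
theorem exists_sing_add_sing [Finite F] [FiniteDimensional F V] (Q : QuadraticForm F V)
    (hQ : (QuadraticMap.polarBilin Q).Nondegenerate) (h5 : 5 ≤ finrank F V) (x : V) :
    ∃ s s' : V, Q s = 0 ∧ Q s' = 0 ∧ x = s + s' := by
  by_cases hx : Q x = 0
  · exact ⟨x, 0, hx, by simp, by simp⟩
  · have hx0 : x ≠ 0 := by
      rintro rfl
      exact hx (by simp)
    obtain ⟨y, hy⟩ := Cfsg.Agent.S0795.exists_dual Q hQ x hx0
    have hU : 2 * finrank F ↥(Submodule.span F {x}) + 3 ≤ finrank F V := by
      have := finrank_span_singleton (K := F) hx0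
      omega
    obtain ⟨s, hQs, hs⟩ := exists_sing_cong Q hQ (Submodule.span F {x}) hU (Q x • y)
    have hsx : pol (⇑Q) s x = Q x := by
      rw [hs x (Submodule.mem_span_singleton_self x), QuadraticMap.polar_smul_left,
        QuadraticMap.polar_comm, hy]
      simp
    refine ⟨s, x - s, hQs, ?_, by abel⟩
    rw [Q_sub, hQs, QuadraticMap.polar_comm, hsx]
    ring

end uf1

end Cfsg.Agent.Lib.Helper94
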