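/-
Helper94: a quadratic extension field `F[θ]` acting on a quadratic space with `Q (k v) = N(k) Q v`
(the unitary-overfield structure, class C3 in the orthogonal groups): elementary consequences,
`θ`-lines, and the unitary transvections as Eichler transformations commuting with `θ`.
-/
import Mathlib
import Cfsg.Agent.Lib.Helper94.UF1

set_option autoImplicit false
set_option linter.unusedSimpArgs false
set_option linter.unusedVariables false
set_option linter.unusedSectionVars false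

namespace Cfsg.Agent.Lib.Helper94

open Cfsg.Agent.Lib.Helper13 hiding isoGroup mem_isoGroup
open Cfsg.Agent.Lib.Helper36 Cfsg.Agent.Lib.Helper44 Module

section uf2
variable {F V : Type*} [Field F] [AddCommGroup V] [Module F V]

local notation "pol" => QuadraticMap.polar

/-- `θ` generates a quadratic field `F[θ]` (minimal polynomial `X² - tX + ν`) whose adjoint
involution for the polar form is the conjugation `θ ↦ t - θ`, and `Q (k v) = N(k) Q v`. -/
structure UFData (Q : QuadraticForm F V) (θ : V →ₗ[F] V) (t ν : F) : Prop where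
  sq : ∀ v, θ (θ v) = t • θ v - ν • v
  adj : ∀ u v, pol (⇑Q) (θ u) v = t * pol (⇑Q) u v - pol (⇑Q) u (θ v)
  norm : ∀ v, Q (θ v) = ν * Q v
  tr : ∀ v, pol (⇑Q) v (θ v) = t * Q v
  irr : ∀ c : F, c ^ 2 - t * c + ν ≠ 0

/-- the `θ`-line through `v` -/
def Kl (θ : V →ₗ[F] V) (v : V) : Submodule F V := Submodule.span F {v, θ v}

/-- `θ`-stable subspaces -/
def ThStable (θ : V →ₗ[F] V) (P : Submodule F V) : Prop := ∀ x ∈ P, θ x ∈ P

lemma mem_Kl {θ : V →ₗ[F] V} {v y : V} : y ∈ Kl θ v ↔ ∃ α β : F, y = α • v + β • θ v := by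
  rw [Kl, Submodule.mem_span_pair]
  constructor
  · rintro ⟨a, b, h⟩; exact ⟨a, b, h.symm⟩
  · rintro ⟨a, b, h⟩; exact ⟨a, b, h.symm⟩

lemma self_mem_Kl (θ : V →ₗ[F] V) (v : V) : v ∈ Kl θ v :=
  Submodule.subset_span (by simp)

lemma th_mem_Kl (θ : V →ₗ[F] V) (v : V) : θ v ∈ Kl θ v :=
  Submodule.subset_span (by simp)

namespace UFData

variable {Q : QuadraticForm F V} {θ : V →ₗ[F] V} {t ν : F}

lemma th_ne (h : UFData Q θ t ν) {v : V} (hv : v ≠ 0) (c : F) : θ v ≠ c • v := by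
  intro hc
  have h1 := h.sq v
  rw [hc, map_smul, hc] at h1
  have h2 : (c ^ 2 - t * c + ν) • v = 0 := by
    have : (c ^ 2 - t * c + ν) • v = c • c • v - (t • c • v - ν • v) := by
      match_scalars; ring
    rw [this, h1, sub_self]
  rcases smul_eq_zero.1 h2 with h3 | h3
  · exact h.irr c h3
  · exact hv h3

lemma kv_inj (h : UFData Q θ t ν) {v : V} (hv : v ≠ 0) {α β : F}
    (h0 : α • v + β • θ v = 0) : α = 0 ∧ β = 0 := by
  by_cases hβ : β = 0
  · subst hβ
    rw [zero_smul, add_zero] at h0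
    rcases smul_eq_zero.1 h0 with h1 | h1
    · exact ⟨h1, rfl⟩
    · exact absurd h1 hv
  · exfalso
    apply h.th_ne hv (-(α / β))
    have h1 : β • θ v = -(α • v) := eq_neg_of_add_eq_zero_right h0
    have h2 : θ v = β⁻¹ • (β • θ v) := by
      rw [smul_smul, inv_mul_cancel₀ hβ, one_smul]
    rw [h2, h1]
    match_scalars
    field_simp

lemma nu_ne (h : UFData Q θ t ν) : ν ≠ 0 := by
  have := h.irr 0
  simpa using this

lemma Kl_stable (h : UFData Q θ t ν) (v : V) : ThStable θ (Kl θ v) := by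
  intro x hx
  obtain ⟨α, β, rfl⟩ := mem_Kl.1 hx
  rw [map_add, map_smul, map_smul, h.sq]
  apply mem_Kl.2
  refine ⟨-(β * ν), α + β * t, ?_⟩
  match_scalars <;> ring

lemma Kl_le (h : UFData Q θ t ν) {P : Submodule F V} (hP : ThStable θ P) {b : V} (hb : b ∈ P) :
    Kl θ b ≤ P := by
  rw [Kl, Submodule.span_le]
  intro x hx
  rcases hx with rfl | rfl
  · exact hb
  · exact hP _ hb

/-- the norm form is anisotropic -/
lemma normF_ne (h : UFData Q θ t ν) {α β : F} (hne : α ≠ 0 ∨ β ≠ 0) :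
    α ^ 2 + α * β * t + β ^ 2 * ν ≠ 0 := by
  by_cases hβ : β = 0
  · subst hβ
    rcases hne with h1 | h1
    · simpa using h1
    · exact absurd rfl h1
  · intro h0
    apply h.irr (-(α / β))
    have : (-(α / β)) ^ 2 - t * (-(α / β)) + ν = (α ^ 2 + α * β * t + β ^ 2 * ν) / β ^ 2 := by
      field_simp
      ring
    rw [this, h0, zero_div]

/-- `θ`-stable subspaces are `F[θ]`-subspaces: a non-zero multiple `k b ∈ P` forces `b ∈ P` -/
lemma mem_of_kv_mem (h : UFData Q θ t ν) {P : Submodule F V} (hP : ThStable θ P) {b : V}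
    {α β : F} (hne : α ≠ 0 ∨ β ≠ 0) (hm : α • b + β • θ b ∈ P) : b ∈ P := by
  have h1 : θ (α • b + β • θ b) ∈ P := hP _ hm
  have h2 : (α + β * t) • (α • b + β • θ b) - β • θ (α • b + β • θ b) ∈ P :=
    P.sub_mem (P.smul_mem _ hm) (P.smul_mem _ h1)
  have h3 : (α + β * t) • (α • b + β • θ b) - β • θ (α • b + β • θ b) =
      (α ^ 2 + α * β * t + β ^ 2 * ν) • b := by
    rw [map_add, map_smul, map_smul, h.sq]
    match_scalars <;> ring
  rw [h3] at h2
  have h4 := P.smul_mem (α ^ 2 + α * β * t + β ^ 2 * ν)⁻¹ h2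
  rwa [smul_smul, inv_mul_cancel₀ (h.normF_ne hne), one_smul] at h4

/-- the conjugate `θ̄ w = t w - θ w` is not in `P + F w` if `w ∉ P` -/
lemma thbar_not_mem (h : UFData Q θ t ν) {P : Submodule F V} (hP : ThStable θ P) {w : V}
    (hw : w ∉ P) : t • w - θ w ∉ P ⊔ Submodule.span F {w} := by
  intro hm
  obtain ⟨p, hp, y, hy, hpy⟩ := Submodule.mem_sup.1 hm
  obtain ⟨γ, rfl⟩ := Submodule.mem_span_singleton.1 hy
  apply hw
  apply h.mem_of_kv_mem hP (α := t - γ) (β := -1) (Or.inr (by simp))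
  have : (t - γ) • w + (-1 : F) • θ w = p := by
    have h1 : p = t • w - θ w - γ • w := by rw [← hpy]; abel
    rw [h1]
    match_scalars <;> ring
  rw [this]
  exact hp

lemma polth (h : UFData Q θ t ν) (u v : V) : pol (⇑Q) (θ u) (θ v) = ν * pol (⇑Q) u v := by
  unfold QuadraticMap.polar
  rw [← map_add, h.norm, h.norm, h.norm]
  ring

/-- `B(u, θ v) = B(θ̄ u, v)` -/
lemma adj' (h : UFData Q θ t ν) (u v : V) :
    pol (⇑Q) u (θ v) = t * pol (⇑Q) u v - pol (⇑Q) (θ u) v := by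
  rw [h.adj]; ring

lemma orth_stable (h : UFData Q θ t ν) (hQ : (QuadraticMap.polarBilin Q).Nondegenerate)
    {P : Submodule F V} (hP : ThStable θ P) : ThStable θ ((pB Q).orthogonal P) := by
  intro x hx
  rw [mem_orth_iff Q hQ] at hx ⊢
  intro u hu
  rw [h.adj, hx u hu, hx _ (hP u hu)]
  ring

section sing
variable (h : UFData Q θ t ν) {v : V} (hv : Q v = 0)
include h hv

lemma Q_th : Q (θ v) = 0 := by rw [h.norm, hv, mul_zero]

lemma pol_th : pol (⇑Q) v (θ v) = 0 := by rw [h.tr, hv, mul_zero]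

lemma pol_th' : pol (⇑Q) (θ v) v = 0 := by rw [QuadraticMap.polar_comm, h.pol_th hv]

lemma Q_Kl {y : V} (hy : y ∈ Kl θ v) : Q y = 0 := by
  obtain ⟨α, β, rfl⟩ := mem_Kl.1 hy
  have := qexp Q 0 v (θ v) α β
  rw [zero_add] at this
  rw [this, hv, h.Q_th hv, h.pol_th hv]
  simp

lemma pol_Kl {y y' : V} (hy : y ∈ Kl θ v) (hy' : y' ∈ Kl θ v) : pol (⇑Q) y y' = 0 := by
  obtain ⟨α, β, rfl⟩ := mem_Kl.1 hy
  obtain ⟨α', β', rfl⟩ := mem_Kl.1 hy'
  simp only [QuadraticMap.polar_add_left, QuadraticMap.polar_add_right,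
    QuadraticMap.polar_smul_left, QuadraticMap.polar_smul_right, h.pol_th hv, h.pol_th' hv,
    pol_self_of_sing Q v hv, pol_self_of_sing Q (θ v) (h.Q_th hv), smul_eq_mul, mul_zero, add_zero]

/-- the unitary transvection `x ↦ x + c B(θv, x) v - c B(v, x) θv` -/
lemma tau_apply (c : F) (z : V) :
    siegelLin Q v (c • θ v) z = z + (c * pol (⇑Q) (θ v) z) • v - (c * pol (⇑Q) v z) • θ v := by
  rw [siegelLin_apply, QuadraticMap.map_smul, h.Q_th hv, QuadraticMap.polar_smul_left]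
  simp only [smul_eq_mul, mul_zero, zero_mul, sub_zero]
  rw [smul_smul, mul_comm (pol (⇑Q) v z) c]

/-- the unitary transvections commute with `θ` -/
lemma tau_comm (c : F) (z : V) :
    siegelLin Q v (c • θ v) (θ z) = θ (siegelLin Q v (c • θ v) z) := by
  rw [h.tau_apply hv, h.tau_apply hv, map_sub, map_add, map_smul, map_smul, h.sq, h.polth,
    h.adj' v z]
  match_scalars <;> ring

lemma pol_smul_th (c : F) : pol (⇑Q) v (c • θ v) = 0 := by
  rw [QuadraticMap.polar_smul_right, h.pol_th hv, smul_zero]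

end sing

/-- the unitary transvection as an element of the isometry group -/
noncomputable def tauG (h : UFData Q θ t ν) (v : V) (hv : Q v = 0) (c : F) : ↥(isoGroup Q) :=
  eichG Q v (c • θ v) hv (h.pol_smul_th hv c)

lemma tauG_apply (h : UFData Q θ t ν) (v : V) (hv : Q v = 0) (c : F) (z : V) :
    ((h.tauG v hv c : ↥(isoGroup Q)) : V ≃ₗ[F] V) z =
      z + (c * pol (⇑Q) (θ v) z) • v - (c * pol (⇑Q) v z) • θ v := by
  rw [tauG, eichG_apply, h.tau_apply hv]

lemma tauG_comm (h : UFData Q θ t ν) (v : V) (hv : Q v = 0) (c : F) (z : V) :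
    ((h.tauG v hv c : ↥(isoGroup Q)) : V ≃ₗ[F] V) (θ z) =
      θ (((h.tauG v hv c : ↥(isoGroup Q)) : V ≃ₗ[F] V) z) := by
  rw [tauG, eichG_apply, eichG_apply, h.tau_comm hv]

lemma tauG_mem_KE (h : UFData Q θ t ν) (v : V) (hv : Q v = 0) (c : F) : h.tauG v hv c ∈ KE Q :=
  eichG_mem_KE Q _ _ _ _

end UFData

end uf2

end Cfsg.Agent.Lib.Helper94
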