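/-
Helper94: the commutator formula for Eichler transformations at two orthogonal singular points,
and the subspace `Sm` of vectors `w ⊥ a` with `E(a, c w) ∈ M` for all `c`.
-/
import Mathlib
import Cfsg.Agent.Lib.Helper94.UF2

set_option autoImplicit false
set_option linter.unusedSimpArgs false
set_option linter.unusedVariables false
set_option linter.unusedSectionVars false

namespace Cfsg.Agent.Lib.Helper94

open Cfsg.Agent.Lib.Helper13 hiding isoGroup mem_isoGroup
open Cfsg.Agent.Lib.Helper36 Cfsg.Agent.Lib.Helper44 Module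
open scoped commutatorElement

section uf3
variable {F V : Type*} [Field F] [AddCommGroup V] [Module F V]

local notation "pol" => QuadraticMap.polar

lemma eichG_congr (Q : QuadraticForm F V) {p p' w w' : V} (hp : Q p = 0)
    (hpw : pol (⇑Q) p w = 0) (hp' : Q p' = 0) (hpw' : pol (⇑Q) p' w' = 0) (e1 : p = p')
    (e2 : w = w') : eichG Q p w hp hpw = eichG Q p' w' hp' hpw' := by
  subst e1 e2
  rfl

/-- the commutator formula `E(a,x) E(u,y) = E(a, -B(x,y) u) E(u,y) E(a,x)` for orthogonal singular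
`a, u` and `x, y ⊥ a, u` -/
theorem siegel_comm_formula (Q : QuadraticForm F V) (a u x y : V) (ha : Q a = 0) (hu : Q u = 0)
    (hau : pol (⇑Q) a u = 0) (hax : pol (⇑Q) a x = 0) (hux : pol (⇑Q) u x = 0)
    (hay : pol (⇑Q) a y = 0) (huy : pol (⇑Q) u y = 0) (z : V) :
    siegelLin Q a x (siegelLin Q u y z) =
      siegelLin Q a (-(pol (⇑Q) x y) • u) (siegelLin Q u y (siegelLin Q a x z)) := by
  have hua : pol (⇑Q) u a = 0 := by rw [QuadraticMap.polar_comm]; exact hau
  have hxa : pol (⇑Q) x a = 0 := by rw [QuadraticMap.polar_comm]; exact hax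
  have hxu : pol (⇑Q) x u = 0 := by rw [QuadraticMap.polar_comm]; exact hux
  have hya : pol (⇑Q) y a = 0 := by rw [QuadraticMap.polar_comm]; exact hay
  have hyu : pol (⇑Q) y u = 0 := by rw [QuadraticMap.polar_comm]; exact huy
  have haa := pol_self_of_sing Q a ha
  have huu := pol_self_of_sing Q u hu
  have hyx : pol (⇑Q) y x = pol (⇑Q) x y := QuadraticMap.polar_comm _ _ _
  simp only [siegelLin_apply, QuadraticMap.map_neg, QuadraticMap.map_smul, hu,
    QuadraticMap.polar_add_right, QuadraticMap.polar_sub_right, QuadraticMap.polar_neg_left,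
    QuadraticMap.polar_neg_right, QuadraticMap.polar_smul_left,
    QuadraticMap.polar_smul_right, hau, hua, hax, hxa, hux, hxu, hay, hya, huy, hyu, haa, huu, hyx,
    smul_eq_mul, zero_mul, mul_zero, sub_zero, add_zero, mul_one, neg_zero, zero_sub]
  match_scalars <;> ring

theorem eichG_comm_formula (Q : QuadraticForm F V) (a u x y : V) (ha : Q a = 0) (hu : Q u = 0)
    (hau : pol (⇑Q) a u = 0) (hax : pol (⇑Q) a x = 0) (hux : pol (⇑Q) u x = 0)
    (hay : pol (⇑Q) a y = 0) (huy : pol (⇑Q) u y = 0) :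
    eichG Q a (-(pol (⇑Q) x y) • u) ha (by rw [QuadraticMap.polar_smul_right, hau, smul_zero]) =
      ⁅eichG Q a x ha hax, eichG Q u y hu huy⁆ := by
  rw [commutatorElement_def]
  symm
  rw [mul_inv_eq_iff_eq_mul, mul_inv_eq_iff_eq_mul]
  apply isoGroup_ext
  intro z
  simp only [isoG_mul_apply, eichG_apply]
  exact siegel_comm_formula Q a u x y ha hu hau hax hux hay huy z

/-- the vectors `w ⊥ a` with `E(a, c w) ∈ M` for all `c` -/
def Sm (Q : QuadraticForm F V) (M : Subgroup ↥(isoGroup Q)) (a : V) (ha : Q a = 0) :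
    Submodule F V where
  carrier := {w | ∃ h : pol (⇑Q) a w = 0, ∀ c : F,
    eichG Q a (c • w) ha (by rw [QuadraticMap.polar_smul_right, h, smul_zero]) ∈ M}
  add_mem' := by
    rintro w₁ w₂ ⟨h1, h1'⟩ ⟨h2, h2'⟩
    refine ⟨by rw [QuadraticMap.polar_add_right, h1, h2, add_zero], fun c => ?_⟩
    have e := eichG_add Q a (c • w₁) (c • w₂) ha
      (by rw [QuadraticMap.polar_smul_right, h1, smul_zero])
      (by rw [QuadraticMap.polar_smul_right, h2, smul_zero])
    rw [eichG_congr Q ha _ ha (by rw [QuadraticMap.polar_add_right, QuadraticMap.polar_smul_right,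
      QuadraticMap.polar_smul_right, h1, h2, smul_zero, add_zero]) rfl (smul_add c w₁ w₂), e]
    exact M.mul_mem (h1' c) (h2' c)
  zero_mem' := by
    refine ⟨QuadraticMap.polar_zero_right _ _, fun c => ?_⟩
    rw [eichG_congr Q ha _ ha (QuadraticMap.polar_zero_right _ _) rfl (smul_zero c), eichG_zero]
    exact M.one_mem
  smul_mem' := by
    rintro d w ⟨h1, h1'⟩
    refine ⟨by rw [QuadraticMap.polar_smul_right, h1, smul_zero], fun c => ?_⟩
    rw [eichG_congr Q ha _ ha
      (by rw [QuadraticMap.polar_smul_right, h1, smul_zero]) rfl (smul_smul c d w)]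
    exact h1' (c * d)

lemma mem_Sm {Q : QuadraticForm F V} {M : Subgroup ↥(isoGroup Q)} {a : V} {ha : Q a = 0} {w : V} :
    w ∈ Sm Q M a ha ↔ ∃ h : pol (⇑Q) a w = 0, ∀ c : F,
      eichG Q a (c • w) ha (by rw [QuadraticMap.polar_smul_right, h, smul_zero]) ∈ M := Iff.rfl

lemma mem_Sm_pol {Q : QuadraticForm F V} {M : Subgroup ↥(isoGroup Q)} {a : V} {ha : Q a = 0}
    {w : V} (hw : w ∈ Sm Q M a ha) : pol (⇑Q) a w = 0 := hw.1

lemma mem_Sm_eich {Q : QuadraticForm F V} {M : Subgroup ↥(isoGroup Q)} {a : V} {ha : Q a = 0}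
    {w : V} (hw : w ∈ Sm Q M a ha) (h : pol (⇑Q) a w = 0) : eichG Q a w ha h ∈ M := by
  have := hw.2 1
  rwa [eichG_congr Q ha _ ha h rfl (one_smul F w)] at this

/-- `a` itself lies in `Sm` -/
lemma self_mem_Sm (Q : QuadraticForm F V) (M : Subgroup ↥(isoGroup Q)) (a : V) (ha : Q a = 0) :
    a ∈ Sm Q M a ha := by
  refine ⟨pol_self_of_sing Q a ha, fun c => ?_⟩
  have : eichG Q a (c • a) ha
      (by rw [QuadraticMap.polar_smul_right, pol_self_of_sing Q a ha, smul_zero]) = 1 := by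
    apply isoGroup_ext
    intro z
    rw [eichG_apply, siegel_smul_self Q a c ha]
    rfl
  rw [this]
  exact M.one_mem

/-- `Sm` is invariant under the elements of `M` fixing `a` -/
lemma Sm_map {Q : QuadraticForm F V} {M : Subgroup ↥(isoGroup Q)} {a : V} {ha : Q a = 0}
    (n : ↥(isoGroup Q)) (hn : n ∈ M) (hna : (n : V ≃ₗ[F] V) a = a) {w : V}
    (hw : w ∈ Sm Q M a ha) : (n : V ≃ₗ[F] V) w ∈ Sm Q M a ha := by
  obtain ⟨h1, h1'⟩ := hw
  have h2 : pol (⇑Q) a ((n : V ≃ₗ[F] V) w) = 0 := by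
    have := isoG_pol n a w
    rw [hna] at this
    rw [this, h1]
  refine ⟨h2, fun c => ?_⟩
  have e := conj_eichG Q n a (c • w) ha (by rw [QuadraticMap.polar_smul_right, h1, smul_zero])
  have e2 : eichG Q a (c • (n : V ≃ₗ[F] V) w) ha
      (by rw [QuadraticMap.polar_smul_right, h2, smul_zero]) =
      n * eichG Q a (c • w) ha (by rw [QuadraticMap.polar_smul_right, h1, smul_zero]) * n⁻¹ := by
    rw [e]
    exact eichG_congr Q _ _ _ _ hna.symm (map_smul _ c w).symm
  rw [e2]
  exact M.mul_mem (M.mul_mem hn (h1' c)) (M.inv_mem hn)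

/-- conjugating root elements into another point -/
lemma eichG_conj_mem {Q : QuadraticForm F V} {M : Subgroup ↥(isoGroup Q)} (n : ↥(isoGroup Q))
    (hn : n ∈ M) {a w : V} (ha : Q a = 0) (haw : pol (⇑Q) a w = 0)
    (hmem : eichG Q a w ha haw ∈ M) {a' w' : V} (e1 : (n : V ≃ₗ[F] V) a = a')
    (e2 : (n : V ≃ₗ[F] V) w = w') (ha' : Q a' = 0) (haw' : pol (⇑Q) a' w' = 0) :
    eichG Q a' w' ha' haw' ∈ M := by
  have e := conj_eichG Q n a w ha haw
  have : eichG Q a' w' ha' haw' = n * eichG Q a w ha haw * n⁻¹ := by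
    rw [e]
    exact eichG_congr Q _ _ _ _ e1.symm e2.symm
  rw [this]
  exact M.mul_mem (M.mul_mem hn hmem) (M.inv_mem hn)

end uf3

end Cfsg.Agent.Lib.Helper94
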