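/-
Helper94: overgroups of the unitary-overfield subgroup in `Ω(Q)`: a root element `E(a, b)` with
`b` outside the `θ`-line of `a` forces the whole root group at `a`, hence all of `Ω`.
-/
import Mathlib
import Cfsg.Agent.Lib.Helper94.UF3

set_option autoImplicit false
set_option linter.unusedSimpArgs false
set_option linter.unusedVariables false
set_option linter.unusedSectionVars false

namespace Cfsg.Agent.Lib.Helper94

open Cfsg.Agent.Lib.Helper13 hiding isoGroup mem_isoGroup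
open Cfsg.Agent.Lib.Helper36 Cfsg.Agent.Lib.Helper44 Module
open scoped commutatorElement

section uf4
variable {F V : Type*} [Field F] [AddCommGroup V] [Module F V]

local notation "pol" => QuadraticMap.polar

lemma finrank_span_singleton_le [FiniteDimensional F V] (x : V) :
    finrank F ↥(Submodule.span F {x}) ≤ 1 := by
  have := finrank_span_le_card (R := F) ({x} : Set V)
  simpa using this

lemma finrank_Kl_le [FiniteDimensional F V] (θ : V →ₗ[F] V) (v : V) :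
    finrank F ↥(Kl θ v) ≤ 2 := by
  have h1 : Kl θ v = Submodule.span F {v} ⊔ Submodule.span F {θ v} := by
    rw [Kl, Submodule.span_insert]
  rw [h1]
  have h2 := finrank_sup_span_le (Submodule.span F {v}) (θ v)
  have h3 := finrank_span_singleton_le (F := F) v
  omega

variable {Q : QuadraticForm F V} {θ : V →ₗ[F] V} {t ν : F}

lemma pol_Kl_zero {x a : V} (h1 : pol (⇑Q) x a = 0) (h2 : pol (⇑Q) x (θ a) = 0) {u : V}
    (hu : u ∈ Kl θ a) : pol (⇑Q) x u = 0 := by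
  obtain ⟨α, β, rfl⟩ := mem_Kl.1 hu
  rw [QuadraticMap.polar_add_right, QuadraticMap.polar_smul_right, QuadraticMap.polar_smul_right,
    h1, h2]
  simp

variable (h : UFData Q θ t ν) (hQ : (QuadraticMap.polarBilin Q).Nondegenerate)
  (M : Subgroup ↥(isoGroup Q))
  (hM1 : ∀ g ∈ KE Q, (∀ z, (g : V ≃ₗ[F] V) (θ z) = θ ((g : V ≃ₗ[F] V) z)) → g ∈ M)

include h hM1 in
lemma tau_mem (v : V) (hv : Q v = 0) (c : F) : h.tauG v hv c ∈ M :=
  hM1 _ (h.tauG_mem_KE v hv c) (h.tauG_comm v hv c)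

include h hM1 in
lemma Kl_le_Sm (a : V) (ha : Q a = 0) : Kl θ a ≤ Sm Q M a ha := by
  rw [Kl, Submodule.span_le]
  intro x hx
  rcases hx with rfl | rfl
  · exact self_mem_Sm Q M x ha
  · exact ⟨h.pol_th ha, fun c => tau_mem h M hM1 a ha c⟩

include h hM1 in
/-- invariance of `Sm` under the unitary transvections fixing `a` -/
lemma Sm_of_tau {a : V} (ha : Q a = 0) {w u : V} (hw : w ∈ Sm Q M a ha) (hu : Q u = 0)
    (hua : pol (⇑Q) u a = 0) (htua : pol (⇑Q) (θ u) a = 0) (huw : pol (⇑Q) u w = 0)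
    (htuw : pol (⇑Q) (θ u) w ≠ 0) : u ∈ Sm Q M a ha := by
  have hn := tau_mem h M hM1 u hu 1
  have hna : ((h.tauG u hu 1 : ↥(isoGroup Q)) : V ≃ₗ[F] V) a = a := by
    rw [h.tauG_apply, htua, hua]; simp
  have hnw : ((h.tauG u hu 1 : ↥(isoGroup Q)) : V ≃ₗ[F] V) w = w + pol (⇑Q) (θ u) w • u := by
    rw [h.tauG_apply, huw]; simp
  have h1 := Sm_map _ hn hna hw
  rw [hnw] at h1
  have h2 := (Sm Q M a ha).sub_mem h1 hw
  rw [add_sub_cancel_left] at h2
  have h3 := (Sm Q M a ha).smul_mem (pol (⇑Q) (θ u) w)⁻¹ h2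
  rwa [smul_smul, inv_mul_cancel₀ htuw, one_smul] at h3

variable [Finite F] [FiniteDimensional F V]

include h hQ hM1 in
/-- the orthogonal of `Sm` is small as soon as `Sm` contains a vector outside the `θ`-line -/
lemma Sm_orth_le (h13 : 13 ≤ finrank F V) {a : V} (ha : Q a = 0) {w : V}
    (hw : w ∈ Sm Q M a ha) (hwK : w ∉ Kl θ a) {z : V}
    (hz : ∀ s ∈ Sm Q M a ha, pol (⇑Q) z s = 0) : z ∈ Kl θ a ⊔ Submodule.span F {w} := by
  by_contra hzA
  have hS := symData_polar Q hQ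
  have hwb := h.thbar_not_mem (h.Kl_stable a) hwK
  set wb := t • w - θ w with hwbdef
  set A₃ := Kl θ a ⊔ Submodule.span F {w} with hA₃
  set A₄ := A₃ ⊔ Submodule.span F {wb} with hA₄
  set A₅ := A₄ ⊔ Submodule.span F {z} with hA₅
  have hd3 : finrank F A₃ ≤ 3 := by
    have e1 : finrank F A₃ ≤ finrank F ↥(Kl θ a) + 1 := finrank_sup_span_le (Kl θ a) w
    have := finrank_Kl_le θ a
    omega
  have hd4 : finrank F A₄ ≤ 4 := by
    have e1 : finrank F A₄ ≤ finrank F A₃ + 1 := finrank_sup_span_le A₃ wb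
    omega
  have hd5 : finrank F A₅ ≤ 5 := by
    have e1 : finrank F A₅ ≤ finrank F A₄ + 1 := finrank_sup_span_le A₄ z
    omega
  have h34 : A₃ ≤ A₄ := le_sup_left
  have h45 : A₄ ≤ A₅ := le_sup_left
  have haA : a ∈ A₃ := Submodule.mem_sup_left (self_mem_Kl θ a)
  have htaA : θ a ∈ A₃ := Submodule.mem_sup_left (th_mem_Kl θ a)
  have hwA : w ∈ A₃ := Submodule.mem_sup_right (Submodule.mem_span_singleton_self w)
  have hwbA : wb ∈ A₄ := Submodule.mem_sup_right (Submodule.mem_span_singleton_self wb)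
  have hzA5 : z ∈ A₅ := Submodule.mem_sup_right (Submodule.mem_span_singleton_self z)
  obtain ⟨x₁, hx₁, hx₁wb⟩ := hS.exists_dual_in_orth A₃ hwb
  have hx₁' : ∀ v ∈ A₃, pol (⇑Q) x₁ v = 0 := (mem_orth_iff Q hQ A₃ x₁).1 hx₁
  have hx₁wb' : pol (⇑Q) x₁ wb = 1 := by rw [QuadraticMap.polar_comm]; exact hx₁wb
  -- a vector with the right pairings
  obtain ⟨x₀, hx₀A, hx₀wb, hx₀z⟩ : ∃ x₀, (∀ v ∈ A₃, pol (⇑Q) x₀ v = 0) ∧ pol (⇑Q) x₀ wb = 1 ∧
      pol (⇑Q) x₀ z ≠ 0 := by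
    by_cases hz4 : z ∈ A₄
    · obtain ⟨y, hy, y', hy', hyz⟩ := Submodule.mem_sup.1 hz4
      obtain ⟨c, rfl⟩ := Submodule.mem_span_singleton.1 hy'
      have hc : c ≠ 0 := by
        rintro rfl
        rw [zero_smul, add_zero] at hyz
        rw [← hyz] at hzA
        exact hzA hy
      refine ⟨x₁, hx₁', hx₁wb', ?_⟩
      rw [← hyz, QuadraticMap.polar_add_right, hx₁' y hy, QuadraticMap.polar_smul_right, hx₁wb']
      simpa using hc
    · obtain ⟨x₂, hx₂, hx₂z⟩ := hS.exists_dual_in_orth A₄ hz4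
      have hx₂' : ∀ v ∈ A₄, pol (⇑Q) x₂ v = 0 := (mem_orth_iff Q hQ A₄ x₂).1 hx₂
      have hx₂z' : pol (⇑Q) x₂ z = 1 := by rw [QuadraticMap.polar_comm]; exact hx₂z
      refine ⟨x₁ + (1 - pol (⇑Q) x₁ z) • x₂, ?_, ?_, ?_⟩
      · intro v hv
        rw [QuadraticMap.polar_add_left, QuadraticMap.polar_smul_left, hx₁' v hv,
          hx₂' v (h34 hv)]
        simp
      · rw [QuadraticMap.polar_add_left, QuadraticMap.polar_smul_left, hx₁wb', hx₂' wb hwbA]
        simp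
      · rw [QuadraticMap.polar_add_left, QuadraticMap.polar_smul_left, hx₂z']
        simp
  obtain ⟨u, hQu, hu⟩ := exists_sing_cong Q hQ A₅ (by omega) x₀
  have hua : pol (⇑Q) u a = 0 := by rw [hu a (h45 (h34 haA)), hx₀A a haA]
  have huta : pol (⇑Q) u (θ a) = 0 := by rw [hu _ (h45 (h34 htaA)), hx₀A _ htaA]
  have huw : pol (⇑Q) u w = 0 := by rw [hu w (h45 (h34 hwA)), hx₀A w hwA]
  have huwb : pol (⇑Q) u wb = 1 := by rw [hu wb (h45 hwbA), hx₀wb]
  have huz : pol (⇑Q) u z ≠ 0 := by rw [hu z hzA5]; exact hx₀z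
  have htua : pol (⇑Q) (θ u) a = 0 := by rw [h.adj, hua, huta]; ring
  have htuw : pol (⇑Q) (θ u) w ≠ 0 := by
    have : pol (⇑Q) (θ u) w = pol (⇑Q) u wb := by
      rw [h.adj, hwbdef, QuadraticMap.polar_sub_right, QuadraticMap.polar_smul_right, smul_eq_mul]
    rw [this, huwb]
    exact one_ne_zero
  have huS := Sm_of_tau h M hM1 ha hw hQu hua htua huw htuw
  apply huz
  rw [QuadraticMap.polar_comm]
  exact hz u huS

include h hQ hM1 in
/-- `Sm` contains the orthogonal of the `θ`-line of `a` -/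
lemma orth_Kl_le_Sm (h13 : 13 ≤ finrank F V) {a : V} (ha : Q a = 0) {b : V}
    (hb : b ∈ Sm Q M a ha) (hbK : b ∉ Kl θ a) :
    (pB Q).orthogonal (Kl θ a) ≤ Sm Q M a ha := by
  have hS := symData_polar Q hQ
  have hbb := h.thbar_not_mem (h.Kl_stable a) hbK
  set bb := t • b - θ b with hbbdef
  set A₃ := Kl θ a ⊔ Submodule.span F {b} with hA₃
  set A₄ := A₃ ⊔ Submodule.span F {bb} with hA₄
  have hd3 : finrank F A₃ ≤ 3 := by
    have e1 : finrank F A₃ ≤ finrank F ↥(Kl θ a) + 1 := finrank_sup_span_le (Kl θ a) b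
    have := finrank_Kl_le θ a
    omega
  have hd4 : finrank F A₄ ≤ 4 := by
    have e1 : finrank F A₄ ≤ finrank F A₃ + 1 := finrank_sup_span_le A₃ bb
    omega
  have h34 : A₃ ≤ A₄ := le_sup_left
  have haA : a ∈ A₃ := Submodule.mem_sup_left (self_mem_Kl θ a)
  have htaA : θ a ∈ A₃ := Submodule.mem_sup_left (th_mem_Kl θ a)
  have hbA : b ∈ A₃ := Submodule.mem_sup_right (Submodule.mem_span_singleton_self b)
  have hbbA : bb ∈ A₄ := Submodule.mem_sup_right (Submodule.mem_span_singleton_self bb)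
  obtain ⟨e, f, hQe, hQf, hef, heA, hfA⟩ := exists_hyp_orth Q hQ A₄ (by omega)
  set A₅ := A₄ ⊔ Submodule.span F {e} with hA₅
  have hd5 : finrank F A₅ ≤ 5 := by
    have e1 : finrank F A₅ ≤ finrank F A₄ + 1 := finrank_sup_span_le A₄ e
    omega
  have h45 : A₄ ≤ A₅ := le_sup_left
  have heA5 : e ∈ A₅ := Submodule.mem_sup_right (Submodule.mem_span_singleton_self e)
  obtain ⟨x₁, hx₁, hx₁bb⟩ := hS.exists_dual_in_orth A₃ hbb
  have hx₁' : ∀ v ∈ A₃, pol (⇑Q) x₁ v = 0 := (mem_orth_iff Q hQ A₃ x₁).1 hx₁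
  have hx₁bb' : pol (⇑Q) x₁ bb = 1 := by rw [QuadraticMap.polar_comm]; exact hx₁bb
  have hfe : pol (⇑Q) f e = 1 := by rw [QuadraticMap.polar_comm]; exact hef
  obtain ⟨b', hQb', hb'⟩ := exists_sing_cong Q hQ A₅ (by omega)
    (x₁ + (1 - pol (⇑Q) x₁ e) • f)
  have hb'A : ∀ v ∈ A₃, pol (⇑Q) b' v = 0 := by
    intro v hv
    rw [hb' v (h45 (h34 hv)), QuadraticMap.polar_add_left, QuadraticMap.polar_smul_left,
      hx₁' v hv, hfA v (h34 hv)]
    simp
  have hb'bb : pol (⇑Q) b' bb = 1 := by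
    rw [hb' bb (h45 hbbA), QuadraticMap.polar_add_left, QuadraticMap.polar_smul_left, hx₁bb',
      hfA bb hbbA]
    simp
  have hb'e : pol (⇑Q) b' e = 1 := by
    rw [hb' e heA5, QuadraticMap.polar_add_left, QuadraticMap.polar_smul_left, hfe]
    simp
  have htb'a : pol (⇑Q) (θ b') a = 0 := by
    rw [h.adj, hb'A a haA, hb'A _ htaA]; ring
  have htb'b : pol (⇑Q) (θ b') b ≠ 0 := by
    have : pol (⇑Q) (θ b') b = pol (⇑Q) b' bb := by
      rw [h.adj, hbbdef, QuadraticMap.polar_sub_right, QuadraticMap.polar_smul_right, smul_eq_mul]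
    rw [this, hb'bb]
    exact one_ne_zero
  have hb'S := Sm_of_tau h M hM1 ha hb hQb' (hb'A a haA) htb'a (hb'A b hbA) htb'b
  have hb'K : b' ∉ Kl θ a := by
    intro hmem
    have h1 : pol (⇑Q) e b' = 0 := heA b' (h34 (Submodule.mem_sup_left hmem))
    rw [QuadraticMap.polar_comm, hb'e] at h1
    exact one_ne_zero h1
  -- the orthogonal of `Sm` lies in the `θ`-line
  have hkey : ∀ z, (∀ s ∈ Sm Q M a ha, pol (⇑Q) z s = 0) → z ∈ Kl θ a := by
    intro z hz
    have h1 := Sm_orth_le h hQ M hM1 h13 ha hb hbK hz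
    have h2 := Sm_orth_le h hQ M hM1 h13 ha hb'S hb'K hz
    obtain ⟨p, hp, y, hy, hpy⟩ := Submodule.mem_sup.1 h1
    obtain ⟨γ, rfl⟩ := Submodule.mem_span_singleton.1 hy
    obtain ⟨p', hp', y', hy', hpy'⟩ := Submodule.mem_sup.1 h2
    obtain ⟨γ', rfl⟩ := Submodule.mem_span_singleton.1 hy'
    have e1 : pol (⇑Q) e z = 0 := by
      rw [← hpy, QuadraticMap.polar_add_right, QuadraticMap.polar_smul_right,
        heA p (h34 (Submodule.mem_sup_left hp)), heA b (h34 hbA)]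
      simp
    have e2 : pol (⇑Q) e z = γ' := by
      rw [← hpy', QuadraticMap.polar_add_right, QuadraticMap.polar_smul_right,
        heA p' (h34 (Submodule.mem_sup_left hp')), QuadraticMap.polar_comm (⇑Q) e b', hb'e]
      simp
    have hγ' : γ' = 0 := by rw [← e2, e1]
    rw [← hpy', hγ', zero_smul, add_zero]
    exact hp'
  intro x hx
  rw [← hS.orth_orth (Sm Q M a ha), mem_orth_iff Q hQ]
  intro z hz
  have hz' : ∀ s ∈ Sm Q M a ha, pol (⇑Q) z s = 0 := (mem_orth_iff Q hQ _ z).1 hz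
  exact (mem_orth_iff Q hQ _ x).1 hx z (hkey z hz')

end uf4

end Cfsg.Agent.Lib.Helper94
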