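/-
Helper94: overgroups of the unitary-overfield subgroup in `Ω(Q)`, continued: the point `a` becomes
a root point, a second non-perpendicular root point, and `KE Q ≤ M`.
-/
import Mathlib
import Cfsg.Agent.Lib.Helper94.UF4

set_option autoImplicit false
set_option linter.unusedSimpArgs false
set_option linter.unusedVariables false
set_option linter.unusedSectionVars false

namespace Cfsg.Agent.Lib.Helper94

open Cfsg.Agent.Lib.Helper13 hiding isoGroup mem_isoGroup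
open Cfsg.Agent.Lib.Helper36 Cfsg.Agent.Lib.Helper44 Module
open scoped commutatorElement

section uf5
variable {F V : Type*} [Field F] [AddCommGroup V] [Module F V]

local notation "pol" => QuadraticMap.polar

variable {Q : QuadraticForm F V} {θ : V →ₗ[F] V} {t ν : F}

/-- the conjugate `θ̄ a = t a - θ a` and a singular vector `u₁ ⊥ a` with `B(θ u₁, a) = 1` -/
lemma exists_u1 (h : UFData Q θ t ν) (hQ : (QuadraticMap.polarBilin Q).Nondegenerate)
    {a : V} (ha0 : a ≠ 0) (ha : Q a = 0) :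
    ∃ u₁, Q u₁ = 0 ∧ pol (⇑Q) u₁ a = 0 ∧ pol (⇑Q) (θ u₁) a = 1 := by
  have hta : t • a - θ a ∈ Kl θ a := by
    apply mem_Kl.2
    exact ⟨t, -1, by rw [neg_smul, one_smul, sub_eq_add_neg]⟩
  have h1 : t • a - θ a ≠ 0 := by
    intro h0
    exact h.th_ne ha0 t (sub_eq_zero.1 h0).symm
  have h2 : ∀ c : F, a ≠ c • (t • a - θ a) := by
    intro c hc
    have h3 : (1 - c * t) • a + c • θ a = 0 := by
      have : (1 - c * t) • a + c • θ a = a - c • (t • a - θ a) := by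
        match_scalars <;> ring
      rw [this, ← hc, sub_self]
    obtain ⟨h4, h5⟩ := h.kv_inj ha0 h3
    rw [h5] at h4
    simp at h4
  obtain ⟨u₁, hQu, hu1, hu2⟩ := exists_sing_partner_perp Q hQ (t • a - θ a) a h1 h2
    (h.Q_Kl ha hta) (h.pol_Kl ha hta (self_mem_Kl θ a))
  have hua : pol (⇑Q) u₁ a = 0 := by rw [QuadraticMap.polar_comm]; exact hu2
  refine ⟨u₁, hQu, hua, ?_⟩
  rw [h.adj, hua, ← hu1, QuadraticMap.polar_sub_left, QuadraticMap.polar_smul_left,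
    QuadraticMap.polar_comm (⇑Q) a u₁, hua, QuadraticMap.polar_comm (⇑Q) (θ a) u₁]
  simp

variable (h : UFData Q θ t ν) (hQ : (QuadraticMap.polarBilin Q).Nondegenerate)
  (M : Subgroup ↥(isoGroup Q))
  (hM1 : ∀ g ∈ KE Q, (∀ z, (g : V ≃ₗ[F] V) (θ z) = θ ((g : V ≃ₗ[F] V) z)) → g ∈ M)
variable [Finite F] [FiniteDimensional F V]

include h hQ hM1 in
/-- `a` is a root point of `M` -/
lemma rootPt_of (h13 : 13 ≤ finrank F V) {a : V} (ha0 : a ≠ 0) (ha : Q a = 0) {b : V}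
    (hb : b ∈ Sm Q M a ha) (hbK : b ∉ Kl θ a) : a ∈ RootPts Q M := by
  have hS := symData_polar Q hQ
  have hstar := orth_Kl_le_Sm h hQ M hM1 h13 ha hb hbK
  obtain ⟨u₁, hQu, hua, htua⟩ := exists_u1 h hQ ha0 ha
  have hau : pol (⇑Q) a u₁ = 0 := by rw [QuadraticMap.polar_comm]; exact hua
  have hτ := tau_mem h M hM1 u₁ hQu 1
  set τ := h.tauG u₁ hQu 1 with hτdef
  set w₁ := a + u₁ with hw₁
  have hτa : (τ : V ≃ₗ[F] V) a = w₁ := by
    rw [hτdef, h.tauG_apply, htua, hua]; simp [hw₁]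
  have hQw : Q w₁ = 0 := by rw [hw₁, Q_add', ha, hQu, hau]; ring
  have haw : pol (⇑Q) a w₁ = 0 := by
    rw [hw₁, QuadraticMap.polar_add_right, pol_self_of_sing Q a ha, hau, add_zero]
  -- a hyperbolic pair orthogonal to both θ-lines
  have hd : finrank F ↥(Kl θ a ⊔ Kl θ w₁) ≤ 4 := by
    have h1 := Submodule.finrank_add_le_finrank_add_finrank (Kl θ a) (Kl θ w₁)
    have h2 := finrank_Kl_le θ a
    have h3 := finrank_Kl_le θ w₁
    omega
  obtain ⟨e, f, hQe, hQf, hef, heU, hfU⟩ := exists_hyp_orth Q hQ (Kl θ a ⊔ Kl θ w₁) (by omega)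
  have heKa : ∀ v ∈ Kl θ a, pol (⇑Q) e v = 0 := fun v hv => heU v (Submodule.mem_sup_left hv)
  have hfKw : ∀ v ∈ Kl θ w₁, pol (⇑Q) f v = 0 := fun v hv => hfU v (Submodule.mem_sup_right hv)
  have heKw : ∀ v ∈ Kl θ w₁, pol (⇑Q) e v = 0 := fun v hv => heU v (Submodule.mem_sup_right hv)
  have hfKa : ∀ v ∈ Kl θ a, pol (⇑Q) f v = 0 := fun v hv => hfU v (Submodule.mem_sup_left hv)
  have heS : e ∈ Sm Q M a ha := hstar ((mem_orth_iff Q hQ _ e).2 heKa)
  -- `τ⁻¹ f` is orthogonal to the θ-line of `a`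
  set f' := ((τ⁻¹ : ↥(isoGroup Q)) : V ≃ₗ[F] V) f with hf'
  have hf'a : pol (⇑Q) f' a = 0 := by
    rw [QuadraticMap.polar_comm, hf', isoG_pol_inv, hτa, QuadraticMap.polar_comm]
    exact hfKw w₁ (self_mem_Kl θ w₁)
  have hf'ta : pol (⇑Q) f' (θ a) = 0 := by
    rw [QuadraticMap.polar_comm, hf', isoG_pol_inv, hτdef, h.tauG_comm, ← hτdef, hτa,
      QuadraticMap.polar_comm]
    exact hfKw _ (th_mem_Kl θ w₁)
  have hf'S : f' ∈ Sm Q M a ha :=
    hstar ((mem_orth_iff Q hQ _ f').2 (fun v hv => pol_Kl_zero hf'a hf'ta hv))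
  have haf' : pol (⇑Q) a f' = 0 := by rw [QuadraticMap.polar_comm]; exact hf'a
  have hwf : pol (⇑Q) w₁ f = 0 := by
    rw [QuadraticMap.polar_comm]; exact hfKw w₁ (self_mem_Kl θ w₁)
  have hEf : eichG Q w₁ f hQw hwf ∈ M :=
    eichG_conj_mem τ hτ ha haf' (mem_Sm_eich hf'S haf') hτa (by rw [hf', isoG_inv_apply]) hQw hwf
  have hae : pol (⇑Q) a e = 0 := by
    rw [QuadraticMap.polar_comm]; exact heKa a (self_mem_Kl θ a)
  have hwe : pol (⇑Q) w₁ e = 0 := by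
    rw [QuadraticMap.polar_comm]; exact heKw w₁ (self_mem_Kl θ w₁)
  have haf : pol (⇑Q) a f = 0 := by
    rw [QuadraticMap.polar_comm]; exact hfKa a (self_mem_Kl θ a)
  have hw₁S : w₁ ∈ Sm Q M a ha := by
    refine ⟨haw, fun c => ?_⟩
    have hae' : pol (⇑Q) a ((-c) • e) = 0 := by
      rw [QuadraticMap.polar_smul_right, hae, smul_zero]
    have hwe' : pol (⇑Q) w₁ ((-c) • e) = 0 := by
      rw [QuadraticMap.polar_smul_right, hwe, smul_zero]
    have hcf := eichG_comm_formula Q a w₁ ((-c) • e) f ha hQw haw hae' hwe' haf hwf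
    have hmem : ⁅eichG Q a ((-c) • e) ha hae', eichG Q w₁ f hQw hwf⁆ ∈ M := by
      rw [commutatorElement_def]
      have h1 := heS.2 (-c)
      exact M.mul_mem (M.mul_mem (M.mul_mem h1 hEf) (M.inv_mem h1)) (M.inv_mem hEf)
    rw [← hcf] at hmem
    have : (-(pol (⇑Q) ((-c) • e) f)) • w₁ = c • w₁ := by
      rw [QuadraticMap.polar_smul_left, hef]; simp
    rwa [eichG_congr Q ha _ ha (by rw [QuadraticMap.polar_smul_right, haw, smul_zero]) rfl this]
      at hmem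
  -- the orthogonal of `Sm` is `F a`
  have hkey : ∀ z, (∀ s ∈ Sm Q M a ha, pol (⇑Q) z s = 0) → ∃ α : F, z = α • a := by
    intro z hz
    have hzK : z ∈ Kl θ a := by
      rw [← hS.orth_orth (Kl θ a), mem_orth_iff Q hQ]
      intro x hx
      exact hz x (hstar hx)
    obtain ⟨α, β, rfl⟩ := mem_Kl.1 hzK
    have h1 := hz w₁ hw₁S
    have h2 : pol (⇑Q) (θ a) w₁ = -1 := by
      rw [hw₁, QuadraticMap.polar_add_right, h.pol_th' ha, zero_add, h.adj, hau,
        QuadraticMap.polar_comm (⇑Q) a (θ u₁), htua]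
      ring
    rw [QuadraticMap.polar_add_left, QuadraticMap.polar_smul_left, QuadraticMap.polar_smul_left,
      haw, h2] at h1
    have hβ : β = 0 := by simpa using h1
    exact ⟨α, by rw [hβ, zero_smul, add_zero]⟩
  refine ⟨ha0, ha, fun w hpw => ?_⟩
  have hwS : w ∈ Sm Q M a ha := by
    rw [← hS.orth_orth (Sm Q M a ha), mem_orth_iff Q hQ]
    intro z hz
    have hz' : ∀ s ∈ Sm Q M a ha, pol (⇑Q) z s = 0 := (mem_orth_iff Q hQ _ z).1 hz
    obtain ⟨α, rfl⟩ := hkey z hz'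
    rw [QuadraticMap.polar_smul_right, QuadraticMap.polar_comm, hpw, smul_zero]
  exact mem_Sm_eich hwS hpw

include h hQ hM1 in
/-- one root point gives everything -/
lemma KE_le_of_rootPt (h13 : 13 ≤ finrank F V) {a : V} (ha : a ∈ RootPts Q M) : KE Q ≤ M := by
  have hS := symData_polar Q hQ
  have ha0 : a ≠ 0 := ha.1
  have hQa : Q a = 0 := ha.2.1
  obtain ⟨u₁, hQu, hua, htua⟩ := exists_u1 h hQ ha0 hQa
  have hau : pol (⇑Q) a u₁ = 0 := by rw [QuadraticMap.polar_comm]; exact hua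
  have hτ := tau_mem h M hM1 u₁ hQu 1
  set τ := h.tauG u₁ hQu 1 with hτdef
  set w₁ := a + u₁ with hw₁
  have hτa : (τ : V ≃ₗ[F] V) a = w₁ := by
    rw [hτdef, h.tauG_apply, htua, hua]; simp [hw₁]
  have hQw : Q w₁ = 0 := by rw [hw₁, Q_add', hQa, hQu, hau]; ring
  have hwR : w₁ ∈ RootPts Q M := by
    rw [← hτa]; exact rootPts_map Q M τ hτ a ha
  have hw0 : w₁ ≠ 0 := hwR.1
  set wb := t • w₁ - θ w₁ with hwb
  have hwbK : wb ∈ Kl θ w₁ := by
    apply mem_Kl.2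
    exact ⟨t, -1, by rw [hwb, neg_smul, one_smul, sub_eq_add_neg]⟩
  -- pairing of `a` with `θ̄ w₁`
  have hawb : pol (⇑Q) a wb = -1 := by
    rw [hwb, hw₁, QuadraticMap.polar_sub_right, QuadraticMap.polar_smul_right,
      QuadraticMap.polar_add_right, pol_self_of_sing Q a hQa, hau, map_add,
      QuadraticMap.polar_add_right, h.pol_th hQa, QuadraticMap.polar_comm (⇑Q) a (θ u₁), htua]
    simp
  have haK : a ∉ Kl θ w₁ := by
    intro hmem
    have := h.pol_Kl hQw hmem hwbK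
    rw [hawb] at this
    simp at this
  have hwbS : wb ∉ Submodule.span F {w₁} := by
    intro hmem
    obtain ⟨c, hc⟩ := Submodule.mem_span_singleton.1 hmem
    apply h.th_ne hw0 (t - c)
    have : θ w₁ = t • w₁ - wb := by rw [hwb]; abel
    rw [this, ← hc, sub_smul]
  obtain ⟨x₁, hx₁, hx₁wb⟩ := hS.exists_dual_in_orth (Submodule.span F {w₁}) hwbS
  have hx₁w : pol (⇑Q) x₁ w₁ = 0 :=
    (mem_orth_iff Q hQ _ x₁).1 hx₁ w₁ (Submodule.mem_span_singleton_self w₁)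
  have hx₁wb' : pol (⇑Q) x₁ wb = 1 := by rw [QuadraticMap.polar_comm]; exact hx₁wb
  obtain ⟨x₂, hx₂, hx₂a⟩ := hS.exists_dual_in_orth (Kl θ w₁) haK
  have hx₂' : ∀ v ∈ Kl θ w₁, pol (⇑Q) x₂ v = 0 := (mem_orth_iff Q hQ _ x₂).1 hx₂
  have hx₂a' : pol (⇑Q) x₂ a = 1 := by rw [QuadraticMap.polar_comm]; exact hx₂a
  have hd : finrank F ↥(Kl θ w₁ ⊔ Submodule.span F {a}) ≤ 3 := by
    have h1 := finrank_sup_span_le (Kl θ w₁) a
    have h2 := finrank_Kl_le θ w₁
    omega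
  obtain ⟨u₂, hQu₂, hu₂⟩ := exists_sing_cong Q hQ (Kl θ w₁ ⊔ Submodule.span F {a}) (by omega)
    (x₁ + (1 - pol (⇑Q) x₁ a) • x₂)
  have hu₂w : pol (⇑Q) u₂ w₁ = 0 := by
    rw [hu₂ w₁ (Submodule.mem_sup_left (self_mem_Kl θ w₁)), QuadraticMap.polar_add_left,
      QuadraticMap.polar_smul_left, hx₁w, hx₂' w₁ (self_mem_Kl θ w₁)]
    simp
  have hu₂wb : pol (⇑Q) u₂ wb = 1 := by
    rw [hu₂ wb (Submodule.mem_sup_left hwbK), QuadraticMap.polar_add_left,
      QuadraticMap.polar_smul_left, hx₁wb', hx₂' wb hwbK]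
    simp
  have hu₂a : pol (⇑Q) u₂ a = 1 := by
    rw [hu₂ a (Submodule.mem_sup_right (Submodule.mem_span_singleton_self a)),
      QuadraticMap.polar_add_left, QuadraticMap.polar_smul_left, hx₂a']
    simp
  have htu₂w : pol (⇑Q) (θ u₂) w₁ = 1 := by
    rw [h.adj, ← hu₂wb, hwb, QuadraticMap.polar_sub_right, QuadraticMap.polar_smul_right,
      smul_eq_mul]
  have hτ₂ := tau_mem h M hM1 u₂ hQu₂ 1
  have hτ₂w : ((h.tauG u₂ hQu₂ 1 : ↥(isoGroup Q)) : V ≃ₗ[F] V) w₁ = w₁ + u₂ := by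
    rw [h.tauG_apply, htu₂w, hu₂w]; simp
  have ha₂R : w₁ + u₂ ∈ RootPts Q M := by
    rw [← hτ₂w]; exact rootPts_map Q M _ hτ₂ w₁ hwR
  have hne : pol (⇑Q) a (w₁ + u₂) ≠ 0 := by
    have haw : pol (⇑Q) a w₁ = 0 := by
      rw [hw₁, QuadraticMap.polar_add_right, pol_self_of_sing Q a hQa, hau, add_zero]
    rw [QuadraticMap.polar_add_right, haw, QuadraticMap.polar_comm (⇑Q) a u₂, hu₂a, zero_add]
    exact one_ne_zero
  exact KE_le_of_rootPts Q M (fun z hz0 hz => rootPts_all Q hQ M a (w₁ + u₂) ha ha₂R hne z hz0 hz)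

end uf5

end Cfsg.Agent.Lib.Helper94
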