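/-
Helper94: maximality of the normaliser of the unitary overfield `F[θ]` in `Ω(Q)` (abstract form).
-/
import Mathlib
import Cfsg.Agent.Lib.Helper94.UF5

set_option autoImplicit false
set_option linter.unusedSimpArgs false
set_option linter.unusedVariables false
set_option linter.unusedSectionVars false

namespace Cfsg.Agent.Lib.Helper94

open Cfsg.Agent.Lib.Helper13 hiding isoGroup mem_isoGroup
open Cfsg.Agent.Lib.Helper36 Cfsg.Agent.Lib.Helper44 Module
open scoped commutatorElement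

section uf6
variable {F V : Type*} [Field F] [AddCommGroup V] [Module F V]

local notation "pol" => QuadraticMap.polar

variable {Q : QuadraticForm F V} {θ : V →ₗ[F] V} {t ν : F}

/-- the conjugate `g θ g⁻¹` -/
def cj (θ : V →ₗ[F] V) (g : ↥(isoGroup Q)) : V →ₗ[F] V :=
  ((g : V ≃ₗ[F] V) : V →ₗ[F] V) ∘ₗ θ ∘ₗ ((((g⁻¹ : ↥(isoGroup Q)) : V ≃ₗ[F] V)) : V →ₗ[F] V)

lemma cj_apply (θ : V →ₗ[F] V) (g : ↥(isoGroup Q)) (z : V) :
    cj θ g z = (g : V ≃ₗ[F] V) (θ (((g⁻¹ : ↥(isoGroup Q)) : V ≃ₗ[F] V) z)) := rfl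

/-- membership in the field `F[θ]` -/
def IsK (θ : V →ₗ[F] V) (k : V →ₗ[F] V) : Prop := ∃ α β : F, ∀ z, k z = α • z + β • θ z

/-- a pair of orthogonal singular vectors on distinct `θ`-lines has equal coefficients -/
lemma coeff_eq_of_pair (h : UFData Q θ t ν) (φ : V →ₗ[F] V) {x y : V} (hx0 : x ≠ 0)
    (hyK : y ∉ Kl θ x) {α β α' β' : F} (hφx : φ x = α • x + β • θ x)
    (hφy : φ y = α' • y + β' • θ y) (hxy : φ (x + y) ∈ Kl θ (x + y)) : α = α' ∧ β = β' := by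
  obtain ⟨α'', β'', h2⟩ := mem_Kl.1 hxy
  rw [map_add, hφx, hφy, map_add] at h2
  have h3 : (α' - α'') • y + (β' - β'') • θ y = (α'' - α) • x + (β'' - β) • θ x := by
    have e1 : (α' - α'') • y + (β' - β'') • θ y =
        (α' • y + β' • θ y) - (α'' • y + β'' • θ y) := by
      match_scalars <;> ring
    have e2 : α' • y + β' • θ y =
        α'' • (x + y) + β'' • (θ x + θ y) - (α • x + β • θ x) := by
      rw [← h2]; abel
    rw [e1, e2]
    match_scalars <;> ring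
  have h4 : (α' - α'') • y + (β' - β'') • θ y ∈ Kl θ x := by
    rw [h3]; exact mem_Kl.2 ⟨_, _, rfl⟩
  have h5 : ¬ (α' - α'' ≠ 0 ∨ β' - β'' ≠ 0) := fun hne =>
    hyK (h.mem_of_kv_mem (h.Kl_stable x) hne h4)
  push Not at h5
  obtain ⟨h6, h7⟩ := h5
  rw [h6, h7, zero_smul, zero_smul, add_zero] at h3
  obtain ⟨h8, h9⟩ := h.kv_inj hx0 h3.symm
  constructor
  · rw [← sub_eq_zero.1 h8, sub_eq_zero.1 h6]
  · rw [← sub_eq_zero.1 h9, sub_eq_zero.1 h7]

variable [Finite F] [FiniteDimensional F V]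

/-- a linear map preserving the `θ`-line of every singular vector lies in `F[θ]` -/
lemma isK_of_lines (h : UFData Q θ t ν) (hQ : (QuadraticMap.polarBilin Q).Nondegenerate)
    (h13 : 13 ≤ finrank F V) (φ : V →ₗ[F] V)
    (hφ : ∀ v, Q v = 0 → φ v ∈ Kl θ v) : IsK θ φ := by
  obtain ⟨v₀, f₀, hQv₀, -, hvf, -, -⟩ := exists_hyp_orth Q hQ ⊥ (by rw [finrank_bot]; omega)
  have hv₀0 : v₀ ≠ 0 := by
    rintro rfl
    rw [QuadraticMap.polar_zero_left] at hvf
    exact zero_ne_one hvf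
  obtain ⟨α₀, β₀, h0⟩ := mem_Kl.1 (hφ v₀ hQv₀)
  have hsing : ∀ v, Q v = 0 → φ v = α₀ • v + β₀ • θ v := by
    intro v hQv
    by_cases hv0 : v = 0
    · subst hv0; simp
    obtain ⟨α, β, hv⟩ := mem_Kl.1 (hφ v hQv)
    have hd : finrank F ↥(Kl θ v₀ ⊔ Kl θ v) ≤ 4 := by
      have h1 := Submodule.finrank_add_le_finrank_add_finrank (Kl θ v₀) (Kl θ v)
      have h2 := finrank_Kl_le θ v₀
      have h3 := finrank_Kl_le θ v
      omega
    obtain ⟨e, f, hQe, hQf, hef, heU, hfU⟩ := exists_hyp_orth Q hQ (Kl θ v₀ ⊔ Kl θ v) (by omega)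
    have hfe : pol (⇑Q) f e = 1 := by rw [QuadraticMap.polar_comm]; exact hef
    have heK₀ : e ∉ Kl θ v₀ := by
      intro hm
      rw [hfU e (Submodule.mem_sup_left hm)] at hfe
      exact zero_ne_one hfe
    have heK : e ∉ Kl θ v := by
      intro hm
      rw [hfU e (Submodule.mem_sup_right hm)] at hfe
      exact zero_ne_one hfe
    obtain ⟨αe, βe, he⟩ := mem_Kl.1 (hφ e hQe)
    have hs₀ : Q (v₀ + e) = 0 := by
      rw [Q_add', hQv₀, hQe, QuadraticMap.polar_comm,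
        heU v₀ (Submodule.mem_sup_left (self_mem_Kl θ v₀))]
      ring
    have hs : Q (v + e) = 0 := by
      rw [Q_add', hQv, hQe, QuadraticMap.polar_comm,
        heU v (Submodule.mem_sup_right (self_mem_Kl θ v))]
      ring
    obtain ⟨e1, e2⟩ := coeff_eq_of_pair h φ hv₀0 heK₀ h0 he (hφ _ hs₀)
    obtain ⟨e3, e4⟩ := coeff_eq_of_pair h φ hv0 heK hv he (hφ _ hs)
    rw [hv, e3, e4, ← e1, ← e2]
  refine ⟨α₀, β₀, fun z => ?_⟩
  obtain ⟨s, s', hs, hs', rfl⟩ := exists_sing_add_sing Q hQ (by omega) z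
  rw [map_add, hsing s hs, hsing s' hs', map_add]
  match_scalars <;> ring

variable (h : UFData Q θ t ν) (hQ : (QuadraticMap.polarBilin Q).Nondegenerate)
  (M : Subgroup ↥(isoGroup Q))
  (hM1 : ∀ g ∈ KE Q, (∀ z, (g : V ≃ₗ[F] V) (θ z) = θ ((g : V ≃ₗ[F] V) z)) → g ∈ M)

include h hM1 in
/-- the conjugate field gives root elements in `M` -/
lemma cj_mem_Sm (g : ↥(isoGroup Q)) (hg : g ∈ M) (v : V) (hv : Q v = 0) :
    cj θ g v ∈ Sm Q M v hv := by
  set v' := ((g⁻¹ : ↥(isoGroup Q)) : V ≃ₗ[F] V) v with hv'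
  have hQv' : Q v' = 0 := by rw [hv', isoG_Q, hv]
  have hgv' : (g : V ≃ₗ[F] V) v' = v := by rw [hv', isoG_inv_apply]
  have hpol : pol (⇑Q) v (cj θ g v) = 0 := by
    rw [cj_apply, ← hv']
    nth_rewrite 1 [← hgv']
    rw [isoG_pol, h.pol_th hQv']
  refine ⟨hpol, fun c => ?_⟩
  have hmem := tau_mem h M hM1 v' hQv' c
  refine eichG_conj_mem g hg hQv' (h.pol_smul_th hQv' c) hmem hgv' ?_ hv _
  rw [map_smul, cj_apply]

include h hQ hM1 in
/-- **the main lemma**: an overgroup containing an element that does not normalise `F[θ]` -/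
theorem KE_le_of_not_isK (h13 : 13 ≤ finrank F V) (g : ↥(isoGroup Q)) (hg : g ∈ M)
    (hgK : ¬ IsK θ (cj θ g)) : KE Q ≤ M := by
  have h1 : ∃ a, Q a = 0 ∧ cj θ g a ∉ Kl θ a := by
    by_contra hcon
    push Not at hcon
    exact hgK (isK_of_lines h hQ h13 _ hcon)
  obtain ⟨a, ha, hb⟩ := h1
  have ha0 : a ≠ 0 := by
    rintro rfl
    apply hb
    rw [map_zero]
    exact Submodule.zero_mem _
  exact KE_le_of_rootPt h hQ M hM1 h13
    (rootPt_of h hQ M hM1 h13 ha0 ha (cj_mem_Sm h M hM1 g hg a ha) hb)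

include h hQ in
/-- an element of `Ω` not normalising `F[θ]` -/
theorem exists_not_isK (h13 : 13 ≤ finrank F V) : ∃ g ∈ KE Q, ¬ IsK θ (cj θ g) := by
  obtain ⟨a, f₀, hQa, -, haf₀, -, -⟩ := exists_hyp_orth Q hQ ⊥ (by rw [finrank_bot]; omega)
  have ha0 : a ≠ 0 := by
    rintro rfl
    rw [QuadraticMap.polar_zero_left] at haf₀
    exact zero_ne_one haf₀
  have hd := finrank_Kl_le θ a
  obtain ⟨e, f, hQe, hQf, hef, heU, hfU⟩ := exists_hyp_orth Q hQ (Kl θ a) (by omega)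
  have hea : pol (⇑Q) e a = 0 := heU a (self_mem_Kl θ a)
  have heta : pol (⇑Q) e (θ a) = 0 := heU _ (th_mem_Kl θ a)
  have hae : pol (⇑Q) a e = 0 := by rw [QuadraticMap.polar_comm]; exact hea
  have hfa : pol (⇑Q) f a = 0 := hfU a (self_mem_Kl θ a)
  have hfta : pol (⇑Q) f (θ a) = 0 := hfU _ (th_mem_Kl θ a)
  refine ⟨eichG Q a e hQa hae, eichG_mem_KE Q a e hQa hae, ?_⟩
  rintro ⟨α, β, hk⟩
  set g := eichG Q a e hQa hae with hgdef
  have hga : (g : V ≃ₗ[F] V) a = a := by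
    rw [hgdef, eichG_apply, siegelLin_apply, hea, pol_self_of_sing Q a hQa]
    simp
  have hginva : ((g⁻¹ : ↥(isoGroup Q)) : V ≃ₗ[F] V) a = a := by
    have := isoG_inv_apply' g a
    rwa [hga] at this
  have hgta : (g : V ≃ₗ[F] V) (θ a) = θ a := by
    rw [hgdef, eichG_apply, siegelLin_apply, heta, h.pol_th hQa]
    simp
  have h1 := hk a
  rw [cj_apply, hginva, hgta] at h1
  have h2 : α • a + (β - 1) • θ a = 0 := by
    have : α • a + (β - 1) • θ a = (α • a + β • θ a) - θ a := by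
      match_scalars <;> ring
    rw [this, ← h1, sub_self]
  obtain ⟨hα, hβ⟩ := h.kv_inj ha0 h2
  have hβ1 : β = 1 := sub_eq_zero.1 hβ
  have haf : pol (⇑Q) a f = 0 := by rw [QuadraticMap.polar_comm]; exact hfa
  have hgf : (g : V ≃ₗ[F] V) f = f + a := by
    rw [hgdef, eichG_apply, siegelLin_apply, hef, haf]
    simp
  have hatf : pol (⇑Q) a (θ f) = 0 := by
    rw [h.adj', haf, QuadraticMap.polar_comm (⇑Q) (θ a) f, hfta]; ring
  have hgtf : (g : V ≃ₗ[F] V) (θ f) = θ f + pol (⇑Q) e (θ f) • a := by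
    rw [hgdef, eichG_apply, siegelLin_apply, hatf, hQe]
    simp
  have h3 := hk ((g : V ≃ₗ[F] V) f)
  rw [cj_apply, isoG_inv_apply', hgtf, hgf, hα, hβ1, map_add] at h3
  have h4 : θ a = pol (⇑Q) e (θ f) • a := by
    have e1 : θ f + pol (⇑Q) e (θ f) • a = θ f + θ a := by
      rw [h3]; simp
    exact (add_left_cancel e1).symm
  exact h.th_ne ha0 _ h4

end uf6

end Cfsg.Agent.Lib.Helper94
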