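/-
Helper94: maximality of the normaliser of the unitary overfield `F[θ]` in `Ω(Q) = ⁅O(Q), O(Q)⁆`,
as subgroups of the group of all linear automorphisms.
-/
import Mathlib
import Cfsg.Agent.Lib.Helper94.UF6

set_option autoImplicit false
set_option linter.unusedSimpArgs false
set_option linter.unusedVariables false
set_option linter.unusedSectionVars false

namespace Cfsg.Agent.Lib.Helper94

open Cfsg.Agent.Lib.Helper13 hiding isoGroup mem_isoGroup
open Cfsg.Agent.Lib.Helper36 Cfsg.Agent.Lib.Helper44 Module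
open scoped commutatorElement

section uf7
variable {F V : Type*} [Field F] [AddCommGroup V] [Module F V]

local notation "pol" => QuadraticMap.polar

variable {Q : QuadraticForm F V} {θ : V →ₗ[F] V} {t ν : F}

/-- conjugation of a linear map by a linear equivalence -/
def cjL (g : V ≃ₗ[F] V) (k : V →ₗ[F] V) : V →ₗ[F] V :=
  g.toLinearMap ∘ₗ k ∘ₗ g.symm.toLinearMap

lemma cjL_apply (g : V ≃ₗ[F] V) (k : V →ₗ[F] V) (z : V) : cjL g k z = g (k (g.symm z)) := rfl

lemma isoG_inv_eq_symm (g : ↥(isoGroup Q)) (z : V) :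
    ((g⁻¹ : ↥(isoGroup Q)) : V ≃ₗ[F] V) z = (g : V ≃ₗ[F] V).symm z := rfl

lemma cj_eq_cjL (g : ↥(isoGroup Q)) (z : V) : cj θ g z = cjL (g : V ≃ₗ[F] V) θ z := rfl

lemma isK_congr {k k' : V →ₗ[F] V} (hk : ∀ z, k z = k' z) : IsK θ k ↔ IsK θ k' := by
  constructor
  · rintro ⟨α, β, h⟩; exact ⟨α, β, fun z => by rw [← hk, h]⟩
  · rintro ⟨α, β, h⟩; exact ⟨α, β, fun z => by rw [hk, h]⟩

/-- if `g θ g⁻¹` and `g⁻¹ θ g` lie in `F[θ]` then `g` normalises `F[θ]` -/
lemma normalises_of_isK (g : V ≃ₗ[F] V) (h1 : IsK θ (cjL g θ)) (h2 : IsK θ (cjL g.symm θ))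
    (k : V →ₗ[F] V) : IsK θ k ↔ IsK θ (cjL g k) := by
  obtain ⟨α₁, β₁, e1⟩ := h1
  obtain ⟨α₂, β₂, e2⟩ := h2
  constructor
  · rintro ⟨α, β, hk⟩
    refine ⟨α + β * α₁, β * β₁, fun z => ?_⟩
    have : cjL g k z = α • z + β • cjL g θ z := by
      rw [cjL_apply, hk, map_add, map_smul, map_smul, LinearEquiv.apply_symm_apply, cjL_apply]
    rw [this, e1]
    match_scalars <;> ring
  · rintro ⟨α, β, hk⟩
    refine ⟨α + β * α₂, β * β₂, fun z => ?_⟩
    have h3 : k z = g.symm (cjL g k (g z)) := by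
      rw [cjL_apply, LinearEquiv.symm_apply_apply, LinearEquiv.symm_apply_apply]
    have h4 : g.symm (θ (g z)) = cjL g.symm θ z := by
      rw [cjL_apply, LinearEquiv.symm_symm]
    rw [h3, hk, map_add, map_smul, map_smul, LinearEquiv.symm_apply_apply, h4, e2]
    match_scalars <;> ring

lemma isK_theta (θ : V →ₗ[F] V) : IsK θ θ := ⟨0, 1, fun z => by simp⟩

/-- **Maximality of the normaliser of a unitary overfield** in `Ω(Q) = ⁅O(Q), O(Q)⁆`. -/
theorem uf_isMaximalIn [Finite F] [FiniteDimensional F V] (Q : QuadraticForm F V)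
    (hQ : (QuadraticMap.polarBilin Q).Nondegenerate) (h13 : 13 ≤ finrank F V)
    (θ : V →ₗ[F] V) (t ν : F) (h : UFData Q θ t ν) (S : Subgroup (V ≃ₗ[F] V))
    (hS : ∀ g : V ≃ₗ[F] V, g ∈ S ↔ ∀ k : V →ₗ[F] V, IsK θ k ↔ IsK θ (cjL g k)) :
    Cfsg.Geo.IsMaximalIn ⁅isoGroup Q, isoGroup Q⁆ (S ⊓ ⁅isoGroup Q, isoGroup Q⁆) := by
  have hKE := commutator_eq_KE Q hQ (by omega)
  have hΩ : ⁅isoGroup Q, isoGroup Q⁆ = (KE Q).map (isoGroup Q).subtype := by
    rw [← hKE, Subgroup.map_subtype_commutator]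
  set NS : Subgroup ↥(isoGroup Q) := S.comap (isoGroup Q).subtype with hNS
  have hH : S ⊓ ⁅isoGroup Q, isoGroup Q⁆ = (NS ⊓ KE Q).map (isoGroup Q).subtype := by
    rw [hΩ]
    ext g
    constructor
    · rintro ⟨hg1, k, hk, rfl⟩
      exact ⟨k, ⟨hg1, hk⟩, rfl⟩
    · rintro ⟨k, ⟨hk1, hk2⟩, rfl⟩
      exact ⟨hk1, k, hk2, rfl⟩
  rw [hH, hΩ]
  apply isMaximalIn_map_of_injective _ (Subgroup.subtype_injective _)
  have hmemNS : ∀ g : ↥(isoGroup Q), g ∈ NS ↔
      ∀ k : V →ₗ[F] V, IsK θ k ↔ IsK θ (cjL (g : V ≃ₗ[F] V) k) := fun g => hS _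
  refine ⟨lt_of_le_of_ne inf_le_right ?_, fun M h1 h2 => ?_⟩
  · intro heq
    obtain ⟨g, hg, hgK⟩ := exists_not_isK h hQ h13
    have hgN : g ∈ NS := by
      have : g ∈ NS ⊓ KE Q := by rw [heq]; exact hg
      exact this.1
    apply hgK
    exact (isK_congr (cj_eq_cjL g)).2 (((hmemNS g).1 hgN θ).1 (isK_theta θ))
  · by_cases hMN : M ≤ NS ⊓ KE Q
    · left; exact le_antisymm hMN h1
    · right
      apply le_antisymm h2
      obtain ⟨g, hgM, hgN⟩ := SetLike.not_le_iff_exists.1 hMN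
      have hgNS : g ∉ NS := fun hmem => hgN ⟨hmem, h2 hgM⟩
      have hM1 : ∀ g ∈ KE Q, (∀ z, (g : V ≃ₗ[F] V) (θ z) = θ ((g : V ≃ₗ[F] V) z)) → g ∈ M := by
        intro g hg hcomm
        apply h1
        refine ⟨?_, hg⟩
        show g ∈ NS
        rw [hmemNS]
        have e1 : ∀ z, cjL (g : V ≃ₗ[F] V) θ z = θ z := by
          intro z
          rw [cjL_apply, hcomm, LinearEquiv.apply_symm_apply]
        have e2 : ∀ z, cjL (g : V ≃ₗ[F] V).symm θ z = θ z := by
          intro z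
          rw [cjL_apply, LinearEquiv.symm_symm]
          apply (g : V ≃ₗ[F] V).injective
          rw [LinearEquiv.apply_symm_apply, hcomm]
        exact normalises_of_isK _ ((isK_congr e1).2 (isK_theta θ))
          ((isK_congr e2).2 (isK_theta θ))
      by_cases hc1 : IsK θ (cj θ g)
      · by_cases hc2 : IsK θ (cj θ g⁻¹)
        · exfalso
          apply hgNS
          rw [hmemNS]
          exact normalises_of_isK _ ((isK_congr (cj_eq_cjL g)).1 hc1)
            ((isK_congr (cj_eq_cjL g⁻¹)).1 hc2)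
        · exact KE_le_of_not_isK h hQ M hM1 h13 g⁻¹ (M.inv_mem hgM) hc2
      · exact KE_le_of_not_isK h hQ M hM1 h13 g hgM hc1

end uf7

end Cfsg.Agent.Lib.Helper94
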