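/-
Helper94: the unitary overfield inside a symplectic space (odd characteristic), abstractly.
`θ² = ν` (a non-square), `B (θ x) y = - B x (θ y)`.  The quadratic form `φ x = B (θ x) x`,
its `UFData`, the unitary transvections `T_a(s)` and the reflections `τ_v`.
-/
import Mathlib
import Cfsg.Agent.Lib.Helper94.UF7
import Cfsg.Agent.Lib.Helper94.SpRoot

set_option autoImplicit false
set_option linter.unusedSimpArgs false
set_option linter.unusedVariables false
set_option linter.unusedSectionVars false

namespace Cfsg.Agent.Lib.Helper94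

open LinearMap (BilinForm)
open Module

section su1
variable {F V : Type*} [Field F] [AddCommGroup V] [Module F V]

/-- `θ` generates a quadratic field `F[θ]`, `θ² = ν`, and the adjoint involution of the
alternating form `B` induces the conjugation `θ ↦ -θ`. -/
structure SUData (B : BilinForm F V) (θ : V →ₗ[F] V) (ν : F) : Prop where
  sq : ∀ v, θ (θ v) = ν • v
  adj : ∀ u v, B (θ u) v = - B u (θ v)
  irr : ∀ c : F, c ^ 2 ≠ ν
  two : (2 : F) ≠ 0

/-- the quadratic form `φ x = B (θ x) x` -/
noncomputable def suQ (B : BilinForm F V) (θ : V →ₗ[F] V) : QuadraticForm F V :=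
  LinearMap.BilinMap.toQuadraticMap (B.compLeft θ)

lemma suQ_apply (B : BilinForm F V) (θ : V →ₗ[F] V) (x : V) : suQ B θ x = B (θ x) x := by
  rw [suQ, LinearMap.BilinMap.toQuadraticMap_apply, LinearMap.BilinForm.compLeft_apply]

namespace SUData

variable {B : BilinForm F V} {θ : V →ₗ[F] V} {ν : F}

lemma nu_ne (h : SUData B θ ν) : ν ≠ 0 := by
  intro h0
  apply h.irr 0
  rw [h0]; ring

lemma adj' (h : SUData B θ ν) (u v : V) : B u (θ v) = - B (θ u) v := by
  rw [h.adj, neg_neg]

lemma Bthth (h : SUData B θ ν) (u v : V) : B (θ u) (θ v) = - ν * B u v := by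
  rw [h.adj, h.sq, map_smul, smul_eq_mul]; ring

lemma polar_suQ (h : SUData B θ ν) (hB : SympData B) (x y : V) :
    QuadraticMap.polar (⇑(suQ B θ)) x y = 2 * B (θ x) y := by
  unfold QuadraticMap.polar
  rw [suQ_apply, suQ_apply, suQ_apply]
  simp only [map_add, LinearMap.add_apply]
  rw [h.adj y x, hB.skew y (θ x)]
  ring

lemma ufdata (h : SUData B θ ν) (hB : SympData B) : UFData (suQ B θ) θ 0 (-ν) where
  sq := fun v => by rw [h.sq]; simp
  adj := fun u v => by
    rw [h.polar_suQ hB, h.polar_suQ hB, h.polar_suQ hB, h.sq, map_smul, LinearMap.smul_apply,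
      h.Bthth, smul_eq_mul]
    ring
  norm := fun v => by
    rw [suQ_apply, suQ_apply, h.sq, map_smul, LinearMap.smul_apply, smul_eq_mul, h.adj' v v]
    ring
  tr := fun v => by
    rw [h.polar_suQ hB, hB.alt]; ring
  irr := fun c hc => h.irr c (by linear_combination hc)

lemma nondeg_suQ (h : SUData B θ ν) (hB : SympData B) :
    (QuadraticMap.polarBilin (suQ B θ)).Nondegenerate := by
  have key : ∀ x : V, (∀ y, B (θ x) y = 0) → x = 0 := by
    intro x hx
    have h1 : θ x = 0 := hB.nondeg _ hx
    have h2 := h.sq x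
    rw [h1, map_zero] at h2
    rcases smul_eq_zero.1 h2.symm with h3 | h3
    · exact absurd h3 h.nu_ne
    · exact h3
  refine ⟨fun x hx => key x fun y => ?_, fun y hy => key y fun x => ?_⟩
  · have := hx y
    rw [QuadraticMap.polarBilin_apply_apply, h.polar_suQ hB] at this
    rcases mul_eq_zero.1 this with h3 | h3
    · exact absurd h3 h.two
    · exact h3
  · have := hy x
    rw [QuadraticMap.polarBilin_apply_apply, QuadraticMap.polar_comm, h.polar_suQ hB] at this
    rcases mul_eq_zero.1 this with h3 | h3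
    · exact absurd h3 h.two
    · exact h3

/-- the unitary transvection `x ↦ x + sν B(x,a) a - s B(x,θa) θa` -/
def T (h : SUData B θ ν) (hB : SympData B) (a : V) (s : F) : V ≃ₗ[F] V :=
  hB.tv a (s * ν) * hB.tv (θ a) (-s)

lemma T_mem_Sp (h : SUData B θ ν) (hB : SympData B) (a : V) (s : F) :
    h.T hB a s ∈ SympData.Sp B :=
  mul_mem (hB.tv_mem_Sp _ _) (hB.tv_mem_Sp _ _)

lemma T_apply (h : SUData B θ ν) (hB : SympData B) {a : V} (ha : B (θ a) a = 0) (s : F)
    (x : V) : h.T hB a s x = x + (s * ν * B x a) • a - (s * B x (θ a)) • θ a := by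
  simp only [T, LinearEquiv.mul_apply, SympData.tv_apply, map_add, map_smul,
    LinearMap.add_apply, LinearMap.smul_apply, smul_eq_mul, ha, mul_zero, add_zero]
  module

lemma T_comm (h : SUData B θ ν) (hB : SympData B) {a : V} (ha : B (θ a) a = 0) (s : F)
    (x : V) : h.T hB a s (θ x) = θ (h.T hB a s x) := by
  rw [h.T_apply hB ha, h.T_apply hB ha, map_sub, map_add, map_smul, map_smul, h.sq, h.Bthth,
    h.adj x a]
  module

/-- the reflection in the non-degenerate `θ`-line of `v` -/
def tau (h : SUData B θ ν) (hB : SympData B) (v : V) : V ≃ₗ[F] V :=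
  hB.negHyp v ((B v (θ v))⁻¹ • θ v)

lemma tau_mem_Sp (h : SUData B θ ν) (hB : SympData B) (v : V) :
    h.tau hB v ∈ SympData.Sp B := hB.negHyp_mem_Sp _ _

lemma tau_apply (h : SUData B θ ν) (hB : SympData B) {v : V} (hv : B v (θ v) ≠ 0) (x : V) :
    h.tau hB v x = x - (2 * (B v (θ v))⁻¹ * B x (θ v)) • v +
      (2 * (B v (θ v))⁻¹ * B x v) • θ v := by
  have hef : B v ((B v (θ v))⁻¹ • θ v) = 1 := by
    rw [map_smul, smul_eq_mul, inv_mul_cancel₀ hv]
  rw [tau, hB.negHyp_apply hef, map_smul, smul_eq_mul]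
  module

lemma tau_comm (h : SUData B θ ν) (hB : SympData B) {v : V} (hv : B v (θ v) ≠ 0) (x : V) :
    h.tau hB v (θ x) = θ (h.tau hB v x) := by
  rw [h.tau_apply hB hv, h.tau_apply hB hv, map_add, map_sub, map_smul, map_smul, h.sq, h.Bthth,
    h.adj x v]
  module

end SUData

end su1

end Cfsg.Agent.Lib.Helper94
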