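/-
Helper94: unitary overfield in a symplectic space, part 2.  An overgroup `M` of the
centraliser of `θ` in `Sp(B)`: short root elements from a conjugated unitary transvection
and a reflection; transvections from short root elements.
-/
import Mathlib
import Cfsg.Agent.Lib.Helper94.SU1

set_option autoImplicit false
set_option linter.unusedSimpArgs false
set_option linter.unusedVariables false
set_option linter.unusedSectionVars false

namespace Cfsg.Agent.Lib.Helper94

open LinearMap (BilinForm)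
open Module

section su2
variable {F V : Type*} [Field F] [AddCommGroup V] [Module F V]

namespace SUData

variable {B : BilinForm F V} {θ : V →ₗ[F] V} {ν : F}
variable (h : SUData B θ ν) (hB : SympData B) (M : Subgroup (V ≃ₗ[F] V))
  (hM1 : ∀ g ∈ SympData.Sp B, (∀ z, g (θ z) = θ (g z)) → g ∈ M)

include hM1 in
lemma T_mem {a : V} (ha : B (θ a) a = 0) (s : F) : h.T hB a s ∈ M :=
  hM1 _ (h.T_mem_Sp hB a s) (h.T_comm hB ha s)

include hM1 in
lemma tau_mem {v : V} (hv : B v (θ v) ≠ 0) : h.tau hB v ∈ M :=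
  hM1 _ (h.tau_mem_Sp hB v) (h.tau_comm hB hv)

/-- the norm form is anisotropic -/
lemma norm_ne (h : SUData B θ ν) {α β : F} (hne : α ≠ 0 ∨ β ≠ 0) : α ^ 2 - ν * β ^ 2 ≠ 0 := by
  intro h0
  by_cases hβ : β = 0
  · subst hβ
    rcases hne with h1 | h1
    · apply h1
      have : α ^ 2 = 0 := by linear_combination h0
      exact pow_eq_zero_iff (two_ne_zero) |>.1 this
    · exact h1 rfl
  · apply h.irr (α / β)
    field_simp
    linear_combination h0

include h hM1 in
/-- **Step B**: transvections from a short root group and a unitary transvection. -/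
lemma mem_Xset_of_sg {x y : V} (hxy : B x y = 0) (hsg : ∀ s, hB.sg x y s ∈ M) {a : V}
    (ha : B (θ a) a = 0) (hxa : B x a = 0) (hxa' : B x (θ a) = 0) (hya : B y a ≠ 0) :
    x ∈ hB.Xset M := by
  set Tg := h.T hB a 1 with hTg
  have hTM : Tg ∈ M := h.T_mem hB M hM1 ha 1
  have hTS : Tg ∈ SympData.Sp B := h.T_mem_Sp hB a 1
  have hTx : Tg x = x := by
    rw [hTg, h.T_apply hB ha, hxa, hxa']
    simp
  have hTy : Tg y = y + (ν * B y a) • a - (B y (θ a)) • θ a := by
    rw [hTg, h.T_apply hB ha]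
    simp
  have hc0 : B (Tg y) y = -(ν * B y a ^ 2) + B y (θ a) ^ 2 := by
    rw [hTy]
    simp only [map_add, map_sub, map_smul, LinearMap.add_apply, LinearMap.sub_apply,
      LinearMap.smul_apply, smul_eq_mul, hB.alt]
    rw [hB.skew a y, hB.skew (θ a) y]
    ring
  have hc0ne : B (Tg y) y ≠ 0 := by
    rw [hc0]
    have := h.norm_ne (α := B y (θ a)) (β := B y a) (Or.inr hya)
    intro h0
    apply this
    linear_combination h0
  have hxTy : B x (Tg y) = 0 := by
    have := hTS x y
    rw [hTx] at this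
    rw [this, hxy]
  have hsg' : ∀ s, hB.sg x (Tg y) s ∈ M := by
    intro s
    have := hB.conj_sg hTS x y s
    rw [hTx] at this
    rw [← this]
    exact mul_mem (mul_mem hTM (hsg s)) (inv_mem hTM)
  intro c
  have hcomm := hB.comm_sg_heis hxy hxTy 1 (c / (2 * B (Tg y) y))
  have hpar : 2 * 1 * (c / (2 * B (Tg y) y)) * B (Tg y) y = c := by
    have := h.two
    field_simp
  rw [hpar] at hcomm
  rw [← hcomm]
  exact mul_mem (mul_mem (mul_mem (hsg _) (hsg' _)) (inv_mem (hsg _))) (inv_mem (hsg' _))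

include h hM1 in
/-- **Step A'**: short root elements from a conjugated unitary transvection and a reflection. -/
lemma sg_mem_of_conj {g : V ≃ₗ[F] V} (hgM : g ∈ M) (hgS : g ∈ SympData.Sp B) {a : V}
    (ha : B (θ a) a = 0) {v : V} (hv : B v (θ v) ≠ 0) (h1 : B (g (θ a)) v = 0)
    (h2 : B (g (θ a)) (θ v) = 0) {p : V}
    (hp : p = ((B v (θ v))⁻¹ * B (g a) (θ v)) • v - ((B v (θ v))⁻¹ * B (g a) v) • θ v) (s : F) :
    hB.sg (g a - p) p s ∈ M := by
  set b := g a with hb
  set b' := g (θ a) with hb'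
  set r : F := s / (2 * ν) with hr
  have hX : g * h.T hB a r * g⁻¹ = hB.tv b (r * ν) * hB.tv b' (-r) := by
    have e : g * h.T hB a r * g⁻¹ =
        (g * hB.tv a (r * ν) * g⁻¹) * (g * hB.tv (θ a) (-r) * g⁻¹) := by
      simp only [T]; group
    rw [e, hB.conj_tv hgS, hB.conj_tv hgS]
  have hXM : hB.tv b (r * ν) * hB.tv b' (-r) ∈ M := by
    rw [← hX]
    exact mul_mem (mul_mem hgM (h.T_mem hB M hM1 ha r)) (inv_mem hgM)
  set τ := h.tau hB v with hτ
  have hτM : τ ∈ M := h.tau_mem hB M hM1 hv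
  have hτS : τ ∈ SympData.Sp B := h.tau_mem_Sp hB v
  have hτb' : τ b' = b' := by
    rw [hτ, h.tau_apply hB hv, h1, h2]
    simp
  have hτb : τ b = (b - p) - p := by
    rw [hτ, h.tau_apply hB hv, hp]
    module
  have hbp : B (b - p) p = 0 := by
    rw [hp]
    simp only [map_add, map_sub, map_smul, LinearMap.add_apply, LinearMap.sub_apply,
      LinearMap.smul_apply, smul_eq_mul, hB.alt]
    rw [hB.skew v (θ v), hB.skew (θ v) v]
    ring
  have hY : τ * (hB.tv b (r * ν) * hB.tv b' (-r)) * τ⁻¹ =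
      hB.tv ((b - p) - p) (r * ν) * hB.tv b' (-r) := by
    have e : τ * (hB.tv b (r * ν) * hB.tv b' (-r)) * τ⁻¹ =
        (τ * hB.tv b (r * ν) * τ⁻¹) * (τ * hB.tv b' (-r) * τ⁻¹) := by group
    rw [e, hB.conj_tv hτS, hB.conj_tv hτS, hτb, hτb']
  have hYM : hB.tv ((b - p) - p) (r * ν) * hB.tv b' (-r) ∈ M := by
    rw [← hY]
    exact mul_mem (mul_mem hτM hXM) (inv_mem hτM)
  have hfin : hB.tv b (r * ν) * hB.tv b' (-r) *
      (hB.tv ((b - p) - p) (r * ν) * hB.tv b' (-r))⁻¹ = hB.sg (b - p) p s := by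
    have e1 : hB.tv b (r * ν) * hB.tv b' (-r) *
        (hB.tv ((b - p) - p) (r * ν) * hB.tv b' (-r))⁻¹ =
        hB.tv b (r * ν) * (hB.tv ((b - p) - p) (r * ν))⁻¹ := by group
    have key := hB.tv_mul_tv_sub hbp (r * ν)
    have e2 : (b - p) + p = b := by abel
    rw [e2] at key
    rw [e1, key]
    congr 1
    rw [hr]
    have := h.nu_ne
    have := h.two
    field_simp
  rw [← hfin]
  exact mul_mem hXM (inv_mem hYM)

end SUData

end su2

end Cfsg.Agent.Lib.Helper94
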