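/-
Helper94: unitary overfield in a symplectic space, part 3.  Existence lemmas (vectors of
prescribed norm with prescribed pairings) and the first non-zero vector all of whose
transvections lie in the overgroup `M`.
-/
import Mathlib
import Cfsg.Agent.Lib.Helper94.SU2

set_option autoImplicit false
set_option linter.unusedSimpArgs false
set_option linter.unusedVariables false
set_option linter.unusedSectionVars false

namespace Cfsg.Agent.Lib.Helper94

open LinearMap (BilinForm)
open Cfsg.Agent.Lib.Helper13 hiding isoGroup mem_isoGroup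
open Cfsg.Agent.Lib.Helper36 Cfsg.Agent.Lib.Helper44 Module

section su3
variable {F V : Type*} [Field F] [AddCommGroup V] [Module F V]

local notation "pol" => QuadraticMap.polar

lemma thStable_sup {θ : V →ₗ[F] V} {P P' : Submodule F V} (hP : ThStable θ P)
    (hP' : ThStable θ P') : ThStable θ (P ⊔ P') := by
  intro x hx
  obtain ⟨y, hy, z, hz, rfl⟩ := Submodule.mem_sup.1 hx
  rw [map_add]
  exact Submodule.add_mem _ (Submodule.mem_sup_left (hP y hy)) (Submodule.mem_sup_right (hP' z hz))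

lemma finrank_Kl_sup_le [FiniteDimensional F V] (θ : V →ₗ[F] V) (x y : V) :
    finrank F ↥(Kl θ x ⊔ Kl θ y) ≤ 4 := by
  have h1 := Submodule.finrank_add_le_finrank_add_finrank (Kl θ x) (Kl θ y)
  have h2 := finrank_Kl_le θ x
  have h3 := finrank_Kl_le θ y
  omega

namespace SUData

variable {B : BilinForm F V} {θ : V →ₗ[F] V} {ν : F}

lemma phi_eq (h : SUData B θ ν) (x : V) : B x (θ x) = - B (θ x) x := h.adj' x x

/-- pairings with a `θ`-stable subspace: from the polar form of `φ` to `B` -/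
lemma B_eq_of_pol_eq (h : SUData B θ ν) (hB : SympData B) {U : Submodule F V}
    (hst : ThStable θ U) {x x₀ : V}
    (hx : ∀ u ∈ U, pol (⇑(suQ B θ)) x u = pol (⇑(suQ B θ)) x₀ u) :
    ∀ u ∈ U, B x u = B x₀ u := by
  intro u hu
  have h1 := hx (θ u) (hst u hu)
  rw [h.polar_suQ hB, h.polar_suQ hB, h.Bthth, h.Bthth] at h1
  have h2 := h.two
  have hν := h.nu_ne
  have h3 : (2 * ν) * (B x u - B x₀ u) = 0 := by linear_combination -h1
  rcases mul_eq_zero.1 h3 with h4 | h4
  · exact absurd h4 (mul_ne_zero h2 hν)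
  · exact sub_eq_zero.1 h4

/-- a vector of prescribed norm with prescribed pairings against a small `θ`-stable subspace -/
theorem exists_cong [Finite F] [FiniteDimensional F V] (h : SUData B θ ν) (hB : SympData B)
    (c : F) (U : Submodule F V) (hst : ThStable θ U) (hU : 2 * finrank F U + 3 ≤ finrank F V)
    (x₀ : V) : ∃ x, B (θ x) x = c ∧ ∀ u ∈ U, B x u = B x₀ u := by
  obtain ⟨e, f, hQe, hQf, hef, heu, hfu⟩ := exists_hyp_orth (suQ B θ) (h.nondeg_suQ hB) U hU
  set Q := suQ B θ with hQ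
  set a := pol (⇑Q) x₀ e with ha
  set b := pol (⇑Q) x₀ f with hb
  refine ⟨x₀ + (1 - b) • e + (a * b - Q x₀ - a + c) • f, ?_, ?_⟩
  · rw [← suQ_apply, ← hQ, qexp, hQe, hQf, hef, ← ha, ← hb]
    ring
  · apply h.B_eq_of_pol_eq hB hst
    intro u hu
    rw [QuadraticMap.polar_add_left, QuadraticMap.polar_add_left, QuadraticMap.polar_smul_left,
      QuadraticMap.polar_smul_left, heu u hu, hfu u hu]
    simp

/-- `x ∉ P` (θ-stable) implies `x ∉ P ⊔ F θx` -/
lemma not_mem_sup_th (h : SUData B θ ν) (hB : SympData B) {P : Submodule F V}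
    (hP : ThStable θ P) {x : V} (hx : x ∉ P) : x ∉ P ⊔ Submodule.span F {θ x} := by
  intro hm
  obtain ⟨y, hy, z, hz, hyz⟩ := Submodule.mem_sup.1 hm
  obtain ⟨γ, rfl⟩ := Submodule.mem_span_singleton.1 hz
  apply hx
  apply (h.ufdata hB).mem_of_kv_mem hP (α := 1) (β := -γ) (Or.inl one_ne_zero)
  have : (1 : F) • x + -γ • θ x = y := by
    rw [eq_sub_of_add_eq hyz]; module
  rw [this]; exact hy

/-- an isotropic vector orthogonal to the `θ`-line of `d` but not to `y ∉ Kl θ d` -/
theorem exists_iso [Finite F] [FiniteDimensional F V] (h : SUData B θ ν) (hB : SympData B)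
    (h14 : 14 ≤ finrank F V) (d y : V) (hy : y ∉ Kl θ d) :
    ∃ a', B (θ a') a' = 0 ∧ B d a' = 0 ∧ B d (θ a') = 0 ∧ B y a' ≠ 0 := by
  have hu := h.ufdata hB
  obtain ⟨x₀, hx₀, hyx₀⟩ := hB.exists_dual_in_orth (Kl θ d) hy
  have hx₀' := hB.mem_orthogonal.1 hx₀
  have hst : ThStable θ (Kl θ d ⊔ Kl θ y) := thStable_sup (hu.Kl_stable d) (hu.Kl_stable y)
  have hd4 := finrank_Kl_sup_le θ d y
  obtain ⟨a', ha', hpair⟩ := h.exists_cong hB 0 (Kl θ d ⊔ Kl θ y) hst (by omega) x₀
  have e1 : B a' d = 0 := by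
    rw [hpair d (Submodule.mem_sup_left (self_mem_Kl θ d))]
    exact hx₀' d (self_mem_Kl θ d)
  have e2 : B a' (θ d) = 0 := by
    rw [hpair (θ d) (Submodule.mem_sup_left (th_mem_Kl θ d))]
    exact hx₀' (θ d) (th_mem_Kl θ d)
  have e3 : B a' y = -1 := by
    rw [hpair y (Submodule.mem_sup_right (self_mem_Kl θ y)), hB.skew, hyx₀]
  refine ⟨a', ha', hB.eq_zero_comm.1 e1, ?_, ?_⟩
  · rw [h.adj', neg_eq_zero]
    exact hB.eq_zero_comm.1 e2
  · rw [hB.skew, e3]
    simp

end SUData

end su3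

end Cfsg.Agent.Lib.Helper94
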