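/-
Helper94: unitary overfield in a symplectic space, part 4.  An element of the overgroup `M`
moving an isotropic `θ`-line off the `θ`-lines yields a non-zero vector all of whose
transvections lie in `M`.
-/
import Mathlib
import Cfsg.Agent.Lib.Helper94.SU3

set_option autoImplicit false
set_option linter.unusedSimpArgs false
set_option linter.unusedVariables false
set_option linter.unusedSectionVars false

namespace Cfsg.Agent.Lib.Helper94

open LinearMap (BilinForm)
open Cfsg.Agent.Lib.Helper13 hiding isoGroup mem_isoGroup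
open Cfsg.Agent.Lib.Helper36 Cfsg.Agent.Lib.Helper44 Module

section su4
variable {F V : Type*} [Field F] [AddCommGroup V] [Module F V]

namespace SUData

variable {B : BilinForm F V} {θ : V →ₗ[F] V} {ν : F}
variable (h : SUData B θ ν) (hB : SympData B) (M : Subgroup (V ≃ₗ[F] V))
  (hM1 : ∀ g ∈ SympData.Sp B, (∀ z, g (θ z) = θ (g z)) → g ∈ M)

include h hM1 in
theorem exists_mem_Xset [Finite F] [FiniteDimensional F V] (h14 : 14 ≤ finrank F V)
    {g : V ≃ₗ[F] V} (hgM : g ∈ M) (hgS : g ∈ SympData.Sp B) {a : V} (ha : B (θ a) a = 0)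
    (hns : θ (g a) ∉ Submodule.span F {g a, g (θ a)}) : ∃ x, x ≠ 0 ∧ x ∈ hB.Xset M := by
  have hu := h.ufdata hB
  have hν := h.nu_ne
  have h2 := h.two
  obtain ⟨b, hb⟩ : ∃ b, b = g a := ⟨_, rfl⟩
  obtain ⟨b', hb'⟩ : ∃ b', b' = g (θ a) := ⟨_, rfl⟩
  rw [← hb, ← hb'] at hns
  have ha0 : a ≠ 0 := by
    rintro rfl
    apply hns
    rw [hb, map_zero, map_zero]
    exact Submodule.zero_mem _
  -- `b ∉ Kl θ b'`
  have hbb' : b ∉ Kl θ b' := by
    intro hm
    obtain ⟨α, β, hαβ⟩ := mem_Kl.1 hm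
    by_cases hβ : β = 0
    · rw [hβ, zero_smul, add_zero, hb, hb', ← map_smul] at hαβ
      have e1 : a = α • θ a := g.injective hαβ
      have hα : α ≠ 0 := by
        rintro rfl
        rw [zero_smul] at e1
        exact ha0 e1
      apply hu.th_ne ha0 α⁻¹
      conv_rhs => rw [e1]
      rw [smul_smul, inv_mul_cancel₀ hα, one_smul]
    · apply hns
      have e1 : θ b' = β⁻¹ • b - (β⁻¹ * α) • b' := by
        rw [hαβ]
        rw [smul_add, smul_smul, smul_smul, inv_mul_cancel₀ hβ, one_smul]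
        abel
      have e2 : θ b = α • θ b' + (β * ν) • b' := by
        rw [hαβ, map_add, map_smul, map_smul, h.sq, smul_smul]
      rw [e2, e1]
      apply Submodule.add_mem
      · apply Submodule.smul_mem
        apply Submodule.sub_mem
        · exact Submodule.smul_mem _ _ (Submodule.subset_span (by simp))
        · exact Submodule.smul_mem _ _ (Submodule.subset_span (by simp))
      · exact Submodule.smul_mem _ _ (Submodule.subset_span (by simp))
  -- the norm of `v`
  obtain ⟨c, hc0, hc⟩ : ∃ c : F, c ≠ 0 ∧ B (θ b) b * c ≠ -ν := by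
    by_cases hbν : B (θ b) b = -ν
    · refine ⟨2, h2, ?_⟩
      rw [hbν]
      intro h0
      apply hν
      linear_combination -h0
    · exact ⟨1, one_ne_zero, by rwa [mul_one]⟩
  -- the vector `v`
  have hbS : b ∉ Kl θ b' ⊔ Submodule.span F {θ b} := h.not_mem_sup_th hB (hu.Kl_stable b') hbb'
  obtain ⟨y', hy', hby'⟩ := hB.exists_dual_in_orth _ hbS
  have hy'' := hB.mem_orthogonal.1 hy'
  have hst : ThStable θ (Kl θ b' ⊔ Kl θ b) := thStable_sup (hu.Kl_stable b') (hu.Kl_stable b)
  have hd4 := finrank_Kl_sup_le θ b' b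
  obtain ⟨v, hvc, hpair⟩ := h.exists_cong hB c (Kl θ b' ⊔ Kl θ b) hst (by omega) y'
  have p1 : B v b' = 0 := by
    rw [hpair b' (Submodule.mem_sup_left (self_mem_Kl θ b'))]
    exact hy'' b' (Submodule.mem_sup_left (self_mem_Kl θ b'))
  have p2 : B v (θ b') = 0 := by
    rw [hpair (θ b') (Submodule.mem_sup_left (th_mem_Kl θ b'))]
    exact hy'' (θ b') (Submodule.mem_sup_left (th_mem_Kl θ b'))
  have p3 : B v (θ b) = 0 := by
    rw [hpair (θ b) (Submodule.mem_sup_right (th_mem_Kl θ b))]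
    exact hy'' (θ b) (Submodule.mem_sup_right (Submodule.mem_span_singleton_self _))
  have p4 : B v b = -1 := by
    rw [hpair b (Submodule.mem_sup_right (self_mem_Kl θ b)), hB.skew, hby']
  have hvv : B v (θ v) = -c := by rw [h.phi_eq, hvc]
  have hv : B v (θ v) ≠ 0 := by rw [hvv]; exact neg_ne_zero.2 hc0
  have q1 : B b' v = 0 := hB.eq_zero_comm.1 p1
  have q2 : B b' (θ v) = 0 := by
    rw [h.adj', neg_eq_zero]; exact hB.eq_zero_comm.1 p2
  have q3 : B b (θ v) = 0 := by
    rw [h.adj', neg_eq_zero]; exact hB.eq_zero_comm.1 p3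
  have q4 : B b v = 1 := by rw [hB.skew, p4, neg_neg]
  -- the short root elements
  obtain ⟨p, hp⟩ : ∃ p, p = ((B v (θ v))⁻¹ * B b (θ v)) • v - ((B v (θ v))⁻¹ * B b v) • θ v :=
    ⟨_, rfl⟩
  have hsg : ∀ s, hB.sg (b - p) p s ∈ M := by
    intro s
    rw [hb]
    apply h.sg_mem_of_conj hB M hM1 hgM hgS ha hv
    · rw [← hb']; exact q1
    · rw [← hb']; exact q2
    · rw [← hb]; exact hp
  have hp' : p = c⁻¹ • θ v := by
    rw [hp, q3, q4, hvv]
    have : (-c)⁻¹ = -c⁻¹ := by rw [inv_neg]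
    rw [this]
    module
  have hθvv : B (θ v) v = c := hvc
  have r1 : B p v = 1 := by
    rw [hp', map_smul, LinearMap.smul_apply, hθvv, smul_eq_mul, inv_mul_cancel₀ hc0]
  have r2 : B p (θ v) = 0 := by
    rw [hp', map_smul, LinearMap.smul_apply, hB.alt, smul_zero]
  have s1 : B (b - p) v = 0 := by
    rw [map_sub, LinearMap.sub_apply, q4, r1, sub_self]
  have s2 : B (b - p) (θ v) = 0 := by
    rw [map_sub, LinearMap.sub_apply, q3, r2, sub_self]
  have hbp : B (b - p) p = 0 := by
    calc B (b - p) p = B (b - p) (c⁻¹ • θ v) := by rw [← hp']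
      _ = 0 := by rw [map_smul, s2, smul_zero]
  -- `d = b - p ≠ 0`
  have hd0 : b - p ≠ 0 := by
    intro h0
    have e : b = c⁻¹ • θ v := by rw [← hp']; exact sub_eq_zero.1 h0
    apply hc
    rw [e]
    simp only [map_smul, LinearMap.smul_apply, h.sq, smul_eq_mul, hvv]
    field_simp
  -- `p ∉ Kl θ d`
  have hpd : p ∉ Kl θ (b - p) := by
    intro hm
    obtain ⟨α, β, hαβ⟩ := mem_Kl.1 hm
    have : B p v = 0 := by
      rw [hαβ, map_add, map_smul, map_smul, LinearMap.add_apply, LinearMap.smul_apply,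
        LinearMap.smul_apply, s1, h.adj, s2]
      simp
    rw [r1] at this
    exact one_ne_zero this
  obtain ⟨a', ha', t1, t2, t3⟩ := h.exists_iso hB h14 (b - p) p hpd
  exact ⟨b - p, hd0, h.mem_Xset_of_sg hB M hM1 hbp hsg ha' t1 t2 t3⟩

end SUData

end su4

end Cfsg.Agent.Lib.Helper94
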