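/-
Helper94: unitary overfield in a symplectic space, part 5.  From one non-zero vector with all
its transvections in `M` to all of `Sp(B)`, and the maximality theorem.
-/
import Mathlib
import Cfsg.Prelude.Def_GeometricClasses
import Cfsg.Agent.Lib.Helper94.SU4

set_option autoImplicit false
set_option linter.unusedSimpArgs false
set_option linter.unusedVariables false
set_option linter.unusedSectionVars false

namespace Cfsg.Agent.Lib.Helper94

open LinearMap (BilinForm)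
open Cfsg.Agent.Lib.Helper13 hiding isoGroup mem_isoGroup
open Cfsg.Agent.Lib.Helper36 Cfsg.Agent.Lib.Helper44 Module

section su5
variable {F V : Type*} [Field F] [AddCommGroup V] [Module F V]

local notation "pol" => QuadraticMap.polar

namespace SUData

variable {B : BilinForm F V} {θ : V →ₗ[F] V} {ν : F}
variable (h : SUData B θ ν) (hB : SympData B) (M : Subgroup (V ≃ₗ[F] V))
  (hM1 : ∀ g ∈ SympData.Sp B, (∀ z, g (θ z) = θ (g z)) → g ∈ M)

include h hM1 in
/-- an isotropic neighbour of a vector of `X` lies in `X` -/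
lemma iso_mem_Xset {x a₂ : V} (hx : x ∈ hB.Xset M) (ha₂ : B (θ a₂) a₂ = 0)
    (h1 : B x (θ a₂) = 0) (h2 : B x a₂ ≠ 0) : a₂ ∈ hB.Xset M := by
  have hν := h.nu_ne
  have hTM : h.T hB a₂ (ν * B x a₂)⁻¹ ∈ M := h.T_mem hB M hM1 ha₂ _
  have hTS : h.T hB a₂ (ν * B x a₂)⁻¹ ∈ SympData.Sp B := h.T_mem_Sp hB a₂ _
  have hTx : h.T hB a₂ (ν * B x a₂)⁻¹ x = x + a₂ := by
    rw [h.T_apply hB ha₂, h1, mul_zero, zero_smul, sub_zero]
    congr 1
    have : (ν * B x a₂)⁻¹ * ν * B x a₂ = 1 := by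
      rw [mul_assoc, inv_mul_cancel₀ (mul_ne_zero hν h2)]
    rw [this, one_smul]
  have h3 : x + a₂ ∈ hB.Xset M := by
    rw [← hTx]; exact hB.map_mem_Xset hx hTM hTS
  have h4 : B (x + a₂) (-x) ≠ 0 := by
    have : B (x + a₂) (-x) = B x a₂ := by
      rw [map_neg, map_add, LinearMap.add_apply, hB.alt, zero_add, hB.skew a₂ x, neg_neg]
    rw [this]; exact h2
  have h5 := hB.add_mem_Xset h3 (hB.neg_mem_Xset hx) h4
  have e : x + a₂ + -x = a₂ := by abel
  rwa [e] at h5

variable [Finite F] [FiniteDimensional F V]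

include h hM1 in
lemma iso_mem_Xset_of_not_mem (h14 : 14 ≤ finrank F V) {x s : V} (hx : x ∈ hB.Xset M)
    (hx0 : x ≠ 0) (hs : B (θ s) s = 0) (hsx : s ∉ Kl θ x) : s ∈ hB.Xset M := by
  have hu := h.ufdata hB
  have hxs : x ∉ Kl θ s := by
    intro hm
    obtain ⟨α, β, hαβ⟩ := mem_Kl.1 hm
    apply hsx
    have hne : α ≠ 0 ∨ β ≠ 0 := by
      by_contra hcon
      push Not at hcon
      rw [hcon.1, hcon.2, zero_smul, zero_smul, add_zero] at hαβ
      exact hx0 hαβ
    apply hu.mem_of_kv_mem (hu.Kl_stable x) hne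
    rw [← hαβ]; exact self_mem_Kl θ x
  have hx1 := h.not_mem_sup_th hB (hu.Kl_stable s) hxs
  have hs1 := h.not_mem_sup_th hB (hu.Kl_stable x) hsx
  obtain ⟨y₁, hy₁, hxy₁⟩ := hB.exists_dual_in_orth _ hx1
  obtain ⟨y₂, hy₂, hsy₂⟩ := hB.exists_dual_in_orth _ hs1
  have hy₁' := hB.mem_orthogonal.1 hy₁
  have hy₂' := hB.mem_orthogonal.1 hy₂
  have hst : ThStable θ (Kl θ x ⊔ Kl θ s) := thStable_sup (hu.Kl_stable x) (hu.Kl_stable s)
  have hd4 := finrank_Kl_sup_le θ x s
  obtain ⟨z, hz, hpair⟩ := h.exists_cong hB 0 (Kl θ x ⊔ Kl θ s) hst (by omega) (y₁ + y₂)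
  have e1 : B z x = -1 := by
    rw [hpair x (Submodule.mem_sup_left (self_mem_Kl θ x)), map_add, LinearMap.add_apply,
      hy₂' x (Submodule.mem_sup_left (self_mem_Kl θ x)), add_zero, hB.skew, hxy₁]
  have e2 : B z (θ x) = 0 := by
    rw [hpair (θ x) (Submodule.mem_sup_left (th_mem_Kl θ x)), map_add, LinearMap.add_apply,
      hy₂' (θ x) (Submodule.mem_sup_left (th_mem_Kl θ x)),
      hy₁' (θ x) (Submodule.mem_sup_right (Submodule.mem_span_singleton_self _)), add_zero]
  have e3 : B z s = -1 := by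
    rw [hpair s (Submodule.mem_sup_right (self_mem_Kl θ s)), map_add, LinearMap.add_apply,
      hy₁' s (Submodule.mem_sup_left (self_mem_Kl θ s)), zero_add, hB.skew, hsy₂]
  have e4 : B z (θ s) = 0 := by
    rw [hpair (θ s) (Submodule.mem_sup_right (th_mem_Kl θ s)), map_add, LinearMap.add_apply,
      hy₁' (θ s) (Submodule.mem_sup_left (th_mem_Kl θ s)),
      hy₂' (θ s) (Submodule.mem_sup_right (Submodule.mem_span_singleton_self _)), add_zero]
  have hzX : z ∈ hB.Xset M := by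
    apply h.iso_mem_Xset hB M hM1 hx hz
    · rw [h.adj', neg_eq_zero]; exact hB.eq_zero_comm.1 e2
    · rw [hB.skew, e1]; simp
  apply h.iso_mem_Xset hB M hM1 hzX hs e4
  rw [e3]; simp

include h hM1 in
lemma iso_mem_Xset_all (h14 : 14 ≤ finrank F V) {x : V} (hx : x ∈ hB.Xset M) (hx0 : x ≠ 0)
    {s : V} (hs : B (θ s) s = 0) : s ∈ hB.Xset M := by
  have hu := h.ufdata hB
  by_cases hsx : s ∈ Kl θ x
  · by_cases hs0 : s = 0
    · rw [hs0]; exact hB.zero_mem_Xset M
    have hd2 := finrank_Kl_le θ x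
    obtain ⟨e, f, hQe, hQf, hef, heu, hfu⟩ :=
      exists_hyp_orth (suQ B θ) (h.nondeg_suQ hB) (Kl θ x) (by omega)
    have heK : e ∉ Kl θ x := by
      intro hm
      have := hfu e hm
      rw [QuadraticMap.polar_comm, hef] at this
      exact one_ne_zero this
    have he : B (θ e) e = 0 := by rw [← suQ_apply]; exact hQe
    have heX : e ∈ hB.Xset M := h.iso_mem_Xset_of_not_mem hB M hM1 h14 hx hx0 he heK
    have he0 : e ≠ 0 := by
      rintro rfl
      exact heK (Submodule.zero_mem _)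
    apply h.iso_mem_Xset_of_not_mem hB M hM1 h14 heX he0 hs
    intro hm
    obtain ⟨α, β, hαβ⟩ := mem_Kl.1 hm
    apply heK
    have hne : α ≠ 0 ∨ β ≠ 0 := by
      by_contra hcon
      push Not at hcon
      rw [hcon.1, hcon.2, zero_smul, zero_smul, add_zero] at hαβ
      exact hs0 hαβ
    apply hu.mem_of_kv_mem (hu.Kl_stable x) hne
    rw [← hαβ]; exact hsx
  · exact h.iso_mem_Xset_of_not_mem hB M hM1 h14 hx hx0 hs hsx

include h hM1 in
lemma all_mem_Xset (h14 : 14 ≤ finrank F V) {x : V} (hx : x ∈ hB.Xset M) (hx0 : x ≠ 0)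
    (w : V) : w ∈ hB.Xset M := by
  have hu := h.ufdata hB
  have h2 := h.two
  by_cases hw : B (θ w) w = 0
  · exact h.iso_mem_Xset_all hB M hM1 h14 hx hx0 hw
  have hw0 : w ≠ 0 := by
    rintro rfl
    apply hw; simp
  have hwS : w ∉ Submodule.span F {θ w} := by
    intro hm
    obtain ⟨γ, hγ⟩ := Submodule.mem_span_singleton.1 hm
    apply hw
    calc B (θ w) w = B (θ w) (γ • θ w) := by rw [hγ]
      _ = 0 := by rw [map_smul, hB.alt, smul_zero]
  obtain ⟨y, hy, hwy⟩ := hB.exists_dual_in_orth _ hwS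
  have hy' := hB.mem_orthogonal.1 hy
  have hd2 := finrank_Kl_le θ w
  obtain ⟨s, hs, hpair⟩ := h.exists_cong hB 0 (Kl θ w) (hu.Kl_stable w) (by omega)
    ((2 : F)⁻¹ • w + y)
  have e1 : B s w = -1 := by
    rw [hpair w (self_mem_Kl θ w), map_add, map_smul, LinearMap.add_apply, LinearMap.smul_apply,
      hB.alt, smul_zero, zero_add, hB.skew, hwy]
  have e2 : B s (θ w) = -(2 : F)⁻¹ * B (θ w) w := by
    rw [hpair (θ w) (th_mem_Kl θ w), map_add, map_smul, LinearMap.add_apply,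
      LinearMap.smul_apply, hy' (θ w) (Submodule.mem_span_singleton_self _), add_zero,
      h.phi_eq, smul_eq_mul]
    ring
  have hsX : s ∈ hB.Xset M := h.iso_mem_Xset_all hB M hM1 h14 hx hx0 hs
  have hws : B (θ (w - s)) (w - s) = 0 := by
    simp only [map_sub, LinearMap.sub_apply, hs]
    rw [h.adj s w, e2, hB.skew (θ w) s, e2]
    field_simp
    ring
  have hwsX : w - s ∈ hB.Xset M := h.iso_mem_Xset_all hB M hM1 h14 hx hx0 hws
  have h4 : B s (w - s) ≠ 0 := by
    rw [map_sub, hB.alt, sub_zero, e1]; simp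
  have h5 := hB.add_mem_Xset hsX hwsX h4
  have e : s + (w - s) = w := by abel
  rwa [e] at h5

include h hB hM1 in
/-- an element of `M` moving an isotropic `θ`-line off the `θ`-lines forces `M ≥ Sp(B)` -/
theorem Sp_le_of_moved (h14 : 14 ≤ finrank F V) {g : V ≃ₗ[F] V} (hgM : g ∈ M)
    (hgS : g ∈ SympData.Sp B) {a : V} (ha : B (θ a) a = 0)
    (hns : θ (g a) ∉ Submodule.span F {g a, g (θ a)}) : SympData.Sp B ≤ M := by
  obtain ⟨x, hx0, hx⟩ := h.exists_mem_Xset hB M hM1 h14 hgM hgS ha hns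
  rw [hB.Sp_eq_TN_top]
  exact hB.TN_top_le_of_Xset (fun w => h.all_mem_Xset hB M hM1 h14 hx hx0 w)

end SUData

end su5

end Cfsg.Agent.Lib.Helper94
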