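/-
Helper94: unitary overfield in a symplectic space, part 6.  The maximality theorem: the
normaliser of `F[θ]` in `Sp(B)` is a maximal subgroup (`dim V ≥ 14`, odd characteristic).
-/
import Mathlib
import Cfsg.Prelude.Def_GeometricClasses
import Cfsg.Agent.Lib.Helper94.SU5

set_option autoImplicit false
set_option linter.unusedSimpArgs false
set_option linter.unusedVariables false
set_option linter.unusedSectionVars false

namespace Cfsg.Agent.Lib.Helper94

open LinearMap (BilinForm)
open Cfsg.Agent.Lib.Helper13 hiding isoGroup mem_isoGroup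
open Cfsg.Agent.Lib.Helper36 Cfsg.Agent.Lib.Helper44 Module

section su6
variable {F V : Type*} [Field F] [AddCommGroup V] [Module F V]

namespace SUData

variable {B : BilinForm F V} {θ : V →ₗ[F] V} {ν : F}

/-- a transvection does not normalise `F[θ]` -/
theorem exists_not_isK [FiniteDimensional F V] (h : SUData B θ ν) (hB : SympData B)
    (h14 : 14 ≤ finrank F V) : ∃ g ∈ SympData.Sp B, ¬ IsK θ (cjL g θ) := by
  have hu := h.ufdata hB
  have hpos : 0 < finrank F V := by omega
  obtain ⟨x, hx0⟩ := Module.finrank_pos_iff_exists_ne_zero.1 hpos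
  refine ⟨hB.tv x 1, hB.tv_mem_Sp x 1, ?_⟩
  rintro ⟨α, β, hαβ⟩
  -- `g (θ w) = α • g w + β • θ (g w)`
  have key : ∀ w, hB.tv x 1 (θ w) = α • hB.tv x 1 w + β • θ (hB.tv x 1 w) := by
    intro w
    have := hαβ (hB.tv x 1 w)
    rw [cjL_apply, LinearEquiv.symm_apply_apply] at this
    exact this
  -- a non-zero vector orthogonal to the `θ`-line of `x`
  have hd2 := finrank_Kl_le θ x
  obtain ⟨w, hw, hw0⟩ := hB.exists_orth_not_mem (Kl θ x) ⊥ (by rw [finrank_bot]; omega)
  have hw0' : w ≠ 0 := fun h0 => hw0 (by rw [h0]; exact Submodule.zero_mem _)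
  have hw' := hB.mem_orthogonal.1 hw
  have e1 : B w x = 0 := hw' x (self_mem_Kl θ x)
  have e2 : B (θ w) x = 0 := by
    rw [h.adj, neg_eq_zero]; exact hw' (θ x) (th_mem_Kl θ x)
  have k1 := key w
  rw [SympData.tv_apply, SympData.tv_apply, e1, e2, mul_zero, zero_smul, add_zero, add_zero]
    at k1
  have k2 : α • w + (β - 1) • θ w = 0 := by
    have : α • w + (β - 1) • θ w = (α • w + β • θ w) - θ w := by module
    rw [this, ← k1, sub_self]
  obtain ⟨hα, hβ⟩ := hu.kv_inj hw0' k2
  have hβ1 : β = 1 := sub_eq_zero.1 hβ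
  -- a vector not orthogonal to `x`
  obtain ⟨w₂, hw₂⟩ : ∃ w₂, B w₂ x ≠ 0 := by
    by_contra hcon
    push Not at hcon
    apply hx0
    apply hB.nondeg
    intro y
    rw [hB.skew, hcon y, neg_zero]
  have k3 := key w₂
  rw [hα, hβ1, zero_smul, zero_add, one_smul, SympData.tv_apply, SympData.tv_apply, map_add,
    map_smul] at k3
  have k4 : (1 * B (θ w₂) x) • x + (-(1 * B w₂ x)) • θ x = 0 := by
    have : (1 * B (θ w₂) x) • x + (-(1 * B w₂ x)) • θ x =
        (θ w₂ + (1 * B (θ w₂) x) • x) - (θ w₂ + (1 * B w₂ x) • θ x) := by module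
    rw [this, k3, sub_self]
  obtain ⟨-, h6⟩ := hu.kv_inj hx0 k4
  apply hw₂
  rw [one_mul, neg_eq_zero] at h6
  exact h6

/-- **Maximality of the normaliser of a unitary overfield** in `Sp(B)`. -/
theorem su_isMaximalIn [Finite F] [FiniteDimensional F V] (h : SUData B θ ν) (hB : SympData B)
    (h14 : 14 ≤ finrank F V) (S : Subgroup (V ≃ₗ[F] V))
    (hS : ∀ g : V ≃ₗ[F] V, g ∈ S ↔ ∀ k : V →ₗ[F] V, IsK θ k ↔ IsK θ (cjL g k)) :
    Cfsg.Geo.IsMaximalIn (SympData.Sp B) (S ⊓ SympData.Sp B) := by
  have hu := h.ufdata hB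
  refine ⟨lt_of_le_of_ne inf_le_right ?_, fun M h1 h2 => ?_⟩
  · intro heq
    obtain ⟨g, hg, hgK⟩ := h.exists_not_isK hB h14
    have hgS : g ∈ S := by
      have : g ∈ S ⊓ SympData.Sp B := by rw [heq]; exact hg
      exact this.1
    exact hgK (((hS g).1 hgS θ).1 (isK_theta θ))
  · by_cases hMN : M ≤ S ⊓ SympData.Sp B
    · left; exact le_antisymm hMN h1
    · right
      apply le_antisymm h2
      obtain ⟨g, hgM, hgN⟩ := SetLike.not_le_iff_exists.1 hMN
      have hgSp : g ∈ SympData.Sp B := h2 hgM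
      have hgS : g ∉ S := fun hmem => hgN ⟨hmem, hgSp⟩
      have hM1 : ∀ g ∈ SympData.Sp B, (∀ z, g (θ z) = θ (g z)) → g ∈ M := by
        intro g hg hcomm
        apply h1
        refine ⟨?_, hg⟩
        show g ∈ S
        rw [hS]
        have e1 : ∀ z, cjL g θ z = θ z := by
          intro z
          rw [cjL_apply, hcomm, LinearEquiv.apply_symm_apply]
        have e2 : ∀ z, cjL g.symm θ z = θ z := by
          intro z
          rw [cjL_apply, LinearEquiv.symm_symm]
          apply g.injective
          rw [LinearEquiv.apply_symm_apply, hcomm]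
        exact normalises_of_isK _ ((isK_congr e1).2 (isK_theta θ))
          ((isK_congr e2).2 (isK_theta θ))
      -- the key step for an element with `g⁻¹ θ g ∉ F[θ]`
      have main : ∀ g : V ≃ₗ[F] V, g ∈ M → ¬ IsK θ (cjL g.symm θ) → SympData.Sp B ≤ M := by
        intro g hgM hc
        have hgSp : g ∈ SympData.Sp B := h2 hgM
        have hex : ∃ a, suQ B θ a = 0 ∧ cjL g.symm θ a ∉ Kl θ a := by
          by_contra hcon
          push Not at hcon
          exact hc (isK_of_lines hu (h.nondeg_suQ hB) (by omega) _ hcon)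
        obtain ⟨a, hQa, hna⟩ := hex
        rw [suQ_apply] at hQa
        apply h.Sp_le_of_moved hB M hM1 h14 hgM hgSp hQa
        intro hm
        apply hna
        obtain ⟨α, β, hαβ⟩ := Submodule.mem_span_pair.1 hm
        rw [cjL_apply, LinearEquiv.symm_symm, ← hαβ, map_add, map_smul, map_smul,
          LinearEquiv.symm_apply_apply, LinearEquiv.symm_apply_apply]
        exact mem_Kl.2 ⟨α, β, rfl⟩
      by_cases hc2 : IsK θ (cjL g.symm θ)
      · by_cases hc1 : IsK θ (cjL g θ)
        · exfalso
          apply hgS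
          rw [hS]
          exact normalises_of_isK _ hc1 hc2
        · have hinv : g⁻¹ ∈ M := M.inv_mem hgM
          apply main g⁻¹ hinv
          intro hk
          apply hc1
          exact hk
      · exact main g hgM hc2

end SUData

end su6

end Cfsg.Agent.Lib.Helper94
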