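/-
Helper94: bridge from the Prelude's vocabulary (a field subalgebra `K` of degree 2 of the matrix
algebra, adjoint-closed, not self-adjoint, rescaling `Q`) to the abstract `UFData`.
-/
import Mathlib
import Cfsg.Prelude.Def_GeometricClasses
import Cfsg.Agent.Lib.Helper94.UF7
import Cfsg.Agent.Lib.Helper94.OrthBridge
import Cfsg.Agent.Lib.Helper94.OrthSiegel

set_option autoImplicit false
set_option linter.unusedSimpArgs false
set_option linter.unusedVariables false
set_option linter.unusedSectionVars false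

namespace Cfsg.Agent.Lib.Helper94

open scoped MatrixGroups Matrix
open LinearMap (BilinForm)
open Module

section ufbridge
variable {ι : Type} [Fintype ι] [DecidableEq ι] {F : Type*} [Field F]

/-- a generator of a field subalgebra of degree 2 -/
lemma exists_gen [Nonempty ι] (K : Subalgebra F (Matrix ι ι F))
    (hK : Cfsg.Geo.IsFieldSubalgebra 2 K) :
    ∃ θ ∈ K, θ ∉ Submodule.span F {(1 : Matrix ι ι F)} ∧
      ∀ k ∈ K, ∃ α β : F, k = α • (1 : Matrix ι ι F) + β • θ := by
  have hfin : finrank F ↥(Subalgebra.toSubmodule K) = 2 := by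
    rw [Subalgebra.finrank_toSubmodule]; exact hK.finrank_eq
  have h1ne : (1 : Matrix ι ι F) ≠ 0 := one_ne_zero
  have hs1 : finrank F ↥(Submodule.span F {(1 : Matrix ι ι F)}) = 1 :=
    finrank_span_singleton h1ne
  have hex : ∃ θ ∈ K, θ ∉ Submodule.span F {(1 : Matrix ι ι F)} := by
    by_contra hcon
    push Not at hcon
    have hle : Subalgebra.toSubmodule K ≤ Submodule.span F {(1 : Matrix ι ι F)} :=
      fun x hx => hcon x hx
    have := Submodule.finrank_mono hle
    omega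
  obtain ⟨θ, hθK, hθ1⟩ := hex
  refine ⟨θ, hθK, hθ1, ?_⟩
  set W := Submodule.span F {(1 : Matrix ι ι F)} ⊔ Submodule.span F {θ} with hW
  have hWle : W ≤ Subalgebra.toSubmodule K := by
    rw [hW, sup_le_iff, Submodule.span_le, Submodule.span_le]
    constructor
    · intro x hx
      rw [Set.mem_singleton_iff.1 hx]; exact K.one_mem
    · intro x hx
      rw [Set.mem_singleton_iff.1 hx]; exact hθK
  have hWd : finrank F W = 2 := by
    rw [hW, Cfsg.Agent.Lib.Helper44.finrank_sup_span_of_not_mem _ θ hθ1, hs1]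
  have hWeq : W = Subalgebra.toSubmodule K :=
    Submodule.eq_of_le_of_finrank_eq hWle (by rw [hWd, hfin])
  intro k hk
  have hkW : k ∈ W := by rw [hWeq]; exact hk
  obtain ⟨y, hy, z, hz, hyz⟩ := Submodule.mem_sup.1 hkW
  obtain ⟨α, rfl⟩ := Submodule.mem_span_singleton.1 hy
  obtain ⟨β, rfl⟩ := Submodule.mem_span_singleton.1 hz
  exact ⟨α, β, hyz.symm⟩

/-- a field subalgebra has no zero divisors -/
lemma eq_zero_of_mul_eq_zero_K {r : ℕ} (K : Subalgebra F (Matrix ι ι F))
    (hK : Cfsg.Geo.IsFieldSubalgebra r K) {x y : Matrix ι ι F} (hx : x ∈ K) (hy : y ∈ K)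
    (hxy : x * y = 0) (hx0 : x ≠ 0) : y = 0 := by
  obtain ⟨x', hx', hxx'⟩ := hK.inv x hx hx0
  have h1 : x' * x = 1 := by rw [hK.comm x' hx' x hx]; exact hxx'
  calc y = (x' * x) * y := by rw [h1, one_mul]
    _ = x' * (x * y) := mul_assoc _ _ _
    _ = 0 := by rw [hxy, mul_zero]

/-- two vectors with the same pairings against everything are equal -/
lemma eq_of_polar_eq {Q : (ι → F) → F} (hQ : Cfsg.Geo.IsNondegenerateQuadraticForm Q)
    {x y : ι → F} (hxy : ∀ u, polarBilin hQ u x = polarBilin hQ u y) : x = y := by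
  have hD := quadData_polarBilin hQ
  rw [← sub_eq_zero]
  apply nondeg_polarBilin hQ
  intro u
  rw [hD.symm, map_sub, hxy u, sub_self]

/-- the unitary-overfield data extracted from the Prelude's hypotheses -/
theorem exists_ufdata [Nonempty ι] {Q : (ι → F) → F}
    (hQ : Cfsg.Geo.IsNondegenerateQuadraticForm Q) (K : Subalgebra F (Matrix ι ι F))
    (hK : Cfsg.Geo.IsFieldSubalgebra 2 K)
    (hac : Cfsg.Geo.IsAdjointClosedFor (QuadraticMap.polar Q) K)
    (hnsa : ¬ Cfsg.Geo.IsSelfAdjointFor (QuadraticMap.polar Q) K)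
    (hsc : ∀ k ∈ K, ∃ c : F, ∀ v : ι → F, Q (Matrix.mulVec k v) = c * Q v) :
    ∃ (θ : Matrix ι ι F) (t ν : F), θ ∈ K ∧
      (∀ k ∈ K, ∃ α β : F, k = α • (1 : Matrix ι ι F) + β • θ) ∧
      UFData (quadData_polarBilin hQ).toQF (Matrix.toLin' θ) t ν := by
  have hD := quadData_polarBilin hQ
  obtain ⟨θ, hθK, hθ1, hspan⟩ := exists_gen K hK
  obtain ⟨a, t, hsq0⟩ := hspan (θ * θ) (K.mul_mem hθK hθK)
  obtain ⟨ν, hν⟩ : ∃ ν : F, ν = -a := ⟨_, rfl⟩
  have hsq : θ * θ = t • θ - ν • (1 : Matrix ι ι F) := by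
    rw [hsq0, hν]; simp [sub_eq_add_neg, add_comm]
  set B := polarBilin hQ with hB
  have hBpol : ∀ u v, QuadraticMap.polar Q u v = B u v := fun u v => rfl
  -- irreducibility
  have hirr : ∀ c : F, c ^ 2 - t * c + ν ≠ 0 := by
    intro c hc
    have hx : θ - c • (1 : Matrix ι ι F) ∈ K := K.sub_mem hθK (K.smul_mem K.one_mem c)
    have hy : θ - (t - c) • (1 : Matrix ι ι F) ∈ K := K.sub_mem hθK (K.smul_mem K.one_mem _)
    have hx0 : θ - c • (1 : Matrix ι ι F) ≠ 0 := by
      intro h0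
      apply hθ1
      rw [sub_eq_zero.1 h0]
      exact Submodule.smul_mem _ _ (Submodule.mem_span_singleton_self _)
    have hprod : (θ - c • (1 : Matrix ι ι F)) * (θ - (t - c) • (1 : Matrix ι ι F)) = 0 := by
      have : (θ - c • (1 : Matrix ι ι F)) * (θ - (t - c) • (1 : Matrix ι ι F)) =
          θ * θ - t • θ + (c * (t - c)) • (1 : Matrix ι ι F) := by
        simp only [sub_mul, mul_sub, smul_mul_assoc, mul_smul_comm, one_mul, mul_one]
        module
      rw [this, hsq]
      have h2 : c * (t - c) = ν := by linear_combination (-1 : F) * hc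
      rw [h2]
      abel
    have hy0 := eq_zero_of_mul_eq_zero_K K hK hx hy hprod hx0
    apply hθ1
    rw [sub_eq_zero.1 hy0]
    exact Submodule.smul_mem _ _ (Submodule.mem_span_singleton_self _)
  -- the adjoint of θ
  obtain ⟨θ', hθ'K, hadj⟩ := hac θ hθK
  have hadj' : ∀ u v, B (θ *ᵥ u) v = B u (θ' *ᵥ v) := hadj
  have hsq' : θ' * θ' = t • θ' - ν • (1 : Matrix ι ι F) := by
    apply Matrix.toLin'.injective
    apply LinearMap.ext
    intro v
    rw [Matrix.toLin'_apply, Matrix.toLin'_apply]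
    apply eq_of_polar_eq hQ
    intro u
    rw [← Matrix.mulVec_mulVec, ← hB, ← hadj', ← hadj', Matrix.mulVec_mulVec, hsq,
      Matrix.sub_mulVec, Matrix.sub_mulVec, Matrix.smul_mulVec, Matrix.smul_mulVec,
      Matrix.smul_mulVec, Matrix.smul_mulVec, Matrix.one_mulVec, Matrix.one_mulVec, map_sub,
      map_sub, map_smul, map_smul, map_smul, map_smul, LinearMap.sub_apply, LinearMap.smul_apply,
      LinearMap.smul_apply, hadj']
  have hθ'eq : θ' = t • (1 : Matrix ι ι F) - θ := by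
    have hx : θ' - θ ∈ K := K.sub_mem hθ'K hθK
    have hy : θ' - (t • (1 : Matrix ι ι F) - θ) ∈ K :=
      K.sub_mem hθ'K (K.sub_mem (K.smul_mem K.one_mem t) hθK)
    have hcomm : θ' * θ = θ * θ' := hK.comm θ' hθ'K θ hθK
    have hprod : (θ' - θ) * (θ' - (t • (1 : Matrix ι ι F) - θ)) = 0 := by
      have : (θ' - θ) * (θ' - (t • (1 : Matrix ι ι F) - θ)) =
          (θ' * θ' - t • θ') + (t • θ - θ * θ) + (θ' * θ - θ * θ') := by
        simp only [sub_mul, mul_sub, smul_mul_assoc, mul_smul_comm, one_mul, mul_one]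
        module
      rw [this, hsq', hsq, hcomm]
      abel
    by_cases hx0 : θ' - θ = 0
    · exfalso
      apply hnsa
      intro k hk u v
      obtain ⟨α, β, rfl⟩ := hspan k hk
      have e : θ' = θ := sub_eq_zero.1 hx0
      rw [hBpol, hBpol, Matrix.add_mulVec, Matrix.add_mulVec, Matrix.smul_mulVec,
        Matrix.smul_mulVec, Matrix.smul_mulVec, Matrix.smul_mulVec, Matrix.one_mulVec,
        Matrix.one_mulVec, map_add, map_add, map_smul, map_smul, map_smul, map_smul,
        LinearMap.add_apply, LinearMap.smul_apply, LinearMap.smul_apply, hadj', e]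
    · exact sub_eq_zero.1 (eq_zero_of_mul_eq_zero_K K hK hx hy hprod hx0)
  have hadjθ : ∀ u v, B (θ *ᵥ u) v = t * B u v - B u (θ *ᵥ v) := by
    intro u v
    rw [hadj', hθ'eq, Matrix.sub_mulVec, Matrix.smul_mulVec, Matrix.one_mulVec, map_sub,
      map_smul, smul_eq_mul]
  have hθθ : ∀ v : ι → F, θ *ᵥ (θ *ᵥ v) = t • (θ *ᵥ v) - ν • v := by
    intro v
    rw [Matrix.mulVec_mulVec, hsq, Matrix.sub_mulVec, Matrix.smul_mulVec, Matrix.smul_mulVec,
      Matrix.one_mulVec]
  have hBθθ : ∀ u v, B (θ *ᵥ u) (θ *ᵥ v) = ν * B u v := by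
    intro u v
    rw [hadjθ, hθθ, map_sub, map_smul, map_smul, smul_eq_mul, smul_eq_mul]
    ring
  -- a pair with non-zero pairing
  obtain ⟨u₀, v₀, huv⟩ : ∃ u₀ v₀ : ι → F, B u₀ v₀ ≠ 0 := by
    obtain ⟨i⟩ := (inferInstance : Nonempty ι)
    have hne : (Pi.single i (1 : F) : ι → F) ≠ 0 := by
      intro h0
      have := congrFun h0 i
      simp at this
    by_contra hcon
    push Not at hcon
    exact hne (nondeg_polarBilin hQ _ (fun y => hcon _ y))
  -- the norm
  obtain ⟨c, hc⟩ := hsc θ hθK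
  have hcν : c = ν := by
    have h1 : B (θ *ᵥ u₀) (θ *ᵥ v₀) = c * B u₀ v₀ := by
      rw [← hBpol, ← hBpol]
      unfold QuadraticMap.polar
      rw [← Matrix.mulVec_add, hc, hc, hc]
      ring
    rw [hBθθ] at h1
    have h2 : (ν - c) * B u₀ v₀ = 0 := by linear_combination h1
    rcases mul_eq_zero.1 h2 with h3 | h3
    · exact (sub_eq_zero.1 h3).symm
    · exact absurd h3 huv
  have hnorm : ∀ v, Q (θ *ᵥ v) = ν * Q v := fun v => by rw [hc, hcν]
  -- the trace
  obtain ⟨c', hc'⟩ := hsc (1 + θ) (K.add_mem K.one_mem hθK)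
  have hc'' : ∀ v : ι → F, Q (v + θ *ᵥ v) = c' * Q v := by
    intro v
    have := hc' v
    rwa [Matrix.add_mulVec, Matrix.one_mulVec] at this
  have hc'eq : c' = 1 + t + ν := by
    have h1 : B (u₀ + θ *ᵥ u₀) (v₀ + θ *ᵥ v₀) = c' * B u₀ v₀ := by
      rw [← hBpol, ← hBpol]
      unfold QuadraticMap.polar
      have : u₀ + θ *ᵥ u₀ + (v₀ + θ *ᵥ v₀) = (u₀ + v₀) + θ *ᵥ (u₀ + v₀) := by
        rw [Matrix.mulVec_add]; abel
      rw [this, hc'', hc'', hc'']
      ring
    have h2 : B (u₀ + θ *ᵥ u₀) (v₀ + θ *ᵥ v₀) = (1 + t + ν) * B u₀ v₀ := by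
      rw [map_add, map_add, LinearMap.add_apply, LinearMap.add_apply, hBθθ, hadjθ]
      ring
    rw [h2] at h1
    have h3 : (1 + t + ν - c') * B u₀ v₀ = 0 := by linear_combination h1
    rcases mul_eq_zero.1 h3 with h4 | h4
    · exact (sub_eq_zero.1 h4).symm
    · exact absurd h4 huv
  have htr : ∀ v, B v (θ *ᵥ v) = t * Q v := by
    intro v
    have h1 := hc'' v
    rw [hD.polar, hnorm, hc'eq] at h1
    linear_combination h1
  refine ⟨θ, t, ν, hθK, hspan, ?_⟩
  constructor
  · intro v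
    rw [Matrix.toLin'_apply, Matrix.toLin'_apply, hθθ]
  · intro u v
    rw [hD.polar_toQF, hD.polar_toQF, hD.polar_toQF, Matrix.toLin'_apply, Matrix.toLin'_apply]
    exact hadjθ u v
  · intro v
    rw [Matrix.toLin'_apply]
    exact hnorm v
  · intro v
    rw [hD.polar_toQF, Matrix.toLin'_apply]
    exact htr v
  · exact hirr

end ufbridge

end Cfsg.Agent.Lib.Helper94
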