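/-
Helper94: bridge for the normaliser of a field subalgebra `K = F[θ]` of the matrix algebra, and the
concrete maximality theorem for the unitary overfield normaliser in `Ω(Q)`.
-/
import Mathlib
import Cfsg.Prelude.Def_GeometricClasses
import Cfsg.Agent.Lib.Helper94.UFBridge

set_option autoImplicit false
set_option linter.unusedSimpArgs false
set_option linter.unusedVariables false
set_option linter.unusedSectionVars false

namespace Cfsg.Agent.Lib.Helper94

open scoped MatrixGroups Matrix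
open LinearMap (BilinForm)
open Module

section ufbridge2
variable {ι : Type} [Fintype ι] [DecidableEq ι] {F : Type*} [Field F]

lemma mem_K_iff_isK (K : Subalgebra F (Matrix ι ι F)) (θ : Matrix ι ι F) (hθK : θ ∈ K)
    (hspan : ∀ k ∈ K, ∃ α β : F, k = α • (1 : Matrix ι ι F) + β • θ) (m : Matrix ι ι F) :
    m ∈ K ↔ IsK (Matrix.toLin' θ) (Matrix.toLin' m) := by
  constructor
  · intro hm
    obtain ⟨α, β, rfl⟩ := hspan m hm
    refine ⟨α, β, fun z => ?_⟩
    rw [Matrix.toLin'_apply, Matrix.toLin'_apply, Matrix.add_mulVec, Matrix.smul_mulVec,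
      Matrix.smul_mulVec, Matrix.one_mulVec]
  · rintro ⟨α, β, h⟩
    have : m = α • (1 : Matrix ι ι F) + β • θ := by
      apply Matrix.toLin'.injective
      apply LinearMap.ext
      intro z
      rw [h z, Matrix.toLin'_apply, Matrix.toLin'_apply, Matrix.add_mulVec, Matrix.smul_mulVec,
        Matrix.smul_mulVec, Matrix.one_mulVec]
    rw [this]
    exact K.add_mem (K.smul_mem K.one_mem α) (K.smul_mem hθK β)

lemma toLin'_conj (g : (ι → F) ≃ₗ[F] (ι → F)) (m : Matrix ι ι F) (z : ι → F) :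
    Matrix.toLin' ((((glEquiv ι F).symm g : GL ι F) : Matrix ι ι F) * m *
      ((((glEquiv ι F).symm g)⁻¹ : GL ι F) : Matrix ι ι F)) z = cjL g (Matrix.toLin' m) z := by
  have hinv : (((glEquiv ι F).symm g)⁻¹ : GL ι F) = (glEquiv ι F).symm g⁻¹ := (map_inv _ _).symm
  rw [Matrix.toLin'_apply, ← Matrix.mulVec_mulVec, ← Matrix.mulVec_mulVec, hinv,
    glEquiv_symm_mulVec, glEquiv_symm_mulVec, cjL_apply, Matrix.toLin'_apply]
  rfl

/-- the image of the normaliser of `K = F[θ]` among the linear automorphisms -/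
theorem normalizer_bridge (K : Subalgebra F (Matrix ι ι F)) (θ : Matrix ι ι F) (hθK : θ ∈ K)
    (hspan : ∀ k ∈ K, ∃ α β : F, k = α • (1 : Matrix ι ι F) + β • θ)
    (g : (ι → F) ≃ₗ[F] (ι → F)) :
    g ∈ (Cfsg.Geo.subalgebraNormalizer K).map (glEquiv ι F).toMonoidHom ↔
      ∀ k : (ι → F) →ₗ[F] (ι → F),
        IsK (Matrix.toLin' θ) k ↔ IsK (Matrix.toLin' θ) (cjL g k) := by
  rw [Subgroup.mem_map_equiv]
  have hmem : (glEquiv ι F).symm g ∈ Cfsg.Geo.subalgebraNormalizer K ↔
      ∀ k : Matrix ι ι F, k ∈ K ↔ (((glEquiv ι F).symm g : GL ι F) : Matrix ι ι F) * k *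
        ((((glEquiv ι F).symm g)⁻¹ : GL ι F) : Matrix ι ι F) ∈ K := Iff.rfl
  rw [hmem]
  have hKiff := mem_K_iff_isK K θ hθK hspan
  constructor
  · intro hN k
    have hk : Matrix.toLin' (LinearMap.toMatrix' k) = k := Matrix.toLin'_toMatrix' k
    rw [← hk, ← hKiff, hN, hKiff]
    exact isK_congr (toLin'_conj g _)
  · intro h m
    rw [hKiff, h, hKiff]
    exact (isK_congr (toLin'_conj g m)).symm

/-- **Maximality of the normaliser of a unitary overfield** in `Ω(Q)`, concrete form. -/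
theorem unitary_overfield_isMaximalIn [Fintype F] {n : ℕ} (hn : 13 ≤ n) (Q : (Fin n → F) → F)
    (hQ : Cfsg.Geo.IsNondegenerateQuadraticForm Q) (K : Subalgebra F (Matrix (Fin n) (Fin n) F))
    (hK : Cfsg.Geo.IsFieldSubalgebra 2 K)
    (hac : Cfsg.Geo.IsAdjointClosedFor (QuadraticMap.polar Q) K)
    (hnsa : ¬ Cfsg.Geo.IsSelfAdjointFor (QuadraticMap.polar Q) K)
    (hsc : ∀ k ∈ K, ∃ c : F, ∀ v : (Fin n → F), Q (Matrix.mulVec k v) = c * Q v) :
    Cfsg.Geo.IsMaximalIn (Cfsg.Geo.omegaGL Q)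
      (Cfsg.Geo.subalgebraNormalizer K ⊓ Cfsg.Geo.omegaGL Q) := by
  classical
  have hne : Nonempty (Fin n) := ⟨⟨0, by omega⟩⟩
  have hD := quadData_polarBilin hQ
  have hnd := nondeg_polarBilin hQ
  have hfr : Module.finrank F (Fin n → F) = n := Module.finrank_fin_fun F
  apply isMaximalIn_of_map (glEquiv (Fin n) F)
  rw [map_inf_equiv, map_omegaGL]
  have hOG : OG Q = Cfsg.Agent.Lib.Helper36.isoGroup hD.toQF := by
    ext g; exact Iff.rfl
  rw [hOG]
  obtain ⟨θ, t, ν, hθK, hspan, hUF⟩ := exists_ufdata hQ K hK hac hnsa hsc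
  exact uf_isMaximalIn hD.toQF (hD.nondeg_toQF hnd) (by rw [hfr]; exact hn) (Matrix.toLin' θ) t ν
    hUF _ (normalizer_bridge K θ hθK hspan)

end ufbridge2

end Cfsg.Agent.Lib.Helper94
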