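/-
Helper94: bridge for the unitary overfield normaliser in `Sp_{2m}(F)` (odd characteristic):
from the Prelude's hypotheses on the subalgebra `K` to `SUData`, and the concrete maximality
theorem.
-/
import Mathlib
import Cfsg.Prelude.Def_GeometricClasses
import Cfsg.Agent.Lib.Helper94.SU6
import Cfsg.Agent.Lib.Helper94.UFBridge2
import Cfsg.Agent.Lib.Helper94.SympBridge

set_option autoImplicit false
set_option linter.unusedSimpArgs false
set_option linter.unusedVariables false
set_option linter.unusedSectionVars false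

namespace Cfsg.Agent.Lib.Helper94

open scoped MatrixGroups Matrix
open LinearMap (BilinForm)
open Module

section subridge
variable {ι : Type} [Fintype ι] [DecidableEq ι] {F : Type*} [Field F]

/-- a finite field of odd order has `2 ≠ 0` -/
lemma su_two_ne_zero [Fintype F] (hodd : Odd (Fintype.card F)) : (2 : F) ≠ 0 := by
  intro h2
  have h1 : ringChar F ∣ 2 := ringChar.dvd (by exact_mod_cast h2)
  have h3 : ringChar F = 2 := by
    rcases (Nat.dvd_prime Nat.prime_two).1 h1 with h | h
    · exact absurd h CharP.ringChar_ne_one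
    · exact h
  have := FiniteField.even_card_of_char_two h3
  rcases hodd with ⟨k, hk⟩
  omega

/-- any element outside the scalars generates a field subalgebra of degree 2 -/
lemma gen_of_not_mem (K : Subalgebra F (Matrix ι ι F)) (hK : Cfsg.Geo.IsFieldSubalgebra 2 K)
    {θ : Matrix ι ι F} (hθK : θ ∈ K) (hθ1 : θ ∉ Submodule.span F {(1 : Matrix ι ι F)})
    (h1ne : (1 : Matrix ι ι F) ≠ 0) :
    ∀ k ∈ K, ∃ α β : F, k = α • (1 : Matrix ι ι F) + β • θ := by
  have hfin : finrank F ↥(Subalgebra.toSubmodule K) = 2 := by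
    rw [Subalgebra.finrank_toSubmodule]; exact hK.finrank_eq
  have hs1 : finrank F ↥(Submodule.span F {(1 : Matrix ι ι F)}) = 1 :=
    finrank_span_singleton h1ne
  set W := Submodule.span F {(1 : Matrix ι ι F)} ⊔ Submodule.span F {θ} with hW
  have hWle : W ≤ Subalgebra.toSubmodule K := by
    rw [hW, sup_le_iff, Submodule.span_le, Submodule.span_le]
    constructor
    · intro x hx
      rw [Set.mem_singleton_iff.1 hx]; exact K.one_mem
    · intro x hx
      rw [Set.mem_singleton_iff.1 hx]; exact hθK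
  have hWd : finrank F W = 2 := by
    rw [hW, Cfsg.Agent.Lib.Helper44.finrank_sup_span_of_not_mem _ θ hθ1, hs1]
  have hWeq : W = Subalgebra.toSubmodule K :=
    Submodule.eq_of_le_of_finrank_eq hWle (by rw [hWd, hfin])
  intro k hk
  have hkW : k ∈ W := by rw [hWeq]; exact hk
  obtain ⟨y, hy, z, hz, hyz⟩ := Submodule.mem_sup.1 hkW
  obtain ⟨α, rfl⟩ := Submodule.mem_span_singleton.1 hy
  obtain ⟨β, rfl⟩ := Submodule.mem_span_singleton.1 hz
  exact ⟨α, β, hyz.symm⟩

/-- the unitary-overfield data extracted from the Prelude's hypotheses, symplectic case -/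
theorem exists_sudata [Nonempty ι] {B : BilinForm F (ι → F)} (hB : SympData B)
    (h2 : (2 : F) ≠ 0) {f : (ι → F) → (ι → F) → F} (hf : ∀ u v, f u v = B u v)
    (K : Subalgebra F (Matrix ι ι F)) (hK : Cfsg.Geo.IsFieldSubalgebra 2 K)
    (hac : Cfsg.Geo.IsAdjointClosedFor f K) (hnsa : ¬ Cfsg.Geo.IsSelfAdjointFor f K) :
    ∃ (θ : Matrix ι ι F) (ν : F), θ ∈ K ∧
      (∀ k ∈ K, ∃ α β : F, k = α • (1 : Matrix ι ι F) + β • θ) ∧
      SUData B (Matrix.toLin' θ) ν := by
  have h1ne : (1 : Matrix ι ι F) ≠ 0 := one_ne_zero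
  -- a non-self-adjoint element
  obtain ⟨k, hkK, hk⟩ : ∃ k ∈ K, ¬ ∀ u v : ι → F, f (k *ᵥ u) v = f u (k *ᵥ v) := by
    by_contra hcon
    push Not at hcon
    exact hnsa hcon
  obtain ⟨k', hk'K, hadj⟩ := hac k hkK
  have hadjB : ∀ u v, B (k *ᵥ u) v = B u (k' *ᵥ v) := by
    intro u v; rw [← hf, ← hf]; exact hadj u v
  have hadjB' : ∀ u v, B (k' *ᵥ u) v = B u (k *ᵥ v) := by
    intro u v
    rw [hB.skew, ← hadjB, hB.skew, neg_neg]
  set θ : Matrix ι ι F := k - k' with hθ
  have hθK : θ ∈ K := K.sub_mem hkK hk'K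
  have hθadj : ∀ u v, B (θ *ᵥ u) v = - B u (θ *ᵥ v) := by
    intro u v
    rw [hθ, Matrix.sub_mulVec, Matrix.sub_mulVec, map_sub, map_sub, LinearMap.sub_apply, hadjB,
      hadjB']
    ring
  have hθ0 : θ ≠ 0 := by
    intro h0
    apply hk
    intro u v
    rw [hf, hf, hadjB, ← sub_eq_zero.1 h0]
  -- `θ` is not a scalar
  have hθ1 : θ ∉ Submodule.span F {(1 : Matrix ι ι F)} := by
    intro hm
    obtain ⟨c, hc⟩ := Submodule.mem_span_singleton.1 hm
    have hc0 : c = 0 := by
      by_contra hne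
      obtain ⟨i⟩ := (inferInstance : Nonempty ι)
      have hx : (Pi.single i (1 : F) : ι → F) ≠ 0 := by
        intro h0
        have := congrFun h0 i
        simp at this
      obtain ⟨y, hy⟩ : ∃ y, B (Pi.single i (1 : F)) y ≠ 0 := by
        by_contra hcon
        push Not at hcon
        exact hx (hB.nondeg _ hcon)
      have := hθadj (Pi.single i (1 : F)) y
      rw [← hc, Matrix.smul_mulVec, Matrix.smul_mulVec, Matrix.one_mulVec, Matrix.one_mulVec,
        map_smul, map_smul, LinearMap.smul_apply] at this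
      simp only [smul_eq_mul] at this
      have h3 : (2 * c) * B (Pi.single i (1 : F)) y = 0 := by linear_combination this
      rcases mul_eq_zero.1 h3 with h4 | h4
      · exact (mul_ne_zero h2 hne) h4
      · exact hy h4
    apply hθ0
    rw [← hc, hc0, zero_smul]
  have hspan := gen_of_not_mem K hK hθK hθ1 h1ne
  -- `θ² = ν`
  obtain ⟨ν, β, hsq0⟩ := hspan (θ * θ) (K.mul_mem hθK hθK)
  have hβ : β = 0 := by
    by_contra hne
    apply hθ0
    apply Matrix.toLin'.injective
    apply LinearMap.ext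
    intro u
    rw [Matrix.toLin'_apply, map_zero, LinearMap.zero_apply]
    apply hB.nondeg
    intro v
    have e1 : B ((θ * θ) *ᵥ u) v = B u ((θ * θ) *ᵥ v) := by
      rw [← Matrix.mulVec_mulVec, ← Matrix.mulVec_mulVec, hθadj, hθadj, neg_neg]
    rw [hsq0, Matrix.add_mulVec, Matrix.add_mulVec, Matrix.smul_mulVec, Matrix.smul_mulVec,
      Matrix.smul_mulVec, Matrix.smul_mulVec, Matrix.one_mulVec, Matrix.one_mulVec, map_add,
      map_add, map_smul, map_smul, map_smul, map_smul, LinearMap.add_apply, LinearMap.smul_apply,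
      LinearMap.smul_apply] at e1
    simp only [smul_eq_mul] at e1
    have e2 := hθadj u v
    have h3 : (2 * β) * B (θ *ᵥ u) v = 0 := by linear_combination e1 + β * e2
    rcases mul_eq_zero.1 h3 with h4 | h4
    · exact absurd h4 (mul_ne_zero h2 hne)
    · exact h4
  have hsq : θ * θ = ν • (1 : Matrix ι ι F) := by
    rw [hsq0, hβ, zero_smul, add_zero]
  refine ⟨θ, ν, hθK, hspan, ?_⟩
  constructor
  · intro v
    rw [Matrix.toLin'_apply, Matrix.toLin'_apply, Matrix.mulVec_mulVec, hsq, Matrix.smul_mulVec,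
      Matrix.one_mulVec]
  · intro u v
    rw [Matrix.toLin'_apply, Matrix.toLin'_apply]
    exact hθadj u v
  · intro c hc
    have hx : θ - c • (1 : Matrix ι ι F) ∈ K := K.sub_mem hθK (K.smul_mem K.one_mem c)
    have hy : θ + c • (1 : Matrix ι ι F) ∈ K := K.add_mem hθK (K.smul_mem K.one_mem c)
    have hx0 : θ - c • (1 : Matrix ι ι F) ≠ 0 := by
      intro h0
      apply hθ1
      rw [sub_eq_zero.1 h0]
      exact Submodule.smul_mem _ _ (Submodule.mem_span_singleton_self _)
    have hprod : (θ - c • (1 : Matrix ι ι F)) * (θ + c • (1 : Matrix ι ι F)) = 0 := by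
      have : (θ - c • (1 : Matrix ι ι F)) * (θ + c • (1 : Matrix ι ι F)) =
          θ * θ - (c ^ 2) • (1 : Matrix ι ι F) := by
        simp only [sub_mul, mul_add, smul_mul_assoc, mul_smul_comm, one_mul, mul_one]
        module
      rw [this, hsq, hc, sub_self]
    have hy0 := eq_zero_of_mul_eq_zero_K K hK hx hy hprod hx0
    apply hθ1
    rw [eq_neg_of_add_eq_zero_left hy0, ← neg_smul]
    exact Submodule.smul_mem _ _ (Submodule.mem_span_singleton_self _)
  · exact h2

/-- **Maximality of the normaliser of a unitary overfield** in `Sp_{2m}(F)`, concrete form. -/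
theorem symplectic_unitary_overfield_isMaximalIn [Fintype F] (m : ℕ) (hm : 7 ≤ m)
    (hodd : Odd (Fintype.card F))
    (K : Subalgebra F (Matrix (Fin m ⊕ Fin m) (Fin m ⊕ Fin m) F))
    (hK : Cfsg.Geo.IsFieldSubalgebra 2 K)
    (hac : Cfsg.Geo.IsAdjointClosedFor (Cfsg.sympForm m F) K)
    (hnsa : ¬ Cfsg.Geo.IsSelfAdjointFor (Cfsg.sympForm m F) K) :
    Cfsg.Geo.IsMaximalIn (Cfsg.spGL m F)
      (Cfsg.Geo.subalgebraNormalizer K ⊓ Cfsg.spGL m F) := by
  classical
  have hne : Nonempty (Fin m ⊕ Fin m) := ⟨Sum.inl ⟨0, by omega⟩⟩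
  have hB := sympData_sympBilin (F := F) m
  have h2 := su_two_ne_zero hodd
  have hfr : Module.finrank F (Fin m ⊕ Fin m → F) = m + m := by
    rw [Module.finrank_pi, Fintype.card_sum, Fintype.card_fin]
  apply isMaximalIn_of_map (glEquiv (Fin m ⊕ Fin m) F)
  rw [map_inf_equiv, map_spGL]
  obtain ⟨θ, ν, hθK, hspan, hSU⟩ := exists_sudata hB h2
    (fun u v => (sympBilin_apply m u v).symm) K hK hac hnsa
  exact hSU.su_isMaximalIn hB (by rw [hfr]; omega) _ (normalizer_bridge K θ hθK hspan)

end subridge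

end Cfsg.Agent.Lib.Helper94
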