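/-
helper94: S5658, part 9: tools for the dihedral trick in odd characteristic: the involution `-1`
on a hyperbolic plane, isotropic eigenvectors of rational involutions.
-/
import Mathlib
import Cfsg.Agent.Lib.Helper94.SUSub8

set_option autoImplicit false

namespace Cfsg.Agent.Lib.Helper94.SUSub

open Matrix Module Cfsg.Agent.S0837 Cfsg.Agent.S0781 Cfsg.Agent.S2644 Cfsg.Agent.Lib.Helper37
open Cfsg.Agent.Lib.Helper13 (rat rat_apply rat_add rat_smul rat_zero rat_neg rat_single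
  rat_injective mem_subfieldSubgroup_iff rat_mulVec hypDil hypDil_mulVec hypDil_det hypDil_hf
  vecMulVec_hf)

section negH
variable {K : Type*} [Field K] (σ : K →+* K) {n : ℕ}

/-- `-1` on the hyperbolic plane spanned by `e, f`, the identity on its orthogonal complement -/
def negH (e f : Fin n → K) : Matrix (Fin n) (Fin n) K := hypDil σ e f (-1) (-1)

theorem negH_mulVec {e f : Fin n → K} (h : HP σ e f) (x : Fin n → K) :
    negH σ e f *ᵥ x = x - (2 * hf σ x e) • f - (2 * hf σ x f) • e := by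
  unfold negH
  rw [hypDil_mulVec σ h]
  module

theorem negH_mul_self (hσ2 : ∀ a, σ (σ a) = a) {e f : Fin n → K} (h : HP σ e f) :
    negH σ e f * negH σ e f = 1 := by
  apply Matrix.toLin'.injective
  apply LinearMap.ext
  intro x
  rw [Matrix.toLin'_apply, ← mulVec_mulVec, negH_mulVec σ h, negH_mulVec σ h]
  simp only [hf_sub_left, hf_smul_left, h.uu, h.vv, h.vu, h.uv hσ2, Matrix.toLin'_one,
    LinearMap.id_coe, id_eq]
  module

theorem negH_hf (hσ2 : ∀ a, σ (σ a) = a) {e f : Fin n → K} (h : HP σ e f) (x y : Fin n → K) :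
    hf σ (negH σ e f *ᵥ x) (negH σ e f *ᵥ y) = hf σ x y :=
  hypDil_hf σ hσ2 h (-1) (-1) (by rw [map_neg, map_one]; ring) x y

theorem negH_det (hσ2 : ∀ a, σ (σ a) = a) {e f : Fin n → K} (h : HP σ e f) :
    (negH σ e f).det = 1 := by
  unfold negH
  rw [hypDil_det σ hσ2 h]
  ring

theorem trace_eq_sum_mulVec (Z : Matrix (Fin n) (Fin n) K) :
    Z.trace = ∑ i, (Z *ᵥ Pi.single i 1) i := by
  unfold Matrix.trace
  refine Finset.sum_congr rfl fun i _ => ?_
  rw [Matrix.mulVec_single_one]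
  rfl

theorem sum_single_hf (p q : Fin n → K) :
    ∑ i, hf σ (Pi.single i 1) p * q i = hf σ q p := by
  unfold hf
  refine Finset.sum_congr rfl fun i _ => ?_
  rw [Finset.sum_eq_single i]
  · simp [mul_comm]
  · intro j _ hj; simp [Pi.single_eq_of_ne hj]
  · simp

theorem negH_trace (hσ2 : ∀ a, σ (σ a) = a) {e f : Fin n → K} (h : HP σ e f) :
    (negH σ e f).trace = (n : K) - 4 := by
  rw [trace_eq_sum_mulVec]
  simp only [negH_mulVec σ h, Pi.sub_apply, Pi.smul_apply, smul_eq_mul, Pi.single_eq_same]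
  rw [Finset.sum_sub_distrib, Finset.sum_sub_distrib]
  simp only [mul_assoc, ← Finset.mul_sum, sum_single_hf σ, h.vu, h.uv hσ2]
  simp
  ring

/-- the product of two such involutions on orthogonal hyperbolic planes -/
theorem negH2_mulVec {e₁ f₁ e₂ f₂ : Fin n → K} (h₁ : HP σ e₁ f₁)
    (h₂ : HP σ e₂ f₂) (h1 : hf σ e₂ e₁ = 0) (h2 : hf σ e₂ f₁ = 0) (h3 : hf σ f₂ e₁ = 0)
    (h4 : hf σ f₂ f₁ = 0) (x : Fin n → K) :
    (negH σ e₁ f₁ * negH σ e₂ f₂) *ᵥ x = x - (2 * hf σ x e₁) • f₁ - (2 * hf σ x f₁) • e₁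
      - (2 * hf σ x e₂) • f₂ - (2 * hf σ x f₂) • e₂ := by
  rw [← mulVec_mulVec, negH_mulVec σ h₂, negH_mulVec σ h₁]
  simp only [hf_sub_left, hf_smul_left, h1, h2, h3, h4]
  module

theorem negH2_trace (hσ2 : ∀ a, σ (σ a) = a) {e₁ f₁ e₂ f₂ : Fin n → K} (h₁ : HP σ e₁ f₁)
    (h₂ : HP σ e₂ f₂) (h1 : hf σ e₂ e₁ = 0) (h2 : hf σ e₂ f₁ = 0) (h3 : hf σ f₂ e₁ = 0)
    (h4 : hf σ f₂ f₁ = 0) : (negH σ e₁ f₁ * negH σ e₂ f₂).trace = (n : K) - 8 := by
  rw [trace_eq_sum_mulVec]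
  simp only [negH2_mulVec σ h₁ h₂ h1 h2 h3 h4, Pi.sub_apply, Pi.smul_apply, smul_eq_mul,
    Pi.single_eq_same]
  simp only [Finset.sum_sub_distrib]
  simp only [mul_assoc, ← Finset.mul_sum, sum_single_hf σ, h₁.vu, h₁.uv hσ2, h₂.vu,
    h₂.uv hσ2]
  simp
  ring

end negH

section eigen
variable {K : Type*} [Field K] (σ : K →+* K) {n : ℕ}

/-- **An isotropic eigenvector for the eigenvalue `-1`** of an involution of determinant one. -/
theorem exists_sing_neg_eigen [Finite K] (hσ : σ ≠ RingHom.id K) (hσ2 : ∀ a, σ (σ a) = a)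
    (h2 : (2 : K) ≠ 0) (B : Matrix (Fin n) (Fin n) K)
    (hiso : ∀ x y, hf σ (B *ᵥ x) (B *ᵥ y) = hf σ x y) (hBB : B * B = 1) (hB1 : B ≠ 1)
    (hdet : B.det = 1) : ∃ s : Fin n → K, s ≠ 0 ∧ hf σ s s = 0 ∧ B *ᵥ s = -s := by
  have hBBv : ∀ x, B *ᵥ (B *ᵥ x) = x := fun x => by rw [mulVec_mulVec, hBB, one_mulVec]
  obtain ⟨w₁, hw₁⟩ : ∃ w₁, B *ᵥ w₁ ≠ w₁ := by
    by_contra hcon
    push Not at hcon
    apply hB1
    apply Matrix.toLin'.injective
    apply LinearMap.ext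
    intro x
    rw [Matrix.toLin'_apply, hcon x, Matrix.toLin'_one, LinearMap.id_apply]
  set v₁ := B *ᵥ w₁ - w₁ with hv₁
  have hv₁0 : v₁ ≠ 0 := sub_ne_zero.mpr hw₁
  have hBv₁ : B *ᵥ v₁ = -v₁ := by rw [hv₁, mulVec_sub, hBBv]; abel
  by_contra hno
  push Not at hno
  have hv₁v₁ : hf σ v₁ v₁ ≠ 0 := fun h0 => hno v₁ hv₁0 h0 hBv₁
  set c : K := -2 / hf σ v₁ v₁ with hc
  have hform : ∀ w, B *ᵥ w = w + (c * hf σ w v₁) • v₁ := by
    intro w
    set u := B *ᵥ w - w with hu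
    have hBu : B *ᵥ u = -u := by rw [hu, mulVec_sub, hBBv]; abel
    have huv₁ : hf σ u v₁ = -2 * hf σ w v₁ := by
      have h1 : hf σ (B *ᵥ w) v₁ = -hf σ w v₁ := by
        have := hiso (B *ᵥ w) v₁
        rw [hBBv, hBv₁, hf_neg_right'] at this
        rw [← this]
      rw [hu, hf_sub_left, h1]
      ring
    set u' := u - (hf σ u v₁ / hf σ v₁ v₁) • v₁ with hu'
    have hBu' : B *ᵥ u' = -u' := by
      rw [hu', mulVec_sub, mulVec_smul, hBu, hBv₁]
      module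
    have hu'v₁ : hf σ u' v₁ = 0 := by
      rw [hu', hf_sub_left, hf_smul_left, div_mul_cancel₀ _ hv₁v₁, sub_self]
    have hu'0 : u' = 0 := by
      by_contra hne
      obtain ⟨α, β, hne', hsing⟩ := exists_sing_pair σ hσ hσ2 hv₁0 (y := u') (by
        intro α hα
        rw [hα, hf_smul_left] at hu'v₁
        rcases mul_eq_zero.mp hu'v₁ with h3 | h3
        · rw [h3, zero_smul] at hα
          exact hne hα
        · exact hv₁v₁ h3)
      apply hno _ hne' hsing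
      rw [mulVec_add, mulVec_smul, mulVec_smul, hBv₁, hBu']
      module
    have h4 : u = (hf σ u v₁ / hf σ v₁ v₁) • v₁ := by
      rw [hu'] at hu'0
      exact sub_eq_zero.mp hu'0
    have h5 : B *ᵥ w = w + u := by rw [hu]; abel
    rw [h5, h4, huv₁, hc]
    congr 2
    field_simp
  have hBeq : B = 1 + vecMulVec (c • v₁) (σ ∘ v₁) := by
    apply Matrix.toLin'.injective
    apply LinearMap.ext
    intro x
    rw [Matrix.toLin'_apply, Matrix.toLin'_apply, hform x, Matrix.add_mulVec, Matrix.one_mulVec,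
      vecMulVec_hf, smul_smul, mul_comm]
  have hdet' : B.det = -1 := by
    rw [hBeq, vecMulVec_eq Unit, det_one_add_replicateCol_mul_replicateRow]
    have h1 : (σ ∘ v₁) ⬝ᵥ (c • v₁) = c * hf σ v₁ v₁ := by
      unfold hf dotProduct
      rw [Finset.mul_sum]
      refine Finset.sum_congr rfl fun i _ => ?_
      simp only [Function.comp_apply, Pi.smul_apply, smul_eq_mul]
      ring
    rw [h1, hc, div_mul_cancel₀ _ hv₁v₁]
    ring
  rw [hdet] at hdet'
  apply h2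
  linear_combination hdet'

/-- **An isotropic fixed vector** of an involution fixing a subspace of dimension at least two -/
theorem exists_sing_fixed [Finite K] (hσ : σ ≠ RingHom.id K) (hσ2 : ∀ a, σ (σ a) = a)
    (B : Matrix (Fin n) (Fin n) K) (hBB : B * B = 1)
    (hbig : ¬ ∃ v : Fin n → K, ∀ b : Fin n → K, B *ᵥ b = b → ∃ α : K, b = α • v) :
    ∃ s : Fin n → K, s ≠ 0 ∧ hf σ s s = 0 ∧ B *ᵥ s = s := by
  have hBBv : ∀ x, B *ᵥ (B *ᵥ x) = x := fun x => by rw [mulVec_mulVec, hBB, one_mulVec]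
  obtain ⟨b₁, hb₁, hb₁0⟩ : ∃ b₁ : Fin n → K, B *ᵥ b₁ = b₁ ∧ b₁ ≠ 0 := by
    by_contra hcon
    push Not at hcon
    apply hbig
    refine ⟨0, fun b hb => ⟨0, ?_⟩⟩
    rw [hcon b hb, smul_zero]
  obtain ⟨b₂, hb₂, hb₂i⟩ : ∃ b₂ : Fin n → K, B *ᵥ b₂ = b₂ ∧ ∀ α : K, b₂ ≠ α • b₁ := by
    by_contra hcon
    push Not at hcon
    exact hbig ⟨b₁, fun b hb => hcon b hb⟩
  obtain ⟨α, β, hne, hsing⟩ := exists_sing_pair σ hσ hσ2 hb₁0 hb₂i
  refine ⟨_, hne, hsing, ?_⟩
  rw [mulVec_add, mulVec_smul, mulVec_smul, hb₁, hb₂]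

end eigen

end Cfsg.Agent.Lib.Helper94.SUSub
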