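/-
helper94: S5658, part 10: the dihedral trick in odd characteristic.
-/
import Mathlib
import Cfsg.Agent.Lib.Helper94.SUSub9

set_option autoImplicit false

namespace Cfsg.Agent.Lib.Helper94.SUSub

open Matrix Module Cfsg.Agent.S0837 Cfsg.Agent.S0781 Cfsg.Agent.S2644 Cfsg.Agent.Lib.Helper37
open Cfsg.Agent.Lib.Helper13 (rat rat_apply rat_add rat_smul rat_zero rat_neg rat_single
  rat_injective mem_subfieldSubgroup_iff rat_mulVec finrank_perp)

section oddtrick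
variable {F : Type*} [Field F] {n : ℕ} {σ : F →+* F} {F₀ : Subfield F} {σ₀ : F₀ →+* F₀}
  {M : Subgroup (GL (Fin n) F)}

theorem matrix_ext_single {A B : Matrix (Fin n) (Fin n) F}
    (h : ∀ j, A *ᵥ Pi.single j 1 = B *ᵥ Pi.single j 1) : A = B := by
  ext i j
  have := congrFun (h j) i
  simpa [Matrix.mulVec_single_one] using this

theorem SCtx.hp (C : SCtx σ F₀ σ₀ M) {e f : Fin n → F₀} (h : HP σ₀ e f) :
    HP σ (rat F₀ e) (rat F₀ f) := ⟨C.hf0 h.uu, C.hf0 h.vv, C.hf1 h.vu⟩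

theorem map_negH (C : SCtx σ F₀ σ₀ M) {e f : Fin n → F₀} (h : HP σ₀ e f) :
    (negH σ₀ e f).map F₀.subtype = negH σ (rat F₀ e) (rat F₀ f) := by
  apply matrix_ext_single
  intro j
  rw [← rat_single F₀ j, map_mulVec_rat, negH_mulVec σ₀ h, negH_mulVec σ (C.hp h), rat_sub,
    rat_sub, rat_smul, rat_smul, hf_rat σ F₀ σ₀ C.hc, hf_rat σ F₀ σ₀ C.hc]
  push_cast
  rfl

/-- the rational involution `-1` on a rational hyperbolic plane lies in `M` -/
theorem memM_negH (C : SCtx σ F₀ σ₀ M) {e f : Fin n → F₀} (h : HP σ₀ e f) :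
    MemM M (negH σ (rat F₀ e) (rat F₀ f)) := by
  have h1 := memM_of_rat σ F₀ C.hM
    (⟨negH σ₀ e f, negH σ₀ e f, negH_mul_self σ₀ C.hσ₀2 h, negH_mul_self σ₀ C.hσ₀2 h⟩ :
      GL (Fin n) F₀) (by
      intro x y
      show hf σ ((negH σ₀ e f).map F₀.subtype *ᵥ x) ((negH σ₀ e f).map F₀.subtype *ᵥ y) = _
      rw [map_negH C h]
      exact negH_hf σ C.hσ2 (C.hp h) x y) (by
      show ((negH σ₀ e f).map F₀.subtype).det = 1
      rw [map_negH C h]
      exact negH_det σ C.hσ2 (C.hp h))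
  have e1 : ((⟨negH σ₀ e f, negH σ₀ e f, negH_mul_self σ₀ C.hσ₀2 h,
      negH_mul_self σ₀ C.hσ₀2 h⟩ : GL (Fin n) F₀) : Matrix (Fin n) (Fin n) F₀) = negH σ₀ e f := rfl
  rw [e1, map_negH C h] at h1
  exact h1

variable [Finite F]

/-- **The centraliser lemma**: an element of `M` commuting with `Z` lies in the subfield group, if
`Z` inverts the rational isotropic vector `s`, the fixed vectors of `Z` are orthogonal to `s` and
`Z` fixes the rational isotropic vector `c`. -/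
theorem cent_le (C : SCtx σ F₀ σ₀ M) (htight : ∀ c ∈ SS σ F₀ σ₀ M, c ∈ F₀)
    (φ : F →+* F) (hfix : ∀ x, x ∈ F₀ ↔ φ x = x) (h2 : (2 : F) ≠ 0)
    {Z : Matrix (Fin n) (Fin n) F} {s c : Fin n → F₀} (hs0 : s ≠ 0) (hss : hf σ₀ s s = 0)
    (hc0 : c ≠ 0) (hcc : hf σ₀ c c = 0) (hZs : Z *ᵥ rat F₀ s = -rat F₀ s)
    (hZfix : ∀ v, Z *ᵥ v = v → hf σ v (rat F₀ s) = 0) (hZc : Z *ᵥ rat F₀ c = rat F₀ c)
    {k : GL (Fin n) F} (hk : k ∈ M)
    (hcomm : (k : Matrix (Fin n) (Fin n) F) * Z = Z * (k : Matrix (Fin n) (Fin n) F)) :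
    k ∈ Cfsg.Geo.subfieldSubgroup F₀ (1 : GL (Fin n) F) := by
  set a := (k : Matrix (Fin n) (Fin n) F) *ᵥ rat F₀ c with ha
  have hZa : Z *ᵥ a = a := by
    rw [ha, mulVec_mulVec, ← hcomm, ← mulVec_mulVec, hZc]
  have has : hf σ a (rat F₀ s) = 0 := hZfix a hZa
  have ha0 : a ≠ 0 := by
    intro h0
    have : rat F₀ c = 0 := gl_mulVec_inj' k (h0.trans (mulVec_zero _).symm)
    exact hc0 (Cfsg.Agent.Lib.Helper13.rat_eq_zero F₀ this)
  have hnot : ∀ μ : F, a ≠ μ • rat F₀ s := by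
    intro μ hμ
    have h1 : Z *ᵥ a = -a := by
      rw [hμ, mulVec_smul, hZs, smul_neg]
    rw [hZa] at h1
    have h3 : (2 : F) • a = 0 := by
      rw [two_smul]
      nth_rewrite 1 [h1]
      exact neg_add_cancel a
    rcases smul_eq_zero.mp h3 with h4 | h4
    · exact h2 h4
    · exact ha0 h4
  have haa : hf σ a a = 0 := by rw [ha, C.hMU hk, C.hf0 hcc]
  obtain ⟨ε, hε0, hε⟩ := exists_trace_zero_ne σ₀ C.hσ₀ C.hσ₀2
  have hεF : (ε : F) + σ (ε : F) = 0 := by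
    rw [← C.hc, ← Subfield.coe_add, hε]; rfl
  have hεF0 : (ε : F) ≠ 0 := fun h => hε0 (Subtype.ext h)
  have hy : MemM M (tv σ a (ε : F)) := memM_conj_tv C.hMU hk (memM_tv_rat C hcc hε)
  have hrat := star C htight haa hεF0 hεF hy hs0 hss has hnot
  exact mem_subfield_of_point C htight φ hfix hk hc0 hcc hrat

omit [Finite F] in
theorem pow_mulVec_fixed {A : Matrix (Fin n) (Fin n) F} {v : Fin n → F} (h : A *ᵥ v = v)
    (k : ℕ) : (A ^ k) *ᵥ v = v := by
  induction k with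
  | zero => simp
  | succ k ih => rw [pow_succ, ← mulVec_mulVec, h, ih]

omit [Finite F] in
theorem negH2_mul_self (hσ2 : ∀ a, σ (σ a) = a) {e₁ f₁ e₂ f₂ : Fin n → F} (h₁ : HP σ e₁ f₁)
    (h₂ : HP σ e₂ f₂) (h1 : hf σ e₂ e₁ = 0) (h2 : hf σ e₂ f₁ = 0) (h3 : hf σ f₂ e₁ = 0)
    (h4 : hf σ f₂ f₁ = 0) :
    (negH σ e₁ f₁ * negH σ e₂ f₂) * (negH σ e₁ f₁ * negH σ e₂ f₂) = 1 := by
  have h1' := hf_eq_zero_symm σ hσ2 h1
  have h2' := hf_eq_zero_symm σ hσ2 h2
  have h3' := hf_eq_zero_symm σ hσ2 h3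
  have h4' := hf_eq_zero_symm σ hσ2 h4
  apply Matrix.toLin'.injective
  apply LinearMap.ext
  intro x
  rw [Matrix.toLin'_apply, ← mulVec_mulVec, negH2_mulVec σ h₁ h₂ h1 h2 h3 h4,
    negH2_mulVec σ h₁ h₂ h1 h2 h3 h4]
  simp only [hf_sub_left, hf_smul_left, h₁.uu, h₁.vv, h₁.vu, h₁.uv hσ2, h₂.uu, h₂.vv, h₂.vu,
    h₂.uv hσ2, h1, h2, h3, h4, h1', h2', h3', h4', Matrix.toLin'_one, LinearMap.id_coe, id_eq]
  module

/-- **The dihedral trick in odd characteristic.** -/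
theorem odd_contra (C : SCtx σ F₀ σ₀ M) (htight : ∀ c ∈ SS σ F₀ σ₀ M, c ∈ F₀)
    (φ : F →+* F) (hfix : ∀ x, x ∈ F₀ ↔ φ x = x) (hsq : ∀ μ : F, μ * μ ∈ F₀ → μ ∈ F₀)
    (h2 : (2 : F) ≠ 0) {g : GL (Fin n) F} (hg : g ∈ M)
    (hgH : g ∉ Cfsg.Geo.subfieldSubgroup F₀ (1 : GL (Fin n) F)) : False := by
  have hn := C.hn
  have := C.finite₀
  have hσ2 := C.hσ2
  have h2₀ : (2 : F₀) ≠ 0 := by
    intro h0
    apply h2
    have h3 : ((2 : F₀) : F) = ((0 : F₀) : F) := by rw [h0]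
    push_cast at h3
    exact h3
  obtain ⟨e₁, f₁, e₂, f₂, h₁, h₂, -, -, -, -, h21, h21', h2'1, h2'1'⟩ :=
    exists_HP2_perp_fam (n := n) σ₀ C.hσ₀ C.hσ₀2 (k := 0) (fun i => i.elim0) (by omega)
  have H₁ := C.hp h₁
  have H₂ := C.hp h₂
  have o1 := C.hf0 h21
  have o2 := C.hf0 h21'
  have o3 := C.hf0 h2'1
  have o4 := C.hf0 h2'1'
  obtain ⟨c, c', hcc', hc, -⟩ := exists_HP_perp_fam σ₀ C.hσ₀ C.hσ₀2 ![e₁, f₁, e₂, f₂] (by omega)
  have hce₁ : hf σ (rat F₀ c) (rat F₀ e₁) = 0 := C.hf0 (hc 0)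
  have hcf₁ : hf σ (rat F₀ c) (rat F₀ f₁) = 0 := C.hf0 (hc 1)
  have hce₂ : hf σ (rat F₀ c) (rat F₀ e₂) = 0 := C.hf0 (hc 2)
  have hcf₂ : hf σ (rat F₀ c) (rat F₀ f₂) = 0 := C.hf0 (hc 3)
  obtain ⟨x, hxM, hxv⟩ := memM_negH C h₁
  obtain ⟨y₁, hy₁M, hy₁v⟩ := memM_negH C h₂
  set y₀ := x * y₁ with hy₀
  have hy₀M : y₀ ∈ M := M.mul_mem hxM hy₁M
  have hy₀v : (y₀ : Matrix (Fin n) (Fin n) F) =
      negH σ (rat F₀ e₁) (rat F₀ f₁) * negH σ (rat F₀ e₂) (rat F₀ f₂) := by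
    rw [hy₀, Units.val_mul, hxv, hy₁v]
  set y := g * y₀ * g⁻¹ with hy
  have hyM : y ∈ M := M.mul_mem (M.mul_mem hg hy₀M) (M.inv_mem hg)
  have hxx : x * x = 1 := Units.ext (by
    rw [Units.val_mul, hxv, Units.val_one]; exact negH_mul_self σ hσ2 H₁)
  have hy₀y₀ : y₀ * y₀ = 1 := Units.ext (by
    rw [Units.val_mul, hy₀v, Units.val_one]; exact negH2_mul_self hσ2 H₁ H₂ o1 o2 o3 o4)
  have hyy : y * y = 1 := by
    have : y * y = g * (y₀ * y₀) * g⁻¹ := by rw [hy]; group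
    rw [this, hy₀y₀]; group
  -- the properties of `x` and `y₀` needed for the centraliser lemma
  have hxs : (x : Matrix (Fin n) (Fin n) F) *ᵥ rat F₀ e₁ = -rat F₀ e₁ := by
    rw [hxv, negH_mulVec σ H₁, H₁.uu, H₁.uv hσ2]
    module
  have hxfix : ∀ v, (x : Matrix (Fin n) (Fin n) F) *ᵥ v = v → hf σ v (rat F₀ e₁) = 0 := by
    intro v hv
    rw [hxv, negH_mulVec σ H₁] at hv
    have h3 := congrArg (fun w => hf σ w (rat F₀ e₁)) hv
    simp only [hf_sub_left, hf_smul_left, H₁.uu, H₁.vu] at h3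
    have h4 : 2 * hf σ v (rat F₀ e₁) = 0 := by linear_combination -h3
    exact (mul_eq_zero.mp h4).resolve_left h2
  have hxc : (x : Matrix (Fin n) (Fin n) F) *ᵥ rat F₀ c = rat F₀ c := by
    rw [hxv, negH_mulVec σ H₁, hce₁, hcf₁]
    simp
  have hy₀s : (y₀ : Matrix (Fin n) (Fin n) F) *ᵥ rat F₀ e₁ = -rat F₀ e₁ := by
    rw [hy₀v, negH2_mulVec σ H₁ H₂ o1 o2 o3 o4, H₁.uu, H₁.uv hσ2, hf_eq_zero_symm σ hσ2 o1,
      hf_eq_zero_symm σ hσ2 o3]
    module
  have hy₀fix : ∀ v, (y₀ : Matrix (Fin n) (Fin n) F) *ᵥ v = v → hf σ v (rat F₀ e₁) = 0 := by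
    intro v hv
    rw [hy₀v, negH2_mulVec σ H₁ H₂ o1 o2 o3 o4] at hv
    have h3 := congrArg (fun w => hf σ w (rat F₀ e₁)) hv
    simp only [hf_sub_left, hf_smul_left, H₁.uu, H₁.vu, o1, o3] at h3
    have h4 : 2 * hf σ v (rat F₀ e₁) = 0 := by linear_combination -h3
    exact (mul_eq_zero.mp h4).resolve_left h2
  have hy₀fix' : ∀ v, hf σ v (rat F₀ e₁) = 0 → hf σ v (rat F₀ f₁) = 0 →
      hf σ v (rat F₀ e₂) = 0 → hf σ v (rat F₀ f₂) = 0 →
      (y₀ : Matrix (Fin n) (Fin n) F) *ᵥ v = v := by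
    intro v a1 a2 a3 a4
    rw [hy₀v, negH2_mulVec σ H₁ H₂ o1 o2 o3 o4, a1, a2, a3, a4]
    simp
  have hy₀c : (y₀ : Matrix (Fin n) (Fin n) F) *ᵥ rat F₀ c = rat F₀ c :=
    hy₀fix' _ hce₁ hcf₁ hce₂ hcf₂
  rcases dihedral_trick M hxM hyM hxx hyy with ⟨h, hhM, hconj⟩ | ⟨k, hzM, hz1, hzz, hzx, hzy⟩
  · -- the two involutions are not conjugate: traces
    have ht1 : (x : Matrix (Fin n) (Fin n) F).trace = (n : F) - 4 := by
      rw [hxv]; exact negH_trace σ hσ2 H₁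
    have ht2 : (y₀ : Matrix (Fin n) (Fin n) F).trace = (n : F) - 8 := by
      rw [hy₀v]; exact negH2_trace σ hσ2 H₁ H₂ o1 o2 o3 o4
    have ht3 : (y : Matrix (Fin n) (Fin n) F).trace = (y₀ : Matrix (Fin n) (Fin n) F).trace := by
      rw [hy, Units.val_mul, Units.val_mul, Matrix.trace_mul_comm, ← Matrix.mul_assoc,
        ← Units.val_mul, inv_mul_cancel, Units.val_one, Matrix.one_mul]
    have ht4 : (y : Matrix (Fin n) (Fin n) F).trace = (x : Matrix (Fin n) (Fin n) F).trace := by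
      rw [← hconj, Units.val_mul, Units.val_mul, Matrix.trace_mul_comm, ← Matrix.mul_assoc,
        ← Units.val_mul, inv_mul_cancel, Units.val_one, Matrix.one_mul]
    rw [ht3, ht2, ht1] at ht4
    have h5 : (2 : F) * 2 = 0 := by linear_combination -ht4
    exact h2 (mul_self_eq_zero.mp h5)
  · set z := (x * y) ^ k with hz
    have hzU := C.hMU hzM
    -- `z` lies in the subfield group
    have hzH : z ∈ Cfsg.Geo.subfieldSubgroup F₀ (1 : GL (Fin n) F) :=
      cent_le C htight φ hfix h2 h₁.ne_zero h₁.uu hcc'.ne_zero hcc'.uu hxs hxfix hxc hzM (by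
        rw [← Units.val_mul, ← Units.val_mul, hzx])
    -- so does its conjugate `z''`
    set z'' := g⁻¹ * z * g with hz''
    have hz''M : z'' ∈ M := M.mul_mem (M.mul_mem (M.inv_mem hg) hzM) hg
    have hz''comm : z'' * y₀ = y₀ * z'' := by
      have e1 : z'' * y₀ = g⁻¹ * (z * y) * g := by rw [hz'', hy]; group
      have e2 : y₀ * z'' = g⁻¹ * (y * z) * g := by rw [hz'', hy]; group
      rw [e1, e2, hzy]
    have hz''H : z'' ∈ Cfsg.Geo.subfieldSubgroup F₀ (1 : GL (Fin n) F) :=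
      cent_le C htight φ hfix h2 h₁.ne_zero h₁.uu hcc'.ne_zero hcc'.uu hy₀s hy₀fix hy₀c hz''M (by
        rw [← Units.val_mul, ← Units.val_mul, hz''comm])
    have hz''z'' : z'' * z'' = 1 := by
      have : z'' * z'' = g⁻¹ * (z * z) * g := by rw [hz'']; group
      rw [this, hzz]; group
    obtain ⟨B, hB, hBB⟩ := rat_of_invol (by omega) hsq hzH hzz
    obtain ⟨B'', hB'', hBB''⟩ := rat_of_invol (by omega) hsq hz''H hz''z''
    -- an isotropic `(-1)`-eigenvector of `B`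
    have hB1 : B ≠ 1 := by
      intro h1
      apply hz1
      apply Units.ext
      rw [hB, h1, Matrix.map_one _ (map_zero _) (map_one _), Units.val_one]
    have hBdet : B.det = 1 := by
      have h3 := C.hdet z hzM
      rw [hB, ← RingHom.mapMatrix_apply, ← RingHom.map_det] at h3
      exact Subtype.ext h3
    obtain ⟨s, hs0, hss, hBs⟩ := exists_sing_neg_eigen σ₀ C.hσ₀ C.hσ₀2 h2₀ B
      (rat_isometry C hzM hB) hBB hB1 hBdet
    -- an isotropic fixed vector of `B''`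
    have hbig : ¬ ∃ v : Fin n → F₀, ∀ b : Fin n → F₀, B'' *ᵥ b = b → ∃ α : F₀, b = α • v := by
      rintro ⟨v, hv⟩
      set vecs : Fin 6 → (Fin n → F) := ![((g⁻¹ : GL (Fin n) F) : Matrix (Fin n) (Fin n) F) *ᵥ
        rat F₀ e₁, ((g⁻¹ : GL (Fin n) F) : Matrix (Fin n) (Fin n) F) *ᵥ rat F₀ f₁, rat F₀ e₁,
        rat F₀ f₁, rat F₀ e₂, rat F₀ f₂] with hvecs
      set P := perp σ (Submodule.span F (Set.range vecs)) with hP
      have hPdim : 7 ≤ finrank F P := by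
        have h3 := finrank_perp σ hσ2 (Submodule.span F (Set.range vecs))
        rw [← hP] at h3
        have h4 := finrank_range_le_card (R := F) vecs
        simp only [Set.finrank, Fintype.card_fin] at h4
        omega
      have hgU : ∀ a b, hf σ ((g : Matrix (Fin n) (Fin n) F) *ᵥ a)
          ((g : Matrix (Fin n) (Fin n) F) *ᵥ b) = hf σ a b := C.hMU hg
      have hgg : ∀ a, (g : Matrix (Fin n) (Fin n) F) *ᵥ
          (((g⁻¹ : GL (Fin n) F) : Matrix (Fin n) (Fin n) F) *ᵥ a) = a := by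
        intro a
        rw [mulVec_mulVec, ← Units.val_mul, mul_inv_cancel, Units.val_one, one_mulVec]
      have hgg' : ∀ a, ((g⁻¹ : GL (Fin n) F) : Matrix (Fin n) (Fin n) F) *ᵥ
          ((g : Matrix (Fin n) (Fin n) F) *ᵥ a) = a := by
        intro a
        rw [mulVec_mulVec, ← Units.val_mul, inv_mul_cancel, Units.val_one, one_mulVec]
      have hPfix : ∀ w ∈ P, (z'' : Matrix (Fin n) (Fin n) F) *ᵥ w = w := by
        intro w hw
        rw [hP, mem_perp_span_iff] at hw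
        have w0 : hf σ w (((g⁻¹ : GL (Fin n) F) : Matrix (Fin n) (Fin n) F) *ᵥ rat F₀ e₁) = 0 :=
          hw 0
        have w1 : hf σ w (((g⁻¹ : GL (Fin n) F) : Matrix (Fin n) (Fin n) F) *ᵥ rat F₀ f₁) = 0 :=
          hw 1
        have w2 : hf σ w (rat F₀ e₁) = 0 := hw 2
        have w3 : hf σ w (rat F₀ f₁) = 0 := hw 3
        have w4 : hf σ w (rat F₀ e₂) = 0 := hw 4
        have w5 : hf σ w (rat F₀ f₂) = 0 := hw 5
        have a1 : hf σ ((g : Matrix (Fin n) (Fin n) F) *ᵥ w) (rat F₀ e₁) = 0 := by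
          rw [← hgg (rat F₀ e₁), hgU, w0]
        have a2 : hf σ ((g : Matrix (Fin n) (Fin n) F) *ᵥ w) (rat F₀ f₁) = 0 := by
          rw [← hgg (rat F₀ f₁), hgU, w1]
        have b1 : (x : Matrix (Fin n) (Fin n) F) *ᵥ ((g : Matrix (Fin n) (Fin n) F) *ᵥ w) =
            (g : Matrix (Fin n) (Fin n) F) *ᵥ w := by
          rw [hxv, negH_mulVec σ H₁, a1, a2]
          simp
        have b2 : (y : Matrix (Fin n) (Fin n) F) *ᵥ ((g : Matrix (Fin n) (Fin n) F) *ᵥ w) =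
            (g : Matrix (Fin n) (Fin n) F) *ᵥ w := by
          rw [hy, Units.val_mul, Units.val_mul, ← mulVec_mulVec, ← mulVec_mulVec, hgg',
            hy₀fix' w w2 w3 w4 w5]
        have b3 : ((x : Matrix (Fin n) (Fin n) F) * (y : Matrix (Fin n) (Fin n) F)) *ᵥ
            ((g : Matrix (Fin n) (Fin n) F) *ᵥ w) = (g : Matrix (Fin n) (Fin n) F) *ᵥ w := by
          rw [← mulVec_mulVec, b2, b1]
        have b4 := pow_mulVec_fixed b3 k
        rw [hz'', Units.val_mul, Units.val_mul, ← mulVec_mulVec, ← mulVec_mulVec, hz,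
          Units.val_pow_eq_pow_val, Units.val_mul, b4, hgg']
      have hPsub : P ≤ Submodule.span F {rat F₀ v} := by
        -- the submodule of vectors `w` with `w + z'' w` in the line
        set S : Submodule F (Fin n → F) := (Submodule.span F {rat F₀ v}).comap
          ((1 : Matrix (Fin n) (Fin n) F) + (z'' : Matrix (Fin n) (Fin n) F)).mulVecLin with hS
        have hSi : ∀ i : Fin n, (Pi.single i 1 : Fin n → F) ∈ S := by
          intro i
          rw [hS, Submodule.mem_comap, Matrix.mulVecLin_apply, Matrix.add_mulVec, Matrix.one_mulVec,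
            ← rat_single F₀ i, hB'', map_mulVec_rat, ← rat_add]
          obtain ⟨α, hα⟩ := hv (Pi.single i 1 + B'' *ᵥ Pi.single i 1) (by
            rw [mulVec_add, mulVec_mulVec, hBB'', one_mulVec, add_comm])
          rw [hα, rat_smul]
          exact Submodule.smul_mem _ _ (Submodule.mem_span_singleton_self _)
        have hStop : ∀ w : Fin n → F, w ∈ S := by
          intro w
          have hw : w = ∑ i, w i • (Pi.single i 1 : Fin n → F) := by
            funext j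
            simp [Finset.sum_apply, Pi.single_apply]
          rw [hw]
          exact S.sum_mem fun i _ => S.smul_mem _ (hSi i)
        intro w hw
        have h3 := hStop w
        rw [hS, Submodule.mem_comap, Matrix.mulVecLin_apply, Matrix.add_mulVec, Matrix.one_mulVec,
          hPfix w hw] at h3
        have h4 : w = (2 : F)⁻¹ • (w + w) := by
          rw [← two_smul F w, smul_smul, inv_mul_cancel₀ h2, one_smul]
        rw [h4]
        exact Submodule.smul_mem _ _ h3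
      have h5 := Submodule.finrank_mono hPsub
      have h6 : finrank F ↥(Submodule.span F {rat F₀ v}) ≤ 1 := by
        by_cases hv0 : rat F₀ v = 0
        · rw [hv0, Submodule.span_zero_singleton, finrank_bot]
          exact Nat.zero_le 1
        · rw [finrank_span_singleton hv0]
      omega
    obtain ⟨c₀, hc₀0, hc₀c₀, hBc₀⟩ := exists_sing_fixed σ₀ C.hσ₀ C.hσ₀2 B'' hBB'' hbig
    -- the final contradiction
    set a := (g : Matrix (Fin n) (Fin n) F) *ᵥ rat F₀ c₀ with ha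
    have hza : (z : Matrix (Fin n) (Fin n) F) *ᵥ a = a := by
      have e1 : z * g = g * z'' := by rw [hz'']; group
      rw [ha, mulVec_mulVec, ← Units.val_mul, e1, Units.val_mul, ← mulVec_mulVec, hB'',
        map_mulVec_rat, hBc₀]
    have hzs : (z : Matrix (Fin n) (Fin n) F) *ᵥ rat F₀ s = -rat F₀ s := by
      rw [hB, map_mulVec_rat, hBs, rat_neg]
    have has : hf σ a (rat F₀ s) = 0 := by
      have h3 := hzU a (rat F₀ s)
      rw [hza, hzs, hf_neg_right'] at h3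
      have h4 : 2 * hf σ a (rat F₀ s) = 0 := by linear_combination -h3
      exact (mul_eq_zero.mp h4).resolve_left h2
    have ha0 : a ≠ 0 := by
      intro h0
      have : rat F₀ c₀ = 0 := gl_mulVec_inj' g (h0.trans (mulVec_zero _).symm)
      exact hc₀0 (Cfsg.Agent.Lib.Helper13.rat_eq_zero F₀ this)
    have hnot : ∀ μ : F, a ≠ μ • rat F₀ s := by
      intro μ hμ
      have h1 : (z : Matrix (Fin n) (Fin n) F) *ᵥ a = -a := by
        rw [hμ, mulVec_smul, hzs, smul_neg]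
      rw [hza] at h1
      have h3 : (2 : F) • a = 0 := by
        rw [two_smul]
        nth_rewrite 1 [h1]
        exact neg_add_cancel a
      rcases smul_eq_zero.mp h3 with h4 | h4
      · exact h2 h4
      · exact ha0 h4
    have haa : hf σ a a = 0 := by rw [ha, C.hMU hg, C.hf0 hc₀c₀]
    obtain ⟨ε, hε0, hε⟩ := exists_trace_zero_ne σ₀ C.hσ₀ C.hσ₀2
    have hεF : (ε : F) + σ (ε : F) = 0 := by
      rw [← C.hc, ← Subfield.coe_add, hε]; rfl
    have hεF0 : (ε : F) ≠ 0 := fun h => hε0 (Subtype.ext h)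
    have hyt : MemM M (tv σ a (ε : F)) := memM_conj_tv C.hMU hg (memM_tv_rat C hc₀c₀ hε)
    have hrat := star C htight haa hεF0 hεF hyt hs0 hss has hnot
    exact hgH (mem_subfield_of_point C htight φ hfix hg hc₀0 hc₀c₀ hrat)

end oddtrick

end Cfsg.Agent.Lib.Helper94.SUSub
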