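/-
helper94: S5658, part 11: the dihedral trick in characteristic two.
-/
import Mathlib
import Cfsg.Agent.Lib.Helper94.SUSub10

set_option autoImplicit false

namespace Cfsg.Agent.Lib.Helper94.SUSub

open Matrix Module Cfsg.Agent.S0837 Cfsg.Agent.S0781 Cfsg.Agent.S2644 Cfsg.Agent.Lib.Helper37
open Cfsg.Agent.Lib.Helper13 (rat rat_apply rat_add rat_smul rat_zero rat_neg rat_single
  rat_injective mem_subfieldSubgroup_iff rat_mulVec)

section eventrick
variable {F : Type*} [Field F] {n : ℕ} {σ : F →+* F} {F₀ : Subfield F} {σ₀ : F₀ →+* F₀}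
  {M : Subgroup (GL (Fin n) F)}

theorem tv2_mulVec {a b : Fin n → F} (hba : hf σ b a = 0) (v : Fin n → F) :
    (tv σ a 1 * tv σ b 1) *ᵥ v = v + hf σ v a • a + hf σ v b • b := by
  rw [← mulVec_mulVec, tv_mulVec, tv_mulVec]
  simp only [hf_add_left, hf_smul_left, hba, one_mul, mul_zero, add_zero]
  module

/-- in characteristic two, the image of `Z - 1` is totally isotropic for an isometric involution -/
theorem hf_invol_char2 (h2 : (2 : F) = 0) {Z : Matrix (Fin n) (Fin n) F}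
    (hiso : ∀ u v, hf σ (Z *ᵥ u) (Z *ᵥ v) = hf σ u v) (hZZ : Z * Z = 1) (u v : Fin n → F) :
    hf σ (Z *ᵥ u - u) (Z *ᵥ v - v) = 0 := by
  have h1 : hf σ u (Z *ᵥ v) = hf σ (Z *ᵥ u) v := by
    have := hiso u (Z *ᵥ v)
    rw [mulVec_mulVec, hZZ, one_mulVec] at this
    exact this.symm
  simp only [hf_sub_left, hf_sub_right, hiso, h1]
  linear_combination (hf σ u v - hf σ (Z *ᵥ u) v) * h2

variable [Finite F]

/-- the centraliser of a rational transvection -/
theorem cent_le1 (C : SCtx σ F₀ σ₀ M) (htight : ∀ c ∈ SS σ F₀ σ₀ M, c ∈ F₀)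
    (φ : F →+* F) (hfix : ∀ x, x ∈ F₀ ↔ φ x = x) {c c' : Fin n → F₀} (hcc' : HP σ₀ c c')
    {k : GL (Fin n) F} (hk : k ∈ M)
    (hcomm : (k : Matrix (Fin n) (Fin n) F) * tv σ (rat F₀ c) 1 =
      tv σ (rat F₀ c) 1 * (k : Matrix (Fin n) (Fin n) F)) :
    k ∈ Cfsg.Geo.subfieldSubgroup F₀ (1 : GL (Fin n) F) := by
  apply mem_subfield_of_point C htight φ hfix hk hcc'.ne_zero hcc'.uu
  have h1 := congrArg (fun A => A *ᵥ rat F₀ c') hcomm
  simp only [← mulVec_mulVec, tv_mulVec, C.hf1 hcc'.vu, mul_one, one_smul, one_mul, mulVec_add]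
    at h1
  refine ⟨hf σ ((k : Matrix (Fin n) (Fin n) F) *ᵥ rat F₀ c') (rat F₀ c), c, ?_⟩
  exact add_left_cancel h1

/-- the centraliser of a product of two rational transvections with orthogonal centres -/
theorem cent_le2 (C : SCtx σ F₀ σ₀ M) (htight : ∀ c ∈ SS σ F₀ σ₀ M, c ∈ F₀)
    (φ : F →+* F) (hfix : ∀ x, x ∈ F₀ ↔ φ x = x) (h2 : (2 : F) = 0)
    {a a' b c c' : Fin n → F₀} (haa' : HP σ₀ a a') (hcc' : HP σ₀ c c')
    (hba : hf σ₀ b a = 0) (hba' : hf σ₀ b a' = 0)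
    (hca : hf σ₀ c a = 0) (hcb : hf σ₀ c b = 0) (hc'a : hf σ₀ c' a = 0) (hc'b : hf σ₀ c' b = 0)
    {k : GL (Fin n) F} (hk : k ∈ M)
    (hcomm : (k : Matrix (Fin n) (Fin n) F) * (tv σ (rat F₀ a) 1 * tv σ (rat F₀ b) 1) =
      (tv σ (rat F₀ a) 1 * tv σ (rat F₀ b) 1) * (k : Matrix (Fin n) (Fin n) F)) :
    k ∈ Cfsg.Geo.subfieldSubgroup F₀ (1 : GL (Fin n) F) := by
  have hσ2 := C.hσ2
  have hbaF : hf σ (rat F₀ b) (rat F₀ a) = 0 := C.hf0 hba
  set K := (k : Matrix (Fin n) (Fin n) F) with hK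
  set X := tv σ (rat F₀ a) 1 * tv σ (rat F₀ b) 1 with hX
  have hXv : ∀ v, X *ᵥ v = v + hf σ v (rat F₀ a) • rat F₀ a + hf σ v (rat F₀ b) • rat F₀ b :=
    fun v => tv2_mulVec hbaF v
  have hone : (1 : F₀) + σ₀ 1 = 0 := by
    rw [map_one]
    apply Subtype.ext
    push_cast
    linear_combination h2
  -- `K c` is fixed by `X`
  set y := K *ᵥ rat F₀ c with hy
  have hXc : X *ᵥ rat F₀ c = rat F₀ c := by
    rw [hXv, C.hf0 hca, C.hf0 hcb]
    simp
  have hXy : X *ᵥ y = y := by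
    rw [hy, mulVec_mulVec, ← hcomm, ← mulVec_mulVec, hXc]
  have hya : hf σ y (rat F₀ a) = 0 := by
    rw [hXv] at hXy
    have h3 : hf σ y (rat F₀ a) • rat F₀ a + hf σ y (rat F₀ b) • rat F₀ b = 0 := by
      have h4 : y + (hf σ y (rat F₀ a) • rat F₀ a + hf σ y (rat F₀ b) • rat F₀ b) = y + 0 := by
        rw [add_zero, ← add_assoc]
        exact hXy
      exact add_left_cancel h4
    have h5 := congrArg (fun w => hf σ w (rat F₀ a')) h3
    simp only [hf_add_left, hf_smul_left, C.hf1 (haa'.uv C.hσ₀2), C.hf0 hba', hf_zero_left,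
      mul_one, mul_zero, add_zero] at h5
    exact h5
  have hy0 : y ≠ 0 := by
    intro h0
    have : rat F₀ c = 0 := gl_mulVec_inj' k (h0.trans (mulVec_zero _).symm)
    exact hcc'.ne_zero (Cfsg.Agent.Lib.Helper13.rat_eq_zero F₀ this)
  -- `K⁻¹` also commutes with `X`
  set K' := ((k⁻¹ : GL (Fin n) F) : Matrix (Fin n) (Fin n) F) with hK'
  have hK'K : K' * K = 1 := by rw [hK', hK, ← Units.val_mul, inv_mul_cancel, Units.val_one]
  have hKK' : K * K' = 1 := by rw [hK', hK, ← Units.val_mul, mul_inv_cancel, Units.val_one]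
  have hcomm' : K' * X = X * K' := by
    calc K' * X = K' * X * (K * K') := by rw [hKK', Matrix.mul_one]
      _ = K' * (X * K) * K' := by simp only [Matrix.mul_assoc]
      _ = K' * (K * X) * K' := by rw [hcomm]
      _ = (K' * K) * X * K' := by simp only [Matrix.mul_assoc]
      _ = X * K' := by rw [hK'K, Matrix.one_mul]
  have hnot : ∀ μ : F, y ≠ μ • rat F₀ a := by
    intro μ hμ
    -- then `c = μ K⁻¹ a` lies in the span of `a, b`
    have h3 : rat F₀ c = μ • (K' *ᵥ rat F₀ a) := by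
      rw [← mulVec_smul, ← hμ, hy, mulVec_mulVec, hK'K, one_mulVec]
    have h4 : rat F₀ a = X *ᵥ rat F₀ a' - rat F₀ a' := by
      rw [hXv, C.hf1 haa'.vu, C.hf0 (C.sym0 hba')]
      simp
    have h5 : K' *ᵥ rat F₀ a = X *ᵥ (K' *ᵥ rat F₀ a') - K' *ᵥ rat F₀ a' := by
      conv_lhs => rw [h4]
      rw [mulVec_sub, mulVec_mulVec, hcomm', ← mulVec_mulVec]
    rw [hXv] at h5
    have h6 := congrArg (fun w => hf σ w (rat F₀ c')) h3
    simp only [hf_smul_left, h5, C.hf1 (hcc'.uv C.hσ₀2), hf_add_left, hf_sub_left,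
      C.hf0 (C.sym0 hc'a), C.hf0 (C.sym0 hc'b), mul_zero, add_zero, sub_self] at h6
    exact one_ne_zero h6
  have hyy : hf σ y y = 0 := by rw [hy, C.hMU hk, C.hf0 hcc'.uu]
  have hyt : MemM M (tv σ y ((1 : F₀) : F)) :=
    memM_conj_tv C.hMU hk (memM_tv_rat C hcc'.uu hone)
  have hrat := star C htight hyy (by simp) (by
    rw [Subfield.coe_one, map_one]; linear_combination h2) hyt haa'.ne_zero haa'.uu hya hnot
  exact mem_subfield_of_point C htight φ hfix hk hcc'.ne_zero hcc'.uu hrat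

/-- **The dihedral trick in characteristic two.** -/
theorem even_contra (C : SCtx σ F₀ σ₀ M) (htight : ∀ c ∈ SS σ F₀ σ₀ M, c ∈ F₀)
    (φ : F →+* F) (hfix : ∀ x, x ∈ F₀ ↔ φ x = x) (hsq : ∀ μ : F, μ * μ ∈ F₀ → μ ∈ F₀)
    (h2 : (2 : F) = 0) {g : GL (Fin n) F} (hg : g ∈ M)
    (hgH : g ∉ Cfsg.Geo.subfieldSubgroup F₀ (1 : GL (Fin n) F)) : False := by
  have hn := C.hn
  have := C.finite₀
  have hσ2 := C.hσ2
  have hone : (1 : F₀) + σ₀ 1 = 0 := by
    rw [map_one]
    apply Subtype.ext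
    push_cast
    linear_combination h2
  have honeF : ((1 : F₀) : F) = 1 := rfl
  obtain ⟨a, a', b, b', haa', hbb', -, -, -, -, hba, hba', hb'a, hb'a'⟩ :=
    exists_HP2_perp_fam (n := n) σ₀ C.hσ₀ C.hσ₀2 (k := 0) (fun i => i.elim0) (by omega)
  obtain ⟨c, c', hcc', hc, hc'⟩ := exists_HP_perp_fam σ₀ C.hσ₀ C.hσ₀2 ![a, a', b, b'] (by omega)
  have hca : hf σ₀ c a = 0 := hc 0
  have hcb : hf σ₀ c b = 0 := hc 2
  have hc'a : hf σ₀ c' a = 0 := hc' 0
  have hc'b : hf σ₀ c' b = 0 := hc' 2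
  have hbaF : hf σ (rat F₀ b) (rat F₀ a) = 0 := C.hf0 hba
  obtain ⟨xa, hxaM, hxav⟩ := memM_tv_rat C haa'.uu hone
  obtain ⟨xb, hxbM, hxbv⟩ := memM_tv_rat C hbb'.uu hone
  obtain ⟨y₀, hy₀M, hy₀v⟩ := memM_tv_rat C hcc'.uu hone
  rw [honeF] at hxav hxbv hy₀v
  set x := xa * xb with hx
  have hxM : x ∈ M := M.mul_mem hxaM hxbM
  have hxv : (x : Matrix (Fin n) (Fin n) F) = tv σ (rat F₀ a) 1 * tv σ (rat F₀ b) 1 := by
    rw [hx, Units.val_mul, hxav, hxbv]
  have hXv : ∀ v, (x : Matrix (Fin n) (Fin n) F) *ᵥ v =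
      v + hf σ v (rat F₀ a) • rat F₀ a + hf σ v (rat F₀ b) • rat F₀ b := by
    intro v; rw [hxv]; exact tv2_mulVec hbaF v
  set y := g * y₀ * g⁻¹ with hy
  have hyM : y ∈ M := M.mul_mem (M.mul_mem hg hy₀M) (M.inv_mem hg)
  have hxx : x * x = 1 := by
    apply Units.ext
    rw [Units.val_mul, Units.val_one]
    apply Matrix.toLin'.injective
    apply LinearMap.ext
    intro v
    rw [Matrix.toLin'_apply, ← mulVec_mulVec, hXv, hXv]
    simp only [hf_add_left, hf_smul_left, C.hf0 haa'.uu, C.hf0 hbb'.uu, hbaF,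
      hf_eq_zero_symm σ hσ2 hbaF, Matrix.toLin'_one, LinearMap.id_coe, id_eq, mul_zero, add_zero]
    have e : ∀ (p q : Fin n → F), v + p + q + p + q = v + (2 : F) • p + (2 : F) • q := by
      intro p q; module
    rw [e, h2, zero_smul, zero_smul, add_zero, add_zero]
  have hy₀y₀ : y₀ * y₀ = 1 := by
    apply Units.ext
    rw [Units.val_mul, Units.val_one, hy₀v]
    apply Matrix.toLin'.injective
    apply LinearMap.ext
    intro v
    rw [Matrix.toLin'_apply, ← mulVec_mulVec, tv_mulVec, tv_mulVec]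
    simp only [hf_add_left, hf_smul_left, C.hf0 hcc'.uu, Matrix.toLin'_one, LinearMap.id_coe,
      id_eq, mul_zero, add_zero, one_mul]
    have e : ∀ (p : Fin n → F), v + p + p = v + (2 : F) • p := by
      intro p; module
    rw [e, h2, zero_smul, add_zero]
  have hyy : y * y = 1 := by
    have : y * y = g * (y₀ * y₀) * g⁻¹ := by rw [hy]; group
    rw [this, hy₀y₀]; group
  rcases dihedral_trick M hxM hyM hxx hyy with ⟨h, hhM, hconj⟩ | ⟨k, hzM, hz1, hzz, hzx, hzy⟩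
  · -- the two involutions are not conjugate: ranks
    exfalso
    set h' := g⁻¹ * h with hh'
    have e1 : h' * x = y₀ * h' := by
      have : h * x = y * h := by rw [← hconj]; group
      have e2 : h' * x = g⁻¹ * (h * x) := by rw [hh']; group
      rw [e2, this, hy, hh']; group
    have e3 : ∀ v, (h' : Matrix (Fin n) (Fin n) F) *ᵥ ((x : Matrix (Fin n) (Fin n) F) *ᵥ v) =
        (y₀ : Matrix (Fin n) (Fin n) F) *ᵥ ((h' : Matrix (Fin n) (Fin n) F) *ᵥ v) := by
      intro v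
      rw [mulVec_mulVec, mulVec_mulVec, ← Units.val_mul, ← Units.val_mul, e1]
    have ea := e3 (rat F₀ a')
    have eb := e3 (rat F₀ b')
    rw [hXv, hy₀v, tv_mulVec, C.hf1 haa'.vu, C.hf0 (C.sym0 hba'), one_smul, zero_smul, add_zero,
      mulVec_add, one_mul] at ea
    rw [hXv, hy₀v, tv_mulVec, C.hf0 hb'a, C.hf1 hbb'.vu, one_smul, zero_smul, add_zero,
      mulVec_add, one_mul] at eb
    have ea' := add_left_cancel ea
    have eb' := add_left_cancel eb
    set μ₁ := hf σ ((h' : Matrix (Fin n) (Fin n) F) *ᵥ rat F₀ a') (rat F₀ c) with hμ₁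
    set μ₂ := hf σ ((h' : Matrix (Fin n) (Fin n) F) *ᵥ rat F₀ b') (rat F₀ c) with hμ₂
    have e4 : (h' : Matrix (Fin n) (Fin n) F) *ᵥ (μ₂ • rat F₀ a - μ₁ • rat F₀ b) =
        (h' : Matrix (Fin n) (Fin n) F) *ᵥ 0 := by
      rw [mulVec_sub, mulVec_smul, mulVec_smul, ea', eb', mulVec_zero, smul_smul, smul_smul,
        mul_comm, sub_self]
    have e5 := gl_mulVec_inj' h' e4
    have e6 := congrArg (fun w => hf σ w (rat F₀ a')) e5
    have e7 := congrArg (fun w => hf σ w (rat F₀ b')) e5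
    simp only [hf_sub_left, hf_smul_left, C.hf1 (haa'.uv C.hσ₀2), C.hf0 hba', hf_zero_left,
      mul_one, mul_zero, sub_zero] at e6
    simp only [hf_sub_left, hf_smul_left, C.hf0 (C.sym0 hb'a), C.hf1 (hbb'.uv C.hσ₀2),
      hf_zero_left, mul_one, mul_zero, zero_sub, neg_eq_zero] at e7
    rw [e7, zero_smul] at ea'
    have : rat F₀ a = 0 := gl_mulVec_inj' h' (ea'.trans (mulVec_zero _).symm)
    exact haa'.ne_zero (Cfsg.Agent.Lib.Helper13.rat_eq_zero F₀ this)
  · set z := (x * y) ^ k with hz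
    have hzU := C.hMU hzM
    have hzH : z ∈ Cfsg.Geo.subfieldSubgroup F₀ (1 : GL (Fin n) F) :=
      cent_le2 C htight φ hfix h2 haa' hcc' hba hba' hca hcb hc'a hc'b hzM (by
        rw [← hxv, ← Units.val_mul, ← Units.val_mul, hzx])
    set z'' := g⁻¹ * z * g with hz''
    have hz''M : z'' ∈ M := M.mul_mem (M.mul_mem (M.inv_mem hg) hzM) hg
    have hz''comm : z'' * y₀ = y₀ * z'' := by
      have e1 : z'' * y₀ = g⁻¹ * (z * y) * g := by rw [hz'', hy]; group
      have e2 : y₀ * z'' = g⁻¹ * (y * z) * g := by rw [hz'', hy]; group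
      rw [e1, e2, hzy]
    have hz''H : z'' ∈ Cfsg.Geo.subfieldSubgroup F₀ (1 : GL (Fin n) F) :=
      cent_le1 C htight φ hfix hcc' hz''M (by
        rw [← hy₀v, ← Units.val_mul, ← Units.val_mul, hz''comm])
    have hz''z'' : z'' * z'' = 1 := by
      have : z'' * z'' = g⁻¹ * (z * z) * g := by rw [hz'']; group
      rw [this, hzz]; group
    have hz''1 : z'' ≠ 1 := by
      intro h1
      apply hz1
      have : z = g * z'' * g⁻¹ := by rw [hz'']; group
      rw [this, h1]; group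
    obtain ⟨B, hB, hBB⟩ := rat_of_invol (by omega) hsq hzH hzz
    obtain ⟨B'', hB'', hBB''⟩ := rat_of_invol (by omega) hsq hz''H hz''z''
    -- vectors moved by `B` and `B''`
    obtain ⟨w₁, hw₁⟩ : ∃ w₁, B *ᵥ w₁ ≠ w₁ := by
      by_contra hcon
      push Not at hcon
      apply hz1
      apply Units.ext
      rw [hB, Units.val_one]
      have : B = 1 := by
        apply Matrix.toLin'.injective
        apply LinearMap.ext
        intro v
        rw [Matrix.toLin'_apply, hcon v, Matrix.toLin'_one, LinearMap.id_apply]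
      rw [this, Matrix.map_one _ (map_zero _) (map_one _)]
    obtain ⟨w₂, hw₂⟩ : ∃ w₂, B'' *ᵥ w₂ ≠ w₂ := by
      by_contra hcon
      push Not at hcon
      apply hz''1
      apply Units.ext
      rw [hB'', Units.val_one]
      have : B'' = 1 := by
        apply Matrix.toLin'.injective
        apply LinearMap.ext
        intro v
        rw [Matrix.toLin'_apply, hcon v, Matrix.toLin'_one, LinearMap.id_apply]
      rw [this, Matrix.map_one _ (map_zero _) (map_one _)]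
    set s := B *ᵥ w₁ - w₁ with hs
    set c₀ := B'' *ᵥ w₂ - w₂ with hc₀
    have hs0 : s ≠ 0 := sub_ne_zero.mpr hw₁
    have hc₀0 : c₀ ≠ 0 := sub_ne_zero.mpr hw₂
    have hZZ : (z : Matrix (Fin n) (Fin n) F) * (z : Matrix (Fin n) (Fin n) F) = 1 := by
      rw [← Units.val_mul, hzz, Units.val_one]
    have hZ''Z'' : (z'' : Matrix (Fin n) (Fin n) F) * (z'' : Matrix (Fin n) (Fin n) F) = 1 := by
      rw [← Units.val_mul, hz''z'', Units.val_one]
    have hrs : rat F₀ s = (z : Matrix (Fin n) (Fin n) F) *ᵥ rat F₀ w₁ - rat F₀ w₁ := by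
      rw [hs, rat_sub, hB, map_mulVec_rat]
    have hrc₀ : rat F₀ c₀ = (z'' : Matrix (Fin n) (Fin n) F) *ᵥ rat F₀ w₂ - rat F₀ w₂ := by
      rw [hc₀, rat_sub, hB'', map_mulVec_rat]
    have hss : hf σ₀ s s = 0 := by
      apply C.hf0'
      rw [hrs]
      exact hf_invol_char2 h2 hzU hZZ _ _
    have hc₀c₀ : hf σ₀ c₀ c₀ = 0 := by
      apply C.hf0'
      rw [hrc₀]
      exact hf_invol_char2 h2 (C.hMU hz''M) hZ''Z'' _ _
    set a₁ := (g : Matrix (Fin n) (Fin n) F) *ᵥ rat F₀ c₀ with ha₁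
    have ha₁' : a₁ = (z : Matrix (Fin n) (Fin n) F) *ᵥ ((g : Matrix (Fin n) (Fin n) F) *ᵥ
        rat F₀ w₂) - (g : Matrix (Fin n) (Fin n) F) *ᵥ rat F₀ w₂ := by
      have e1 : z * g = g * z'' := by rw [hz'']; group
      rw [ha₁, hrc₀, mulVec_sub, mulVec_mulVec, mulVec_mulVec, ← Units.val_mul, ← Units.val_mul, e1]
    have ha₁s : hf σ a₁ (rat F₀ s) = 0 := by
      rw [ha₁', hrs]
      exact hf_invol_char2 h2 hzU hZZ _ _
    have ha₁a₁ : hf σ a₁ a₁ = 0 := by rw [ha₁, C.hMU hg, C.hf0 hc₀c₀]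
    have hrat : RatPt F₀ a₁ := by
      by_cases hdep : ∃ μ : F, a₁ = μ • rat F₀ s
      · obtain ⟨μ, hμ⟩ := hdep
        exact ⟨μ, s, hμ⟩
      · push Not at hdep
        have hyt : MemM M (tv σ a₁ ((1 : F₀) : F)) :=
          memM_conj_tv C.hMU hg (memM_tv_rat C hc₀c₀ hone)
        exact star C htight ha₁a₁ (by simp) (by
          rw [Subfield.coe_one, map_one]; linear_combination h2) hyt hs0 hss ha₁s hdep
    exact hgH (mem_subfield_of_point C htight φ hfix hg hc₀0 hc₀c₀ hrat)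

end eventrick

end Cfsg.Agent.Lib.Helper94.SUSub
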