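/-
helper94: S5658, part 12: the core theorem: a group of unitary matrices of determinant one which
contains the rational ones and one more element contains them all.
-/
import Mathlib
import Cfsg.Agent.Lib.Helper94.SUSub11

set_option autoImplicit false

namespace Cfsg.Agent.Lib.Helper94.SUSub

open Matrix Module Cfsg.Agent.S0837 Cfsg.Agent.S0781 Cfsg.Agent.S2644 Cfsg.Agent.Lib.Helper37

section core
variable {F : Type*} [Field F] {n : ℕ} {σ : F →+* F} {F₀ : Subfield F} {σ₀ : F₀ →+* F₀}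
  {M : Subgroup (GL (Fin n) F)}

theorem su_le_of_lt [Finite F] (C : SCtx σ F₀ σ₀ M) (hprime : (Module.finrank F₀ F).Prime)
    (φ : F →+* F) (hfix : ∀ x, x ∈ F₀ ↔ φ x = x) (hsq : ∀ μ : F, μ * μ ∈ F₀ → μ ∈ F₀)
    {g0 : GL (Fin n) F} (hg0 : g0 ∈ M)
    (hg0' : g0 ∉ Cfsg.Geo.subfieldSubgroup F₀ (1 : GL (Fin n) F))
    (g : GL (Fin n) F) (hg : g ∈ UG σ n) (hdet : (g : Matrix (Fin n) (Fin n) F).det = 1) :
    g ∈ M := by
  rcases SS_dichotomy C hprime with htight | hall
  · exfalso
    by_cases h2 : (2 : F) = 0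
    · exact even_contra C htight φ hfix hsq h2 hg0 hg0'
    · exact odd_contra C htight φ hfix hsq h2 hg0 hg0'
  · exact su_le_of_full C hall g hg hdet

end core

end Cfsg.Agent.Lib.Helper94.SUSub
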