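/-
helper94: S5658, part 13: field-theoretic facts on a subfield of odd prime degree of a field
with an involution, and the reduction of a rational structure of the hermitian form to an
isometry.
-/
import Mathlib
import Cfsg.Agent.Lib.Helper94.SUSub12
import Cfsg.Agent.Lib.Helper94.SubfieldStd
import Cfsg.Agent.Lib.Helper13.UnitSLBridge

set_option autoImplicit false

namespace Cfsg.Agent.Lib.Helper94.SUSub

open Matrix Module Cfsg.Agent.S0837 Cfsg.Agent.S0781 Cfsg.Agent.S2644 Cfsg.Agent.Lib.Helper37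
open Cfsg.Agent.Lib.Helper13 (rat rat_apply rat_add rat_smul rat_zero rat_neg rat_single
  rat_injective mem_subfieldSubgroup_iff rat_mulVec)

section field

/-- the degree of the extension from the cardinalities -/
theorem finrank_eq_of_card {F : Type*} [Field F] [Fintype F] (F₀ : Subfield F) {r : ℕ}
    (hcard : Fintype.card F = Nat.card F₀ ^ r) : Module.finrank F₀ F = r := by
  have h1 : Nat.card F = Nat.card F₀ ^ Module.finrank F₀ F := Module.natCard_eq_pow_finrank
  rw [Nat.card_eq_fintype_card, hcard] at h1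
  have h2 : 2 ≤ Nat.card F₀ := by
    haveI : Fintype F₀ := Fintype.ofFinite F₀
    rw [Nat.card_eq_fintype_card]
    exact Fintype.one_lt_card
  exact (Nat.pow_right_injective h2 h1).symm

/-- an involution of `F` does not fix a subfield of odd degree pointwise -/
theorem exists_not_fixed {F : Type*} [Field F] [Finite F] (F₀ : Subfield F)
    (hodd : Odd (Module.finrank F₀ F)) (σ : F →+* F) (hσ : σ ≠ RingHom.id F)
    (hσ2 : ∀ a, σ (σ a) = a) : ∃ x : F₀, σ (x : F) ≠ x := by
  by_contra hcon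
  push Not at hcon
  let e : F ≃+* F := RingEquiv.ofRingHom σ σ (RingHom.ext hσ2) (RingHom.ext hσ2)
  let τ : F ≃ₐ[F₀] F := AlgEquiv.ofRingEquiv (f := e) (fun x => hcon x)
  have h1 : τ ^ 2 = 1 := by
    ext a
    rw [pow_two]
    exact hσ2 a
  have h2 : τ ≠ 1 := by
    intro h
    apply hσ
    ext a
    exact DFunLike.congr_fun h a
  have h3 : orderOf τ = 2 := orderOf_eq_prime h1 h2
  have h4 : orderOf τ ∣ Nat.card (F ≃ₐ[F₀] F) := orderOf_dvd_natCard τ
  rw [IsGalois.card_aut_eq_finrank, h3] at h4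
  exact (Nat.not_even_iff_odd.mpr hodd) (even_iff_two_dvd.mpr h4)

/-- square roots of elements of a subfield of odd degree lie in the subfield -/
theorem sq_mem_subfield {F : Type*} [Field F] [Fintype F] (F₀ : Subfield F) {r : ℕ} (hro : Odd r)
    (hcard : Fintype.card F = Nat.card F₀ ^ r) (μ : F) (h : μ * μ ∈ F₀) : μ ∈ F₀ := by
  haveI : Fintype F₀ := Fintype.ofFinite F₀
  rw [Nat.card_eq_fintype_card] at hcard
  have h1 : (μ * μ) ^ Fintype.card F₀ = μ * μ := (mem_iff_pow_card F₀ _).mp h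
  have h2 : (μ ^ Fintype.card F₀ - μ) * (μ ^ Fintype.card F₀ + μ) = 0 := by
    rw [mul_pow] at h1
    linear_combination h1
  rcases mul_eq_zero.mp h2 with h3 | h3
  · exact (mem_iff_pow_card F₀ μ).mpr (sub_eq_zero.mp h3)
  · have h4 : μ ^ Fintype.card F₀ = -μ := eq_neg_of_add_eq_zero_left h3
    set φ : F →ₐ[F₀] F := FiniteField.frobeniusAlgHom F₀ F with hφ
    have hφa : ∀ x, φ x = x ^ Fintype.card F₀ := fun x => rfl
    have h5 : ∀ k : ℕ, (⇑φ)^[k] μ = (-1) ^ k * μ := by
      intro k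
      induction k with
      | zero => simp
      | succ k ih =>
        rw [Function.iterate_succ_apply', ih, map_mul, map_pow, map_neg, map_one, hφa μ, h4]
        ring
    have h6 : (⇑φ)^[r] μ = μ := by
      have : (⇑φ) = (· ^ Fintype.card F₀) := rfl
      rw [this, pow_iterate, ← hcard]
      exact FiniteField.pow_card μ
    rw [h5 r, hro.neg_one_pow] at h6
    apply (mem_iff_pow_card F₀ μ).mpr
    rw [h4]
    linear_combination h6

end field

section reduce
variable {F : Type*} [Field F] {n : ℕ}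

/-- conjugating a subgroup by one of its members -/
theorem map_conj_eq_self' {G : Type*} [Group G] (H : Subgroup G) {c : G} (hc : c ∈ H) :
    H.map (MulAut.conj c).toMonoidHom = H := by
  ext x
  rw [Subgroup.mem_map]
  constructor
  · rintro ⟨y, hy, rfl⟩
    exact mul_mem (mul_mem hc hy) (inv_mem hc)
  · intro hx
    refine ⟨c⁻¹ * x * c, mul_mem (mul_mem (inv_mem hc) hx) hc, ?_⟩
    simp [MulAut.conj_apply, mul_assoc]

/-- changing the basis of the rational structure by a rational matrix -/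
theorem subfieldSubgroup_mul_rat' (F₀ : Subfield F) (P : GL (Fin n) F) (C : GL (Fin n) F₀) :
    Cfsg.Geo.subfieldSubgroup F₀ (P * Matrix.GeneralLinearGroup.map F₀.subtype C) =
      Cfsg.Geo.subfieldSubgroup F₀ P := by
  rw [subfieldSubgroup_eq_map F₀ (P * _), subfieldSubgroup_eq_map F₀ P, map_mul]
  have hC : Matrix.GeneralLinearGroup.map F₀.subtype C ∈
      Cfsg.Geo.subfieldSubgroup F₀ (1 : GL (Fin n) F) := by
    rw [subfieldSubgroup_one]
    exact Subgroup.mem_sup_left ⟨C, rfl⟩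
  conv_rhs => rw [← map_conj_eq_self' _ hC]
  rw [Subgroup.map_map]
  rfl

/-- the linear functional `y ↦ h(y, w)` -/
def hfL (σ : F →+* F) (w : Fin n → F) : (Fin n → F) →ₗ[F] F where
  toFun y := hf σ y w
  map_add' y y' := hf_add_left σ y y' w
  map_smul' c y := by rw [hf_smul_left]; rfl

/-- a rational structure for the hermitian form is equivalent, over the subfield, to an
isometry -/
theorem exists_rat_isometry [Finite F] {σ : F →+* F} (hσ2 : ∀ a, σ (σ a) = a) {F₀ : Subfield F}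
    {σ₀ : F₀ →+* F₀} (hσ₀ : σ₀ ≠ RingHom.id F₀) (hσ₀2 : ∀ a, σ₀ (σ₀ a) = a)
    (hc : ∀ x : F₀, ((σ₀ x : F₀) : F) = σ (x : F)) (P : GL (Fin n) F)
    (hP : ∀ a b : Fin n → F₀, hf σ ((P : Matrix (Fin n) (Fin n) F) *ᵥ rat F₀ a)
      ((P : Matrix (Fin n) (Fin n) F) *ᵥ rat F₀ b) ∈ F₀) :
    ∃ C : GL (Fin n) F₀, P * Matrix.GeneralLinearGroup.map F₀.subtype C ∈ UG σ n := by
  have : Finite F₀ := Finite.of_injective (fun x : F₀ => (x : F)) Subtype.val_injective
  let e : F₀ ≃+* F₀ := RingEquiv.ofRingHom σ₀ σ₀ (RingHom.ext hσ₀2) (RingHom.ext hσ₀2)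
  have he : ((e : F₀ ≃+* F₀) : F₀ →+* F₀) = σ₀ := RingHom.ext fun x => rfl
  let f₀ : (Fin n → F₀) → (Fin n → F₀) → F₀ := fun a b =>
    ⟨hf σ ((P : Matrix (Fin n) (Fin n) F) *ᵥ rat F₀ a)
      ((P : Matrix (Fin n) (Fin n) F) *ᵥ rat F₀ b), hP a b⟩
  have hf₀ : ∀ a b, ((f₀ a b : F₀) : F) = hf σ ((P : Matrix (Fin n) (Fin n) F) *ᵥ rat F₀ a)
      ((P : Matrix (Fin n) (Fin n) F) *ᵥ rat F₀ b) := fun a b => rfl
  have hherm : ∀ v w, f₀ v w = e (f₀ w v) := by
    intro v w
    apply Subtype.ext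
    show _ = ((σ₀ (f₀ w v) : F₀) : F)
    rw [hc, hf₀, hf₀, ← hf_symm σ hσ2]
  have hnd1 : ∀ v : Fin n → F₀, v ≠ 0 → ∃ x, f₀ x v ≠ 0 := by
    intro v hv
    by_contra hcon
    push Not at hcon
    set w := (P : Matrix (Fin n) (Fin n) F) *ᵥ rat F₀ v with hw
    have h2 : (hfL σ w).comp (Matrix.toLin' (P : Matrix (Fin n) (Fin n) F)) = 0 := by
      apply (Pi.basisFun F (Fin n)).ext
      intro j
      have h3 := congrArg Subtype.val (hcon (Pi.single j 1))
      rw [hf₀, rat_single] at h3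
      rw [LinearMap.comp_apply, Pi.basisFun_apply, Matrix.toLin'_apply]
      exact h3
    have h3 : w = 0 := by
      funext i
      have h4 := LinearMap.congr_fun h2
        (((P⁻¹ : GL (Fin n) F) : Matrix (Fin n) (Fin n) F) *ᵥ Pi.single i 1)
      rw [LinearMap.comp_apply, Matrix.toLin'_apply, mulVec_mulVec, ← Units.val_mul,
        mul_inv_cancel, Units.val_one, one_mulVec] at h4
      have h5 : hf σ (Pi.single i 1) w = 0 := h4
      rw [hf_single_left] at h5
      have h6 := congrArg σ h5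
      rw [hσ2, map_zero] at h6
      exact h6
    have h4 : rat F₀ v = 0 := gl_mulVec_inj P (h3.trans (mulVec_zero _).symm)
    exact hv (Cfsg.Agent.Lib.Helper13.rat_eq_zero F₀ h4)
  have hU : Cfsg.Geo.IsUnitaryForm e f₀ := by
    refine ⟨?_, hσ₀2, ?_, ?_, hherm, ?_⟩
    · intro h
      apply hσ₀
      rw [← he, h]
      rfl
    · intro x y v
      apply Subtype.ext
      rw [Subfield.coe_add, hf₀, hf₀, hf₀, rat_add, mulVec_add, hf_add_left]
    · intro c x v
      apply Subtype.ext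
      rw [Subfield.coe_mul, hf₀, hf₀, rat_smul, mulVec_smul, hf_smul_left]
    · intro v hv
      obtain ⟨x, hx⟩ := hnd1 v hv
      refine ⟨⟨x, hx⟩, ⟨x, ?_⟩⟩
      rw [hherm]
      intro h0
      apply hx
      have := congrArg σ₀ h0
      rw [map_zero] at this
      have h1 : σ₀ (e (f₀ x v)) = f₀ x v := hσ₀2 _
      rw [← h1, this]
  obtain ⟨C, hC⟩ := Cfsg.Agent.Lib.Helper13.exists_std hU
  rw [he] at hC
  refine ⟨C, ?_⟩
  set Q : GL (Fin n) F := P * Matrix.GeneralLinearGroup.map F₀.subtype C with hQ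
  have hQrat : ∀ a : Fin n → F₀, (Q : Matrix (Fin n) (Fin n) F) *ᵥ rat F₀ a =
      (P : Matrix (Fin n) (Fin n) F) *ᵥ rat F₀ ((C : Matrix (Fin n) (Fin n) F₀) *ᵥ a) := by
    intro a
    rw [hQ, Units.val_mul, ← mulVec_mulVec]
    congr 1
    exact (rat_mulVec F₀ _ a).symm
  have hrat : ∀ a b : Fin n → F₀, hf σ ((Q : Matrix (Fin n) (Fin n) F) *ᵥ rat F₀ a)
      ((Q : Matrix (Fin n) (Fin n) F) *ᵥ rat F₀ b) = hf σ (rat F₀ a) (rat F₀ b) := by
    intro a b
    rw [hQrat, hQrat, ← hf₀, hC, hf_rat σ F₀ σ₀ hc]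
  have hmul : hs σ (Q : Matrix (Fin n) (Fin n) F) * (Q : Matrix (Fin n) (Fin n) F) = 1 := by
    ext i j
    rw [hs_mul_apply, ← mulVec_single_one, ← mulVec_single_one, ← rat_single F₀ j,
      ← rat_single F₀ i, hrat, rat_single, rat_single, hf_single_single, Matrix.one_apply]
    simp [eq_comm]
  intro x y
  exact preserves_of_hs_mul σ hσ2 _ hmul x y

end reduce

end Cfsg.Agent.Lib.Helper94.SUSub
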