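/-
helper94: S5658, part 14: the maximality of the unitary subfield groups of odd prime degree in
the special unitary group, in the vocabulary of the Prelude.
-/
import Mathlib
import Cfsg.Agent.Lib.Helper94.SUSub13
import Cfsg.Agent.Lib.Helper94.SympBridge

set_option autoImplicit false

namespace Cfsg.Agent.Lib.Helper94.SUSub

open Matrix Module Cfsg.Agent.S0837 Cfsg.Agent.S0781 Cfsg.Agent.S2644 Cfsg.Agent.Lib.Helper37
open Cfsg.Agent.Lib.Helper13 (rat rat_apply rat_add rat_smul rat_zero rat_neg rat_single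
  rat_injective mem_subfieldSubgroup_iff rat_mulVec)

section proper
variable {F : Type*} [Field F] {n : ℕ}

/-- an element of the special unitary group outside the standard subfield group -/
theorem exists_not_mem_std [Finite F] {σ : F →+* F} (hσ2 : ∀ a, σ (σ a) = a) {F₀ : Subfield F}
    {σ₀ : F₀ →+* F₀} (hσ₀ : σ₀ ≠ RingHom.id F₀) (hσ₀2 : ∀ a, σ₀ (σ₀ a) = a)
    (hc : ∀ x : F₀, ((σ₀ x : F₀) : F) = σ (x : F)) (hn : 4 ≤ n) {c : F} (hcF : c ∉ F₀) :
    ∃ g : GL (Fin n) F, g ∈ UG σ n ∧ (g : Matrix (Fin n) (Fin n) F).det = 1 ∧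
      g ∉ Cfsg.Geo.subfieldSubgroup F₀ (1 : GL (Fin n) F) := by
  have : Finite F₀ := Finite.of_injective (fun x : F₀ => (x : F)) Subtype.val_injective
  obtain ⟨a, a', b, b', haa', hbb', -, -, -, -, hba, hba', hb'a, hb'a'⟩ :=
    exists_HP2_perp_fam (K := F₀) σ₀ hσ₀ hσ₀2 (n := n) (k := 0) (fun i => i.elim0) (by omega)
  have h0 : ∀ {x y : Fin n → F₀}, hf σ₀ x y = 0 → hf σ (rat F₀ x) (rat F₀ y) = 0 := by
    intro x y h
    rw [hf_rat σ F₀ σ₀ hc, h]; rfl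
  have h1 : ∀ {x y : Fin n → F₀}, hf σ₀ x y = 1 → hf σ (rat F₀ x) (rat F₀ y) = 1 := by
    intro x y h
    rw [hf_rat σ F₀ σ₀ hc, h]; rfl
  have hu : hf σ (rat F₀ b) (rat F₀ b) = 0 := h0 hbb'.uu
  have hw : hf σ (c • rat F₀ a) (rat F₀ b) = 0 := by
    rw [hf_smul_left, h0 (hf_eq_zero_symm σ₀ hσ₀2 hba), mul_zero]
  have hβ : (0 : F) + σ 0 + hf σ (c • rat F₀ a) (c • rat F₀ a) = 0 := by
    rw [hf_smul_left, hf_smul_right, h0 haa'.uu, map_zero]; ring
  refine ⟨siegGL σ hσ2 (rat F₀ b) (c • rat F₀ a) 0 hu hw hβ, siegGL_mem_UG σ hσ2 _ _ _ hu hw hβ,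
    sieg_det σ hσ2 _ _ _ hu hw, ?_⟩
  intro hg
  obtain ⟨l, b'', hlb⟩ := proprat_of_mem_std F₀ _ hg a'
  change E σ (rat F₀ a) (rat F₀ b) c *ᵥ rat F₀ a' = l • rat F₀ b'' at hlb
  rw [E_mulVec, h0 (hf_eq_zero_symm σ₀ hσ₀2 hba'), h1 haa'.vu, mul_zero, zero_smul, add_zero,
    mul_one] at hlb
  -- pair with `a`
  have e1 := congrArg (fun w => hf σ w (rat F₀ a)) hlb
  simp only [hf_sub_left, hf_smul_left, h1 haa'.vu, h0 hba, mul_zero, sub_zero,
    hf_rat σ F₀ σ₀ hc b'' a] at e1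
  have hl : l ∈ F₀ := by
    have : l = ((hf σ₀ b'' a : F₀) : F)⁻¹ := eq_inv_of_mul_eq_one_left e1.symm
    rw [this]
    exact F₀.inv_mem (hf σ₀ b'' a).2
  -- pair with `b'`
  have e2 := congrArg (fun w => hf σ w (rat F₀ b')) hlb
  simp only [hf_sub_left, hf_smul_left, h0 (hf_eq_zero_symm σ₀ hσ₀2 hb'a'), h1 (hbb'.uv hσ₀2),
    mul_one, zero_sub, hf_rat σ F₀ σ₀ hc b'' b'] at e2
  have hσc : σ c ∈ F₀ := by
    have : σ c = -(l * ((hf σ₀ b'' b' : F₀) : F)) := by rw [← e2, neg_neg]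
    rw [this]
    exact F₀.neg_mem (F₀.mul_mem hl (hf σ₀ b'' b').2)
  apply hcF
  have := (σ₀ ⟨σ c, hσc⟩).2
  rw [hc] at this
  simpa [hσ2] using this

end proper

section final
variable {F : Type*} [Field F] [Fintype F]

/-- the involutions of `F` and of the subfield -/
theorem exists_sigma (q : ℕ) (hF : Fintype.card F = q ^ 2) (F₀ : Subfield F) (r : ℕ)
    (hro : Odd r) (hcard : Fintype.card F = Nat.card F₀ ^ r) :
    ∃ (σ : F →+* F) (σ₀ : F₀ →+* F₀), (∀ x, σ x = x ^ q) ∧ (∀ a, σ (σ a) = a) ∧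
      σ ≠ RingHom.id F ∧ σ₀ ≠ RingHom.id F₀ ∧ (∀ a, σ₀ (σ₀ a) = a) ∧
      ∀ x : F₀, ((σ₀ x : F₀) : F) = σ (x : F) := by
  obtain ⟨σ, hσ, hσ2⟩ := Cfsg.Agent.Lib.Helper13.exists_frob hF
  have hne : σ ≠ RingHom.id F := frob_ne_id σ hF hσ
  have hmem : ∀ x : F₀, (σ.comp F₀.subtype) x ∈ F₀ := fun x => by
    show σ (x : F) ∈ F₀
    rw [hσ]; exact pow_mem x.2 q
  refine ⟨σ, (σ.comp F₀.subtype).codRestrict F₀ hmem, hσ, hσ2, hne, ?_, ?_, fun x => rfl⟩
  · intro h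
    have hfr := finrank_eq_of_card F₀ hcard
    obtain ⟨x, hx⟩ := exists_not_fixed F₀ (by rw [hfr]; exact hro) σ hne hσ2
    apply hx
    have := congrArg Subtype.val (RingHom.congr_fun h x)
    exact this
  · intro a
    apply Subtype.ext
    exact hσ2 a

/-- **The standard unitary subfield group of odd prime degree is maximal in `SU_n(q)`.** -/
theorem std_su_isMaximalIn (n q : ℕ) (hF : Fintype.card F = q ^ 2) (hn : 13 ≤ n)
    (F₀ : Subfield F) (r : ℕ) (hr : r.Prime) (hro : Odd r)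
    (hcard : Fintype.card F = Nat.card F₀ ^ r) :
    Cfsg.Geo.IsMaximalIn (Cfsg.GU n F q ⊓ Cfsg.Geo.specialLinear (Fin n) F)
      (Cfsg.Geo.subfieldSubgroup F₀ (1 : GL (Fin n) F) ⊓
        (Cfsg.GU n F q ⊓ Cfsg.Geo.specialLinear (Fin n) F)) := by
  classical
  obtain ⟨σ, σ₀, hσ, hσ2, hne, hσ₀, hσ₀2, hc⟩ := exists_sigma q hF F₀ r hro hcard
  have hfr := finrank_eq_of_card F₀ hcard
  have hprime : (Module.finrank F₀ F).Prime := by rw [hfr]; exact hr
  have hK : ∀ g : GL (Fin n) F, g ∈ Cfsg.GU n F q ⊓ Cfsg.Geo.specialLinear (Fin n) F ↔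
      g ∈ UG σ n ∧ (g : Matrix (Fin n) (Fin n) F).det = 1 := by
    intro g
    rw [Subgroup.mem_inf, Cfsg.Agent.Lib.Helper13.mem_GU_iff_mem_UG σ hσ,
      Cfsg.Agent.Lib.Helper13.mem_specialLinear_iff]
  -- an element outside the subfield
  have hex : ∃ c : F, c ∉ F₀ := by
    by_contra hcon
    push Not at hcon
    have hsurj : Function.Surjective (fun x : F₀ => (x : F)) := fun x => ⟨⟨x, hcon x⟩, rfl⟩
    have hcardeq : Nat.card F₀ = Nat.card F :=
      Nat.card_congr (Equiv.ofBijective _ ⟨Subtype.val_injective, hsurj⟩)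
    rw [Nat.card_eq_fintype_card (α := F), hcard] at hcardeq
    have h2 : 2 ≤ Nat.card F₀ := by
      have : Fintype F₀ := Fintype.ofFinite F₀
      rw [Nat.card_eq_fintype_card]
      exact Fintype.one_lt_card
    have h3 : Nat.card F₀ ^ 1 = Nat.card F₀ ^ r := by rw [pow_one]; exact hcardeq
    have := Nat.pow_right_injective h2 h3
    rw [← this] at hr
    exact Nat.not_prime_one hr
  constructor
  · apply lt_of_le_of_ne inf_le_right
    intro heq
    obtain ⟨c, hcF⟩ := hex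
    obtain ⟨g, hgU, hdet, hg⟩ := exists_not_mem_std (n := n) hσ2 hσ₀ hσ₀2 hc (by omega) hcF
    have h1 : g ∈ Cfsg.GU n F q ⊓ Cfsg.Geo.specialLinear (Fin n) F := (hK g).mpr ⟨hgU, hdet⟩
    rw [← heq] at h1
    exact hg h1.1
  · intro M hHM hMK
    by_cases hMH : M = Cfsg.Geo.subfieldSubgroup F₀ (1 : GL (Fin n) F) ⊓
        (Cfsg.GU n F q ⊓ Cfsg.Geo.specialLinear (Fin n) F)
    · exact Or.inl hMH
    · right
      have hnot : ¬ M ≤ Cfsg.Geo.subfieldSubgroup F₀ (1 : GL (Fin n) F) ⊓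
          (Cfsg.GU n F q ⊓ Cfsg.Geo.specialLinear (Fin n) F) := fun h => hMH (le_antisymm h hHM)
      obtain ⟨g0, hg0M, hg0⟩ := SetLike.not_le_iff_exists.mp hnot
      have hg0K := hMK hg0M
      have hg0S : g0 ∉ Cfsg.Geo.subfieldSubgroup F₀ (1 : GL (Fin n) F) :=
        fun h => hg0 ⟨h, hg0K⟩
      have C : SCtx σ F₀ σ₀ M :=
        { hσ := hne
          hσ2 := hσ2
          hσ₀ := hσ₀
          hσ₀2 := hσ₀2
          hc := hc
          hMU := fun g hg => ((hK g).mp (hMK hg)).1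
          hdet := fun g hg => ((hK g).mp (hMK hg)).2
          hM := fun g hgU hdet hgS => hHM ⟨hgS, (hK g).mpr ⟨hgU, hdet⟩⟩
          hn := hn }
      have : Fintype F₀ := Fintype.ofFinite F₀
      have key := su_le_of_lt C hprime (FiniteField.frobeniusAlgHom F₀ F).toRingHom
        (fun x => mem_iff_pow_card F₀ x) (sq_mem_subfield F₀ hro hcard) hg0M hg0S
      apply le_antisymm hMK
      intro g hg
      obtain ⟨hgU, hdet⟩ := (hK g).mp hg
      exact key g hgU hdet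

/-- **The unitary subfield groups of odd prime degree are maximal in `SU_n(q)`** (the statement
S5658). -/
theorem su_subfield_isMaximalIn (n q : ℕ) (hF : Fintype.card F = q ^ 2) (hn : 13 ≤ n)
    (F₀ : Subfield F) (r : ℕ) (hr : r.Prime) (hro : Odd r)
    (hcard : Fintype.card F = Nat.card F₀ ^ r) (P : GL (Fin n) F)
    (hP : Cfsg.Geo.IsFormRationalStructure (Cfsg.hermForm n F q) F₀ 1 P) :
    Cfsg.Geo.IsMaximalIn (Cfsg.GU n F q ⊓ Cfsg.Geo.specialLinear (Fin n) F)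
      (Cfsg.Geo.subfieldSubgroup F₀ P ⊓
        (Cfsg.GU n F q ⊓ Cfsg.Geo.specialLinear (Fin n) F)) := by
  classical
  obtain ⟨σ, σ₀, hσ, hσ2, hne, hσ₀, hσ₀2, hc⟩ := exists_sigma q hF F₀ r hro hcard
  have hP' : ∀ a b : Fin n → F₀, hf σ ((P : Matrix (Fin n) (Fin n) F) *ᵥ rat F₀ a)
      ((P : Matrix (Fin n) (Fin n) F) *ᵥ rat F₀ b) ∈ F₀ := by
    intro a b
    have := hP (rat F₀ a) (rat F₀ b) (fun i => (a i).2) (fun i => (b i).2)
    rw [hermForm_eq_hf σ hσ, one_mul] at this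
    exact this
  obtain ⟨C, hC⟩ := exists_rat_isometry hσ2 hσ₀ hσ₀2 hc P hP'
  rw [← subfieldSubgroup_mul_rat' F₀ P C]
  obtain ⟨Q, hQ⟩ : ∃ Q : GL (Fin n) F,
    Q = P * Matrix.GeneralLinearGroup.map F₀.subtype C := ⟨_, rfl⟩
  rw [← hQ] at hC ⊢
  have hK : ∀ g : GL (Fin n) F, g ∈ Cfsg.GU n F q ⊓ Cfsg.Geo.specialLinear (Fin n) F ↔
      g ∈ UG σ n ∧ (g : Matrix (Fin n) (Fin n) F).det = 1 := by
    intro g
    rw [Subgroup.mem_inf, Cfsg.Agent.Lib.Helper13.mem_GU_iff_mem_UG σ hσ,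
      Cfsg.Agent.Lib.Helper13.mem_specialLinear_iff]
  apply isMaximalIn_of_map (MulAut.conj Q⁻¹)
  have h1 : (Cfsg.GU n F q ⊓ Cfsg.Geo.specialLinear (Fin n) F).map
      (MulAut.conj Q⁻¹).toMonoidHom = Cfsg.GU n F q ⊓ Cfsg.Geo.specialLinear (Fin n) F := by
    ext y
    rw [Subgroup.mem_map_equiv, MulAut.conj_symm_apply, inv_inv, hK, hK]
    have hdet : ((Q * y * Q⁻¹ : GL (Fin n) F) : Matrix (Fin n) (Fin n) F).det =
        (y : Matrix (Fin n) (Fin n) F).det := by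
      have h3 : Matrix.GeneralLinearGroup.det (Q * y * Q⁻¹) = Matrix.GeneralLinearGroup.det y := by
        rw [map_mul, map_mul, map_inv, mul_comm, ← mul_assoc, inv_mul_cancel, one_mul]
      exact congrArg Units.val h3
    rw [hdet]
    constructor
    · rintro ⟨h, hd⟩
      refine ⟨?_, hd⟩
      have := (UG σ n).mul_mem ((UG σ n).mul_mem ((UG σ n).inv_mem hC) h) hC
      simpa [mul_assoc] using this
    · rintro ⟨h, hd⟩
      exact ⟨(UG σ n).mul_mem ((UG σ n).mul_mem hC h) ((UG σ n).inv_mem hC), hd⟩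
  have h2 : (Cfsg.Geo.subfieldSubgroup F₀ Q).map (MulAut.conj Q⁻¹).toMonoidHom =
      Cfsg.Geo.subfieldSubgroup F₀ (1 : GL (Fin n) F) := by
    rw [subfieldSubgroup_eq_map F₀ Q, Subgroup.map_map]
    have : (MulAut.conj Q⁻¹).toMonoidHom.comp (MulAut.conj Q).toMonoidHom =
        MonoidHom.id (GL (Fin n) F) := by
      ext x
      simp [MulAut.conj_apply, mul_assoc]
    rw [this, Subgroup.map_id]
  rw [map_inf_equiv (MulAut.conj Q⁻¹) (Cfsg.Geo.subfieldSubgroup F₀ Q), h1, h2]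
  exact std_su_isMaximalIn n q hF hn F₀ r hr hro hcard

end final

end Cfsg.Agent.Lib.Helper94.SUSub
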