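/-
Helper94: the standard subfield group `Sp_2m(F₀) · scalars` is maximal in `Sp_2m(F)`
(`[F : F₀]` prime, `m ≥ 4`).
-/
import Mathlib
import Cfsg.Agent.Lib.Helper94.SubfieldStd

set_option autoImplicit false
set_option linter.unusedSimpArgs false
set_option linter.unusedVariables false

namespace Cfsg.Agent.Lib.Helper94

open Matrix
open LinearMap (BilinForm)
open scoped MatrixGroups

variable {F : Type*} [Field F] [Fintype F] (m : ℕ) (F₀ : Subfield F)

omit [Fintype F] in
/-- an automorphism of `F^(2m)` preserving the rational vectors comes from the standard subfield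
group -/
lemma symm_mem_std_of_preserves (g : (Fin m ⊕ Fin m → F) ≃ₗ[F] (Fin m ⊕ Fin m → F))
    (T : (Fin m ⊕ Fin m → F₀) ≃ₗ[F₀] (Fin m ⊕ Fin m → F₀))
    (hgT : ∀ a, g (ratV F₀ a) = ratV F₀ (T a)) :
    (glEquiv (Fin m ⊕ Fin m) F).symm g ∈
      Cfsg.Geo.subfieldSubgroup F₀ (1 : GL (Fin m ⊕ Fin m) F) := by
  apply mem_std_of_action F₀ _ ((glEquiv (Fin m ⊕ Fin m) F₀).symm T) 1
  intro a
  rw [glEquiv_symm_mulVec, glEquiv_symm_mulVec, hgT, Units.val_one, one_smul]

omit [Fintype F] in
/-- the rational transvections lie in the image of the standard subfield group -/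
lemma tv_mem_map_std (a : Fin m ⊕ Fin m → F₀) (c : F₀) :
    (sympData_sympBilin (F := F) m).tv (ratV F₀ a) (c : F) ∈
      ((Cfsg.Geo.subfieldSubgroup F₀ (1 : GL (Fin m ⊕ Fin m) F)) ⊓ Cfsg.spGL m F).map
        (glEquiv (Fin m ⊕ Fin m) F).toMonoidHom := by
  rw [map_inf_equiv, map_spGL]
  refine Subgroup.mem_inf.2 ⟨?_, (sympData_sympBilin (F := F) m).tv_mem_Sp _ _⟩
  rw [Subgroup.mem_map_equiv]
  apply symm_mem_std_of_preserves m F₀ _
    ((sympData_sympBilin (F := F₀) m).tv a c)
  intro b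
  rw [SympData.tv_apply, SympData.tv_apply, ratV_add, ratV_smul, (ratStr_std F₀ m).form]
  push_cast
  rfl

theorem std_isMaximalIn (hm : 4 ≤ m) (r : ℕ) (hr : r.Prime)
    (hcard : Fintype.card F = Nat.card F₀ ^ r) :
    Cfsg.Geo.IsMaximalIn (Cfsg.spGL m F)
      (Cfsg.Geo.subfieldSubgroup F₀ (1 : GL (Fin m ⊕ Fin m) F) ⊓ Cfsg.spGL m F) := by
  classical
  -- the degree of the extension
  have hprime : (Module.finrank F₀ F).Prime := by
    have h1 : Nat.card F = Nat.card F₀ ^ Module.finrank F₀ F := Module.natCard_eq_pow_finrank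
    rw [Nat.card_eq_fintype_card, hcard] at h1
    have h2 : 2 ≤ Nat.card F₀ := by
      haveI : Fintype F₀ := Fintype.ofFinite F₀
      rw [Nat.card_eq_fintype_card]
      exact Fintype.one_lt_card
    rw [← Nat.pow_right_injective h2 h1]
    exact hr
  have hne : ∃ c : F, c ∉ F₀ := by
    by_contra hcon
    push Not at hcon
    have : (⊤ : Subfield F) = F₀ := by
      ext x; simp [hcon x]
    have h1 : Module.finrank F₀ F = 1 := by
      subst this
      have : Module.finrank (⊤ : Subfield F) F = 1 := by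
        have e := Module.natCard_eq_pow_finrank (K := (⊤ : Subfield F)) (V := F)
        have e2 : Nat.card (⊤ : Subfield F) = Nat.card F :=
          Nat.card_congr (Subfield.topEquiv (K := F)).toEquiv
        rw [e2] at e
        have h2 : 2 ≤ Nat.card F := by
          rw [Nat.card_eq_fintype_card]; exact Fintype.one_lt_card
        have : Nat.card F ^ 1 = Nat.card F ^ Module.finrank (⊤ : Subfield F) F := by
          rw [pow_one]; exact e
        exact (Nat.pow_right_injective h2 this).symm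
      exact this
    rw [h1] at hprime
    exact Nat.not_prime_one hprime
  set h := sympData_sympBilin (F := F) m with hh
  set h₀ := sympData_sympBilin (F := F₀) m with hh₀
  have R := ratStr_std (F := F) F₀ m
  apply isMaximalIn_of_map (glEquiv (Fin m ⊕ Fin m) F)
  rw [map_spGL]
  set N' := ((Cfsg.Geo.subfieldSubgroup F₀ (1 : GL (Fin m ⊕ Fin m) F)) ⊓ Cfsg.spGL m F).map
    (glEquiv (Fin m ⊕ Fin m) F).toMonoidHom with hN'
  have hN'le : N' ≤ SympData.Sp (sympBilin m F) := by
    rw [hN', map_inf_equiv, map_spGL]; exact inf_le_right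
  have hN'std : ∀ g ∈ N', (glEquiv (Fin m ⊕ Fin m) F).symm g ∈
      Cfsg.Geo.subfieldSubgroup F₀ (1 : GL (Fin m ⊕ Fin m) F) := by
    intro g hg
    rw [hN', Subgroup.mem_map_equiv] at hg
    exact hg.1
  have hmem : ∀ g ∈ SympData.Sp (sympBilin m F), (glEquiv (Fin m ⊕ Fin m) F).symm g ∈
      Cfsg.Geo.subfieldSubgroup F₀ (1 : GL (Fin m ⊕ Fin m) F) → g ∈ N' := by
    intro g hg hstd
    rw [hN', map_inf_equiv, map_spGL]
    exact Subgroup.mem_inf.2 ⟨by rw [Subgroup.mem_map_equiv]; exact hstd, hg⟩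
  -- the index of the first coordinate
  obtain ⟨i₀⟩ : Nonempty (Fin m) := ⟨⟨0, by omega⟩⟩
  refine ⟨lt_of_le_of_ne hN'le ?_, ?_⟩
  · -- properness
    intro heq
    obtain ⟨c, hc⟩ := hne
    have hmemN : h.tv (Pi.single (Sum.inl i₀) 1) c ∈ N' := by
      rw [heq]; exact h.tv_mem_Sp _ _
    obtain ⟨l, b, hlb⟩ := proprat_of_mem_std F₀ _ (hN'std _ hmemN) (Pi.single (Sum.inr i₀) 1)
    rw [glEquiv_symm_mulVec, ratV_single, SympData.tv_apply, sympBilin_single_inl] at hlb
    have e1 := congrFun hlb (Sum.inr i₀)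
    have e2 := congrFun hlb (Sum.inl i₀)
    simp only [Pi.add_apply, Pi.smul_apply, Pi.single_eq_same, smul_eq_mul, mul_one, ne_eq,
      reduceCtorEq, not_false_eq_true, Pi.single_eq_of_ne, mul_zero, add_zero, zero_add,
      ratV_apply] at e1 e2
    have hl0 : l ≠ 0 := by
      intro h0; rw [h0, zero_mul] at e1; exact one_ne_zero e1
    have hl : l⁻¹ ∈ F₀ := by
      have : l⁻¹ = (b (Sum.inr i₀) : F) := by
        field_simp
        linear_combination e1
      rw [this]; exact (b (Sum.inr i₀)).2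
    apply hc
    rw [e2]
    have hl' : l ∈ F₀ := by
      have := F₀.inv_mem hl
      rwa [inv_inv] at this
    exact F₀.mul_mem hl' (b (Sum.inl i₀)).2
  · -- maximality
    intro M' hNM hMS
    by_cases hMN : M' = N'
    · left; exact hMN
    right
    apply le_antisymm hMS
    have hex : ∃ g ∈ M', g ∉ N' := by
      by_contra hcon
      push Not at hcon
      exact hMN (le_antisymm hcon hNM)
    obtain ⟨g, hgM, hgN⟩ := hex
    have hgS := hMS hgM
    have hgstd : (glEquiv (Fin m ⊕ Fin m) F).symm g ∉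
        Cfsg.Geo.subfieldSubgroup F₀ (1 : GL (Fin m ⊕ Fin m) F) := fun hc => hgN (hmem g hgS hc)
    have hframe : ∃ a : Fin m ⊕ Fin m → F₀, ∀ (l : F) (c : Fin m ⊕ Fin m → F₀),
        g (ratV F₀ a) ≠ l • ratV F₀ c := by
      by_contra hcon
      push Not at hcon
      apply hgstd
      haveI : Nonempty (Fin m ⊕ Fin m) := ⟨Sum.inl i₀⟩
      apply mem_std_of_proprat F₀
      intro a
      obtain ⟨l, c, hlc⟩ := hcon a
      exact ⟨l, c, by rw [glEquiv_symm_mulVec]; exact hlc⟩
    obtain ⟨a, ha⟩ := hframe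
    have hRat : RatIn F₀ h (ratV F₀) M' := fun b c => hNM (tv_mem_map_std m F₀ b c)
    have hwc : h.tv (g (ratV F₀ a)) 1 ∈ M' := by
      have h1 : h.tv (ratV F₀ a) 1 ∈ M' := by
        have := hRat a 1
        simpa using this
      have := mul_mem (mul_mem hgM h1) (inv_mem hgM)
      rwa [h.conj_tv hgS] at this
    have hdim : 7 ≤ Module.finrank F₀ (Fin m ⊕ Fin m → F₀) := by
      rw [Module.finrank_fintype_fun_eq_card, Fintype.card_sum, Fintype.card_fin]
      omega
    have hX := rat_mem_Xset R h h₀ hprime hdim hRat one_ne_zero hwc ha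
    exact sp_le_of_rat_mem_Xset M' hX

end Cfsg.Agent.Lib.Helper94
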