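/-
Helper94: reduction of a symplectic subfield group with an arbitrary rational structure to the
standard one, and the maximality theorem in the form of the statement S5650.
-/
import Mathlib
import Cfsg.Agent.Lib.Helper94.SpSubfieldMax
import Cfsg.Agent.Lib.Helper37.AltIso

set_option autoImplicit false
set_option linter.unusedSimpArgs false
set_option linter.unusedVariables false

namespace Cfsg.Agent.Lib.Helper94

open Matrix
open LinearMap (BilinForm)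
open scoped MatrixGroups

variable {F : Type*} [Field F] (m : ℕ) (F₀ : Subfield F)

lemma mem_spGL_iff (g : GL (Fin m ⊕ Fin m) F) :
    g ∈ Cfsg.spGL m F ↔ ∀ u v, Cfsg.sympForm m F ((g : Matrix (Fin m ⊕ Fin m) (Fin m ⊕ Fin m) F) *ᵥ u)
      ((g : Matrix (Fin m ⊕ Fin m) (Fin m ⊕ Fin m) F) *ᵥ v) = Cfsg.sympForm m F u v := Iff.rfl

/-- conjugating a subgroup by one of its members -/
lemma map_conj_eq_self {G : Type*} [Group G] (H : Subgroup G) {c : G} (hc : c ∈ H) :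
    H.map (MulAut.conj c).toMonoidHom = H := by
  ext x
  rw [Subgroup.mem_map]
  constructor
  · rintro ⟨y, hy, rfl⟩
    exact mul_mem (mul_mem hc hy) (inv_mem hc)
  · intro hx
    refine ⟨c⁻¹ * x * c, mul_mem (mul_mem (inv_mem hc) hx) hc, ?_⟩
    simp [MulAut.conj_apply, mul_assoc]

/-- changing the basis of the rational structure by a rational matrix -/
lemma subfieldSubgroup_mul_rat (P : GL (Fin m ⊕ Fin m) F) (C : GL (Fin m ⊕ Fin m) F₀) :
    Cfsg.Geo.subfieldSubgroup F₀ (P * Matrix.GeneralLinearGroup.map F₀.subtype C) =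
      Cfsg.Geo.subfieldSubgroup F₀ P := by
  rw [subfieldSubgroup_eq_map F₀ (P * _), subfieldSubgroup_eq_map F₀ P, map_mul]
  have hC : Matrix.GeneralLinearGroup.map F₀.subtype C ∈
      Cfsg.Geo.subfieldSubgroup F₀ (1 : GL (Fin m ⊕ Fin m) F) := by
    rw [subfieldSubgroup_one]
    exact Subgroup.mem_sup_left ⟨C, rfl⟩
  conv_rhs => rw [← map_conj_eq_self _ hC]
  rw [Subgroup.map_map]
  rfl

/-- the scaled and transported form on the rational vectors -/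
noncomputable def ratForm (P : GL (Fin m ⊕ Fin m) F) (ζ : F)
    (hP : Cfsg.Geo.IsFormRationalStructure (Cfsg.sympForm m F) F₀ ζ P) :
    BilinForm F₀ (Fin m ⊕ Fin m → F₀) :=
  LinearMap.mk₂ F₀
    (fun a b => (⟨ζ * sympBilin m F ((P : Matrix (Fin m ⊕ Fin m) (Fin m ⊕ Fin m) F) *ᵥ ratV F₀ a)
      ((P : Matrix (Fin m ⊕ Fin m) (Fin m ⊕ Fin m) F) *ᵥ ratV F₀ b), by
        rw [sympBilin_apply]
        exact hP _ _ (fun i => (a i).2) (fun i => (b i).2)⟩ : F₀))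
    (by
      intro a a' b
      apply Subtype.ext
      simp only [ratV_add, mulVec_add, map_add, LinearMap.add_apply, mul_add, Subfield.coe_add])
    (by
      intro c a b
      apply Subtype.ext
      simp only [ratV_smul, mulVec_smul, map_smul, LinearMap.smul_apply, smul_eq_mul,
        Subfield.coe_mul]
      ring)
    (by
      intro a b b'
      apply Subtype.ext
      simp only [ratV_add, mulVec_add, map_add, mul_add, Subfield.coe_add])
    (by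
      intro c a b
      apply Subtype.ext
      simp only [ratV_smul, mulVec_smul, map_smul, smul_eq_mul, Subfield.coe_mul]
      ring)

lemma ratForm_apply (P : GL (Fin m ⊕ Fin m) F) (ζ : F)
    (hP : Cfsg.Geo.IsFormRationalStructure (Cfsg.sympForm m F) F₀ ζ P)
    (a b : Fin m ⊕ Fin m → F₀) :
    ((ratForm m F₀ P ζ hP a b : F₀) : F) = ζ * sympBilin m F ((P : Matrix (Fin m ⊕ Fin m) (Fin m ⊕ Fin m) F) *ᵥ ratV F₀ a)
      ((P : Matrix (Fin m ⊕ Fin m) (Fin m ⊕ Fin m) F) *ᵥ ratV F₀ b) := rfl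

/-- a rational change of basis turning the rational structure into a similitude -/
lemma exists_similitude (P : GL (Fin m ⊕ Fin m) F) (ζ : F) (hζ : ζ ≠ 0)
    (hP : Cfsg.Geo.IsFormRationalStructure (Cfsg.sympForm m F) F₀ ζ P) :
    ∃ C : GL (Fin m ⊕ Fin m) F₀, ∀ u v : Fin m ⊕ Fin m → F,
      ζ * sympBilin m F
        (((P * Matrix.GeneralLinearGroup.map F₀.subtype C : GL (Fin m ⊕ Fin m) F) : Matrix (Fin m ⊕ Fin m) (Fin m ⊕ Fin m) F) *ᵥ u)
        (((P * Matrix.GeneralLinearGroup.map F₀.subtype C : GL (Fin m ⊕ Fin m) F) : Matrix (Fin m ⊕ Fin m) (Fin m ⊕ Fin m) F) *ᵥ v) =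
      sympBilin m F u v := by
  have h := sympData_sympBilin (F := F) m
  have h₀ := sympData_sympBilin (F := F₀) m
  -- the form is alternating and non-degenerate
  have hA : (ratForm m F₀ P ζ hP).IsAlt := by
    intro a
    apply Subtype.ext
    rw [ratForm_apply, h.alt, mul_zero]
    rfl
  have hnd : ∀ a, (∀ b, ratForm m F₀ P ζ hP a b = 0) → a = 0 := by
    intro a ha
    have h1 : ∀ b : Fin m ⊕ Fin m → F₀, sympBilin m F ((P : Matrix (Fin m ⊕ Fin m) (Fin m ⊕ Fin m) F) *ᵥ ratV F₀ a)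
        ((P : Matrix (Fin m ⊕ Fin m) (Fin m ⊕ Fin m) F) *ᵥ ratV F₀ b) = 0 := by
      intro b
      have := congrArg (Subtype.val) (ha b)
      rw [ratForm_apply] at this
      rcases mul_eq_zero.1 this with h0 | h0
      · exact absurd h0 hζ
      · exact h0
    have h2 : (sympBilin m F ((P : Matrix (Fin m ⊕ Fin m) (Fin m ⊕ Fin m) F) *ᵥ ratV F₀ a)).comp
        (Matrix.toLin' (P : Matrix (Fin m ⊕ Fin m) (Fin m ⊕ Fin m) F)) = 0 := by
      apply (Pi.basisFun F (Fin m ⊕ Fin m)).ext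
      intro j
      have := h1 (Pi.single j 1)
      rw [ratV_single] at this
      rw [LinearMap.comp_apply, Pi.basisFun_apply, Matrix.toLin'_apply, this]
      rfl
    have h3 : (P : Matrix (Fin m ⊕ Fin m) (Fin m ⊕ Fin m) F) *ᵥ ratV F₀ a = 0 := by
      apply h.nondeg
      intro y
      have := LinearMap.congr_fun h2 (((P⁻¹ : GL (Fin m ⊕ Fin m) F) : Matrix (Fin m ⊕ Fin m) (Fin m ⊕ Fin m) F) *ᵥ y)
      rw [LinearMap.comp_apply, Matrix.toLin'_apply, mulVec_mulVec, ← Units.val_mul,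
        mul_inv_cancel, Units.val_one, one_mulVec] at this
      exact this
    have h4 : ratV F₀ a = 0 := gl_mulVec_inj P (h3.trans (mulVec_zero _).symm)
    funext i
    have := congrFun h4 i
    apply Subtype.ext
    exact this
  obtain ⟨c, hc⟩ := Cfsg.Agent.Lib.Helper37.AltIso.exists_isometry_of_alt
    (ratForm m F₀ P ζ hP) (sympBilin m F₀) hA h₀.isAlt hnd h₀.nondeg
  refine ⟨(glEquiv (Fin m ⊕ Fin m) F₀).symm c, ?_⟩
  set Q : GL (Fin m ⊕ Fin m) F := P * Matrix.GeneralLinearGroup.map F₀.subtype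
    ((glEquiv (Fin m ⊕ Fin m) F₀).symm c) with hQ
  have hQrat : ∀ a : Fin m ⊕ Fin m → F₀,
      (Q : Matrix (Fin m ⊕ Fin m) (Fin m ⊕ Fin m) F) *ᵥ ratV F₀ a = (P : Matrix (Fin m ⊕ Fin m) (Fin m ⊕ Fin m) F) *ᵥ ratV F₀ (c a) := by
    intro a
    rw [hQ, Units.val_mul, ← mulVec_mulVec]
    congr 1
    show (((glEquiv (Fin m ⊕ Fin m) F₀).symm c : GL (Fin m ⊕ Fin m) F₀) : Matrix (Fin m ⊕ Fin m) (Fin m ⊕ Fin m) F₀).map F₀.subtype *ᵥ
      ratV F₀ a = _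
    rw [← ratV_mulVec, glEquiv_symm_mulVec]
  -- compare the two bilinear forms on the standard basis
  have key : (ζ • sympBilin m F).comp (Matrix.toLin' (Q : Matrix (Fin m ⊕ Fin m) (Fin m ⊕ Fin m) F))
      (Matrix.toLin' (Q : Matrix (Fin m ⊕ Fin m) (Fin m ⊕ Fin m) F)) = sympBilin m F := by
    apply LinearMap.BilinForm.ext_basis (Pi.basisFun F (Fin m ⊕ Fin m))
    intro i j
    rw [LinearMap.BilinForm.comp_apply, Pi.basisFun_apply, Pi.basisFun_apply,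
      Matrix.toLin'_apply, Matrix.toLin'_apply, LinearMap.smul_apply, LinearMap.smul_apply,
      smul_eq_mul]
    rw [← ratV_single F₀ i, ← ratV_single F₀ j, hQrat, hQrat, ← ratForm_apply m F₀ P ζ hP, hc,
      (ratStr_std F₀ m).form]
  intro u v
  have := LinearMap.congr_fun (LinearMap.congr_fun key u) v
  rw [LinearMap.BilinForm.comp_apply, Matrix.toLin'_apply, Matrix.toLin'_apply,
    LinearMap.smul_apply, LinearMap.smul_apply, smul_eq_mul] at this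
  exact this

/-- a similitude normalises the symplectic group -/
lemma conj_mem_spGL_iff (Q : GL (Fin m ⊕ Fin m) F) (ζ : F) (hζ : ζ ≠ 0)
    (hQ : ∀ u v : Fin m ⊕ Fin m → F, ζ * sympBilin m F
      ((Q : Matrix (Fin m ⊕ Fin m) (Fin m ⊕ Fin m) F) *ᵥ u)
      ((Q : Matrix (Fin m ⊕ Fin m) (Fin m ⊕ Fin m) F) *ᵥ v) = sympBilin m F u v)
    (y : GL (Fin m ⊕ Fin m) F) : Q * y * Q⁻¹ ∈ Cfsg.spGL m F ↔ y ∈ Cfsg.spGL m F := by
  have e : ∀ u : Fin m ⊕ Fin m → F,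
      ((Q * y * Q⁻¹ : GL (Fin m ⊕ Fin m) F) : Matrix (Fin m ⊕ Fin m) (Fin m ⊕ Fin m) F) *ᵥ u =
        (Q : Matrix (Fin m ⊕ Fin m) (Fin m ⊕ Fin m) F) *ᵥ
          ((y : Matrix (Fin m ⊕ Fin m) (Fin m ⊕ Fin m) F) *ᵥ
            (((Q⁻¹ : GL (Fin m ⊕ Fin m) F) : Matrix (Fin m ⊕ Fin m) (Fin m ⊕ Fin m) F) *ᵥ u)) := by
    intro u
    rw [Units.val_mul, Units.val_mul, ← mulVec_mulVec, ← mulVec_mulVec]
  have e2 : ∀ u : Fin m ⊕ Fin m → F,
      (Q : Matrix (Fin m ⊕ Fin m) (Fin m ⊕ Fin m) F) *ᵥ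
        (((Q⁻¹ : GL (Fin m ⊕ Fin m) F) : Matrix (Fin m ⊕ Fin m) (Fin m ⊕ Fin m) F) *ᵥ u) = u := by
    intro u
    rw [mulVec_mulVec, ← Units.val_mul, mul_inv_cancel, Units.val_one, one_mulVec]
  have e3 : ∀ u : Fin m ⊕ Fin m → F,
      ((Q⁻¹ : GL (Fin m ⊕ Fin m) F) : Matrix (Fin m ⊕ Fin m) (Fin m ⊕ Fin m) F) *ᵥ
        ((Q : Matrix (Fin m ⊕ Fin m) (Fin m ⊕ Fin m) F) *ᵥ u) = u := by
    intro u
    rw [mulVec_mulVec, ← Units.val_mul, inv_mul_cancel, Units.val_one, one_mulVec]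
  rw [mem_spGL_iff, mem_spGL_iff]
  simp only [← sympBilin_apply]
  constructor
  · intro hx u v
    have := hx ((Q : Matrix (Fin m ⊕ Fin m) (Fin m ⊕ Fin m) F) *ᵥ u)
      ((Q : Matrix (Fin m ⊕ Fin m) (Fin m ⊕ Fin m) F) *ᵥ v)
    rw [e, e, e3, e3] at this
    rw [← hQ, this, hQ]
  · intro hy u v
    rw [e, e]
    have h1 := hQ ((y : Matrix (Fin m ⊕ Fin m) (Fin m ⊕ Fin m) F) *ᵥ
      (((Q⁻¹ : GL (Fin m ⊕ Fin m) F) : Matrix (Fin m ⊕ Fin m) (Fin m ⊕ Fin m) F) *ᵥ u))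
      ((y : Matrix (Fin m ⊕ Fin m) (Fin m ⊕ Fin m) F) *ᵥ
      (((Q⁻¹ : GL (Fin m ⊕ Fin m) F) : Matrix (Fin m ⊕ Fin m) (Fin m ⊕ Fin m) F) *ᵥ v))
    rw [hy] at h1
    have h2 := hQ (((Q⁻¹ : GL (Fin m ⊕ Fin m) F) : Matrix (Fin m ⊕ Fin m) (Fin m ⊕ Fin m) F) *ᵥ u)
      (((Q⁻¹ : GL (Fin m ⊕ Fin m) F) : Matrix (Fin m ⊕ Fin m) (Fin m ⊕ Fin m) F) *ᵥ v)
    rw [e2, e2] at h2
    have h3 : ζ * sympBilin m F
        ((Q : Matrix (Fin m ⊕ Fin m) (Fin m ⊕ Fin m) F) *ᵥ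
          ((y : Matrix (Fin m ⊕ Fin m) (Fin m ⊕ Fin m) F) *ᵥ
            (((Q⁻¹ : GL (Fin m ⊕ Fin m) F) : Matrix (Fin m ⊕ Fin m) (Fin m ⊕ Fin m) F) *ᵥ u)))
        ((Q : Matrix (Fin m ⊕ Fin m) (Fin m ⊕ Fin m) F) *ᵥ
          ((y : Matrix (Fin m ⊕ Fin m) (Fin m ⊕ Fin m) F) *ᵥ
            (((Q⁻¹ : GL (Fin m ⊕ Fin m) F) : Matrix (Fin m ⊕ Fin m) (Fin m ⊕ Fin m) F) *ᵥ v))) =
        ζ * sympBilin m F u v := by
      rw [h1, h2]
    exact mul_left_cancel₀ hζ h3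

/-- **Maximality of the symplectic subfield groups** (the statement S5650 for `m ≥ 4`). -/
theorem sp_subfield_isMaximalIn [Fintype F] (hm : 4 ≤ m) (r : ℕ) (hr : r.Prime)
    (hcard : Fintype.card F = Nat.card F₀ ^ r) (P : GL (Fin m ⊕ Fin m) F) (ζ : F) (hζ : ζ ≠ 0)
    (hP : Cfsg.Geo.IsFormRationalStructure (Cfsg.sympForm m F) F₀ ζ P) :
    Cfsg.Geo.IsMaximalIn (Cfsg.spGL m F) (Cfsg.Geo.subfieldSubgroup F₀ P ⊓ Cfsg.spGL m F) := by
  obtain ⟨C, hC⟩ := exists_similitude m F₀ P ζ hζ hP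
  rw [← subfieldSubgroup_mul_rat m F₀ P C]
  obtain ⟨Q, hQ⟩ : ∃ Q : GL (Fin m ⊕ Fin m) F,
    Q = P * Matrix.GeneralLinearGroup.map F₀.subtype C := ⟨_, rfl⟩
  rw [← hQ] at hC ⊢
  apply isMaximalIn_of_map (MulAut.conj Q⁻¹)
  have h1 : (Cfsg.spGL m F).map (MulAut.conj Q⁻¹).toMonoidHom = Cfsg.spGL m F := by
    ext y
    rw [Subgroup.mem_map_equiv, MulAut.conj_symm_apply, inv_inv]
    exact conj_mem_spGL_iff m Q ζ hζ hC y
  have h2 : (Cfsg.Geo.subfieldSubgroup F₀ Q).map (MulAut.conj Q⁻¹).toMonoidHom =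
      Cfsg.Geo.subfieldSubgroup F₀ (1 : GL (Fin m ⊕ Fin m) F) := by
    rw [subfieldSubgroup_eq_map F₀ Q, Subgroup.map_map]
    have : (MulAut.conj Q⁻¹).toMonoidHom.comp (MulAut.conj Q).toMonoidHom =
        MonoidHom.id (GL (Fin m ⊕ Fin m) F) := by
      ext x
      simp [MulAut.conj_apply, mul_assoc]
    rw [this, Subgroup.map_id]
  rw [map_inf_equiv, h1, h2]
  exact std_isMaximalIn m F₀ hm r hr hcard

end Cfsg.Agent.Lib.Helper94
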