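/-
Helper94: Sylow 2-subgroups of the full orthogonal group of a plus-type quadratic space over the
field with two elements meet non-trivially (abstract part).

Idea: the pointwise stabiliser `C` of a totally singular subspace `W` of dimension `m - 1`
(with `W^⊥ = W ⊕ ⟨e, f⟩`, `e, f` a hyperbolic pair) has exponent dividing `8`, so it lies in a
conjugate of every Sylow 2-subgroup.  For any two isometries `y, z` the subspace `yW + zW` has
codimension at least two, so a reflection or a Siegel transformation fixes it pointwise.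
-/
import Mathlib
import Cfsg.Agent.Lib.Helper94.OrthSiegel
import Cfsg.Agent.Lib.Helper94.OrthSingular2

set_option autoImplicit false
set_option linter.unusedSimpArgs false
set_option linter.unusedSectionVars false
set_option linter.unusedVariables false

namespace Cfsg.Agent.Lib.Helper94

open LinearMap (BilinForm)
open Module
open scoped Pointwise

namespace SylowMeet

variable {K V : Type*} [Field K] [AddCommGroup V] [Module K V]
variable {B : BilinForm K V} {Q : V → K}

/-- arithmetic over the field with two elements -/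
lemma f2_arith (hK : ∀ a : K, a = 0 ∨ a = 1) {a1 b1 a2 b2 : K} (h1 : a1 * b1 = 0)
    (h2 : a2 * b2 = 0) (h3 : a1 * b2 + b1 * a2 = 1) :
    a1 * a1 + b1 * a2 = 1 ∧ a1 * b1 + b1 * b2 = 0 ∧ a2 * a1 + b2 * a2 = 0 ∧
      a2 * b1 + b2 * b2 = 1 := by
  rcases hK a1 with rfl | rfl <;> rcases hK b1 with rfl | rfl <;> rcases hK a2 with rfl | rfl <;>
    rcases hK b2 with rfl | rfl <;> simp_all

lemma two_eq_zero (hK : ∀ a : K, a = 0 ∨ a = 1) : (2 : K) = 0 := by
  rcases hK 2 with h | h
  · exact h
  · exfalso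
    have : (1 : K) = 0 := by linear_combination h
    exact one_ne_zero this

/-- an isometry fixing `W` pointwise moves every vector by a vector orthogonal to `W` -/
lemma B_sub_eq_zero (hQ : QuadData B Q) {W : Submodule K V} {h : V ≃ₗ[K] V} (hh : h ∈ OG Q)
    (hhW : ∀ w ∈ W, h w = w) (v : V) {w : V} (hw : w ∈ W) : B (h v - v) w = 0 := by
  have h1 : B (h v) (h w) = B v w := hQ.B_map hh v w
  rw [hhW w hw] at h1
  rw [map_sub, LinearMap.sub_apply, h1, sub_self]

/-- **Exponent eight.**  The pointwise stabiliser of a totally singular subspace `W` with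
`W^⊥ = W + ⟨e, f⟩` over the field with two elements has exponent dividing `8`. -/
theorem pow_eight_eq_one (hQ : QuadData B Q) (hK : ∀ a : K, a = 0 ∨ a = 1)
    (W : Submodule K V) (e f : V)
    (hWs : ∀ w ∈ W, Q w = 0) (he : Q e = 0) (hf : Q f = 0) (hef : B e f = 1)
    (hWe : ∀ w ∈ W, B w e = 0) (hWf : ∀ w ∈ W, B w f = 0)
    (hperp : ∀ u, (∀ w ∈ W, B u w = 0) → ∃ w ∈ W, ∃ α β : K, u = w + α • e + β • f)
    {g : V ≃ₗ[K] V} (hg : g ∈ OG Q) (hgW : ∀ w ∈ W, g w = w) : g ^ 8 = 1 := by
  have h2 : (2 : K) = 0 := two_eq_zero hK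
  have hWW : ∀ w ∈ W, ∀ w' ∈ W, B w w' = 0 := fun w hw w' hw' =>
    hQ.B_eq_zero_of_singular W hWs hw hw'
  have hee : B e e = 0 := by rw [hQ.self, he, mul_zero]
  have hff : B f f = 0 := by rw [hQ.self, hf, mul_zero]
  have hfe : B f e = 1 := by rw [hQ.symm, hef]
  have heW : ∀ w ∈ W, B e w = 0 := fun w hw => by rw [hQ.symm, hWe w hw]
  have hfW : ∀ w ∈ W, B f w = 0 := fun w hw => by rw [hQ.symm, hWf w hw]
  -- the images of `e` and `f`
  have hge_perp : ∀ w ∈ W, B (g e) w = 0 := by
    intro w hw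
    have h1 : B (g e) (g w) = B e w := hQ.B_map hg e w
    rw [hgW w hw] at h1
    rw [h1, heW w hw]
  have hgf_perp : ∀ w ∈ W, B (g f) w = 0 := by
    intro w hw
    have h1 : B (g f) (g w) = B f w := hQ.B_map hg f w
    rw [hgW w hw] at h1
    rw [h1, hfW w hw]
  obtain ⟨w1, hw1, a1, b1, hge⟩ := hperp (g e) hge_perp
  obtain ⟨w2, hw2, a2, b2, hgf⟩ := hperp (g f) hgf_perp
  -- norm of `w + a e + b f`
  have hnorm : ∀ w ∈ W, ∀ a b : K, Q (w + a • e + b • f) = a * b := by
    intro w hw a b
    rw [hQ.polar, hQ.polar, hQ.smul, hQ.smul, hWs w hw, he, hf]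
    simp only [map_add, map_smul, LinearMap.add_apply, LinearMap.smul_apply, smul_eq_mul,
      hWe w hw, hWf w hw, hef, hee, hff, hfe]
    ring
  have hpol : ∀ w ∈ W, ∀ w' ∈ W, ∀ a b a' b' : K,
      B (w + a • e + b • f) (w' + a' • e + b' • f) = a * b' + b * a' := by
    intro w hw w' hw' a b a' b'
    simp only [map_add, map_smul, LinearMap.add_apply, LinearMap.smul_apply, smul_eq_mul,
      hWe w hw, hWf w hw, hWe w' hw', hWf w' hw', heW w hw, hfW w hw, heW w' hw', hfW w' hw',
      hWW w hw w' hw', hef, hee, hff, hfe]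
    ring
  have e1 : a1 * b1 = 0 := by
    have := hg e
    rw [hge, hnorm w1 hw1, he] at this
    exact this
  have e2 : a2 * b2 = 0 := by
    have := hg f
    rw [hgf, hnorm w2 hw2, hf] at this
    exact this
  have e3 : a1 * b2 + b1 * a2 = 1 := by
    have := hQ.B_map hg e f
    rw [hge, hgf, hpol w1 hw1 w2 hw2, hef] at this
    exact this
  obtain ⟨c1, c2, c3, c4⟩ := f2_arith hK e1 e2 e3
  -- `h = g * g` acts trivially on `W^⊥ / W`
  set h : V ≃ₗ[K] V := g * g with hh
  have hhO : h ∈ OG Q := mul_mem hg hg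
  have hhW : ∀ w ∈ W, h w = w := by
    intro w hw
    rw [hh, LinearEquiv.mul_apply, hgW w hw, hgW w hw]
  have hhe : h e - e ∈ W := by
    have : h e - e = w1 + a1 • w1 + b1 • w2 := by
      rw [hh, LinearEquiv.mul_apply, hge]
      simp only [map_add, map_smul]
      rw [hgW w1 hw1, hge, hgf]
      simp only [smul_add, smul_smul]
      have x1 : (a1 * a1) • e + (b1 * a2) • e = e := by
        rw [← add_smul, c1, one_smul]
      have x2 : (a1 * b1) • f + (b1 * b2) • f = 0 := by
        rw [← add_smul, c2, zero_smul]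
      calc w1 + (a1 • w1 + (a1 * a1) • e + (a1 * b1) • f)
            + (b1 • w2 + (b1 * a2) • e + (b1 * b2) • f) - e
          = w1 + a1 • w1 + b1 • w2 + ((a1 * a1) • e + (b1 * a2) • e)
            + ((a1 * b1) • f + (b1 * b2) • f) - e := by abel
        _ = w1 + a1 • w1 + b1 • w2 := by rw [x1, x2]; abel
    rw [this]
    exact W.add_mem (W.add_mem hw1 (W.smul_mem _ hw1)) (W.smul_mem _ hw2)
  have hhf : h f - f ∈ W := by
    have : h f - f = w2 + a2 • w1 + b2 • w2 := by
      rw [hh, LinearEquiv.mul_apply, hgf]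
      simp only [map_add, map_smul]
      rw [hgW w2 hw2, hge, hgf]
      simp only [smul_add, smul_smul]
      have x1 : (a2 * a1) • e + (b2 * a2) • e = 0 := by
        rw [← add_smul, c3, zero_smul]
      have x2 : (a2 * b1) • f + (b2 * b2) • f = f := by
        rw [← add_smul, c4, one_smul]
      calc w2 + (a2 • w1 + (a2 * a1) • e + (a2 * b1) • f)
            + (b2 • w2 + (b2 * a2) • e + (b2 * b2) • f) - f
          = w2 + a2 • w1 + b2 • w2 + ((a2 * a1) • e + (b2 * a2) • e)
            + ((a2 * b1) • f + (b2 * b2) • f) - f := by abel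
        _ = w2 + a2 • w1 + b2 • w2 := by rw [x1, x2]; abel
    rw [this]
    exact W.add_mem (W.add_mem hw2 (W.smul_mem _ hw1)) (W.smul_mem _ hw2)
  -- the nilpotent part
  have hn1 : ∀ v, ∀ w ∈ W, B (h v - v) w = 0 := fun v w hw => B_sub_eq_zero hQ hhO hhW v hw
  have hn2 : ∀ u, (∀ w ∈ W, B u w = 0) → h u - u ∈ W := by
    intro u hu
    obtain ⟨w, hw, a, b, rfl⟩ := hperp u hu
    have : h (w + a • e + b • f) - (w + a • e + b • f) = a • (h e - e) + b • (h f - f) := by
      simp only [map_add, map_smul, hhW w hw, smul_sub]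
      abel
    rw [this]
    exact W.add_mem (W.smul_mem _ hhe) (W.smul_mem _ hhf)
  have hn3 : ∀ v, h (h (h v - v) - (h v - v)) = h (h v - v) - (h v - v) := by
    intro v
    exact hhW _ (hn2 _ (hn1 v))
  -- `h ^ 4 = 1`
  have hsq : ∀ v, h (h v) = v + (h (h v - v) - (h v - v)) := by
    intro v
    have e1 : h (h v - v) = h (h v) - h v := map_sub h _ _
    have e2 : h v + h v = 0 := by
      rw [← two_smul K (h v), h2, zero_smul]
    rw [e1]
    have : h (h v) - h v - (h v - v) = h (h v) - (h v + h v) + v := by abel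
    rw [this, e2, sub_zero]
    have e3 : v + v = 0 := by rw [← two_smul K v, h2, zero_smul]
    calc h (h v) = h (h v) + (v + v) := by rw [e3, add_zero]
      _ = v + (h (h v) + v) := by abel
  have h4 : ∀ v, h (h (h (h v))) = v := by
    intro v
    set n : V → V := fun x => h x - x with hn
    have hs : ∀ x, h (h x) = x + n (n x) := fun x => hsq x
    have hn3' : ∀ x, n (n (n x)) = 0 := by
      intro x
      show h (h (h x - x) - (h x - x)) - (h (h x - x) - (h x - x)) = 0
      rw [hn3 x, sub_self]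
    have hnadd : ∀ x y, n (x + y) = n x + n y := by
      intro x y
      show h (x + y) - (x + y) = (h x - x) + (h y - y)
      rw [map_add]; abel
    rw [hs (h (h v)), hs v, hnadd, hnadd, hn3', add_zero]
    have e3 : n (n v) + n (n v) = 0 := by rw [← two_smul K (n (n v)), h2, zero_smul]
    calc v + n (n v) + n (n v) = v + (n (n v) + n (n v)) := by abel
      _ = v := by rw [e3, add_zero]
  apply LinearEquiv.ext
  intro v
  have hpow : g ^ 8 = h * h * (h * h) := by
    rw [hh]
    simp only [pow_succ, pow_zero, one_mul, mul_assoc]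
  rw [hpow]
  simp only [LinearEquiv.mul_apply]
  rw [h4]
  rfl

/-- **A common fixing element.**  A subspace of codimension at least two in a non-degenerate
quadratic space is fixed pointwise by a non-trivial isometry. -/
theorem exists_fixing_ne_one [FiniteDimensional K V] (hQ : QuadData B Q)
    (hnd : ∀ x, (∀ y, B x y = 0) → x = 0) (S : Submodule K V)
    (hS : finrank K S + 2 ≤ finrank K V) :
    ∃ g : V ≃ₗ[K] V, g ∈ OG Q ∧ g ≠ 1 ∧ ∀ s ∈ S, g s = s := by
  classical
  have hU : 2 ≤ finrank K (B.orthogonal S) := by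
    rw [LinearMap.BilinForm.finrank_orthogonal (hQ.nondegenerate_of hnd)]
    omega
  have hmemU : ∀ {v : V}, v ∈ B.orthogonal S → ∀ s ∈ S, B s v = 0 := by
    intro v hv s hs
    rw [LinearMap.BilinForm.mem_orthogonal_iff] at hv
    exact hv s hs
  by_cases hcase : ∃ v ∈ B.orthogonal S, Q v ≠ 0
  · obtain ⟨v, hvU, hv⟩ := hcase
    have hv0 : v ≠ 0 := by
      rintro rfl
      exact hv hQ.zero
    obtain ⟨u, hu⟩ : ∃ u, B u v ≠ 0 := by
      by_contra hno
      push Not at hno
      apply hv0
      apply hnd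
      intro y
      rw [hQ.symm]
      exact hno y
    refine ⟨hQ.refl v hv, hQ.refl_mem_OG v hv, ?_, ?_⟩
    · intro h1
      have := hQ.refl_apply v hv u
      rw [h1] at this
      have h0 : ((Q v)⁻¹ * B u v) • v = 0 := by
        have h' : u = u - ((Q v)⁻¹ * B u v) • v := this
        have : u - (u - ((Q v)⁻¹ * B u v) • v) = 0 := by rw [← h']; exact sub_self u
        rwa [sub_sub_cancel] at this
      rcases smul_eq_zero.mp h0 with h0 | h0
      · exact (mul_ne_zero (inv_ne_zero hv) hu) h0
      · exact hv0 h0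
    · intro s hs
      rw [hQ.refl_apply, hmemU hvU s hs, mul_zero, zero_smul, sub_zero]
  · push Not at hcase
    -- two independent vectors
    have hne : B.orthogonal S ≠ ⊥ := by
      intro h
      rw [h, finrank_bot] at hU
      omega
    obtain ⟨a, haU, ha0⟩ := Submodule.exists_mem_ne_zero_of_ne_bot hne
    have hlt : finrank K (Submodule.span K {a}) < finrank K (B.orthogonal S) := by
      rw [finrank_span_singleton ha0]
      omega
    obtain ⟨b, hbU, hb⟩ := exists_mem_not_mem_of_finrank_lt (B.orthogonal S)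
      (Submodule.span K {a}) hlt
    have ha : Q a = 0 := hcase a haU
    have hbq : Q b = 0 := hcase b hbU
    have hab : B a b = 0 := hQ.B_eq_zero_of_singular _ hcase haU hbU
    obtain ⟨u, hu⟩ : ∃ u, B u a ≠ 0 := by
      by_contra hno
      push Not at hno
      apply ha0
      apply hnd
      intro y
      rw [hQ.symm]
      exact hno y
    refine ⟨QuadData.siegel B Q a b, QuadData.siegel_mem_OG hQ ha hbq hab, ?_, ?_⟩
    · intro h1
      have := QuadData.siegel_apply hQ ha hbq hab u
      rw [h1] at this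
      have h' : u = u + B u a • b - B u b • a := this
      have h0 : B u a • b = B u b • a := by
        have : u + B u a • b - B u b • a - u = 0 := by rw [← h']; exact sub_self u
        have h3 : B u a • b - B u b • a = 0 := by
          rw [← this]; abel
        exact sub_eq_zero.mp h3
      apply hb
      rw [Submodule.mem_span_singleton]
      refine ⟨(B u a)⁻¹ * B u b, ?_⟩
      rw [mul_smul, ← h0, smul_smul, inv_mul_cancel₀ hu, one_smul]
    · intro s hs
      rw [QuadData.siegel_apply hQ ha hbq hab, hmemU haU s hs, hmemU hbU s hs, zero_smul, zero_smul,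
        add_zero, sub_zero]

/-- **Main abstract theorem.** -/
theorem sylow_inf_conj_ne_bot {G : Type*} [Group G] [Finite G] [FiniteDimensional K V]
    (ρ : G →* (V ≃ₗ[K] V)) (hρ : Function.Injective ρ) (hρO : ∀ g, ρ g ∈ OG Q)
    (hρs : ∀ h ∈ OG Q, ∃ g, ρ g = h)
    (hQ : QuadData B Q) (hnd : ∀ x, (∀ y, B x y = 0) → x = 0) (hK : ∀ a : K, a = 0 ∨ a = 1)
    (W : Submodule K V) (e f : V)
    (hWs : ∀ w ∈ W, Q w = 0) (he : Q e = 0) (hf : Q f = 0) (hef : B e f = 1)
    (hWe : ∀ w ∈ W, B w e = 0) (hWf : ∀ w ∈ W, B w f = 0)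
    (hperp : ∀ u, (∀ w ∈ W, B u w = 0) → ∃ w ∈ W, ∃ α β : K, u = w + α • e + β • f)
    (hdim : 2 * finrank K W + 2 ≤ finrank K V)
    (H : Sylow 2 G) (x : G) :
    (H : Subgroup G) ⊓ MulAut.conj x • (H : Subgroup G) ≠ ⊥ := by
  classical
  have : Fact (Nat.Prime 2) := ⟨Nat.prime_two⟩
  -- the pointwise stabiliser
  let C : Subgroup G :=
    { carrier := {g | ∀ w ∈ W, ρ g w = w}
      mul_mem' := by
        intro a b ha hb w hw
        rw [map_mul, LinearEquiv.mul_apply, hb w hw, ha w hw]
      one_mem' := by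
        intro w hw
        rw [map_one]; rfl
      inv_mem' := by
        intro a ha w hw
        rw [map_inv]
        exact inv_apply_eq_of_apply_eq (ρ a) w (ha w hw) }
  have hC : IsPGroup 2 C := by
    intro g
    refine ⟨3, ?_⟩
    apply Subtype.ext
    apply hρ
    have h8 := pow_eight_eq_one hQ hK W e f hWs he hf hef hWe hWf hperp (hρO (g : G)) g.2
    rw [Subgroup.coe_pow, map_pow, Subgroup.coe_one, map_one]
    norm_num
    exact h8
  obtain ⟨P, hCP⟩ := hC.exists_le_sylow
  obtain ⟨y, hy⟩ := MulAction.exists_smul_eq G P H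
  -- the common fixing element
  set S : Submodule K V := W.map (ρ y : V →ₗ[K] V) ⊔ W.map (ρ (x * y) : V →ₗ[K] V) with hS
  have hSdim : finrank K S + 2 ≤ finrank K V := by
    have h1 : finrank K S ≤ finrank K (W.map (ρ y : V →ₗ[K] V)) +
        finrank K (W.map (ρ (x * y) : V →ₗ[K] V)) := Submodule.finrank_add_le_finrank_add_finrank _ _
    have h2 : finrank K (W.map (ρ y : V →ₗ[K] V)) ≤ finrank K W := Submodule.finrank_map_le _ _
    have h3 : finrank K (W.map (ρ (x * y) : V →ₗ[K] V)) ≤ finrank K W :=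
      Submodule.finrank_map_le _ _
    omega
  obtain ⟨g₀, hg₀O, hg₀1, hg₀S⟩ := exists_fixing_ne_one hQ hnd S hSdim
  obtain ⟨g, rfl⟩ := hρs g₀ hg₀O
  have hg1 : g ≠ 1 := by
    rintro rfl
    exact hg₀1 (map_one ρ)
  -- membership in `y C y⁻¹`
  have key : ∀ z : G, (∀ w ∈ W, ρ g (ρ z w) = ρ z w) → z⁻¹ * g * z ∈ C := by
    intro z hz w hw
    rw [map_mul, map_mul, map_inv, LinearEquiv.mul_apply, LinearEquiv.mul_apply, hz w hw]
    rw [← LinearEquiv.mul_apply, inv_mul_cancel]
    rfl
  have hzy : y⁻¹ * g * y ∈ C := by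
    apply key
    intro w hw
    apply hg₀S
    rw [hS]
    exact Submodule.mem_sup_left (Submodule.mem_map_of_mem hw)
  have hzxy : (x * y)⁻¹ * g * (x * y) ∈ C := by
    apply key
    intro w hw
    apply hg₀S
    rw [hS]
    exact Submodule.mem_sup_right (Submodule.mem_map_of_mem hw)
  have hHmem : ∀ k : G, y⁻¹ * k * y ∈ (P : Subgroup G) → k ∈ (H : Subgroup G) := by
    intro k hk
    rw [← hy, Sylow.coe_subgroup_smul, Subgroup.mem_pointwise_smul_iff_inv_smul_mem]
    have : (MulAut.conj y)⁻¹ • k = y⁻¹ * k * y := by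
      rw [MulAut.smul_def, ← map_inv, MulAut.conj_apply, inv_inv]
    rw [this]
    exact hk
  have hgH : g ∈ (H : Subgroup G) := hHmem g (hCP hzy)
  have hgHx : g ∈ MulAut.conj x • (H : Subgroup G) := by
    rw [Subgroup.mem_pointwise_smul_iff_inv_smul_mem]
    have : (MulAut.conj x)⁻¹ • g = x⁻¹ * g * x := by
      rw [MulAut.smul_def, ← map_inv, MulAut.conj_apply, inv_inv]
    rw [this]
    apply hHmem
    have : y⁻¹ * (x⁻¹ * g * x) * y = (x * y)⁻¹ * g * (x * y) := by group
    rw [this]
    exact hCP hzxy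
  intro hbot
  have : g ∈ (H : Subgroup G) ⊓ MulAut.conj x • (H : Subgroup G) := ⟨hgH, hgHx⟩
  rw [hbot, Subgroup.mem_bot] at this
  exact hg1 this

end SylowMeet

end Cfsg.Agent.Lib.Helper94
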