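/-
Helper94: Sylow 2-subgroups of `O⁺(2m, 2)` (Prelude model) meet non-trivially: concrete part.
-/
import Mathlib
import Cfsg.Agent.Lib.Helper94.SylowMeet
import Cfsg.Agent.Lib.Helper94.MaxSingularPlus
import Cfsg.Agent.Lib.Helper94.MaxSingularBridge

set_option autoImplicit false
set_option linter.unusedSimpArgs false
set_option linter.unusedSectionVars false
set_option linter.unusedVariables false

namespace Cfsg.Agent.Lib.Helper94

open LinearMap (BilinForm)
open Module
open scoped Pointwise

namespace SylowMeet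

variable (m : ℕ) (F : Type*) [Field F]

lemma quadData_plus : QuadData (plusBil m F) (Cfsg.quadFormPlus m F) where
  smul := by
    intro c v
    have := (plusQF m F).toFun_smul c v
    rw [pow_two]
    exact this
  polar := by
    intro u v
    have h := plusQF_polar m F u v
    unfold QuadraticMap.polar at h
    have h' : Cfsg.quadFormPlus m F (u + v) - Cfsg.quadFormPlus m F u - Cfsg.quadFormPlus m F v
        = plusBil m F u v := h
    linear_combination h'

lemma plus_nondeg (x : Fin m ⊕ Fin m → F) (hx : ∀ y, plusBil m F x y = 0) : x = 0 := by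
  apply (plusQF_nondeg m F).1 x
  intro y
  show QuadraticMap.polar (⇑(plusQF m F)) x y = 0
  rw [plusQF_polar]
  exact hx y

variable {m} in
/-- the totally singular subspace `{y = 0, x_l = 0}` -/
def W0 (l : Fin m) : Submodule F (Fin m ⊕ Fin m → F) :=
  U0 m F ⊓ LinearMap.ker (LinearMap.proj (R := F) (φ := fun _ : Fin m ⊕ Fin m => F) (Sum.inl l))

variable {m F}

lemma mem_W0 (l : Fin m) (v : Fin m ⊕ Fin m → F) :
    v ∈ W0 F l ↔ (∀ i, v (Sum.inr i) = 0) ∧ v (Sum.inl l) = 0 := by
  rw [W0, Submodule.mem_inf, mem_U0, LinearMap.mem_ker, LinearMap.proj_apply]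

lemma card_two [Fintype F] (hF : Fintype.card F = 2) (a : F) : a = 0 ∨ a = 1 := by
  by_cases h : a = 0
  · exact Or.inl h
  · right
    have := FiniteField.pow_card_sub_one_eq_one a h
    rw [hF] at this
    simpa using this

end SylowMeet

open SylowMeet in
/-- **Sylow 2-subgroups of `O⁺(2m, 2)` meet non-trivially.** -/
theorem sylow_plus_inf_conj_ne_bot {F : Type*} [Field F] [Fintype F] (hF : Fintype.card F = 2)
    {m : ℕ} (hm : 1 ≤ m)
    (H : Sylow 2 (Cfsg.isometryGroup F (Cfsg.quadFormPlus m F)))
    (x : Cfsg.isometryGroup F (Cfsg.quadFormPlus m F)) :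
    (H : Subgroup (Cfsg.isometryGroup F (Cfsg.quadFormPlus m F))) ⊓
      MulAut.conj x • (H : Subgroup _) ≠ ⊥ := by
  classical
  let l : Fin m := ⟨0, by omega⟩
  let e : Fin m ⊕ Fin m → F := Pi.single (Sum.inl l) 1
  let f : Fin m ⊕ Fin m → F := Pi.single (Sum.inr l) 1
  have hQ := quadData_plus m F
  have hfin : Finite (Cfsg.isometryGroup F (Cfsg.quadFormPlus m F)) := inferInstance
  let ρ : ↥(Cfsg.isometryGroup F (Cfsg.quadFormPlus m F)) →*
      ((Fin m ⊕ Fin m → F) ≃ₗ[F] (Fin m ⊕ Fin m → F)) :=
    (glEquiv (Fin m ⊕ Fin m) F).toMonoidHom.comp (Subgroup.subtype _)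
  have hρ : Function.Injective ρ := by
    intro a b hab
    apply Subtype.ext
    exact (glEquiv (Fin m ⊕ Fin m) F).injective hab
  have hρO : ∀ g, ρ g ∈ OG (Cfsg.quadFormPlus m F) := fun g => glEquiv_mem_OG _ g
  have hρs : ∀ h ∈ OG (Cfsg.quadFormPlus m F), ∃ g, ρ g = h := by
    intro h hh
    rw [← map_isometryGroup] at hh
    obtain ⟨g', hg', rfl⟩ := hh
    exact ⟨⟨g', hg'⟩, rfl⟩
  have eapp_inl : ∀ i : Fin m, e (Sum.inl i) = if i = l then 1 else 0 := by
    intro i
    show (Pi.single (Sum.inl l) (1 : F) : Fin m ⊕ Fin m → F) (Sum.inl i) = _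
    rw [Pi.single_apply]
    simp only [Sum.inl.injEq]
  have eapp_inr : ∀ i : Fin m, e (Sum.inr i) = 0 := by
    intro i
    show (Pi.single (Sum.inl l) (1 : F) : Fin m ⊕ Fin m → F) (Sum.inr i) = _
    rw [Pi.single_apply]
    simp
  have fapp_inr : ∀ i : Fin m, f (Sum.inr i) = if i = l then 1 else 0 := by
    intro i
    show (Pi.single (Sum.inr l) (1 : F) : Fin m ⊕ Fin m → F) (Sum.inr i) = _
    rw [Pi.single_apply]
    simp only [Sum.inr.injEq]
  have fapp_inl : ∀ i : Fin m, f (Sum.inl i) = 0 := by
    intro i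
    show (Pi.single (Sum.inr l) (1 : F) : Fin m ⊕ Fin m → F) (Sum.inl i) = _
    rw [Pi.single_apply]
    simp
  have hWs : ∀ w ∈ W0 F l, Cfsg.quadFormPlus m F w = 0 := by
    intro w hw
    exact U0_singular m F w hw.1
  have he : Cfsg.quadFormPlus m F e = 0 := by
    unfold Cfsg.quadFormPlus
    apply Finset.sum_eq_zero
    intro i _
    rw [eapp_inr, mul_zero]
  have hf : Cfsg.quadFormPlus m F f = 0 := by
    unfold Cfsg.quadFormPlus
    apply Finset.sum_eq_zero
    intro i _
    rw [fapp_inl, zero_mul]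
  have hef : plusBil m F e f = 1 := by
    rw [plusBil_apply, Finset.sum_eq_single l]
    · rw [eapp_inl, fapp_inr, fapp_inl, eapp_inr]; simp
    · intro i _ hi
      rw [eapp_inl, fapp_inr, fapp_inl, eapp_inr]; simp [hi]
    · intro h; exact absurd (Finset.mem_univ l) h
  have hWe : ∀ w ∈ W0 F l, plusBil m F w e = 0 := by
    intro w hw
    rw [mem_W0] at hw
    rw [plusBil_apply]
    apply Finset.sum_eq_zero
    intro i _
    rw [eapp_inr, hw.1 i]; simp
  have hWf : ∀ w ∈ W0 F l, plusBil m F w f = 0 := by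
    intro w hw
    rw [mem_W0] at hw
    rw [plusBil_apply]
    apply Finset.sum_eq_zero
    intro i _
    rw [fapp_inr, fapp_inl, hw.1 i]
    by_cases hi : i = l
    · rw [hi, hw.2]; simp
    · simp [hi]
  have hperp : ∀ u, (∀ w ∈ W0 F l, plusBil m F u w = 0) →
      ∃ w ∈ W0 F l, ∃ α β : F, u = w + α • e + β • f := by
    intro u hu
    have hu' : ∀ j : Fin m, j ≠ l → u (Sum.inr j) = 0 := by
      intro j hj
      have hmem : (Pi.single (Sum.inl j) (1 : F) : Fin m ⊕ Fin m → F) ∈ W0 F l := by
        rw [mem_W0]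
        constructor
        · intro i
          rw [Pi.single_apply]; simp
        · rw [Pi.single_apply]
          simp only [Sum.inl.injEq]
          rw [if_neg (fun h => hj h.symm)]
      have := hu _ hmem
      rw [plusBil_apply, Finset.sum_eq_single j] at this
      · simpa [Pi.single_apply] using this
      · intro i _ hij
        simp [Pi.single_apply, hij]
      · intro h; exact absurd (Finset.mem_univ j) h
    refine ⟨fun k => Sum.elim (fun i => if i = l then 0 else u (Sum.inl i)) (fun _ => 0) k, ?_,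
      u (Sum.inl l), u (Sum.inr l), ?_⟩
    · rw [mem_W0]
      constructor
      · intro i; rfl
      · show (if l = l then (0 : F) else u (Sum.inl l)) = 0
        rw [if_pos rfl]
    · funext k
      rcases k with i | i
      · simp only [Pi.add_apply, Pi.smul_apply, smul_eq_mul, Sum.elim_inl, eapp_inl, fapp_inl]
        by_cases hi : i = l
        · rw [hi]; simp
        · simp [hi]
      · simp only [Pi.add_apply, Pi.smul_apply, smul_eq_mul, Sum.elim_inr, eapp_inr, fapp_inr]
        by_cases hi : i = l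
        · rw [hi]; simp
        · simp [hi, hu' i hi]
  have hdim : 2 * finrank F (W0 F l) + 2 ≤ finrank F (Fin m ⊕ Fin m → F) := by
    rw [finrank_plusSpace]
    have hlt : W0 F l < U0 m F := by
      refine lt_of_le_of_ne inf_le_left ?_
      intro heq
      have heU : e ∈ U0 m F := by
        rw [mem_U0]; exact eapp_inr
      rw [← heq, mem_W0] at heU
      have := heU.2
      rw [eapp_inl, if_pos rfl] at this
      exact one_ne_zero this
    have := Submodule.finrank_lt_finrank_of_lt hlt
    rw [finrank_U0] at this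
    omega
  exact sylow_inf_conj_ne_bot ρ hρ hρO hρs hQ (plus_nondeg m F) (card_two hF) (W0 F l) e f
    hWs he hf hef hWe hWf hperp hdim H x

end Cfsg.Agent.Lib.Helper94
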