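/-
Helper94: over the field with two elements, the stabiliser of an orthogonal decomposition into
non-degenerate planes is not maximal in the symplectic group: it preserves a quadratic form.
-/
import Mathlib
import Cfsg.Agent.Lib.Helper94.SympBasic
import Cfsg.Agent.Lib.Helper94.SympMax
import Cfsg.Agent.Lib.Helper94.SympDecomp

set_option autoImplicit false
set_option linter.unusedSimpArgs false
set_option linter.unusedSectionVars false

namespace Cfsg.Agent.Lib.Helper94

open LinearMap (BilinForm)

variable {K V : Type*} [Field K] [AddCommGroup V] [Module K V]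

namespace SympData

variable {B : BilinForm K V}

open Classical in
/-- The quadratic form counting (mod 2) the members of the decomposition to which `x` is not
orthogonal. -/
noncomputable def Qf (B : BilinForm K V) {t : ℕ} (D : Fin t → Submodule K V) (x : V) : K :=
  ∑ i, if x ∈ B.orthogonal (D i) then (0 : K) else 1

lemma char_two_of_card (hK2 : ∀ c : K, c = 0 ∨ c = 1) : (1 : K) + 1 = 0 := by
  rcases hK2 (1 + 1) with h | h
  · exact h
  · exfalso
    have : (1 : K) = 0 := by linear_combination h
    exact one_ne_zero this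

section FD

variable [FiniteDimensional K V] {t : ℕ} {D : Fin t → Submodule K V}

/-- a non-degenerate plane is spanned by a hyperbolic pair -/
lemma plane_eq (h : SympData B) (hD : OrthoDecomp B 2 D) {i : Fin t} {a f : V} (ha : a ∈ D i)
    (hf : f ∈ D i) (haf : B a f = 1) {u : V} (hu : u ∈ D i) : u = B u f • a - B u a • f := by
  have hfr := h.finrank_hypCompl ha hf haf
  rw [hD.finrank_eq i] at hfr
  have hbot : hypCompl B (D i) a f = ⊥ := by
    apply Submodule.finrank_eq_zero.1
    omega
  have hp := h.hypProj_mem_hypCompl ha hf haf hu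
  rw [hbot, Submodule.mem_bot] at hp
  have := eq_hypProj_add (B := B) a f u
  rw [hp, zero_add] at this
  exact this

open Classical in
/-- the local change of the indicator -/
lemma ind_add (h : SympData B) (hK2 : ∀ c : K, c = 0 ∨ c = 1) (hD : OrthoDecomp B 2 D)
    {i : Fin t} {a : V} (ha : a ∈ D i) (ha0 : a ≠ 0) (x : V) :
    (if x + a ∈ B.orthogonal (D i) then (0 : K) else 1) =
      (if x ∈ B.orthogonal (D i) then (0 : K) else 1) + 1 + B x a := by
  have h2 := char_two_of_card hK2
  obtain ⟨f, hf, haf⟩ := exists_hyp_partner (hD.nondeg i) ha ha0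
  rcases hK2 (B x a) with hxa | hxa
  · -- `B x a = 0`
    have hx_iff : x ∈ B.orthogonal (D i) ↔ B x f = 0 := by
      rw [h.mem_orthogonal]
      constructor
      · intro hx; exact hx f hf
      · intro hxf u hu
        rw [h.plane_eq hD ha hf haf hu, map_sub, map_smul, map_smul, hxa, hxf]
        simp
    have hxa_iff : x + a ∈ B.orthogonal (D i) ↔ B x f = 1 := by
      rw [h.mem_orthogonal]
      constructor
      · intro hx
        have := hx f hf
        rw [map_add, LinearMap.add_apply, haf] at this
        rcases hK2 (B x f) with h0 | h1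
        · rw [h0, zero_add] at this
          exact absurd this one_ne_zero
        · exact h1
      · intro hxf u hu
        rw [h.plane_eq hD ha hf haf hu, map_sub, map_smul, map_smul, map_add, LinearMap.add_apply,
          LinearMap.add_apply, hxa, hxf, h.alt, haf]
        simp only [smul_eq_mul, add_zero, mul_zero, zero_sub]
        rw [h2, mul_zero, neg_zero]
    rcases hK2 (B x f) with hxf | hxf
    · have h1 : x ∈ B.orthogonal (D i) := hx_iff.2 hxf
      have h3 : x + a ∉ B.orthogonal (D i) := by
        rw [hxa_iff, hxf]; exact zero_ne_one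
      rw [if_pos h1, if_neg h3, hxa]; ring
    · have h1 : x ∉ B.orthogonal (D i) := by
        rw [hx_iff, hxf]; exact one_ne_zero
      have h3 : x + a ∈ B.orthogonal (D i) := hxa_iff.2 hxf
      rw [if_neg h1, if_pos h3, hxa]
      linear_combination -h2
  · -- `B x a = 1`
    have h1 : x ∉ B.orthogonal (D i) := by
      intro hx
      have := (h.mem_orthogonal.1 hx) a ha
      rw [hxa] at this
      exact one_ne_zero this
    have h3 : x + a ∉ B.orthogonal (D i) := by
      intro hx
      have := (h.mem_orthogonal.1 hx) a ha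
      rw [map_add, LinearMap.add_apply, h.alt, hxa, add_zero] at this
      exact one_ne_zero this
    rw [if_neg h1, if_neg h3, hxa]
    linear_combination -h2

open Classical in
/-- **Key formula**: `Q (x + a) = Q x + 1 + B x a` for a non-zero `a` in a member. -/
lemma Qf_add (h : SympData B) (hK2 : ∀ c : K, c = 0 ∨ c = 1) (hD : OrthoDecomp B 2 D)
    {i : Fin t} {a : V} (ha : a ∈ D i) (ha0 : a ≠ 0) (x : V) :
    Qf B D (x + a) = Qf B D x + 1 + B x a := by
  have key : ∀ j, (if x + a ∈ B.orthogonal (D j) then (0 : K) else 1) =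
      (if x ∈ B.orthogonal (D j) then (0 : K) else 1) + if j = i then 1 + B x a else 0 := by
    intro j
    by_cases hji : j = i
    · subst hji
      rw [if_pos rfl, h.ind_add hK2 hD ha ha0 x]; ring
    · rw [if_neg hji, add_zero]
      have ha' : a ∈ B.orthogonal (D j) :=
        h.mem_orthogonal.2 fun u hu => hD.ortho i j (Ne.symm hji) a ha u hu
      have : x + a ∈ B.orthogonal (D j) ↔ x ∈ B.orthogonal (D j) := by
        constructor
        · intro hx
          have := (B.orthogonal (D j)).sub_mem hx ha'
          simpa using this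
        · intro hx
          exact (B.orthogonal (D j)).add_mem hx ha'
      simp only [this]
  simp only [Qf]
  rw [Finset.sum_congr rfl (fun j _ => key j), Finset.sum_add_distrib, Finset.sum_ite_eq']
  simp [add_assoc]

open Classical in
lemma Qf_zero : Qf B D 0 = 0 := by
  simp [Qf]

open Classical in
/-- elements of the stabiliser of the decomposition preserve `Q` -/
lemma Qf_map (h : SympData B) {g : V ≃ₗ[K] V} (hg : g ∈ stabDec D ⊓ Sp B) (x : V) :
    Qf B D (g x) = Qf B D x := by
  obtain ⟨⟨σ, hσ⟩, hgS⟩ := hg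
  simp only [Qf]
  rw [← Equiv.sum_comp σ]
  apply Finset.sum_congr rfl
  intro i _
  have : g x ∈ B.orthogonal (D (σ i)) ↔ x ∈ B.orthogonal (D i) := by
    rw [h.mem_orthogonal, h.mem_orthogonal]
    constructor
    · intro hx u hu
      have := hx (g u) (by rw [← hσ]; exact ⟨u, hu, rfl⟩)
      rwa [hgS x u] at this
    · intro hx w hw
      rw [← hσ] at hw
      obtain ⟨u, hu, rfl⟩ := hw
      change B (g x) (g u) = 0
      rw [hgS x u]; exact hx u hu
  simp only [this]

/-- The isometries preserving `Q`. -/
def OQ (B : BilinForm K V) (D : Fin t → Submodule K V) : Subgroup (V ≃ₗ[K] V) where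
  carrier := {g | g ∈ Sp B ∧ ∀ x, Qf B D (g x) = Qf B D x}
  mul_mem' {a b} ha hb := by
    refine ⟨mul_mem ha.1 hb.1, fun x => ?_⟩
    rw [LinearEquiv.mul_apply, ha.2, hb.2]
  one_mem' := ⟨one_mem _, fun x => rfl⟩
  inv_mem' {a} ha := by
    refine ⟨inv_mem ha.1, fun x => ?_⟩
    have := ha.2 (a⁻¹ x)
    rw [← LinearEquiv.mul_apply, mul_inv_cancel] at this
    exact this.symm

/-- a vector with a non-zero component in `D i` and a non-zero rest lies in no member -/
lemma add_not_mem (h : SympData B) (hD : OrthoDecomp B 2 D) {i : Fin t} {a r : V} (ha : a ∈ D i)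
    (ha0 : a ≠ 0) (hr : r ∈ B.orthogonal (D i)) (hr0 : r ≠ 0) (l : Fin t) : a + r ∉ D l := by
  intro hmem
  by_cases hli : l = i
  · subst hli
    apply hr0
    have hrD : r ∈ D l := by
      have := (D l).sub_mem hmem ha
      simpa using this
    exact hD.nondeg l r hrD (h.mem_orthogonal.1 hr)
  · apply ha0
    apply hD.nondeg i a ha
    intro u hu
    have h1 := hD.ortho l i hli (a + r) hmem u hu
    rwa [map_add, LinearMap.add_apply, (h.mem_orthogonal.1 hr) u hu, add_zero] at h1

/-- **Non-maximality** over the field with two elements. -/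
theorem exists_between_stabDec (h : SympData B) (hK2 : ∀ c : K, c = 0 ∨ c = 1)
    (hD : OrthoDecomp B 2 D) (ht : 3 ≤ t) :
    ∃ Kg : Subgroup (V ≃ₗ[K] V), stabDec D ⊓ Sp B < Kg ∧ Kg < Sp B := by
  have h2 := char_two_of_card hK2
  let i0 : Fin t := ⟨0, by omega⟩
  let i1 : Fin t := ⟨1, by omega⟩
  let i2 : Fin t := ⟨2, by omega⟩
  have h01 : i0 ≠ i1 := by
    intro h0; have := congrArg Fin.val h0; simp [i0, i1] at this
  have h02 : i0 ≠ i2 := by
    intro h0; have := congrArg Fin.val h0; simp [i0, i2] at this
  have h12 : i1 ≠ i2 := by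
    intro h0; have := congrArg Fin.val h0; simp [i1, i2] at this
  obtain ⟨a0, ha0, ha00⟩ := Submodule.exists_mem_ne_zero_of_ne_bot (hD.ne_bot i0)
  obtain ⟨a1, ha1, ha10⟩ := Submodule.exists_mem_ne_zero_of_ne_bot (hD.ne_bot i1)
  obtain ⟨a2, ha2, ha20⟩ := Submodule.exists_mem_ne_zero_of_ne_bot (hD.ne_bot i2)
  obtain ⟨b, hb, hab⟩ := exists_hyp_partner (hD.nondeg i0) ha0 ha00
  have hba : B b a0 = 1 := by
    rw [h.skew, hab]
    linear_combination -h2
  have hb0 : b ≠ 0 := by
    rintro rfl
    simp at hab
  -- orthogonality relations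
  have o01 : ∀ u ∈ D i0, ∀ v ∈ D i1, B u v = 0 := hD.ortho i0 i1 h01
  have o02 : ∀ u ∈ D i0, ∀ v ∈ D i2, B u v = 0 := hD.ortho i0 i2 h02
  have o12 : ∀ u ∈ D i1, ∀ v ∈ D i2, B u v = 0 := hD.ortho i1 i2 h12
  refine ⟨OQ B D, ?_, ?_⟩
  · -- the stabiliser is strictly smaller than `OQ`
    rw [SetLike.lt_iff_le_and_exists]
    refine ⟨fun g hg => ⟨hg.2, h.Qf_map hg⟩, ?_⟩
    set v : V := a0 + a1 + a2 with hv
    refine ⟨h.tv v 1, ⟨h.tv_mem_Sp _ _, ?_⟩, ?_⟩
    · intro x
      rw [tv_apply, one_mul]
      rcases hK2 (B x v) with hxv | hxv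
      · rw [hxv, zero_smul, add_zero]
      · rw [hxv, one_smul, hv, ← add_assoc, ← add_assoc, h.Qf_add hK2 hD ha2 ha20,
          h.Qf_add hK2 hD ha1 ha10, h.Qf_add hK2 hD ha0 ha00]
        have e1 : B (x + a0 + a1) a2 = B x a2 := by
          rw [map_add, map_add, LinearMap.add_apply, LinearMap.add_apply, o02 a0 ha0 a2 ha2,
            o12 a1 ha1 a2 ha2, add_zero, add_zero]
        have e2 : B (x + a0) a1 = B x a1 := by
          rw [map_add, LinearMap.add_apply, o01 a0 ha0 a1 ha1, add_zero]
        have e3 : B x a0 + B x a1 + B x a2 = 1 := by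
          rw [hv, map_add, map_add] at hxv
          exact hxv
        rw [e1, e2]
        linear_combination e3 + 2 * h2
    · -- `tv v 1` does not stabilise the decomposition
      intro hmem
      obtain ⟨σ, hσ⟩ := hmem.1
      have hbmem : h.tv v 1 b ∈ D (σ i0) := by
        rw [← hσ]; exact ⟨b, hb, rfl⟩
      have hbv : B b v = 1 := by
        rw [hv, map_add, map_add, hba, o01 b hb a1 ha1, o02 b hb a2 ha2, add_zero, add_zero]
      rw [tv_apply, one_mul, hbv, one_smul, hv] at hbmem
      have e : b + (a0 + a1 + a2) = (b + a0) + (a1 + a2) := by abel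
      rw [e] at hbmem
      refine h.add_not_mem hD ((D i0).add_mem hb ha0) ?_ ?_ ?_ _ hbmem
      · intro h0
        have : b = -a0 := eq_neg_of_add_eq_zero_left h0
        rw [this, map_neg, LinearMap.neg_apply, h.alt, neg_zero] at hba
        exact zero_ne_one hba
      · rw [h.mem_orthogonal]
        intro u hu
        rw [map_add, LinearMap.add_apply, h.eq_zero_comm.1 (o01 u hu a1 ha1),
          h.eq_zero_comm.1 (o02 u hu a2 ha2), add_zero]
      · intro h0
        exact hD.pair_not_mem h12 ha1 ha10 ha2 ha20 i0 (by rw [h0]; exact (D i0).zero_mem)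
  · -- `OQ` is strictly smaller than the isometry group
    rw [SetLike.lt_iff_le_and_exists]
    refine ⟨fun g hg => hg.1, ?_⟩
    set v : V := a0 + a1 with hv
    refine ⟨h.tv v 1, h.tv_mem_Sp _ _, ?_⟩
    intro hmem
    have hbv : B b v = 1 := by
      rw [hv, map_add, hba, o01 b hb a1 ha1, add_zero]
    have := hmem.2 b
    rw [tv_apply, one_mul, hbv, one_smul, hv, ← add_assoc, h.Qf_add hK2 hD ha1 ha10,
      h.Qf_add hK2 hD ha0 ha00] at this
    have e1 : B (b + a0) a1 = 0 := by
      rw [map_add, LinearMap.add_apply, o01 b hb a1 ha1, o01 a0 ha0 a1 ha1, add_zero]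
    have e2 : Qf B D b = 1 := by
      have := h.Qf_add hK2 hD hb hb0 0
      rw [zero_add, Qf_zero] at this
      rw [this]; simp
    rw [e1, hba, e2] at this
    have h3 : (1 : K) = 0 := by linear_combination -this + 2 * h2
    exact one_ne_zero h3

end FD

end SympData

end Cfsg.Agent.Lib.Helper94
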