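/-
Helper94: tensor decompositions whose second factor acts monomially on a frame (the mirror image of
`TensorMono`).
-/
import Mathlib
import Cfsg.Prelude.Def_GeometricClasses
import Cfsg.Agent.Lib.Helper94.TensorMono

set_option autoImplicit false
set_option linter.unusedSimpArgs false
set_option linter.unusedSectionVars false
set_option linter.unusedVariables false

namespace Cfsg.Agent.Lib.Helper94

open scoped MatrixGroups Matrix Kronecker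

variable {ι : Type} [Fintype ι] [DecidableEq ι] {F : Type*} [Field F] {n₁ n₂ : ℕ}

/-- the subspace of the images of the pure tensors `u ⊗ w`, `w` fixed -/
noncomputable def tensD' (e : ι ≃ Fin n₁ × Fin n₂) (P : GL ι F) (w : Fin n₂ → F) :
    Submodule F (ι → F) :=
  LinearMap.range (((tensPhi e P : (Fin n₁ × Fin n₂ → F) ≃ₗ[F] (ι → F)) :
    (Fin n₁ × Fin n₂ → F) →ₗ[F] (ι → F)) ∘ₗ pureRight w)

lemma mem_tensD' {e : ι ≃ Fin n₁ × Fin n₂} {P : GL ι F} {w : Fin n₂ → F} {x : ι → F} :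
    x ∈ tensD' e P w ↔ ∃ u : Fin n₁ → F, tensPhi e P (pureT u w) = x := by
  rw [tensD', LinearMap.mem_range]
  rfl

lemma tens_mem_tensD' (e : ι ≃ Fin n₁ × Fin n₂) (P : GL ι F) (u : Fin n₁ → F) (w : Fin n₂ → F) :
    tensPhi e P (pureT u w) ∈ tensD' e P w := mem_tensD'.2 ⟨u, rfl⟩

/-- a Kronecker product whose second factor is monomial on the frame `b` permutes the members of
the induced decomposition -/
lemma mem_stabDec_of_monomial' {e : ι ≃ Fin n₁ × Fin n₂} {P : GL ι F} {t : ℕ}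
    (b : Fin t → (Fin n₂ → F)) {g : (ι → F) ≃ₗ[F] (ι → F)}
    {A : GL (Fin n₁) F} {B : GL (Fin n₂) F}
    (hg : ∀ x, g (tensPhi e P x) = tensPhi e P
      (((A : Matrix (Fin n₁) (Fin n₁) F) ⊗ₖ (B : Matrix (Fin n₂) (Fin n₂) F)) *ᵥ x))
    (π : Fin t → Fin t) (hπ : Function.Injective π)
    (hB : ∀ j, ∃ ε : F, ε ≠ 0 ∧ (B : Matrix (Fin n₂) (Fin n₂) F) *ᵥ b j = ε • b (π j)) :
    g ∈ SympData.stabDec (fun j => tensD' e P (b j)) := by
  rw [SympData.mem_stabDec]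
  refine ⟨Equiv.ofBijective π (Finite.injective_iff_bijective.1 hπ), fun j => ?_⟩
  rw [Equiv.ofBijective_apply]
  obtain ⟨ε, hε, hBj⟩ := hB j
  apply le_antisymm
  · rintro x ⟨y, hy, rfl⟩
    obtain ⟨u, rfl⟩ := mem_tensD'.1 hy
    change g _ ∈ _
    rw [hg, kronecker_mulVec_pureT, hBj, pureT_smul_right, ← pureT_smul_left]
    exact tens_mem_tensD' _ _ _ _
  · intro x hx
    obtain ⟨u, rfl⟩ := mem_tensD'.1 hx
    refine ⟨tensPhi e P (pureT (ε⁻¹ • ((A⁻¹ : GL (Fin n₁) F) : Matrix (Fin n₁) (Fin n₁) F) *ᵥ u)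
      (b j)), tens_mem_tensD' _ _ _ _, ?_⟩
    change g _ = _
    rw [hg, kronecker_mulVec_pureT, hBj, Matrix.mulVec_smul, Matrix.mulVec_mulVec, ← Units.val_mul,
      mul_inv_cancel, Units.val_one, Matrix.one_mulVec, pureT_smul_left, pureT_smul_right,
      smul_smul, inv_mul_cancel₀ hε, one_smul]

/-- the similarity factor of the second factor of a Kronecker product preserving a tensor product
form -/
lemma exists_similarity_right {f₁ : (Fin n₁ → F) → (Fin n₁ → F) → F}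
    {f₂ : (Fin n₂ → F) → (Fin n₂ → F) → F} (hf₁ : Cfsg.Geo.IsNondegenerateForm f₁)
    (hn₁ : 0 < n₁) (A : GL (Fin n₁) F) (B : Matrix (Fin n₂) (Fin n₂) F)
    (h : ∀ u u' w w', f₁ ((A : Matrix (Fin n₁) (Fin n₁) F) *ᵥ u)
      ((A : Matrix (Fin n₁) (Fin n₁) F) *ᵥ u') * f₂ (B *ᵥ w) (B *ᵥ w') = f₁ u u' * f₂ w w') :
    ∃ μ : F, ∀ w w', f₂ (B *ᵥ w) (B *ᵥ w') = μ * f₂ w w' := by
  obtain ⟨u₁, hu₁⟩ : ∃ u₁ : Fin n₁ → F, u₁ ≠ 0 := by
    refine ⟨Pi.single ⟨0, hn₁⟩ 1, ?_⟩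
    intro h0
    have := congrFun h0 ⟨0, hn₁⟩
    simp at this
  obtain ⟨u₁', hu₁'⟩ := (hf₁ u₁ hu₁).2
  refine ⟨f₁ (((A⁻¹ : GL (Fin n₁) F) : Matrix (Fin n₁) (Fin n₁) F) *ᵥ u₁)
    (((A⁻¹ : GL (Fin n₁) F) : Matrix (Fin n₁) (Fin n₁) F) *ᵥ u₁') / f₁ u₁ u₁', fun w w' => ?_⟩
  have := h (((A⁻¹ : GL (Fin n₁) F) : Matrix (Fin n₁) (Fin n₁) F) *ᵥ u₁)
    (((A⁻¹ : GL (Fin n₁) F) : Matrix (Fin n₁) (Fin n₁) F) *ᵥ u₁') w w'
  rw [Matrix.mulVec_mulVec, Matrix.mulVec_mulVec, ← Units.val_mul, mul_inv_cancel, Units.val_one,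
    Matrix.one_mulVec, Matrix.one_mulVec] at this
  field_simp
  linear_combination this

end Cfsg.Agent.Lib.Helper94
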