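/-
Helper94: over the field with three elements, the stabiliser in `Sp` of a tensor decomposition
`Sp_{n₁}(3) ⊗ O_3(3)` is not maximal: `O_3(3)` is monomial on a canonical frame, so the tensor
product subgroup stabilises a decomposition into three non-degenerate subspaces.
-/
import Mathlib
import Cfsg.Prelude.Def_GeometricClasses
import Cfsg.Agent.Lib.Helper94.TensorMono2
import Cfsg.Agent.Lib.Helper94.TensorOrth3

set_option autoImplicit false
set_option linter.unusedSimpArgs false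
set_option linter.unusedSectionVars false
set_option linter.unusedVariables false

namespace Cfsg.Agent.Lib.Helper94

open scoped MatrixGroups Matrix Kronecker
open LinearMap (BilinForm)
open scoped commutatorElement

variable {ι : Type} [Fintype ι] [DecidableEq ι] {F : Type*} [Field F] {n₁ n₂ : ℕ}

lemma two_ne_zero_of_card_three [Fintype F] (hq : Fintype.card F = 3) : (2 : F) ≠ 0 := by
  have h3 := QuadData.three_eq_zero hq
  intro h2
  have : (1 : F) = 0 := by linear_combination h3 - h2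
  exact one_ne_zero this

lemma form_zero_left {n : ℕ} {f : (Fin n → F) → (Fin n → F) → F}
    (hf : Cfsg.Geo.IsBilinearForm f) (v : Fin n → F) : f 0 v = 0 := by
  have := hf.smul_left 0 0 v
  simpa using this

/-- the canonical frame of a non-degenerate symmetric form on `F^3`, `|F| = 3` -/
lemma exists_frame_symm3 [Fintype F] (hq : Fintype.card F = 3)
    {f : (Fin 3 → F) → (Fin 3 → F) → F} (hf : Cfsg.Geo.IsSymmetricForm f) :
    ∃ (d : F) (b : Fin 3 → (Fin 3 → F)), d ≠ 0 ∧ (∀ i, f (b i) (b i) = d) ∧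
      (∀ i j, i ≠ j → f (b i) (b j) = 0) ∧
      (∀ v, f v v = d → ∃ i : Fin 3, ∃ ε : F, ε ≠ 0 ∧ v = ε • b i) := by
  have h2 := two_ne_zero_of_card_three hq
  have hD₁ := symQuadData hf h2
  have hfr₁ : Module.finrank F (⊤ : Submodule F (Fin 3 → F)) = 3 := by
    rw [finrank_top, Module.finrank_fin_fun]
  have hnd₁ : ∀ x ∈ (⊤ : Submodule F (Fin 3 → F)),
      (∀ y ∈ (⊤ : Submodule F (Fin 3 → F)), bilinOf hf.bilinear x y = 0) → x = 0 := by
    intro x _ hx
    by_contra h0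
    obtain ⟨y, hy⟩ := (hf.nondegenerate x h0).2
    exact hy (hx y trivial)
  obtain ⟨c₁, hc₁, p0, p1, p2, hfr⟩ := hD₁.exists_frame3 hq ⊤ hfr₁ hnd₁
  obtain ⟨d, hd⟩ : ∃ d : F, d = 2 * c₁ := ⟨_, rfl⟩
  have hd0 : d ≠ 0 := by rw [hd]; exact mul_ne_zero h2 hc₁
  have n0 : f p0 p0 = d := by
    have : 2⁻¹ * f p0 p0 = c₁ := hfr.norm0
    rw [hd, ← this]; field_simp
  have n1 : f p1 p1 = d := by
    have : 2⁻¹ * f p1 p1 = c₁ := hfr.norm1
    rw [hd, ← this]; field_simp
  have n2 : f p2 p2 = d := by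
    have : 2⁻¹ * f p2 p2 = c₁ := hfr.norm2
    rw [hd, ← this]; field_simp
  have o01 : f p0 p1 = 0 := hfr.orth01
  have o02 : f p0 p2 = 0 := hfr.orth02
  have o12 : f p1 p2 = 0 := hfr.orth12
  have o10 : f p1 p0 = 0 := by rw [hf.symm, o01]
  have o20 : f p2 p0 = 0 := by rw [hf.symm, o02]
  have o21 : f p2 p1 = 0 := by rw [hf.symm, o12]
  have hprop : ∀ v : Fin 3 → F, f v v = d →
      v = p0 ∨ v = -p0 ∨ v = p1 ∨ v = -p1 ∨ v = p2 ∨ v = -p2 := by
    intro v hv
    apply hfr.prop v trivial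
    show 2⁻¹ * f v v = c₁
    rw [hv, hd]; field_simp
  obtain ⟨b, hb⟩ : ∃ b : Fin 3 → (Fin 3 → F), b = ![p0, p1, p2] := ⟨_, rfl⟩
  have hb0 : b 0 = p0 := by rw [hb]; rfl
  have hb1 : b 1 = p1 := by rw [hb]; rfl
  have hb2 : b 2 = p2 := by rw [hb]; rfl
  refine ⟨d, b, hd0, ?_, ?_, ?_⟩
  · intro i; fin_cases i
    · exact hb0 ▸ n0
    · exact hb1 ▸ n1
    · exact hb2 ▸ n2
  · intro i j hij
    fin_cases i <;> fin_cases j
    all_goals first
      | exact absurd rfl hij
      | (simp only [Fin.zero_eta, Fin.mk_one, Fin.reduceFinMk, hb0, hb1, hb2]; assumption)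
  · intro v hv
    rcases hprop v hv with h | h | h | h | h | h
    · exact ⟨0, 1, one_ne_zero, by rw [one_smul, hb0, h]⟩
    · exact ⟨0, -1, neg_ne_zero.2 one_ne_zero, by rw [neg_one_smul, hb0, h]⟩
    · exact ⟨1, 1, one_ne_zero, by rw [one_smul, hb1, h]⟩
    · exact ⟨1, -1, neg_ne_zero.2 one_ne_zero, by rw [neg_one_smul, hb1, h]⟩
    · exact ⟨2, 1, one_ne_zero, by rw [one_smul, hb2, h]⟩
    · exact ⟨2, -1, neg_ne_zero.2 one_ne_zero, by rw [neg_one_smul, hb2, h]⟩

/-- a similarity of a non-degenerate symmetric form on `F^3`, `|F| = 3`, is monomial on the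
canonical frame -/
lemma monomial_of_similarity3 [Fintype F] (hq : Fintype.card F = 3)
    {f : (Fin 3 → F) → (Fin 3 → F) → F} (hf : Cfsg.Geo.IsSymmetricForm f)
    {d : F} {b : Fin 3 → (Fin 3 → F)} (hd0 : d ≠ 0) (hbn : ∀ i, f (b i) (b i) = d)
    (hbo : ∀ i j, i ≠ j → f (b i) (b j) = 0)
    (hbprop : ∀ v, f v v = d → ∃ i : Fin 3, ∃ ε : F, ε ≠ 0 ∧ v = ε • b i)
    (A : GL (Fin 3) F) (μ : F)
    (hμ : ∀ u u', f ((A : Matrix (Fin 3) (Fin 3) F) *ᵥ u) ((A : Matrix (Fin 3) (Fin 3) F) *ᵥ u') =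
      μ * f u u') :
    ∃ π : Fin 3 → Fin 3, Function.Injective π ∧
      ∀ j, ∃ ε : F, ε ≠ 0 ∧ (A : Matrix (Fin 3) (Fin 3) F) *ᵥ b j = ε • b (π j) := by
  have hpow := similarity_pow_eq hf.bilinear hf.nondegenerate
    (A : Matrix (Fin 3) (Fin 3) F) μ hμ
  have hμ3 : μ ^ 3 = μ := by
    have := FiniteField.pow_card μ
    rwa [hq] at this
  have hdet : (A : Matrix (Fin 3) (Fin 3) F).det ≠ 0 :=
    ((Matrix.isUnit_iff_isUnit_det _).1 A.isUnit).ne_zero
  have hμ1 : μ = 1 := by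
    rw [← hμ3, hpow]
    rcases QuadData.eq_of_card_three hq (A : Matrix (Fin 3) (Fin 3) F).det with h | h | h
    · exact absurd h hdet
    · rw [h]; ring
    · rw [h]; ring
  have hiso : ∀ u u', f ((A : Matrix (Fin 3) (Fin 3) F) *ᵥ u)
      ((A : Matrix (Fin 3) (Fin 3) F) *ᵥ u') = f u u' := by
    intro u u'; rw [hμ, hμ1, one_mul]
  have hmono : ∀ j : Fin 3, ∃ i : Fin 3, ∃ ε : F, ε ≠ 0 ∧
      (A : Matrix (Fin 3) (Fin 3) F) *ᵥ b j = ε • b i := by
    intro j
    apply hbprop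
    rw [hiso, hbn]
  choose π ε hε hA using hmono
  refine ⟨π, ?_, fun j => ⟨ε j, hε j, hA j⟩⟩
  intro j k hjk
  by_contra hne
  have h1 := hiso (b j) (b k)
  rw [hA j, hA k, hjk, hbo j k hne, hf.bilinear.smul_left, hf.bilinear.smul_right, hbn] at h1
  have : ε j * (ε k * d) ≠ 0 := mul_ne_zero (hε j) (mul_ne_zero (hε k) hd0)
  exact this h1

/-- **Non-maximality** of the stabiliser in `Sp` of a tensor decomposition with a three-dimensional
orthogonal second factor over the field with three elements. -/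
theorem exists_between_tensor_symp3 [Fintype F] (hq : Fintype.card F = 3) (m : ℕ) {n₁ : ℕ}
    (hn₁ : 0 < n₁) (e : (Fin m ⊕ Fin m) ≃ Fin n₁ × Fin 3) (P : GL (Fin m ⊕ Fin m) F)
    (f₁ : (Fin n₁ → F) → (Fin n₁ → F) → F) (f₂ : (Fin 3 → F) → (Fin 3 → F) → F)
    (hf₁ : Cfsg.Geo.IsSymplecticForm f₁) (hf₂ : Cfsg.Geo.IsSymmetricForm f₂)
    (hT : Cfsg.Geo.IsTensorFormStructure id (Cfsg.sympForm m F) f₁ f₂ e P) :
    ∃ K : Subgroup (GL (Fin m ⊕ Fin m) F),
      Cfsg.Geo.tensorProductSubgroup n₁ 3 e P ⊓ Cfsg.spGL m F < K ∧ K < Cfsg.spGL m F := by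
  classical
  have h2 := two_ne_zero_of_card_three hq
  have hS := sympData_sympBilin (F := F) m
  obtain ⟨c, hc, hTc⟩ := hT
  have hB : ∀ u u' w w', sympBilin m F (tensPhi e P (pureT u w)) (tensPhi e P (pureT u' w')) =
      c * (f₁ u u' * f₂ w w') := by
    intro u u' w w'
    rw [sympBilin_apply]
    exact tens_form hf₁.bilinear hf₂.bilinear hTc u u' w w'
  obtain ⟨d, b, hd0, hbn, hbo, hbprop⟩ := exists_frame_symm3 hq hf₂
  -- two vectors for `f₁`
  obtain ⟨u₀, hu₀⟩ : ∃ u₀ : Fin n₁ → F, u₀ ≠ 0 := by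
    refine ⟨Pi.single ⟨0, hn₁⟩ 1, ?_⟩
    intro h0
    have := congrFun h0 ⟨0, hn₁⟩
    simp at this
  obtain ⟨u₁, hu₁⟩ := (hf₁.nondegenerate u₀ hu₀).1
  have hu₀₀ : f₁ u₀ u₀ = 0 := hf₁.alternating u₀
  have hu₀₁ : f₁ u₀ u₁ ≠ 0 := by rw [hf₁.skew]; exact neg_ne_zero.2 hu₁
  have hb0 : ∀ i, b i ≠ 0 := by
    intro i h0
    apply hd0
    rw [← hbn i, h0]
    exact form_zero_left hf₂.bilinear 0
  -- the decomposition
  obtain ⟨D, hD⟩ : ∃ D : Fin 3 → Submodule F (Fin m ⊕ Fin m → F),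
      D = fun j => tensD' e P (b j) := ⟨_, rfl⟩
  have hDmem : ∀ j u, tensPhi e P (pureT u (b j)) ∈ D j := by
    intro j u; rw [hD]; exact tens_mem_tensD' _ _ _ _
  have hsep : ∀ (i j : Fin 3) (u : Fin n₁ → F), u ≠ 0 → tensPhi e P (pureT u (b i)) ∈ D j →
      i = j := by
    intro i j u hu hmem
    by_contra hij
    rw [hD] at hmem
    obtain ⟨u', hu'⟩ := mem_tensD'.1 hmem
    obtain ⟨y, hy⟩ := (hf₁.nondegenerate u hu).2
    have h1 := hB u y (b i) (b i)
    rw [← hu', hB, hbo j i (Ne.symm hij), hbn] at h1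
    apply hy
    have : c * (f₁ u y * d) = 0 := by rw [← h1]; ring
    rcases mul_eq_zero.1 this with h | h
    · exact absurd h hc
    · rcases mul_eq_zero.1 h with h' | h'
      · exact h'
      · exact absurd h' hd0
  -- transvections along vectors of the first member
  have htv : ∀ (u : Fin n₁ → F) (a : F) (i : Fin 3),
      ∀ x ∈ D i, hS.tv (tensPhi e P (pureT u (b 0))) a x ∈ D i := by
    intro u a i x hx
    rw [hD] at hx
    obtain ⟨u', rfl⟩ := mem_tensD'.1 hx
    by_cases hi : i = 0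
    · subst hi
      rw [hS.tv_apply, ← map_smul, ← map_add, ← pureT_smul_left, ← pureT_add_left]
      exact hDmem 0 _
    · rw [hS.tv_fix_of_ortho]
      · exact hDmem i _
      · rw [hB, hbo i 0 hi]; ring
  apply exists_between_of_map (glEquiv (Fin m ⊕ Fin m) F)
  rw [map_inf_equiv, map_spGL]
  refine ⟨SympData.stabDec D ⊓ SympData.Sp (sympBilin m F), ?_, ?_⟩
  · rw [SetLike.lt_iff_le_and_exists]
    refine ⟨?_, ?_⟩
    · rintro g' ⟨hg1, hg2⟩
      refine ⟨?_, hg2⟩
      obtain ⟨g, hg, rfl⟩ := Subgroup.mem_map.1 hg1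
      obtain ⟨A, B', hAB⟩ := exists_of_mem_tensorProductSubgroup hg
      have hg' : ∀ x, (glEquiv (Fin m ⊕ Fin m) F g) (tensPhi e P x) = tensPhi e P
          (((A : Matrix (Fin n₁) (Fin n₁) F) ⊗ₖ (B' : Matrix (Fin 3) (Fin 3) F)) *ᵥ x) := by
        intro x; rw [glEquiv_apply]; exact hAB x
      have key : ∀ u u' v v', f₁ ((A : Matrix (Fin n₁) (Fin n₁) F) *ᵥ u)
          ((A : Matrix (Fin n₁) (Fin n₁) F) *ᵥ u') *
          f₂ ((B' : Matrix (Fin 3) (Fin 3) F) *ᵥ v) ((B' : Matrix (Fin 3) (Fin 3) F) *ᵥ v') =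
          f₁ u u' * f₂ v v' := by
        intro u u' v v'
        have h1 := SympData.mem_Sp.1 hg2 (tensPhi e P (pureT u v)) (tensPhi e P (pureT u' v'))
        change sympBilin m F ((glEquiv (Fin m ⊕ Fin m) F g) _) ((glEquiv (Fin m ⊕ Fin m) F g) _) = _
          at h1
        rw [hg', hg', kronecker_mulVec_pureT, kronecker_mulVec_pureT, hB, hB] at h1
        exact mul_left_cancel₀ hc h1
      obtain ⟨μ, hμ⟩ := exists_similarity_right hf₁.nondegenerate hn₁ A
        (B' : Matrix (Fin 3) (Fin 3) F) key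
      obtain ⟨π, hπ, hmono⟩ := monomial_of_similarity3 hq hf₂ hd0 hbn hbo hbprop B' μ hμ
      have := mem_stabDec_of_monomial' (e := e) (P := P) b hg' π hπ hmono
      rw [hD]
      exact this
    · -- an element of the larger group outside the tensor product subgroup
      refine ⟨hS.tv (tensPhi e P (pureT u₀ (b 0))) 1, ⟨?_, hS.tv_mem_Sp _ _⟩, ?_⟩
      · change _ ∈ SympData.stabDec D
        rw [SympData.mem_stabDec]
        refine ⟨Equiv.refl _, fun i => ?_⟩
        rw [Equiv.refl_apply]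
        apply SympData.map_eq_of_maps
        · intro x hx
          exact htv u₀ 1 i x hx
        · intro x hx
          rw [hS.tv_inv]
          exact htv u₀ (-1) i x hx
      · rintro ⟨hk, -⟩
        obtain ⟨g, hg, hgk⟩ := Subgroup.mem_map.1 hk
        obtain ⟨A, B', hAB⟩ := exists_of_mem_tensorProductSubgroup hg
        have hk' : ∀ x, (hS.tv (tensPhi e P (pureT u₀ (b 0))) 1) (tensPhi e P x) = tensPhi e P
            (((A : Matrix (Fin n₁) (Fin n₁) F) ⊗ₖ (B' : Matrix (Fin 3) (Fin 3) F)) *ᵥ x) := by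
          intro x
          rw [← hgk]
          change (glEquiv (Fin m ⊕ Fin m) F g) (tensPhi e P x) = _
          rw [glEquiv_apply]; exact hAB x
        obtain ⟨s, hs⟩ : ∃ s : F, s = 1 * (c * (f₁ u₁ u₀ * d)) := ⟨_, rfl⟩
        have hs0 : s ≠ 0 := by
          rw [hs, one_mul]; exact mul_ne_zero hc (mul_ne_zero hu₁ hd0)
        have E1 : (hS.tv (tensPhi e P (pureT u₀ (b 0))) 1) (tensPhi e P (pureT u₁ (b 0))) =
            tensPhi e P (pureT (u₁ + s • u₀) (b 0)) := by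
          rw [hS.tv_apply, hB, hbn, ← hs, pureT_add_left, pureT_smul_left, map_add, map_smul]
        have E2 : (hS.tv (tensPhi e P (pureT u₀ (b 0))) 1) (tensPhi e P (pureT u₀ (b 0))) =
            tensPhi e P (pureT u₀ (b 0)) := by
          rw [hS.tv_fix_of_ortho]
          rw [hB, hu₀₀]; ring
        have E3 : (hS.tv (tensPhi e P (pureT u₀ (b 0))) 1) (tensPhi e P (pureT u₁ (b 1))) =
            tensPhi e P (pureT u₁ (b 1)) := by
          rw [hS.tv_fix_of_ortho]
          rw [hB, hbo 1 0 (by decide)]; ring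
        have E4 : (hS.tv (tensPhi e P (pureT u₀ (b 0))) 1) (tensPhi e P (pureT u₀ (b 1))) =
            tensPhi e P (pureT u₀ (b 1)) := by
          rw [hS.tv_fix_of_ortho]
          rw [hB, hbo 1 0 (by decide)]; ring
        rw [hk', kronecker_mulVec_pureT] at E1 E2 E3 E4
        have F1 := (tensPhi e P).injective E1
        have F2 := (tensPhi e P).injective E2
        have F3 := (tensPhi e P).injective E3
        have F4 := (tensPhi e P).injective E4
        obtain ⟨j₀, hj₀⟩ := exists_ne_zero_of_ne_zero (gl_mulVec_ne_zero B' (hb0 0))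
        obtain ⟨j₁, hj₁⟩ := exists_ne_zero_of_ne_zero (gl_mulVec_ne_zero B' (hb0 1))
        have G1 := pureT_cancel_right F1 hj₀
        have G2 := pureT_cancel_right F2 hj₀
        have G3 := pureT_cancel_right F3 hj₁
        have G4 := pureT_cancel_right F4 hj₁
        obtain ⟨i₀, hi₀⟩ := exists_ne_zero_of_ne_zero hu₀
        set t₀ := b 0 j₀ / ((B' : Matrix (Fin 3) (Fin 3) F) *ᵥ b 0) j₀ with ht₀
        set t₁ := b 1 j₁ / ((B' : Matrix (Fin 3) (Fin 3) F) *ᵥ b 1) j₁ with ht₁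
        have e1 : t₀ = t₁ := by
          have := congrFun (G2.symm.trans G4) i₀
          simp only [Pi.smul_apply, smul_eq_mul] at this
          exact mul_right_cancel₀ hi₀ this
        have e2 : t₀ * s = 0 := by
          have := congrFun (G1.symm.trans G3) i₀
          simp only [Pi.smul_apply, smul_eq_mul, Pi.add_apply] at this
          have h' : (t₀ * s) * u₀ i₀ = 0 := by
            rw [← e1] at this
            linear_combination this
          rcases mul_eq_zero.1 h' with h | h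
          · exact h
          · exact absurd h hi₀
        have e3 : t₀ = 0 := by
          rcases mul_eq_zero.1 e2 with h | h
          · exact h
          · exact absurd h hs0
        rw [e3, zero_smul] at G2
        exact gl_mulVec_ne_zero A hu₀ G2
  · rw [SetLike.lt_iff_le_and_exists]
    refine ⟨inf_le_right, ?_⟩
    refine ⟨hS.tv (tensPhi e P (pureT u₀ (b 0 + b 1))) 1, hS.tv_mem_Sp _ _, ?_⟩
    rintro ⟨hmem, -⟩
    obtain ⟨σ, hσ⟩ := SympData.mem_stabDec.1 hmem
    obtain ⟨s, hs⟩ : ∃ s : F, s = 1 * (c * (f₁ u₁ u₀ * d)) := ⟨_, rfl⟩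
    have hs0 : s ≠ 0 := by
      rw [hs, one_mul]; exact mul_ne_zero hc (mul_ne_zero hu₁ hd0)
    have f1 : f₂ (b 1) (b 0 + b 1) = d := by
      rw [hf₂.bilinear.add_right, hbo 1 0 (by decide), hbn, zero_add]
    have g1 : (hS.tv (tensPhi e P (pureT u₀ (b 0 + b 1))) 1) (tensPhi e P (pureT u₁ (b 1))) =
        tensPhi e P (pureT u₁ (b 1)) + s • tensPhi e P (pureT u₀ (b 0)) +
          s • tensPhi e P (pureT u₀ (b 1)) := by
      rw [hS.tv_apply, hB, f1, ← hs, pureT_add_right, map_add, smul_add, add_assoc]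
    have g2 : (hS.tv (tensPhi e P (pureT u₀ (b 0 + b 1))) 1) (tensPhi e P (pureT u₀ (b 1))) =
        tensPhi e P (pureT u₀ (b 1)) := by
      rw [hS.tv_fix_of_ortho]
      rw [hB, hu₀₀]; ring
    have m2 : tensPhi e P (pureT u₀ (b 1)) ∈ D (σ 1) := by
      rw [← hσ 1]
      have := Submodule.mem_map_of_mem (f := ((hS.tv (tensPhi e P (pureT u₀ (b 0 + b 1))) 1 :
        (Fin m ⊕ Fin m → F) ≃ₗ[F] (Fin m ⊕ Fin m → F)) :
        (Fin m ⊕ Fin m → F) →ₗ[F] (Fin m ⊕ Fin m → F))) (hDmem 1 u₀)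
      rwa [LinearEquiv.coe_coe, g2] at this
    have s2 := hsep 1 (σ 1) u₀ hu₀ m2
    have m1 : tensPhi e P (pureT u₁ (b 1)) + s • tensPhi e P (pureT u₀ (b 0)) +
          s • tensPhi e P (pureT u₀ (b 1)) ∈ D (σ 1) := by
      rw [← hσ 1]
      have := Submodule.mem_map_of_mem (f := ((hS.tv (tensPhi e P (pureT u₀ (b 0 + b 1))) 1 :
        (Fin m ⊕ Fin m → F) ≃ₗ[F] (Fin m ⊕ Fin m → F)) :
        (Fin m ⊕ Fin m → F) →ₗ[F] (Fin m ⊕ Fin m → F))) (hDmem 1 u₁)
      rwa [LinearEquiv.coe_coe, g1] at this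
    rw [← s2, hD] at m1
    obtain ⟨u', hu'⟩ := mem_tensD'.1 m1
    have h1 : sympBilin m F (tensPhi e P (pureT u' (b 1))) (tensPhi e P (pureT u₁ (b 0))) = 0 := by
      rw [hB, hbo 1 0 (by decide)]; ring
    rw [hu'] at h1
    simp only [map_add, map_smul, LinearMap.add_apply, LinearMap.smul_apply, hB, hbn,
      hbo 1 0 (by decide), hbo 0 1 (by decide), smul_eq_mul, mul_zero, add_zero, zero_add] at h1
    have : s * (c * (f₁ u₀ u₁ * d)) ≠ 0 :=
      mul_ne_zero hs0 (mul_ne_zero hc (mul_ne_zero hu₀₁ hd0))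
    exact this h1

end Cfsg.Agent.Lib.Helper94
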