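/-
Helper94: the orthogonal subfield group in the unitary group, part 1: the rational symmetric form,
detection of rational vectors, membership bookkeeping (`InM`), rational Siegel elements.

Setting (as in helper13's `UnitSubfield`): `σ` an involution of `F` with fixed field `F₀`,
`1, ω` an `F₀`-basis of `F`, `P` an invertible matrix such that the hermitian form `hf σ` is
`F₀`-valued on the `F₀`-span of the columns of `P`; `2 ≠ 0`.
-/
import Mathlib
import Cfsg.Agent.Lib.Helper13.UnitSubfield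
import Cfsg.Agent.Lib.Helper94.SymExist

set_option autoImplicit false
set_option linter.unusedSimpArgs false
set_option linter.unusedVariables false
set_option linter.unusedSectionVars false

namespace Cfsg.Agent.Lib.Helper94

open Matrix Module Cfsg.Agent.S0837 Cfsg.Agent.S0781 Cfsg.Agent.S2644 Cfsg.Agent.Lib.Helper37
  Cfsg.Agent.Lib.Helper13

section UOrth

variable {F : Type*} [Field F] {σ : F →+* F} {n : ℕ} {F₀ : Subfield F} {ω : F}
  {P : GL (Fin n) F}

/-- the data of the orthogonal subfield problem -/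
structure UOSetup (σ : F →+* F) (F₀ : Subfield F) (ω : F) (P : GL (Fin n) F) : Prop where
  hσ2 : ∀ a, σ (σ a) = a
  hfix : ∀ x, x ∈ F₀ ↔ σ x = x
  hω : σ ω ≠ ω
  hdec : ∀ x : F, ∃ a b : F₀, x = a + ω * b
  hP : ∀ a b : Fin n → F₀, hf σ (sfG F₀ P a) (sfG F₀ P b) ∈ F₀
  h2 : (2 : F) ≠ 0

namespace UOSetup

variable (S : UOSetup σ F₀ ω P)

include S in
lemma fix (c : F₀) : σ (c : F) = c := (S.hfix c).mp c.2

include S in
lemma two_ne : (2 : F₀) ≠ 0 := by
  intro h
  apply S.h2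
  have := congrArg (fun x : F₀ => (x : F)) h
  push_cast at this
  exact this

/-- the hermitian form as a symmetric bilinear form on rational vectors -/
def ratS (S : UOSetup σ F₀ ω P) : LinearMap.BilinForm F₀ (Fin n → F₀) :=
  LinearMap.mk₂ F₀ (fun a b => (⟨hf σ (sfG F₀ P a) (sfG F₀ P b), S.hP a b⟩ : F₀))
    (fun a a' b => Subtype.ext (by
      show hf σ (sfG F₀ P (a + a')) (sfG F₀ P b) =
        hf σ (sfG F₀ P a) (sfG F₀ P b) + hf σ (sfG F₀ P a') (sfG F₀ P b)
      rw [sfG_add, hf_add_left]))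
    (fun c a b => Subtype.ext (by
      show hf σ (sfG F₀ P (c • a)) (sfG F₀ P b) = (c : F) * hf σ (sfG F₀ P a) (sfG F₀ P b)
      rw [sfG_smul, hf_smul_left]))
    (fun a b b' => Subtype.ext (by
      show hf σ (sfG F₀ P a) (sfG F₀ P (b + b')) =
        hf σ (sfG F₀ P a) (sfG F₀ P b) + hf σ (sfG F₀ P a) (sfG F₀ P b')
      rw [sfG_add, hf_add_right]))
    (fun c a b => Subtype.ext (by
      show hf σ (sfG F₀ P a) (sfG F₀ P (c • b)) = (c : F) * hf σ (sfG F₀ P a) (sfG F₀ P b)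
      rw [sfG_smul, hf_smul_right, S.fix c]))

lemma ratS_apply (a b : Fin n → F₀) :
    ((S.ratS a b : F₀) : F) = hf σ (sfG F₀ P a) (sfG F₀ P b) := rfl

lemma hf_rho (a b : Fin n → F₀) :
    hf σ (sfG F₀ P a) (sfG F₀ P b) = ((S.ratS a b : F₀) : F) := rfl

lemma ratS_symm (a b : Fin n → F₀) : S.ratS a b = S.ratS b a := by
  apply Subtype.ext
  rw [ratS_apply, ratS_apply, hf_symm σ S.hσ2, ← ratS_apply S, S.fix]

lemma ratS_eq_zero_iff (a b : Fin n → F₀) :
    S.ratS a b = 0 ↔ hf σ (sfG F₀ P a) (sfG F₀ P b) = 0 := by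
  rw [← ratS_apply S]
  constructor
  · intro h; rw [h]; rfl
  · intro h; exact Subtype.ext h

include S in
/-- uniqueness of the decomposition `p + ω q` -/
lemma dec_zero {p q : F₀} (h : (p : F) + ω * q = 0) : p = 0 ∧ q = 0 := by
  have := dec_unique σ F₀ S.hfix ω S.hω p q 0 0 (by simpa using h)
  exact this

include S in
lemma dec_mem {p q : F₀} (h : (p : F) + ω * q ∈ F₀) : q = 0 := by
  have := dec_unique σ F₀ S.hfix ω S.hω p q ⟨_, h⟩ 0 (by simp)
  exact this.2

/-- the form between a general vector and a rational vector -/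
lemma hf_sfE_rho (a b c : Fin n → F₀) :
    hf σ (sfE F₀ ω P a b) (sfG F₀ P c) = ((S.ratS a c : F₀) : F) + ω * ((S.ratS b c : F₀) : F) := by
  rw [hf_sfE_sfG]; rfl

lemma hf_rho_sfE (c a b : Fin n → F₀) :
    hf σ (sfG F₀ P c) (sfE F₀ ω P a b) =
      ((S.ratS c a : F₀) : F) + σ ω * ((S.ratS c b : F₀) : F) := by
  unfold sfE
  rw [hf_add_right, hf_smul_right]; rfl

lemma ratS_nondeg (a : Fin n → F₀) (ha : ∀ b, S.ratS a b = 0) : a = 0 := by
  have h1 : ∀ b, hf σ (sfG F₀ P a) (sfG F₀ P b) = 0 := fun b => (S.ratS_eq_zero_iff a b).1 (ha b)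
  have h2 : ∀ y, hf σ (sfG F₀ P a) y = 0 := by
    intro y
    obtain ⟨c, d, rfl⟩ := sfE_surj F₀ ω S.hdec P y
    unfold sfE
    rw [hf_add_right, hf_smul_right, h1, h1, mul_zero, add_zero]
  have h3 : sfG F₀ P a = 0 := by
    funext i
    rw [← hf_single_right σ (sfG F₀ P a) i, h2]
    rfl
  exact sfG_injective F₀ P (h3.trans (sfG_zero F₀ P).symm)

lemma symData : SymData S.ratS := ⟨S.ratS_symm, S.ratS_nondeg⟩

include S in
/-- a vector whose products with all rational vectors are rational is rational -/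
lemma detect {x : Fin n → F} (hx : ∀ c, hf σ x (sfG F₀ P c) ∈ F₀) : ∃ a, x = sfG F₀ P a := by
  obtain ⟨a, b, rfl⟩ := sfE_surj F₀ ω S.hdec P x
  have hb : b = 0 := by
    apply S.ratS_nondeg
    intro c
    have := hx c
    rw [S.hf_sfE_rho] at this
    exact S.dec_mem this
  exact ⟨a, by rw [hb, sfE_zero_right]⟩

include S in
/-- rational vectors independent over `F₀` are independent over `F` -/
lemma indep {a b : Fin n → F₀} (hab : ∀ s t : F₀, s • a + t • b = 0 → s = 0 ∧ t = 0) {α β : F}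
    (h : α • sfG F₀ P a + β • sfG F₀ P b = 0) : α = 0 ∧ β = 0 := by
  obtain ⟨α₁, α₂, rfl⟩ := S.hdec α
  obtain ⟨β₁, β₂, rfl⟩ := S.hdec β
  have e : sfE F₀ ω P (α₁ • a + β₁ • b) (α₂ • a + β₂ • b) = sfE F₀ ω P 0 0 := by
    unfold sfE
    rw [sfG_add, sfG_add, sfG_smul, sfG_smul, sfG_smul, sfG_smul, sfG_zero, smul_zero, add_zero,
      ← h]
    module
  obtain ⟨e1, e2⟩ := sfE_inj σ F₀ S.hfix ω S.hω P _ _ _ _ e
  obtain ⟨h1, h2⟩ := hab _ _ e1
  obtain ⟨h3, h4⟩ := hab _ _ e2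
  rw [h1, h2, h3, h4]
  simp

end UOSetup

/-! ### membership of matrices in a subgroup of `GL` -/

/-- the matrix `A` is (the matrix of) an element of `M` -/
def InM (M : Subgroup (GL (Fin n) F)) (A : Matrix (Fin n) (Fin n) F) : Prop :=
  ∃ g ∈ M, (g : Matrix (Fin n) (Fin n) F) = A

namespace InM

variable {M : Subgroup (GL (Fin n) F)} {A B C : Matrix (Fin n) (Fin n) F}

lemma of_mem {g : GL (Fin n) F} (hg : g ∈ M) : InM M (g : Matrix (Fin n) (Fin n) F) := ⟨g, hg, rfl⟩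

lemma mem {g : GL (Fin n) F} (h : InM M (g : Matrix (Fin n) (Fin n) F)) : g ∈ M := by
  obtain ⟨g', hg', e⟩ := h
  have : g' = g := Units.ext e
  rwa [← this]

lemma one : InM M (1 : Matrix (Fin n) (Fin n) F) := ⟨1, M.one_mem, rfl⟩

lemma mul (hA : InM M A) (hB : InM M B) : InM M (A * B) := by
  obtain ⟨a, ha, rfl⟩ := hA
  obtain ⟨b, hb, rfl⟩ := hB
  exact ⟨a * b, M.mul_mem ha hb, rfl⟩

/-- if `A`, `C` are in `M` and `A * B = C` then `B` is in `M` -/
lemma of_mul_eq (hA : InM M A) (hC : InM M C) (h : A * B = C) : InM M B := by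
  obtain ⟨a, ha, rfl⟩ := hA
  obtain ⟨c, hc, rfl⟩ := hC
  refine ⟨a⁻¹ * c, M.mul_mem (M.inv_mem ha) hc, ?_⟩
  rw [Units.val_mul, ← h, ← Matrix.mul_assoc, ← Units.val_mul, inv_mul_cancel, Units.val_one,
    Matrix.one_mul]

lemma of_mul_eq_one (hA : InM M A) (h : A * B = 1) : InM M B := of_mul_eq hA one h

/-- conjugation of a Siegel element by a unitary element of `M` -/
lemma sieg_conj {g : GL (Fin n) F} (hg : g ∈ M) (hgU : g ∈ UG σ n) {u w : Fin n → F} {β : F}
    (h : InM M (sieg σ u w β)) :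
    InM M (sieg σ ((g : Matrix (Fin n) (Fin n) F) *ᵥ u) ((g : Matrix (Fin n) (Fin n) F) *ᵥ w) β) := by
  have e := Cfsg.Agent.Lib.Helper37.sieg_conj σ (g : Matrix (Fin n) (Fin n) F) hgU u w β
  have h1 : InM M ((g : Matrix (Fin n) (Fin n) F) * sieg σ u w β) := (of_mem hg).mul h
  rw [e] at h1
  -- `X * g ∈ M`, `g ∈ M` hence `X ∈ M`
  obtain ⟨x, hx, ex⟩ := h1
  refine ⟨x * g⁻¹, M.mul_mem hx (M.inv_mem hg), ?_⟩
  rw [Units.val_mul, ex, Matrix.mul_assoc, ← Units.val_mul, mul_inv_cancel, Units.val_one,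
    Matrix.mul_one]

end InM

lemma ux_iff {M : Subgroup (GL (Fin n) F)} {v : Fin n → F} :
    v ∈ UX σ M ↔ hf σ v v = 0 ∧ ∀ c, c + σ c = 0 → InM M (tv σ v c) := by
  constructor
  · rintro ⟨hv, h⟩
    exact ⟨hv, fun c hc => ⟨tvGL σ v c hv, h c hc, rfl⟩⟩
  · rintro ⟨hv, h⟩
    refine ⟨hv, fun c hc => ?_⟩
    obtain ⟨g, hg, e⟩ := h c hc
    have : g = tvGL σ v c hv := Units.ext e
    rwa [← this]

/-! ### rational Siegel elements -/

namespace UOSetup

variable (S : UOSetup σ F₀ ω P)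

/-- the parameter of the rational Siegel element -/
noncomputable def sb (d : Fin n → F₀) : F₀ := -(S.ratS d d) / 2

lemma sb_eq (d : Fin n → F₀) :
    ((S.sb d : F₀) : F) + σ (S.sb d : F) + hf σ (sfG F₀ P d) (sfG F₀ P d) = 0 := by
  rw [S.fix, S.hf_rho]
  have h2 := S.two_ne
  have : S.sb d + S.sb d + S.ratS d d = 0 := by
    unfold sb
    field_simp
    ring
  have := congrArg (fun x : F₀ => (x : F)) this
  simpa using this

/-- the action of a rational Siegel element on rational vectors -/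
lemma ratSieg_apply (u d a : Fin n → F₀) :
    sieg σ (sfG F₀ P u) (sfG F₀ P d) (S.sb d : F) *ᵥ sfG F₀ P a =
      sfG F₀ P (a + S.ratS a u • (d + S.sb d • u) + (-(S.ratS a d)) • u) := by
  rw [sieg_mulVec, S.hf_rho, S.hf_rho]
  simp only [sfG_add, sfG_smul]
  push_cast
  module

/-- rational Siegel elements lie in every overgroup of the subfield group -/
lemma ratSieg_mem (hn : 1 ≤ n) {M : Subgroup (GL (Fin n) F)}
    (hM : ∀ g : GL (Fin n) F, g ∈ UG σ n → (g : Matrix (Fin n) (Fin n) F).det = 1 →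
      g ∈ Cfsg.Geo.subfieldSubgroup F₀ P → g ∈ M)
    {u d : Fin n → F₀} (hu : S.ratS u u = 0) (hd : S.ratS d u = 0) :
    InM M (sieg σ (sfG F₀ P u) (sfG F₀ P d) (S.sb d : F)) := by
  have hu' : hf σ (sfG F₀ P u) (sfG F₀ P u) = 0 := (S.ratS_eq_zero_iff u u).1 hu
  have hd' : hf σ (sfG F₀ P d) (sfG F₀ P u) = 0 := (S.ratS_eq_zero_iff d u).1 hd
  refine ⟨siegGL σ S.hσ2 (sfG F₀ P u) (sfG F₀ P d) (S.sb d : F) hu' hd' (S.sb_eq d), ?_, rfl⟩
  apply hM _ (siegGL_mem_UG σ S.hσ2 _ _ _ hu' hd' (S.sb_eq d))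
  · exact sieg_det σ S.hσ2 _ _ _ hu' hd'
  · apply mem_subfield_of_proprat σ F₀ S.hfix hn P
    intro a
    refine ⟨1, a + S.ratS a u • (d + S.sb d • u) + (-(S.ratS a d)) • u, ?_⟩
    rw [one_smul]
    exact S.ratSieg_apply u d a

end UOSetup

end UOrth

end Cfsg.Agent.Lib.Helper94
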