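/-
Helper94: the orthogonal subfield group in the unitary group, part 2: producing unitary
transvections with rational centres in an overgroup `M` of the subfield group.

* `stepB`: an element of `M` fixing a rational singular vector `ρ b` and moving some `ρ v`,
  `v ⊥ b`, to a vector which is irrational modulo `ρ b`, forces `ρ b ∈ UX σ M`.
* `stepC`: if the conjugate of a rational Siegel element by an element of `M` is not rational,
  then some rational singular vector lies in `UX σ M`.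
* `stepT`: if one rational singular vector lies in `UX σ M` then all do.
-/
import Mathlib
import Cfsg.Agent.Lib.Helper94.UOrth1

set_option autoImplicit false
set_option linter.unusedSimpArgs false
set_option linter.unusedVariables false
set_option linter.unusedSectionVars false

namespace Cfsg.Agent.Lib.Helper94

open Matrix Module Cfsg.Agent.S0837 Cfsg.Agent.S0781 Cfsg.Agent.S2644 Cfsg.Agent.Lib.Helper37
  Cfsg.Agent.Lib.Helper13

section UOrth

variable {F : Type*} [Field F] {σ : F →+* F} {n : ℕ} {F₀ : Subfield F} {ω : F}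
  {P : GL (Fin n) F}

/-- the commutator of two Siegel elements with the same centre is a transvection -/
lemma sieg_comm_tv (hσ2 : ∀ a, σ (σ a) = a) {v z e : Fin n → F} (β₁ β₂ : F)
    (hv : hf σ v v = 0) (hz : hf σ z v = 0) (he : hf σ e v = 0) :
    (sieg σ v e β₂ * sieg σ v z β₁) * tv σ v (hf σ z e - hf σ e z) =
      sieg σ v z β₁ * sieg σ v e β₂ := by
  have h0 : hf σ (0 : Fin n → F) v = 0 := hf_zero_left σ v
  have hez : hf σ (e + z) v = 0 := by rw [hf_add_left, he, hz, add_zero]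
  unfold tv
  rw [sieg_mul σ hσ2 v e z β₂ β₁ hv he hz, sieg_mul σ hσ2 v (e + z) 0 _ _ hv hez h0,
    sieg_mul σ hσ2 v z e β₁ β₂ hv hz he, hf_zero_left, add_zero, add_comm e z]
  congr 1
  ring

namespace UOSetup

variable (S : UOSetup σ F₀ ω P)

include S in
lemma omega_sub_ne : ω - σ ω ≠ 0 := fun h => S.hω (sub_eq_zero.mp h).symm

include S in
lemma omega_sub_trace : (ω - σ ω) + σ (ω - σ ω) = 0 := by
  rw [map_sub, S.hσ2]; ring

/-- **Step B.** -/
theorem stepB (hn : 1 ≤ n) {M : Subgroup (GL (Fin n) F)} (hMU : M ≤ UG σ n)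
    (hM : ∀ g : GL (Fin n) F, g ∈ UG σ n → (g : Matrix (Fin n) (Fin n) F).det = 1 →
      g ∈ Cfsg.Geo.subfieldSubgroup F₀ P → g ∈ M)
    {y : GL (Fin n) F} (hy : y ∈ M) {b v c d : Fin n → F₀} (hb : S.ratS b b = 0)
    (hyb : (y : Matrix (Fin n) (Fin n) F) *ᵥ sfG F₀ P b = sfG F₀ P b) (hvb : S.ratS v b = 0)
    (hyv : (y : Matrix (Fin n) (Fin n) F) *ᵥ sfG F₀ P v = sfE F₀ ω P c d)
    (hd : d ∉ Submodule.span F₀ (Set.range ![b])) :
    sfG F₀ P b ∈ UX σ M := by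
  have hb' : hf σ (sfG F₀ P b) (sfG F₀ P b) = 0 := (S.ratS_eq_zero_iff b b).1 hb
  have hvb' : hf σ (sfG F₀ P v) (sfG F₀ P b) = 0 := (S.ratS_eq_zero_iff v b).1 hvb
  -- the conjugated Siegel element
  have s1 : InM M (sieg σ (sfG F₀ P b) (sfE F₀ ω P c d) (S.sb v : F)) := by
    have := InM.sieg_conj hy (hMU hy) (S.ratSieg_mem hn hM hb hvb)
    rwa [hyb, hyv] at this
  have hzb : hf σ (sfE F₀ ω P c d) (sfG F₀ P b) = 0 := by
    rw [← hyv, ← hyb, hMU hy, hvb']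
  have hdb : S.ratS d b = 0 := by
    have := hzb
    rw [S.hf_sfE_rho] at this
    exact (S.dec_zero this).2
  have hcb : S.ratS c b = 0 := by
    have := hzb
    rw [S.hf_sfE_rho] at this
    exact (S.dec_zero this).1
  obtain ⟨e, heo, hde⟩ := S.symData.exists_dual_fam ![b] hd
  have heb : S.ratS e b = 0 := heo 0
  rw [ux_iff]
  refine ⟨hb', fun κ hκ => ?_⟩
  obtain ⟨t, rfl⟩ := trace_zero_eq σ F₀ S.hfix (ω - σ ω) S.omega_sub_ne S.omega_sub_trace κ hκ
  have hteb : S.ratS (t • e) b = 0 := by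
    rw [map_smul, LinearMap.smul_apply, heb, smul_zero]
  have s2 : InM M (sieg σ (sfG F₀ P b) (sfG F₀ P (t • e)) (S.sb (t • e) : F)) :=
    S.ratSieg_mem hn hM hb hteb
  have hteb' : hf σ (sfG F₀ P (t • e)) (sfG F₀ P b) = 0 := (S.ratS_eq_zero_iff _ _).1 hteb
  have key := sieg_comm_tv S.hσ2 (S.sb v : F) (S.sb (t • e) : F) hb' hzb hteb'
  have e1 : hf σ (sfE F₀ ω P c d) (sfG F₀ P (t • e)) - hf σ (sfG F₀ P (t • e)) (sfE F₀ ω P c d) =
      (ω - σ ω) * (t : F) := by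
    rw [S.hf_sfE_rho, S.hf_rho_sfE, S.ratS_symm (t • e) c, S.ratS_symm (t • e) d]
    simp only [map_smul, smul_eq_mul, hde, mul_one, Subfield.coe_mul]
    ring
  rw [e1] at key
  exact InM.of_mul_eq (s2.mul s1) (s1.mul s2) key

/-- **Step C.** -/
theorem stepC [Finite F] (hn : 9 ≤ n) {M : Subgroup (GL (Fin n) F)} (hMU : M ≤ UG σ n)
    (hM : ∀ g : GL (Fin n) F, g ∈ UG σ n → (g : Matrix (Fin n) (Fin n) F).det = 1 →
      g ∈ Cfsg.Geo.subfieldSubgroup F₀ P → g ∈ M)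
    {g : GL (Fin n) F} (hg : g ∈ M) {u d a : Fin n → F₀} (hu : S.ratS u u = 0)
    (hd : S.ratS d u = 0)
    (hirr : ∀ a', sieg σ ((g : Matrix (Fin n) (Fin n) F) *ᵥ sfG F₀ P u)
      ((g : Matrix (Fin n) (Fin n) F) *ᵥ sfG F₀ P d) (S.sb d : F) *ᵥ sfG F₀ P a ≠ sfG F₀ P a') :
    ∃ b, b ≠ 0 ∧ S.ratS b b = 0 ∧ sfG F₀ P b ∈ UX σ M := by
  have : Finite F₀ := Finite.of_injective (fun x : F₀ => (x : F)) Subtype.val_injective
  obtain ⟨y, hyM, hy⟩ := InM.sieg_conj hg (hMU hg) (S.ratSieg_mem (by omega) hM hu hd)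
  obtain ⟨x₁, x₂, hx⟩ := sfE_surj F₀ ω S.hdec P ((g : Matrix (Fin n) (Fin n) F) *ᵥ sfG F₀ P u)
  obtain ⟨x₁', x₂', hx'⟩ := sfE_surj F₀ ω S.hdec P ((g : Matrix (Fin n) (Fin n) F) *ᵥ sfG F₀ P d)
  obtain ⟨c, d', hcd⟩ := sfE_surj F₀ ω S.hdec P ((y : Matrix (Fin n) (Fin n) F) *ᵥ sfG F₀ P a)
  have hd'0 : d' ≠ 0 := by
    intro h0
    rw [h0, sfE_zero_right, hy] at hcd
    exact hirr c hcd
  obtain ⟨e, he⟩ : ∃ e, S.ratS d' e ≠ 0 := by
    by_contra hcon
    push Not at hcon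
    exact hd'0 (S.ratS_nondeg d' hcon)
  obtain ⟨b, hb0, hbb, hbo⟩ := S.symData.exists_singular_orth ![x₁, x₂, x₁', x₂', a, e]
    (by rw [Module.finrank_fin_fun]; omega)
  have o1 : S.ratS b x₁ = 0 := hbo 0
  have o2 : S.ratS b x₂ = 0 := hbo 1
  have o3 : S.ratS b x₁' = 0 := hbo 2
  have o4 : S.ratS b x₂' = 0 := hbo 3
  have o5 : S.ratS b a = 0 := hbo 4
  have o6 : S.ratS b e = 0 := hbo 5
  refine ⟨b, hb0, hbb, ?_⟩
  have hyb : (y : Matrix (Fin n) (Fin n) F) *ᵥ sfG F₀ P b = sfG F₀ P b := by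
    rw [hy, sieg_mulVec, hx, hx', S.hf_rho_sfE, S.hf_rho_sfE, o1, o2, o3, o4]
    simp
  apply S.stepB (by omega) hMU hM hyM hbb hyb (by rw [S.ratS_symm]; exact o5) hcd
  intro hmem
  rw [Submodule.mem_span_range_iff_exists_fun] at hmem
  obtain ⟨f, hf⟩ := hmem
  apply he
  rw [← hf]
  simp only [Fin.sum_univ_one, Matrix.cons_val_zero, map_smul, LinearMap.smul_apply, o6, smul_zero]

/-- **Step T.**  One rational singular centre gives all of them (orthogonal case). -/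
theorem stepT1 (hn : 1 ≤ n) {M : Subgroup (GL (Fin n) F)} (hMU : M ≤ UG σ n)
    (hM : ∀ g : GL (Fin n) F, g ∈ UG σ n → (g : Matrix (Fin n) (Fin n) F).det = 1 →
      g ∈ Cfsg.Geo.subfieldSubgroup F₀ P → g ∈ M)
    {b e : Fin n → F₀} (hb : sfG F₀ P b ∈ UX σ M) (he : S.ratS e e = 0) (heb : S.ratS e b = 0)
    (hne : b ∉ Submodule.span F₀ (Set.range ![e])) :
    sfG F₀ P e ∈ UX σ M := by
  obtain ⟨hb0, hbM⟩ := id hb
  have hκ := S.omega_sub_trace
  have hy := hbM _ hκ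
  -- a vector `v ⊥ e` with `B b v = 1`
  obtain ⟨v, hvo, hbv⟩ := S.symData.exists_dual_fam ![e] hne
  have hve : S.ratS v e = 0 := hvo 0
  have htr : ω + σ ω ∈ F₀ := by rw [S.hfix, map_add, S.hσ2]; ring
  obtain ⟨tr, htr'⟩ : ∃ tr : F₀, (tr : F) = ω + σ ω := ⟨⟨_, htr⟩, rfl⟩
  have h2c : ((2 : F₀) : F) = 2 := by norm_cast
  have hyv : ((tvGL σ (sfG F₀ P b) (ω - σ ω) hb0 : GL (Fin n) F) : Matrix (Fin n) (Fin n) F) *ᵥ
      sfG F₀ P v = sfE F₀ ω P (v + (-tr) • b) ((2 : F₀) • b) := by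
    show tv σ (sfG F₀ P b) (ω - σ ω) *ᵥ sfG F₀ P v = _
    rw [tv_mulVec, S.hf_rho, S.ratS_symm v b, hbv]
    unfold sfE
    simp only [sfG_add, sfG_smul]
    push_cast
    rw [htr', h2c]
    module
  apply S.stepB hn hMU hM hy he ?_ hve hyv ?_
  · show tv σ (sfG F₀ P b) (ω - σ ω) *ᵥ sfG F₀ P e = _
    rw [tv_mulVec, S.hf_rho, heb]
    simp
  · intro hmem
    apply hne
    rw [Submodule.mem_span_range_iff_exists_fun] at hmem ⊢
    obtain ⟨f, hf⟩ := hmem
    simp only [Fin.sum_univ_one, Matrix.cons_val_zero] at hf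
    refine ⟨fun _ => (2 : F₀)⁻¹ * f 0, ?_⟩
    simp only [Fin.sum_univ_one, Matrix.cons_val_zero]
    rw [mul_smul, hf, smul_smul, inv_mul_cancel₀ S.two_ne, one_smul]

include S in
/-- a rational vector not orthogonal to `c` is not a multiple of a vector orthogonal to `c` -/
lemma not_mem_span_of_ratS {b e c : Fin n → F₀} (hbc : S.ratS b c ≠ 0) (hec : S.ratS e c = 0) :
    b ∉ Submodule.span F₀ (Set.range ![e]) := by
  intro hmem
  rw [Submodule.mem_span_range_iff_exists_fun] at hmem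
  obtain ⟨f, hf⟩ := hmem
  apply hbc
  rw [← hf]
  simp only [Fin.sum_univ_one, Matrix.cons_val_zero, map_smul, LinearMap.smul_apply, hec,
    smul_zero]

/-- **Step T.**  One rational singular centre gives all of them. -/
theorem stepT [Finite F] (hn : 7 ≤ n) {M : Subgroup (GL (Fin n) F)} (hMU : M ≤ UG σ n)
    (hM : ∀ g : GL (Fin n) F, g ∈ UG σ n → (g : Matrix (Fin n) (Fin n) F).det = 1 →
      g ∈ Cfsg.Geo.subfieldSubgroup F₀ P → g ∈ M)
    {b e : Fin n → F₀} (hb0 : b ≠ 0) (hb : sfG F₀ P b ∈ UX σ M) (he0 : e ≠ 0)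
    (he : S.ratS e e = 0) : sfG F₀ P e ∈ UX σ M := by
  have : Finite F₀ := Finite.of_injective (fun x : F₀ => (x : F)) Subtype.val_injective
  obtain ⟨cb, hcb⟩ : ∃ c, S.ratS b c ≠ 0 := by
    by_contra hcon
    push Not at hcon
    exact hb0 (S.ratS_nondeg b hcon)
  obtain ⟨ce, hce⟩ : ∃ c, S.ratS e c ≠ 0 := by
    by_contra hcon
    push Not at hcon
    exact he0 (S.ratS_nondeg e hcon)
  obtain ⟨w, hw0, hww, hwo⟩ := S.symData.exists_singular_orth ![b, e, cb, ce]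
    (by rw [Module.finrank_fin_fun]; omega)
  have o1 : S.ratS w b = 0 := hwo 0
  have o2 : S.ratS w e = 0 := hwo 1
  have o3 : S.ratS w cb = 0 := hwo 2
  have o4 : S.ratS w ce = 0 := hwo 3
  have h1 : sfG F₀ P w ∈ UX σ M :=
    S.stepT1 (by omega) hMU hM hb hww o1 (S.not_mem_span_of_ratS hcb o3)
  obtain ⟨cw, hcw⟩ : ∃ c, S.ratS w c ≠ 0 := by
    by_contra hcon
    push Not at hcon
    exact hw0 (S.ratS_nondeg w hcon)
  -- `w ∉ span {e}`
  have h2 : w ∉ Submodule.span F₀ (Set.range ![e]) := by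
    intro hmem
    rw [Submodule.mem_span_range_iff_exists_fun] at hmem
    obtain ⟨f, hf⟩ := hmem
    simp only [Fin.sum_univ_one, Matrix.cons_val_zero] at hf
    have h3 : S.ratS w ce = f 0 * S.ratS e ce := by
      rw [← hf, map_smul, LinearMap.smul_apply, smul_eq_mul]
    rw [o4] at h3
    rcases mul_eq_zero.mp h3.symm with h4 | h4
    · rw [h4, zero_smul] at hf
      exact hw0 hf.symm
    · exact hce h4
  exact S.stepT1 (by omega) hMU hM h1 he (by rw [S.ratS_symm]; exact o2) h2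

end UOSetup

end UOrth

end Cfsg.Agent.Lib.Helper94
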