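/-
Helper94: the orthogonal subfield group in the unitary group, part 3: a unitary matrix all of whose
conjugates of rational Siegel elements are rational lies in the subfield group (`stepD`).
-/
import Mathlib
import Cfsg.Agent.Lib.Helper94.UOrth2

set_option autoImplicit false
set_option linter.unusedSimpArgs false
set_option linter.unusedVariables false
set_option linter.unusedSectionVars false

namespace Cfsg.Agent.Lib.Helper94

open Matrix Module Cfsg.Agent.S0837 Cfsg.Agent.S0781 Cfsg.Agent.S2644 Cfsg.Agent.Lib.Helper37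
  Cfsg.Agent.Lib.Helper13

section UOrth

variable {F : Type*} [Field F] {σ : F →+* F} {n : ℕ} {F₀ : Subfield F} {ω : F}
  {P : GL (Fin n) F}

lemma gl_inv_mulVec (g : GL (Fin n) F) (z : Fin n → F) :
    (g : Matrix (Fin n) (Fin n) F) *ᵥ (((g⁻¹ : GL (Fin n) F) : Matrix (Fin n) (Fin n) F) *ᵥ z) = z := by
  rw [mulVec_mulVec, ← Units.val_mul, mul_inv_cancel, Units.val_one, one_mulVec]

lemma gl_mulVec_eq_zero (g : GL (Fin n) F) {z : Fin n → F}
    (h : (g : Matrix (Fin n) (Fin n) F) *ᵥ z = 0) : z = 0 :=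
  gl_mulVec_injective g (h.trans (mulVec_zero _).symm)

lemma sfG_ne_zero {a : Fin n → F₀} (ha : a ≠ 0) : sfG F₀ P a ≠ 0 := fun h =>
  ha (sfG_injective F₀ P (h.trans (sfG_zero F₀ P).symm))

/-- independence from non-membership in the span -/
lemma indep_of_not_mem {d u : Fin n → F₀} (hu0 : u ≠ 0)
    (hd : d ∉ Submodule.span F₀ (Set.range ![u])) :
    ∀ s t : F₀, s • d + t • u = 0 → s = 0 ∧ t = 0 := by
  intro s t hst
  have hs : s = 0 := by
    by_contra hs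
    apply hd
    rw [Submodule.mem_span_range_iff_exists_fun]
    refine ⟨fun _ => -(s⁻¹ * t), ?_⟩
    simp only [Fin.sum_univ_one, Matrix.cons_val_zero]
    have h1 : s • d = -(t • u) := eq_neg_of_add_eq_zero_left hst
    have := congrArg (fun x => s⁻¹ • x) h1
    simp only [smul_smul, inv_mul_cancel₀ hs, one_smul, smul_neg] at this
    rw [this, neg_smul]
  refine ⟨hs, ?_⟩
  rw [hs, zero_smul, zero_add] at hst
  rcases smul_eq_zero.mp hst with h | h
  · exact h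
  · exact absurd h hu0

namespace UOSetup

variable (S : UOSetup σ F₀ ω P)

/-- the double orthogonal of a line -/
lemma mem_span_of_orth_orth {u w : Fin n → F₀}
    (h : ∀ d, S.ratS d u = 0 → S.ratS w d = 0) : ∃ t : F₀, w = t • u := by
  have h1 : w ∈ (S.ratS).orthogonal ((S.ratS).orthogonal (Submodule.span F₀ {u})) := by
    rw [S.symData.mem_orthogonal]
    intro d hd
    apply h
    exact (S.symData.mem_orthogonal.1 hd) u (Submodule.subset_span rfl)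
  rw [S.symData.orth_orth] at h1
  obtain ⟨t, ht⟩ := Submodule.mem_span_singleton.1 h1
  exact ⟨t, ht.symm⟩

/-- a vector fixed by all conjugated Siegel elements centred at `g ρ u` is a multiple of `g ρ u` -/
lemma fixed_of_sieg (hn : 3 ≤ n) {g : GL (Fin n) F} (hgU : g ∈ UG σ n) {u : Fin n → F₀}
    (hu0 : u ≠ 0) (hu : S.ratS u u = 0) {z : Fin n → F}
    (hz : ∀ d, S.ratS d u = 0 → sieg σ ((g : Matrix (Fin n) (Fin n) F) *ᵥ sfG F₀ P u)
      ((g : Matrix (Fin n) (Fin n) F) *ᵥ sfG F₀ P d) (S.sb d : F) *ᵥ z = z) :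
    ∃ μ : F, z = μ • ((g : Matrix (Fin n) (Fin n) F) *ᵥ sfG F₀ P u) := by
  obtain ⟨x, hx⟩ : ∃ x, x = (g : Matrix (Fin n) (Fin n) F) *ᵥ sfG F₀ P u := ⟨_, rfl⟩
  rw [← hx] at hz ⊢
  have hx0 : x ≠ 0 := by
    intro h0
    rw [hx] at h0
    exact sfG_ne_zero hu0 (gl_mulVec_eq_zero g h0)
  have key : ∀ d, S.ratS d u = 0 →
      hf σ z x • ((g : Matrix (Fin n) (Fin n) F) *ᵥ sfG F₀ P d + (S.sb d : F) • x) -
        hf σ z ((g : Matrix (Fin n) (Fin n) F) *ᵥ sfG F₀ P d) • x = 0 := by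
    intro d hd
    have := hz d hd
    rw [sieg_mulVec] at this
    have e : z + hf σ z x • ((g : Matrix (Fin n) (Fin n) F) *ᵥ sfG F₀ P d + (S.sb d : F) • x) -
        hf σ z ((g : Matrix (Fin n) (Fin n) F) *ᵥ sfG F₀ P d) • x - z = 0 := by
      rw [this, sub_self]
    rw [← e]
    abel
  obtain ⟨d₀, hd₀o, hd₀n⟩ := S.symData.exists_orth_fam ![u] ![u]
    (by rw [Module.finrank_fin_fun]; omega)
  have hd₀u : S.ratS d₀ u = 0 := hd₀o 0
  have hind := indep_of_not_mem hu0 hd₀n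
  -- step 1
  have h1 : hf σ z x = 0 := by
    have k := key d₀ hd₀u
    have e : (g : Matrix (Fin n) (Fin n) F) *ᵥ (hf σ z x • sfG F₀ P d₀ +
        (hf σ z x * (S.sb d₀ : F) - hf σ z ((g : Matrix (Fin n) (Fin n) F) *ᵥ sfG F₀ P d₀)) •
          sfG F₀ P u) = 0 := by
      rw [mulVec_add, mulVec_smul, mulVec_smul, ← hx, ← k]
      module
    exact (S.indep hind (gl_mulVec_eq_zero g e)).1
  -- step 2
  have h2 : ∀ d, S.ratS d u = 0 → hf σ z ((g : Matrix (Fin n) (Fin n) F) *ᵥ sfG F₀ P d) = 0 := by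
    intro d hd
    have k := key d hd
    rw [h1, zero_smul, zero_sub, neg_eq_zero] at k
    rcases smul_eq_zero.mp k with h | h
    · exact h
    · exact absurd h hx0
  -- step 3
  obtain ⟨z₁, z₂, hz'⟩ := sfE_surj F₀ ω S.hdec P
    (((g⁻¹ : GL (Fin n) F) : Matrix (Fin n) (Fin n) F) *ᵥ z)
  have hzz : z = (g : Matrix (Fin n) (Fin n) F) *ᵥ sfE F₀ ω P z₁ z₂ := by
    rw [← hz', gl_inv_mulVec]
  have h3 : ∀ d, S.ratS d u = 0 → S.ratS z₁ d = 0 ∧ S.ratS z₂ d = 0 := by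
    intro d hd
    have := h2 d hd
    rw [hzz, hgU, S.hf_sfE_rho] at this
    exact S.dec_zero this
  obtain ⟨t₁, ht₁⟩ := S.mem_span_of_orth_orth (fun d hd => (h3 d hd).1)
  obtain ⟨t₂, ht₂⟩ := S.mem_span_of_orth_orth (fun d hd => (h3 d hd).2)
  refine ⟨(t₁ : F) + ω * (t₂ : F), ?_⟩
  rw [hzz, hx, ← mulVec_smul, ht₁, ht₂]
  congr 1
  unfold sfE
  rw [sfG_smul, sfG_smul]
  module

/-- the hypothesis of `stepD` -/
def SiegRat (S : UOSetup σ F₀ ω P) (g : GL (Fin n) F) : Prop :=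
  ∀ u d a : Fin n → F₀, S.ratS u u = 0 → S.ratS d u = 0 →
    ∃ a', sieg σ ((g : Matrix (Fin n) (Fin n) F) *ᵥ sfG F₀ P u)
      ((g : Matrix (Fin n) (Fin n) F) *ᵥ sfG F₀ P d) (S.sb d : F) *ᵥ sfG F₀ P a = sfG F₀ P a'

/-- images of rational singular vectors are proportional to rational vectors -/
lemma proprat_singular (hn : 3 ≤ n) {g : GL (Fin n) F} (hgU : g ∈ UG σ n) (hrat : S.SiegRat g)
    {u : Fin n → F₀} (hu0 : u ≠ 0) (hu : S.ratS u u = 0) :
    ∃ (l : F) (c : Fin n → F₀), (g : Matrix (Fin n) (Fin n) F) *ᵥ sfG F₀ P u = l • sfG F₀ P c := by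
  obtain ⟨x₁, x₂, hx⟩ := sfE_surj F₀ ω S.hdec P ((g : Matrix (Fin n) (Fin n) F) *ᵥ sfG F₀ P u)
  have hu' : hf σ (sfG F₀ P u) (sfG F₀ P u) = 0 := (S.ratS_eq_zero_iff u u).1 hu
  -- both components are fixed by the conjugated Siegel elements
  have hfix : ∀ d, S.ratS d u = 0 →
      sieg σ ((g : Matrix (Fin n) (Fin n) F) *ᵥ sfG F₀ P u)
        ((g : Matrix (Fin n) (Fin n) F) *ᵥ sfG F₀ P d) (S.sb d : F) *ᵥ sfG F₀ P x₁ = sfG F₀ P x₁ ∧
      sieg σ ((g : Matrix (Fin n) (Fin n) F) *ᵥ sfG F₀ P u)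
        ((g : Matrix (Fin n) (Fin n) F) *ᵥ sfG F₀ P d) (S.sb d : F) *ᵥ sfG F₀ P x₂ = sfG F₀ P x₂ := by
    intro d hd
    obtain ⟨c₁, hc₁⟩ := hrat u d x₁ hu hd
    obtain ⟨c₂, hc₂⟩ := hrat u d x₂ hu hd
    have hud : hf σ (sfG F₀ P u) (sfG F₀ P d) = 0 := by
      rw [← S.ratS_eq_zero_iff, S.ratS_symm]; exact hd
    have e1 : sieg σ ((g : Matrix (Fin n) (Fin n) F) *ᵥ sfG F₀ P u)
        ((g : Matrix (Fin n) (Fin n) F) *ᵥ sfG F₀ P d) (S.sb d : F) *ᵥ
          ((g : Matrix (Fin n) (Fin n) F) *ᵥ sfG F₀ P u) =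
        (g : Matrix (Fin n) (Fin n) F) *ᵥ sfG F₀ P u := by
      rw [sieg_mulVec, hgU, hgU, hu', hud, zero_smul, zero_smul, add_zero, sub_zero]
    have e2 : sfE F₀ ω P c₁ c₂ = sfE F₀ ω P x₁ x₂ := by
      obtain ⟨Y, hY⟩ : ∃ Y, Y = sieg σ ((g : Matrix (Fin n) (Fin n) F) *ᵥ sfG F₀ P u)
        ((g : Matrix (Fin n) (Fin n) F) *ᵥ sfG F₀ P d) (S.sb d : F) := ⟨_, rfl⟩
      rw [← hY] at hc₁ hc₂ e1
      calc sfE F₀ ω P c₁ c₂ = Y *ᵥ sfG F₀ P x₁ + ω • Y *ᵥ sfG F₀ P x₂ := by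
            unfold sfE; rw [hc₁, hc₂]
        _ = Y *ᵥ sfE F₀ ω P x₁ x₂ := by unfold sfE; rw [mulVec_add, mulVec_smul]
        _ = Y *ᵥ ((g : Matrix (Fin n) (Fin n) F) *ᵥ sfG F₀ P u) := by rw [hx]
        _ = (g : Matrix (Fin n) (Fin n) F) *ᵥ sfG F₀ P u := e1
        _ = sfE F₀ ω P x₁ x₂ := hx
    obtain ⟨r1, r2⟩ := sfE_inj σ F₀ S.hfix ω S.hω P _ _ _ _ e2
    rw [r1] at hc₁
    rw [r2] at hc₂
    exact ⟨hc₁, hc₂⟩
  obtain ⟨μ₁, hμ₁⟩ := S.fixed_of_sieg hn hgU hu0 hu (fun d hd => (hfix d hd).1)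
  obtain ⟨μ₂, hμ₂⟩ := S.fixed_of_sieg hn hgU hu0 hu (fun d hd => (hfix d hd).2)
  by_cases h1 : μ₁ = 0
  · refine ⟨ω, x₂, ?_⟩
    rw [hx]
    unfold sfE
    rw [hμ₁, h1, zero_smul, zero_add]
  · refine ⟨μ₁⁻¹, x₁, ?_⟩
    rw [hμ₁, smul_smul, inv_mul_cancel₀ h1, one_smul]

/-- the proportionality factor is the same for orthogonal independent singular vectors -/
lemma ratio_orth (hn : 3 ≤ n) {g : GL (Fin n) F} (hgU : g ∈ UG σ n) (hrat : S.SiegRat g)
    {u v : Fin n → F₀} (hu0 : u ≠ 0) (hv0 : v ≠ 0) (hu : S.ratS u u = 0) (hv : S.ratS v v = 0)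
    (huv : S.ratS u v = 0) (hind : ∀ s t : F₀, s • u + t • v = 0 → s = 0 ∧ t = 0)
    {l : F} {c : Fin n → F₀} (hl : l ≠ 0)
    (hgu : (g : Matrix (Fin n) (Fin n) F) *ᵥ sfG F₀ P u = l • sfG F₀ P c) :
    ∃ c', (g : Matrix (Fin n) (Fin n) F) *ᵥ sfG F₀ P v = l • sfG F₀ P c' := by
  obtain ⟨lv, cv, hgv⟩ := S.proprat_singular hn hgU hrat hv0 hv
  have huv0 : u + v ≠ 0 := by
    intro h0
    have := hind 1 1 (by rw [one_smul, one_smul]; exact h0)
    exact one_ne_zero this.1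
  have huvs : S.ratS (u + v) (u + v) = 0 := by
    simp only [map_add, LinearMap.add_apply, hu, hv, huv, S.ratS_symm v u, add_zero]
  obtain ⟨lw, cw, hgw⟩ := S.proprat_singular hn hgU hrat huv0 huvs
  have hlv : lv ≠ 0 := by
    intro h0
    rw [h0, zero_smul] at hgv
    exact sfG_ne_zero hv0 (gl_mulVec_eq_zero g hgv)
  have hlw : lw ≠ 0 := by
    intro h0
    rw [h0, zero_smul] at hgw
    exact sfG_ne_zero huv0 (gl_mulVec_eq_zero g hgw)
  -- `c, cv` are independent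
  have hcind : ∀ s t : F₀, s • c + t • cv = 0 → s = 0 ∧ t = 0 := by
    intro s t hst
    have h1 : ((s : F) * l⁻¹) • (l • sfG F₀ P c) + ((t : F) * lv⁻¹) • (lv • sfG F₀ P cv) = 0 := by
      rw [smul_smul, smul_smul, mul_assoc, mul_assoc, inv_mul_cancel₀ hl, inv_mul_cancel₀ hlv,
        mul_one, mul_one, ← sfG_smul, ← sfG_smul, ← sfG_add, hst, sfG_zero]
    rw [← hgu, ← hgv, ← mulVec_smul, ← mulVec_smul, ← mulVec_add] at h1
    obtain ⟨h2, h3⟩ := S.indep hind (gl_mulVec_eq_zero g h1)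
    have h4 : (s : F) = 0 := by
      rcases mul_eq_zero.mp h2 with h | h
      · exact h
      · exact absurd (inv_eq_zero.mp h) hl
    have h5 : (t : F) = 0 := by
      rcases mul_eq_zero.mp h3 with h | h
      · exact h
      · exact absurd (inv_eq_zero.mp h) hlv
    exact ⟨Subtype.ext h4, Subtype.ext h5⟩
  obtain ⟨p₁, p₂, hp⟩ := S.hdec (lv * l⁻¹)
  obtain ⟨r₁, r₂, hr⟩ := S.hdec (lw * l⁻¹)
  have hsum : lw • sfG F₀ P cw = l • sfG F₀ P c + lv • sfG F₀ P cv := by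
    rw [← hgw, ← hgu, ← hgv, sfG_add, mulVec_add]
  have e : sfE F₀ ω P (r₁ • cw) (r₂ • cw) = sfE F₀ ω P (c + p₁ • cv) (p₂ • cv) := by
    unfold sfE
    simp only [sfG_add, sfG_smul]
    have h1 : (lw * l⁻¹) • sfG F₀ P cw = sfG F₀ P c + (lv * l⁻¹) • sfG F₀ P cv := by
      have := congrArg (fun x => l⁻¹ • x) hsum
      simp only [smul_add, smul_smul, inv_mul_cancel₀ hl, one_smul] at this
      rw [mul_comm lw, mul_comm lv]
      exact this
    rw [hp, hr] at h1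
    rw [← sub_eq_zero] at h1 ⊢
    rw [← h1]
    module
  obtain ⟨e1, e2⟩ := sfE_inj σ F₀ S.hfix ω S.hω P _ _ _ _ e
  have h6 : r₂ • c + (r₂ * p₁ - r₁ * p₂) • cv = 0 := by
    have : r₂ • c + (r₂ * p₁ - r₁ * p₂) • cv = r₂ • (c + p₁ • cv) - r₁ • (p₂ • cv) := by
      module
    rw [this, ← e1, ← e2]
    module
  obtain ⟨h7, h8⟩ := hcind _ _ h6
  have hp₂ : p₂ = 0 := by
    by_contra hp₂
    have hr₁ : r₁ = 0 := by
      rw [h7, zero_mul, zero_sub, neg_eq_zero] at h8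
      rcases mul_eq_zero.mp h8 with h | h
      · exact h
      · exact absurd h hp₂
    rw [hr₁, h7] at hr
    have : lw * l⁻¹ = 0 := by rw [hr]; simp
    rcases mul_eq_zero.mp this with h | h
    · exact hlw h
    · exact hl (inv_eq_zero.mp h)
  refine ⟨p₁ • cv, ?_⟩
  rw [hgv, sfG_smul, smul_smul]
  congr 1
  rw [hp₂] at hp
  have : lv = l * (lv * l⁻¹) := by field_simp
  rw [this, hp]
  simp

/-- the proportionality factor is the same for all singular vectors -/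
lemma ratio_all [Finite F] (hn : 7 ≤ n) {g : GL (Fin n) F} (hgU : g ∈ UG σ n)
    (hrat : S.SiegRat g)
    {u v : Fin n → F₀} (hu0 : u ≠ 0) (hv0 : v ≠ 0) (hu : S.ratS u u = 0) (hv : S.ratS v v = 0)
    {l : F} {c : Fin n → F₀} (hl : l ≠ 0)
    (hgu : (g : Matrix (Fin n) (Fin n) F) *ᵥ sfG F₀ P u = l • sfG F₀ P c) :
    ∃ c', (g : Matrix (Fin n) (Fin n) F) *ᵥ sfG F₀ P v = l • sfG F₀ P c' := by
  have : Finite F₀ := Finite.of_injective (fun x : F₀ => (x : F)) Subtype.val_injective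
  obtain ⟨cu, hcu⟩ : ∃ c, S.ratS u c ≠ 0 := by
    by_contra hcon
    push Not at hcon
    exact hu0 (S.ratS_nondeg u hcon)
  obtain ⟨cv, hcv⟩ : ∃ c, S.ratS v c ≠ 0 := by
    by_contra hcon
    push Not at hcon
    exact hv0 (S.ratS_nondeg v hcon)
  obtain ⟨w, hw0, hww, hwo⟩ := S.symData.exists_singular_orth ![u, v, cu, cv]
    (by rw [Module.finrank_fin_fun]; omega)
  have o1 : S.ratS w u = 0 := hwo 0
  have o2 : S.ratS w v = 0 := hwo 1
  have o3 : S.ratS w cu = 0 := hwo 2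
  have o4 : S.ratS w cv = 0 := hwo 3
  have ind1 : ∀ s t : F₀, s • u + t • w = 0 → s = 0 ∧ t = 0 := by
    intro s t hst
    have h1 := congrArg (fun x => S.ratS x cu) hst
    simp only [map_add, map_smul, LinearMap.add_apply, LinearMap.smul_apply, o3, smul_zero,
      add_zero, map_zero, LinearMap.zero_apply, smul_eq_mul, mul_zero] at h1
    have hs : s = 0 := by
      rcases mul_eq_zero.mp h1 with h | h
      · exact h
      · exact absurd h hcu
    refine ⟨hs, ?_⟩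
    rw [hs, zero_smul, zero_add] at hst
    rcases smul_eq_zero.mp hst with h | h
    · exact h
    · exact absurd h hw0
  have ind2 : ∀ s t : F₀, s • w + t • v = 0 → s = 0 ∧ t = 0 := by
    intro s t hst
    have h1 := congrArg (fun x => S.ratS x cv) hst
    simp only [map_add, map_smul, LinearMap.add_apply, LinearMap.smul_apply, o4, smul_zero,
      zero_add, map_zero, LinearMap.zero_apply, smul_eq_mul, mul_zero] at h1
    have ht : t = 0 := by
      rcases mul_eq_zero.mp h1 with h | h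
      · exact h
      · exact absurd h hcv
    refine ⟨?_, ht⟩
    rw [ht, zero_smul, add_zero] at hst
    rcases smul_eq_zero.mp hst with h | h
    · exact h
    · exact absurd h hw0
  obtain ⟨c₁, hc₁⟩ := S.ratio_orth (by omega) hgU hrat hu0 hw0 hu hww
    (by rw [S.ratS_symm]; exact o1) ind1 hl hgu
  exact S.ratio_orth (by omega) hgU hrat hw0 hv0 hww hv o2 ind2 hl hc₁

/-- **Step D.** -/
theorem stepD [Finite F] (hn : 7 ≤ n) {g : GL (Fin n) F} (hgU : g ∈ UG σ n)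
    (hrat : S.SiegRat g) : g ∈ Cfsg.Geo.subfieldSubgroup F₀ P := by
  have : Finite F₀ := Finite.of_injective (fun x : F₀ => (x : F)) Subtype.val_injective
  obtain ⟨u₀, hu₀0, hu₀, -⟩ := S.symData.exists_singular_orth (Fin.elim0 : Fin 0 → (Fin n → F₀))
    (by rw [Module.finrank_fin_fun]; omega)
  obtain ⟨l, c₀, hl⟩ := S.proprat_singular (by omega) hgU hrat hu₀0 hu₀
  have hl0 : l ≠ 0 := by
    intro h0
    rw [h0, zero_smul] at hl
    exact sfG_ne_zero hu₀0 (gl_mulVec_eq_zero g hl)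
  have hsing : ∀ e : Fin n → F₀, S.ratS e e = 0 →
      ∃ c', (g : Matrix (Fin n) (Fin n) F) *ᵥ sfG F₀ P e = l • sfG F₀ P c' := by
    intro e he
    by_cases he0 : e = 0
    · refine ⟨0, ?_⟩
      rw [he0, sfG_zero, mulVec_zero, smul_zero]
    · exact S.ratio_all hn hgU hrat hu₀0 he0 hu₀ he hl0 hl
  apply mem_subfield_of_proprat σ F₀ S.hfix (by omega) P g
  intro a
  obtain ⟨e₁, e₂, h1, h2, -, -, rfl⟩ := S.symData.exists_two_singular S.two_ne
    (Fin.elim0 : Fin 0 → (Fin n → F₀))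
    (fun x hx _ => by
      have : Set.range (Fin.elim0 : Fin 0 → (Fin n → F₀)) = ∅ := Set.range_eq_empty _
      rw [this, Submodule.span_empty] at hx
      exact hx)
    (by rw [Module.finrank_fin_fun]; omega) (a := a) (fun i => i.elim0)
  obtain ⟨c₁, hc₁⟩ := hsing e₁ h1
  obtain ⟨c₂, hc₂⟩ := hsing e₂ h2
  refine ⟨l, c₁ + c₂, ?_⟩
  rw [sfG_add, mulVec_add, hc₁, hc₂, sfG_add, smul_add]

end UOSetup

end UOrth

end Cfsg.Agent.Lib.Helper94
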