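/-
Helper94: the orthogonal subfield group in the unitary group, part 4: generation.  An overgroup `M`
of the subfield group containing all unitary transvections with rational singular centres contains
the full unipotent radicals of the stabilisers of rational singular points, hence all unitary
transvections, hence the special unitary group.
-/
import Mathlib
import Cfsg.Agent.Lib.Helper94.UOrth3

set_option autoImplicit false
set_option linter.unusedSimpArgs false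
set_option linter.unusedVariables false
set_option linter.unusedSectionVars false

namespace Cfsg.Agent.Lib.Helper94

open Matrix Module Cfsg.Agent.S0837 Cfsg.Agent.S0781 Cfsg.Agent.S2644 Cfsg.Agent.Lib.Helper37
  Cfsg.Agent.Lib.Helper13

section UOrth

variable {F : Type*} [Field F] {σ : F →+* F} {n : ℕ} {F₀ : Subfield F} {ω : F}
  {P : GL (Fin n) F}

/-- vectors `w ⊥ v` all of whose Siegel elements with centre `v` lie in `M` -/
def SQ (σ : F →+* F) (M : Subgroup (GL (Fin n) F)) (v : Fin n → F) : Set (Fin n → F) :=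
  {w | hf σ w v = 0 ∧ ∀ β, β + σ β + hf σ w w = 0 → InM M (sieg σ v w β)}

lemma sieg_mul_tv (hσ2 : ∀ a, σ (σ a) = a) {v w : Fin n → F} (β c : F) (hv : hf σ v v = 0)
    (hw : hf σ w v = 0) : sieg σ v w β * tv σ v c = sieg σ v w (β + c) := by
  unfold tv
  rw [sieg_mul σ hσ2 v w 0 β c hv hw (hf_zero_left σ v), add_zero, hf_zero_left, sub_zero]

variable {M : Subgroup (GL (Fin n) F)}

lemma sq_of_one (hσ2 : ∀ a, σ (σ a) = a) {v w : Fin n → F} (hv : v ∈ UX σ M)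
    (hw : hf σ w v = 0) {β₀ : F} (hβ₀ : β₀ + σ β₀ + hf σ w w = 0) (h : InM M (sieg σ v w β₀)) :
    w ∈ SQ σ M v := by
  rw [ux_iff] at hv
  refine ⟨hw, fun β hβ => ?_⟩
  have hc : (β - β₀) + σ (β - β₀) = 0 := by
    rw [map_sub]; linear_combination hβ - hβ₀
  have := h.mul (hv.2 _ hc)
  rwa [sieg_mul_tv hσ2 _ _ hv.1 hw, add_sub_cancel] at this

lemma sq_zero {v : Fin n → F} (hv : v ∈ UX σ M) : (0 : Fin n → F) ∈ SQ σ M v := by
  rw [ux_iff] at hv
  refine ⟨hf_zero_left σ v, fun β hβ => ?_⟩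
  rw [hf_zero_left, add_zero] at hβ
  exact hv.2 β hβ

lemma sq_smul_self (hσ2 : ∀ a, σ (σ a) = a) {v : Fin n → F} (hv : v ∈ UX σ M) (l : F) :
    l • v ∈ SQ σ M v := by
  rw [ux_iff] at hv
  have h0 : hf σ (l • v) v = 0 := by rw [hf_smul_left, hv.1, mul_zero]
  refine ⟨h0, fun β hβ => ?_⟩
  have h1 : hf σ (l • v) (l • v) = 0 := by rw [hf_smul_right, h0, mul_zero]
  rw [h1, add_zero] at hβ
  have e : sieg σ v (l • v) β = tv σ v (l + β - σ l) := by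
    apply Matrix.toLin'.injective
    apply LinearMap.ext
    intro x
    rw [Matrix.toLin'_apply, Matrix.toLin'_apply, sieg_mulVec, tv_mulVec, hf_smul_right]
    module
  rw [e]
  apply hv.2
  rw [map_sub, map_add, hσ2]
  linear_combination hβ

lemma sq_add (hσ : σ ≠ RingHom.id F) (hσ2 : ∀ a, σ (σ a) = a) {v w₁ w₂ : Fin n → F}
    (hv : v ∈ UX σ M) (h₁ : w₁ ∈ SQ σ M v) (h₂ : w₂ ∈ SQ σ M v) : w₁ + w₂ ∈ SQ σ M v := by
  obtain ⟨β₁, hβ₁⟩ := trace_surj σ hσ hσ2 (-hf σ w₁ w₁) (by rw [map_neg, hf_self_fixed σ hσ2])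
  obtain ⟨β₂, hβ₂⟩ := trace_surj σ hσ hσ2 (-hf σ w₂ w₂) (by rw [map_neg, hf_self_fixed σ hσ2])
  have hv0 : hf σ v v = 0 := (ux_iff.1 hv).1
  have s1 := h₁.2 β₁ (by rw [hβ₁]; ring)
  have s2 := h₂.2 β₂ (by rw [hβ₂]; ring)
  have s3 := s1.mul s2
  rw [sieg_mul σ hσ2 v w₁ w₂ β₁ β₂ hv0 h₁.1 h₂.1] at s3
  have hw : hf σ (w₁ + w₂) v = 0 := by rw [hf_add_left, h₁.1, h₂.1, add_zero]
  refine sq_of_one hσ2 hv hw ?_ s3
  have e : σ (hf σ w₂ w₁) = hf σ w₁ w₂ := (hf_symm σ hσ2 w₁ w₂).symm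
  rw [map_sub, map_add, e]
  simp only [hf_add_left, hf_add_right]
  linear_combination hβ₁ + hβ₂

/-- moving a vector of `UX` by the Siegel elements with centre `w` -/
theorem ux_move (hσ2 : ∀ a, σ (σ a) = a) (hMU : M ≤ UG σ n) {w : Fin n → F}
    (hww : hf σ w w = 0) (hQ : ∀ u, hf σ u w = 0 → u ∈ SQ σ M w)
    {y : Fin n → F} (hy : y ∈ UX σ M) (hyw : hf σ y w ≠ 0)
    {z : Fin n → F} (hz : hf σ z z = 0) (hzw : hf σ z w = hf σ y w) : z ∈ UX σ M := by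
  obtain ⟨hy0, -⟩ := id hy
  obtain ⟨a, ha⟩ : ∃ a, a = hf σ y w := ⟨_, rfl⟩
  rw [← ha] at hyw hzw
  have hsa : σ a ≠ 0 := map_ne_zero_of_invol σ hσ2 hyw
  obtain ⟨u, hu⟩ : ∃ u : Fin n → F, u = a⁻¹ • (z - y) := ⟨_, rfl⟩
  obtain ⟨β, hβ⟩ : ∃ β : F, β = a⁻¹ * hf σ y u := ⟨_, rfl⟩
  have huw : hf σ u w = 0 := by
    rw [hu, hf_smul_left, hf_sub_left, hzw, ← ha, sub_self, mul_zero]
  have hyu : hf σ y u = (σ a)⁻¹ * hf σ y z := by
    rw [hu, hf_smul_right, hf_sub_right, hy0, sub_zero, map_inv₀]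
  have hzy : σ (hf σ y z) = hf σ z y := (hf_symm σ hσ2 z y).symm
  have huu : hf σ u u = -(a⁻¹ * (σ a)⁻¹ * (hf σ z y + hf σ y z)) := by
    rw [hu, hf_smul_left, hf_smul_right, hf_sub_left, hf_sub_right, hf_sub_right, hz, hy0, map_inv₀]
    ring
  have hβc : β + σ β + hf σ u u = 0 := by
    rw [huu, hβ, hyu, map_mul, map_mul, map_inv₀, map_inv₀, hσ2, hzy]
    ring
  obtain ⟨s, hsM, hs⟩ := (hQ u huw).2 β hβc
  have hsy : (s : Matrix (Fin n) (Fin n) F) *ᵥ y = z := by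
    rw [hs, sieg_mulVec, ← ha, hβ, hu]
    ext i
    simp only [Pi.add_apply, Pi.sub_apply, Pi.smul_apply, smul_eq_mul]
    field_simp
    ring
  rw [← hsy]
  exact ux_map σ s hsM (hMU hsM) hy

namespace UOSetup

variable (S : UOSetup σ F₀ ω P)

include S in
lemma sigma_ne : σ ≠ RingHom.id F := fun h => S.hω (by rw [h]; rfl)

/-- rational vectors orthogonal to `b` -/
lemma sq_rat (hn : 1 ≤ n)
    (hM : ∀ g : GL (Fin n) F, g ∈ UG σ n → (g : Matrix (Fin n) (Fin n) F).det = 1 →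
      g ∈ Cfsg.Geo.subfieldSubgroup F₀ P → g ∈ M)
    {b a : Fin n → F₀} (hb : S.ratS b b = 0) (hbX : sfG F₀ P b ∈ UX σ M) (hab : S.ratS a b = 0) :
    sfG F₀ P a ∈ SQ σ M (sfG F₀ P b) :=
  sq_of_one S.hσ2 hbX ((S.ratS_eq_zero_iff a b).1 hab) (S.sb_eq a) (S.ratSieg_mem hn hM hb hab)

/-- trace-zero multiples of rational singular vectors orthogonal to `b` -/
lemma sq_kappa (hn : 1 ≤ n) (hMU : M ≤ UG σ n)
    (hM : ∀ g : GL (Fin n) F, g ∈ UG σ n → (g : Matrix (Fin n) (Fin n) F).det = 1 →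
      g ∈ Cfsg.Geo.subfieldSubgroup F₀ P → g ∈ M)
    {b e : Fin n → F₀} (hb : S.ratS b b = 0) (hbX : sfG F₀ P b ∈ UX σ M)
    (heX : sfG F₀ P e ∈ UX σ M) (heb : S.ratS e b = 0)
    (hne : e ∉ Submodule.span F₀ (Set.range ![b])) {κ : F} (hκ : κ + σ κ = 0) :
    κ • sfG F₀ P e ∈ SQ σ M (sfG F₀ P b) := by
  obtain ⟨v, hvo, hev⟩ := S.symData.exists_dual_fam ![b] hne
  have hvb : S.ratS v b = 0 := hvo 0
  obtain ⟨he0, heM⟩ := id heX
  have ht := heM κ hκ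
  have hb' : hf σ (sfG F₀ P b) (sfG F₀ P b) = 0 := (S.ratS_eq_zero_iff b b).1 hb
  have hvb' : hf σ (sfG F₀ P v) (sfG F₀ P b) = 0 := (S.ratS_eq_zero_iff v b).1 hvb
  have R := S.ratSieg_mem hn hM hb hvb
  have A := InM.sieg_conj ht (hMU ht) R
  have e1 : ((tvGL σ (sfG F₀ P e) κ he0 : GL (Fin n) F) : Matrix (Fin n) (Fin n) F) *ᵥ
      sfG F₀ P b = sfG F₀ P b := by
    show tv σ (sfG F₀ P e) κ *ᵥ sfG F₀ P b = _
    rw [tv_mulVec, S.hf_rho, S.ratS_symm b e, heb]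
    simp
  have e2 : ((tvGL σ (sfG F₀ P e) κ he0 : GL (Fin n) F) : Matrix (Fin n) (Fin n) F) *ᵥ
      sfG F₀ P v = sfG F₀ P v + κ • sfG F₀ P e := by
    show tv σ (sfG F₀ P e) κ *ᵥ sfG F₀ P v = _
    rw [tv_mulVec, S.hf_rho, S.ratS_symm v e, hev]
    simp
  rw [e1, e2] at A
  have hke : hf σ (κ • sfG F₀ P e) (sfG F₀ P b) = 0 := by
    rw [hf_smul_left, S.hf_rho, heb]; simp
  have key : sieg σ (sfG F₀ P b) (sfG F₀ P v) (S.sb v : F) *
      sieg σ (sfG F₀ P b) (κ • sfG F₀ P e) κ =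
      sieg σ (sfG F₀ P b) (sfG F₀ P v + κ • sfG F₀ P e) (S.sb v : F) := by
    rw [sieg_mul σ S.hσ2 _ _ _ _ _ hb' hvb' hke, hf_smul_left, S.hf_rho, hev]
    congr 1
    simp
  refine sq_of_one S.hσ2 hbX hke ?_ (InM.of_mul_eq R A key)
  rw [hf_smul_left, hf_smul_right, he0]
  linear_combination hκ

/-- the full unipotent radical at a rational singular point -/
lemma sq_all [Finite F] (hn : 5 ≤ n) (hMU : M ≤ UG σ n)
    (hM : ∀ g : GL (Fin n) F, g ∈ UG σ n → (g : Matrix (Fin n) (Fin n) F).det = 1 →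
      g ∈ Cfsg.Geo.subfieldSubgroup F₀ P → g ∈ M)
    (hX : ∀ e : Fin n → F₀, S.ratS e e = 0 → sfG F₀ P e ∈ UX σ M)
    {b b' : Fin n → F₀} (hb : S.ratS b b = 0) (hb' : S.ratS b' b' = 0) (hbb' : S.ratS b b' = 1)
    {w : Fin n → F} (hw : hf σ w (sfG F₀ P b) = 0) : w ∈ SQ σ M (sfG F₀ P b) := by
  have : Finite F₀ := Finite.of_injective (fun x : F₀ => (x : F)) Subtype.val_injective
  have hbX := hX b hb
  have hb'b : S.ratS b' b = 1 := by rw [S.ratS_symm]; exact hbb'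
  obtain ⟨w₁, w₂, rfl⟩ := sfE_surj F₀ ω S.hdec P w
  rw [S.hf_sfE_rho] at hw
  obtain ⟨hw₁, hw₂⟩ := S.dec_zero hw
  -- `ω = ω₀ + κ₀`
  have htr : ω + σ ω ∈ F₀ := by rw [S.hfix, map_add, S.hσ2]; ring
  obtain ⟨tr, htr'⟩ : ∃ tr : F₀, (tr : F) = ω + σ ω := ⟨⟨_, htr⟩, rfl⟩
  obtain ⟨κ₀, hκ₀⟩ : ∃ κ₀ : F, κ₀ = (ω - σ ω) / 2 := ⟨_, rfl⟩
  have hκ₀t : κ₀ + σ κ₀ = 0 := by
    have h2' : σ (2 : F) = 2 := map_ofNat σ 2
    rw [hκ₀, map_div₀, map_sub, S.hσ2, h2']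
    have := S.h2
    field_simp
    ring
  have h2c : ((2 : F₀) : F) = 2 := by norm_cast
  have hω : ω = (((tr / 2 : F₀)) : F) + κ₀ := by
    have := S.h2
    rw [hκ₀]
    push_cast
    rw [htr', h2c]
    field_simp
    ring
  -- split `w₂`
  obtain ⟨t, ht⟩ : ∃ t : F₀, t = S.ratS w₂ b' := ⟨_, rfl⟩
  obtain ⟨w₂', hw₂'⟩ : ∃ w₂' : Fin n → F₀, w₂' = w₂ - t • b := ⟨_, rfl⟩
  have o1 : S.ratS w₂' b = 0 := by
    rw [hw₂', map_sub, map_smul, LinearMap.sub_apply, LinearMap.smul_apply, hw₂, hb, smul_zero,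
      sub_zero]
  have o2 : S.ratS w₂' b' = 0 := by
    rw [hw₂', map_sub, map_smul, LinearMap.sub_apply, LinearMap.smul_apply, hbb', ← ht,
      smul_eq_mul, mul_one, sub_self]
  have hfam : ∀ x ∈ Submodule.span F₀ (Set.range ![b, b']),
      (∀ i, S.ratS x (![b, b'] i) = 0) → x = 0 := by
    intro x hx hxo
    rw [Submodule.mem_span_range_iff_exists_fun] at hx
    obtain ⟨f, rfl⟩ := hx
    have h0 := hxo 0
    have h1 := hxo 1
    simp only [Fin.sum_univ_two, Matrix.cons_val_zero, Matrix.cons_val_one, map_add, map_smul,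
      LinearMap.add_apply, LinearMap.smul_apply, hb, hb', hbb', hb'b, smul_eq_mul, mul_zero,
      mul_one, zero_add, add_zero] at h0 h1
    simp only [Fin.sum_univ_two, Matrix.cons_val_zero, Matrix.cons_val_one, h0, h1, zero_smul,
      add_zero]
  obtain ⟨e₁, e₂, he₁, he₂, he₁o, he₂o, hsum⟩ := S.symData.exists_two_singular S.two_ne
    ![b, b'] hfam (by rw [Module.finrank_fin_fun]; omega) (a := w₂')
    (fun i => by fin_cases i <;> [exact o1; exact o2])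
  -- the pieces
  have piece : ∀ e : Fin n → F₀, S.ratS e e = 0 → S.ratS e b = 0 → S.ratS e b' = 0 →
      κ₀ • sfG F₀ P e ∈ SQ σ M (sfG F₀ P b) := by
    intro e he heb heb'
    by_cases he0 : e = 0
    · rw [he0, sfG_zero, smul_zero]
      exact sq_zero hbX
    · apply S.sq_kappa (by omega) hMU hM hb hbX (hX e he) heb ?_ hκ₀t
      intro hmem
      rw [Submodule.mem_span_range_iff_exists_fun] at hmem
      obtain ⟨f, hf⟩ := hmem
      simp only [Fin.sum_univ_one, Matrix.cons_val_zero] at hf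
      have h1 : S.ratS e b' = f 0 := by
        rw [← hf, map_smul, LinearMap.smul_apply, hbb', smul_eq_mul, mul_one]
      rw [heb'] at h1
      rw [← h1, zero_smul] at hf
      exact he0 hf.symm
  have p1 := piece e₁ he₁ (he₁o 0) (he₁o 1)
  have p2 := piece e₂ he₂ (he₂o 0) (he₂o 1)
  have p3 : sfG F₀ P (w₁ + (tr / 2) • w₂) ∈ SQ σ M (sfG F₀ P b) := by
    apply S.sq_rat (by omega) hM hb hbX
    rw [map_add, map_smul, LinearMap.add_apply, LinearMap.smul_apply, hw₁, hw₂, smul_zero,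
      add_zero]
  have p4 := sq_smul_self S.hσ2 hbX (κ₀ * (t : F))
  have hσne := S.sigma_ne
  have := sq_add hσne S.hσ2 hbX (sq_add hσne S.hσ2 hbX (sq_add hσne S.hσ2 hbX p3 p1) p2) p4
  have e : sfE F₀ ω P w₁ w₂ = sfG F₀ P (w₁ + (tr / 2) • w₂) + κ₀ • sfG F₀ P e₁ +
      κ₀ • sfG F₀ P e₂ + (κ₀ * (t : F)) • sfG F₀ P b := by
    have hw₂eq : w₂ = e₁ + e₂ + t • b := by
      rw [← hsum, hw₂']; abel
    unfold sfE
    rw [hw₂eq]
    simp only [sfG_add, sfG_smul]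
    obtain ⟨h, hh⟩ : ∃ h : F, h = ((tr / 2 : F₀) : F) := ⟨_, rfl⟩
    rw [← hh] at hω ⊢
    rw [hω]
    module
  rw [e]
  exact this

/-- **Step E.**  Generation. -/
theorem stepE [Finite F] (hn : 5 ≤ n) (hMU : M ≤ UG σ n)
    (hM : ∀ g : GL (Fin n) F, g ∈ UG σ n → (g : Matrix (Fin n) (Fin n) F).det = 1 →
      g ∈ Cfsg.Geo.subfieldSubgroup F₀ P → g ∈ M)
    (hX : ∀ e : Fin n → F₀, S.ratS e e = 0 → sfG F₀ P e ∈ UX σ M) :
    ∀ g : GL (Fin n) F, g ∈ UG σ n → (g : Matrix (Fin n) (Fin n) F).det = 1 → g ∈ M := by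
  have : Finite F₀ := Finite.of_injective (fun x : F₀ => (x : F)) Subtype.val_injective
  have hσne := S.sigma_ne
  obtain ⟨b, hb0, hb, -⟩ := S.symData.exists_singular_orth (Fin.elim0 : Fin 0 → (Fin n → F₀))
    (by rw [Module.finrank_fin_fun]; omega)
  obtain ⟨b', hb', hbb'⟩ := S.symData.exists_partner S.two_ne hb0 hb
  have hb'b : S.ratS b' b = 1 := by rw [S.ratS_symm]; exact hbb'
  have hbX := hX b hb
  have hb'X := hX b' hb'
  have hbb0 : hf σ (sfG F₀ P b) (sfG F₀ P b) = 0 := (S.ratS_eq_zero_iff b b).1 hb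
  have hb'b'0 : hf σ (sfG F₀ P b') (sfG F₀ P b') = 0 := (S.ratS_eq_zero_iff b' b').1 hb'
  have h1 : hf σ (sfG F₀ P b') (sfG F₀ P b) = 1 := by rw [S.hf_rho, hb'b]; rfl
  have h1' : hf σ (sfG F₀ P b) (sfG F₀ P b') = 1 := by rw [S.hf_rho, hbb']; rfl
  have Q1 : ∀ u, hf σ u (sfG F₀ P b) = 0 → u ∈ SQ σ M (sfG F₀ P b) :=
    fun u hu => S.sq_all hn hMU hM hX hb hb' hbb' hu
  have Q2 : ∀ u, hf σ u (sfG F₀ P b') = 0 → u ∈ SQ σ M (sfG F₀ P b') :=
    fun u hu => S.sq_all hn hMU hM hX hb' hb hb'b hu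
  -- isotropic vectors not orthogonal to a rational singular vector of the pair
  have caseA : ∀ (c c' : Fin n → F₀), hf σ (sfG F₀ P c) (sfG F₀ P c) = 0 →
      (∀ u, hf σ u (sfG F₀ P c) = 0 → u ∈ SQ σ M (sfG F₀ P c)) →
      sfG F₀ P c' ∈ UX σ M → hf σ (sfG F₀ P c') (sfG F₀ P c) = 1 →
      ∀ z : Fin n → F, hf σ z z = 0 → hf σ z (sfG F₀ P c) ≠ 0 → z ∈ UX σ M := by
    intro c c' hcc hQ hc'X hc'c z hz hzc
    obtain ⟨l, hl⟩ : ∃ l : F, l = (hf σ z (sfG F₀ P c))⁻¹ := ⟨_, rfl⟩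
    have hl0 : l ≠ 0 := by rw [hl]; exact inv_ne_zero hzc
    have hz0 : hf σ (l • z) (l • z) = 0 := by rw [hf_smul_left, hf_smul_right, hz]; ring
    have hzw : hf σ (l • z) (sfG F₀ P c) = hf σ (sfG F₀ P c') (sfG F₀ P c) := by
      rw [hf_smul_left, hl, inv_mul_cancel₀ hzc, hc'c]
    have := ux_move S.hσ2 hMU hcc hQ hc'X (by rw [hc'c]; exact one_ne_zero) hz0 hzw
    have h3 := ux_smul σ S.hσ2 this l⁻¹
    rwa [smul_smul, inv_mul_cancel₀ hl0, one_smul] at h3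
  have hA1 := caseA b b' hbb0 Q1 hb'X h1
  have hA2 := caseA b' b hb'b'0 Q2 hbX h1'
  have hall : ∀ z : Fin n → F, hf σ z z = 0 → z ∈ UX σ M := by
    intro z hz
    by_cases hzb : hf σ z (sfG F₀ P b) = 0
    · by_cases hzb' : hf σ z (sfG F₀ P b') = 0
      · by_cases hz0 : z = 0
        · rw [hz0]
          have := ux_smul σ S.hσ2 hbX 0
          rwa [zero_smul] at this
        · obtain ⟨y₀, hy₀⟩ := exists_hf_ne_zero σ S.hσ2 z hz0
          have hzy₀ : hf σ z y₀ ≠ 0 := by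
            rw [hf_symm σ S.hσ2]; exact map_ne_zero_of_invol σ S.hσ2 hy₀
          obtain ⟨w', hw'⟩ : ∃ w' : Fin n → F,
              w' = y₀ - hf σ y₀ (sfG F₀ P b') • sfG F₀ P b := ⟨_, rfl⟩
          have hw'b' : hf σ w' (sfG F₀ P b') = 0 := by
            rw [hw', hf_sub_left, hf_smul_left, h1', mul_one, sub_self]
          have hzw' : hf σ z w' = hf σ z y₀ := by
            rw [hw', hf_sub_right, hf_smul_right, hzb, mul_zero, sub_zero]
          obtain ⟨β, hβ⟩ := trace_surj σ hσne S.hσ2 (-hf σ w' w')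
            (by rw [map_neg, hf_self_fixed σ S.hσ2])
          obtain ⟨q, hqM, hq⟩ := (Q2 w' hw'b').2 β (by rw [hβ]; ring)
          have hqz : (q : Matrix (Fin n) (Fin n) F) *ᵥ z = z - hf σ z y₀ • sfG F₀ P b' := by
            rw [hq, sieg_mulVec, hzb', hzw', zero_smul, add_zero]
          have hz1 : hf σ ((q : Matrix (Fin n) (Fin n) F) *ᵥ z)
              ((q : Matrix (Fin n) (Fin n) F) *ᵥ z) = 0 := by rw [hMU hqM, hz]
          have hz1b : hf σ ((q : Matrix (Fin n) (Fin n) F) *ᵥ z) (sfG F₀ P b) ≠ 0 := by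
            rw [hqz, hf_sub_left, hf_smul_left, hzb, h1, zero_sub, mul_one]
            exact neg_ne_zero.mpr hzy₀
          have h5 := hA1 _ hz1 hz1b
          have hqi : (q⁻¹ : GL (Fin n) F) ∈ M := M.inv_mem hqM
          have h6 := ux_map σ q⁻¹ hqi (hMU hqi) h5
          rwa [mulVec_mulVec, ← Units.val_mul, inv_mul_cancel, Units.val_one, one_mulVec] at h6
      · exact hA2 z hz hzb'
    · exact hA1 z hz hzb
  have hTG : TG σ n ≤ M := by
    unfold TG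
    rw [Subgroup.closure_le]
    rintro g ⟨z, c, hz, hc, hg⟩
    obtain ⟨_, h1⟩ := hall z hz
    have : g = tvGL σ z c hz := Units.ext hg
    rw [this]
    exact h1 c hc
  intro g hg hdet
  exact hTG (su_gen σ hσne S.hσ2 n (by omega) (fun h3 => absurd h3 (by omega)) g hg hdet)

end UOSetup

end UOrth

end Cfsg.Agent.Lib.Helper94
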