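/-
Helper94: the orthogonal subfield group `N(O_n(q))` is maximal in `SU_n(q)`, `q` odd, `n ≥ 9`:
assembly of the steps and bridge to the Prelude vocabulary.
-/
import Mathlib
import Cfsg.Agent.Lib.Helper94.UOrth4
import Cfsg.Agent.Lib.Helper13.UnitSubfieldBridge

set_option autoImplicit false
set_option linter.unusedSimpArgs false
set_option linter.unusedVariables false
set_option linter.unusedSectionVars false

namespace Cfsg.Agent.Lib.Helper94

open Matrix Module Cfsg.Agent.S0837 Cfsg.Agent.S0781 Cfsg.Agent.S2644 Cfsg.Agent.Lib.Helper37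
  Cfsg.Agent.Lib.Helper13

section UOrth

variable {F : Type*} [Field F] {σ : F →+* F} {n : ℕ} {F₀ : Subfield F} {ω : F}
  {P : GL (Fin n) F}

namespace UOSetup

variable (S : UOSetup σ F₀ ω P)

include S in
/-- **The orthogonal subfield group: overgroups.** -/
theorem su_le_of_orth_lt [Finite F] (hn : 9 ≤ n) (M : Subgroup (GL (Fin n) F))
    (hMU : M ≤ UG σ n)
    (hM : ∀ g : GL (Fin n) F, g ∈ UG σ n → (g : Matrix (Fin n) (Fin n) F).det = 1 →
      g ∈ Cfsg.Geo.subfieldSubgroup F₀ P → g ∈ M)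
    (g0 : GL (Fin n) F) (hg0 : g0 ∈ M) (hg0' : g0 ∉ Cfsg.Geo.subfieldSubgroup F₀ P) :
    ∀ g : GL (Fin n) F, g ∈ UG σ n → (g : Matrix (Fin n) (Fin n) F).det = 1 → g ∈ M := by
  by_cases hC : ∃ g ∈ M, ∃ u d a : Fin n → F₀, S.ratS u u = 0 ∧ S.ratS d u = 0 ∧
      ∀ a', sieg σ ((g : Matrix (Fin n) (Fin n) F) *ᵥ sfG F₀ P u)
        ((g : Matrix (Fin n) (Fin n) F) *ᵥ sfG F₀ P d) (S.sb d : F) *ᵥ sfG F₀ P a ≠ sfG F₀ P a'
  · obtain ⟨g, hg, u, d, a, hu, hd, hirr⟩ := hC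
    obtain ⟨b, hb0, hbb, hbX⟩ := S.stepC hn hMU hM hg hu hd hirr
    apply S.stepE (by omega) hMU hM
    intro e he
    by_cases he0 : e = 0
    · rw [he0, sfG_zero]
      have := ux_smul σ S.hσ2 hbX 0
      rwa [zero_smul] at this
    · exact S.stepT (by omega) hMU hM hb0 hbX he0 he
  · exfalso
    apply hg0'
    apply S.stepD (by omega) (hMU hg0)
    intro u d a hu hd
    by_contra hcon
    push Not at hcon
    exact hC ⟨g0, hg0, u, d, a, hu, hd, hcon⟩

include S in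
/-- a determinant-one isometry outside the subfield group -/
theorem exists_not_mem_orth [Finite F] (hn : 3 ≤ n) :
    ∃ g : GL (Fin n) F, g ∈ UG σ n ∧ (g : Matrix (Fin n) (Fin n) F).det = 1 ∧
      g ∉ Cfsg.Geo.subfieldSubgroup F₀ P := by
  have : Finite F₀ := Finite.of_injective (fun x : F₀ => (x : F)) Subtype.val_injective
  obtain ⟨b, hb0, hb, -⟩ := S.symData.exists_singular_orth (Fin.elim0 : Fin 0 → (Fin n → F₀))
    (by rw [Module.finrank_fin_fun]; omega)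
  obtain ⟨b', hb', hbb'⟩ := S.symData.exists_partner S.two_ne hb0 hb
  have hb'b : S.ratS b' b = 1 := by rw [S.ratS_symm]; exact hbb'
  have hbb0 : hf σ (sfG F₀ P b) (sfG F₀ P b) = 0 := (S.ratS_eq_zero_iff b b).1 hb
  have hκ := S.omega_sub_trace
  refine ⟨tvGL σ (sfG F₀ P b) (ω - σ ω) hbb0, TG_le_UG σ S.hσ2 (tvGL_mem σ _ _ hbb0 hκ), ?_, ?_⟩
  · show (tv σ (sfG F₀ P b) (ω - σ ω)).det = 1
    rw [tv_det, hbb0, mul_zero, add_zero]
  · intro hmem
    obtain ⟨A, μ, hact⟩ := action_of_mem_subfieldSubgroup F₀ P _ hmem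
    have h1 := hact b'
    have htr : ω + σ ω ∈ F₀ := by rw [S.hfix, map_add, S.hσ2]; ring
    obtain ⟨tr, htr'⟩ : ∃ tr : F₀, (tr : F) = ω + σ ω := ⟨⟨_, htr⟩, rfl⟩
    have h2c : ((2 : F₀) : F) = 2 := by norm_cast
    have h2 : ((tvGL σ (sfG F₀ P b) (ω - σ ω) hbb0 : GL (Fin n) F) :
        Matrix (Fin n) (Fin n) F) *ᵥ ((P : Matrix (Fin n) (Fin n) F) *ᵥ rat F₀ b') =
        sfE F₀ ω P (b' + (-tr) • b) ((2 : F₀) • b) := by
      show tv σ (sfG F₀ P b) (ω - σ ω) *ᵥ sfG F₀ P b' = _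
      rw [tv_mulVec, S.hf_rho, hb'b]
      unfold sfE
      simp only [sfG_add, sfG_smul]
      push_cast
      rw [htr', h2c]
      module
    rw [h2] at h1
    have hdep := dep_of_proprat σ F₀ S.hfix ω S.hω S.hdec P _ _ _ _ h1
    apply hdep
    rw [LinearIndependent.pair_iff]
    intro s t hst
    have h4 := congrArg (fun x => S.ratS x b) hst
    simp only [map_add, map_smul, map_neg, LinearMap.add_apply, LinearMap.smul_apply,
      LinearMap.neg_apply, smul_eq_mul, hb, hb'b, map_zero, LinearMap.zero_apply, mul_zero,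
      add_zero, mul_one, neg_zero] at h4
    refine ⟨h4, ?_⟩
    rw [h4, zero_smul, zero_add, smul_smul] at hst
    rcases smul_eq_zero.mp hst with h | h
    · rcases mul_eq_zero.mp h with h' | h'
      · exact h'
      · exact absurd h' S.two_ne
    · exact absurd h hb0

end UOSetup

end UOrth

/-- `2 ≠ 0` in a field of odd square order -/
theorem two_ne_zero_of_odd_card_sq {F : Type*} [Field F] [Fintype F] {q : ℕ}
    (hF : Fintype.card F = q ^ 2) (hodd : Odd q) : (2 : F) ≠ 0 := by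
  intro h2
  have : CharP F 2 := CharTwo.of_one_ne_zero_of_two_eq_zero one_ne_zero h2
  have h1 : ((Fintype.card F : ℕ) : F) = 0 := FiniteField.cast_card_eq_zero F
  have h3 : 2 ∣ Fintype.card F := (CharP.cast_eq_zero_iff F 2 _).1 h1
  rw [hF] at h3
  have h4 : 2 ∣ q := Nat.Prime.dvd_of_dvd_pow Nat.prime_two h3
  exact (Nat.not_even_iff_odd.2 hodd) (even_iff_two_dvd.2 h4)

/-- The orthogonal subfield group (the normaliser of `O_n(q)`) is maximal in `SU_n(q)`, `q` odd,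
`n ≥ 9`. -/
theorem isMaximalIn_subfield_orthogonal {F : Type*} [Field F] [Fintype F] (n q : ℕ)
    (hF : Fintype.card F = q ^ 2) (hn : 9 ≤ n) (hodd : Odd q) (F₀ : Subfield F)
    (hcard : Fintype.card F = Nat.card F₀ ^ 2)
    (P : Matrix.GeneralLinearGroup (Fin n) F)
    (hP : Cfsg.Geo.IsFormRationalStructure (Cfsg.hermForm n F q) F₀ 1 P) :
    Cfsg.Geo.IsMaximalIn (Cfsg.GU n F q ⊓ Cfsg.Geo.specialLinear (Fin n) F)
      (Cfsg.Geo.subfieldSubgroup F₀ P ⊓
        (Cfsg.GU n F q ⊓ Cfsg.Geo.specialLinear (Fin n) F)) := by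
  classical
  obtain ⟨σ, hσ, hσ2⟩ := exists_frob hF
  have hne : σ ≠ RingHom.id F := frob_ne_id σ hF hσ
  obtain ⟨hfix, ω, hω, hdec⟩ := subfield_fixed_field q hF F₀ hcard σ hσ hne
  have hP' : ∀ a b : Fin n → F₀, hf σ (sfG F₀ P a) (sfG F₀ P b) ∈ F₀ := by
    intro a b
    have := hP (rat F₀ a) (rat F₀ b) (fun i => (a i).2) (fun i => (b i).2)
    rw [hermForm_eq_hf σ hσ, one_mul] at this
    exact this
  have S : UOSetup σ F₀ ω P := ⟨hσ2, hfix, hω, hdec, hP', two_ne_zero_of_odd_card_sq hF hodd⟩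
  have hK : ∀ g : GL (Fin n) F, g ∈ Cfsg.GU n F q ⊓ Cfsg.Geo.specialLinear (Fin n) F ↔
      g ∈ UG σ n ∧ (g : Matrix (Fin n) (Fin n) F).det = 1 := by
    intro g
    rw [Subgroup.mem_inf, mem_GU_iff_mem_UG σ hσ, mem_specialLinear_iff]
  constructor
  · apply lt_of_le_of_ne inf_le_right
    intro heq
    obtain ⟨g, hgU, hdet, hg⟩ := S.exists_not_mem_orth (by omega)
    have h1 : g ∈ Cfsg.GU n F q ⊓ Cfsg.Geo.specialLinear (Fin n) F := (hK g).mpr ⟨hgU, hdet⟩
    rw [← heq] at h1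
    exact hg h1.1
  · intro M hHM hMK
    by_cases hMH : M = Cfsg.Geo.subfieldSubgroup F₀ P ⊓
        (Cfsg.GU n F q ⊓ Cfsg.Geo.specialLinear (Fin n) F)
    · exact Or.inl hMH
    · right
      have hnot : ¬ M ≤ Cfsg.Geo.subfieldSubgroup F₀ P ⊓
          (Cfsg.GU n F q ⊓ Cfsg.Geo.specialLinear (Fin n) F) := fun h => hMH (le_antisymm h hHM)
      obtain ⟨g0, hg0M, hg0⟩ := SetLike.not_le_iff_exists.mp hnot
      have hg0K := hMK hg0M
      have hg0S : g0 ∉ Cfsg.Geo.subfieldSubgroup F₀ P := fun h => hg0 ⟨h, hg0K⟩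
      have hMU : M ≤ UG σ n := fun g hg => ((hK g).mp (hMK hg)).1
      have hM : ∀ g : GL (Fin n) F, g ∈ UG σ n → (g : Matrix (Fin n) (Fin n) F).det = 1 →
          g ∈ Cfsg.Geo.subfieldSubgroup F₀ P → g ∈ M := by
        intro g hgU hdet hgS
        exact hHM ⟨hgS, (hK g).mpr ⟨hgU, hdet⟩⟩
      have key := S.su_le_of_orth_lt hn M hMU hM g0 hg0M hg0S
      apply le_antisymm hMK
      intro g hg
      obtain ⟨hgU, hdet⟩ := (hK g).mp hg
      exact key g hgU hdet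

end Cfsg.Agent.Lib.Helper94
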